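import Mathlib
import Cfsg.Prelude.Def_Transfer

set_option autoImplicit false

namespace Cfsg.Agent.Helper10

open Subgroup

variable {G : Type*} [Group G]

theorem isElementaryAbelian_iff {p : ℕ} {A : Subgroup G} :
    Cfsg.IsElementaryAbelian p A ↔ (∀ a ∈ A, ∀ b ∈ A, a * b = b * a) ∧ ∀ a ∈ A, a ^ p = 1 := by
  unfold Cfsg.IsElementaryAbelian
  rw [isMulCommutative_iff_of_setLike]

theorem isElementaryAbelian_bot (p : ℕ) : Cfsg.IsElementaryAbelian p (⊥ : Subgroup G) := by
  rw [isElementaryAbelian_iff]
  constructor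
  · intro a ha b hb
    rw [Subgroup.mem_bot] at ha hb
    rw [ha, hb]
  · intro a ha
    rw [Subgroup.mem_bot] at ha
    rw [ha, one_pow]

theorem isElementaryAbelian_mono {p : ℕ} {A B : Subgroup G} (hB : Cfsg.IsElementaryAbelian p B)
    (hAB : A ≤ B) : Cfsg.IsElementaryAbelian p A := by
  rw [isElementaryAbelian_iff] at hB ⊢
  exact ⟨fun a ha b hb => hB.1 a (hAB ha) b (hAB hb), fun a ha => hB.2 a (hAB ha)⟩

/-- The join of two elementwise commuting elementary abelian subgroups is elementary abelian. -/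
theorem isElementaryAbelian_sup {p : ℕ} {A B : Subgroup G} (hA : Cfsg.IsElementaryAbelian p A)
    (hB : Cfsg.IsElementaryAbelian p B) (hAB : ∀ a ∈ A, ∀ b ∈ B, a * b = b * a) :
    Cfsg.IsElementaryAbelian p (A ⊔ B) := by
  rw [isElementaryAbelian_iff] at hA hB
  have hcomm : IsMulCommutative (A ⊔ B : Subgroup G) := by
    rw [Subgroup.sup_eq_closure]
    apply Subgroup.isMulCommutative_closure
    rintro x (hx | hx) y (hy | hy)
    · exact hA.1 x hx y hy
    · exact hAB x hx y hy
    · exact (hAB y hy x hx).symm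
    · exact hB.1 x hx y hy
  refine ⟨hcomm, ?_⟩
  intro g hg
  rw [Subgroup.sup_eq_closure] at hg
  have hcomm' : ∀ x ∈ closure ((A : Set G) ∪ B), ∀ y ∈ closure ((A : Set G) ∪ B), x * y = y * x := by
    rw [← Subgroup.sup_eq_closure]
    exact isMulCommutative_iff_of_setLike.mp hcomm
  induction hg using Subgroup.closure_induction with
  | mem x hx =>
    rcases hx with hx | hx
    · exact hA.2 x hx
    · exact hB.2 x hx
  | one => exact one_pow p
  | mul x y hx hy ihx ihy =>
    have : Commute x y := hcomm' x hx y hy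
    rw [this.mul_pow, ihx, ihy, one_mul]
  | inv x hx ih => rw [inv_pow, ih, inv_one]

/-- The cyclic group generated by an element of order dividing `p` is elementary abelian. -/
theorem isElementaryAbelian_zpowers {p : ℕ} {x : G} (hx : x ^ p = 1) :
    Cfsg.IsElementaryAbelian p (Subgroup.zpowers x) := by
  rw [isElementaryAbelian_iff]
  constructor
  · rintro a ⟨m, rfl⟩ b ⟨n, rfl⟩
    exact (Commute.zpow_zpow (Commute.refl x) m n).eq
  · rintro a ⟨m, rfl⟩
    rw [← zpow_natCast, ← zpow_mul, mul_comm, zpow_mul, zpow_natCast, hx, one_zpow]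

/-- An elementary abelian subgroup is a `p`-group. -/
theorem isElementaryAbelian_isPGroup {p : ℕ} {A : Subgroup G} (hA : Cfsg.IsElementaryAbelian p A) :
    IsPGroup p A := by
  intro a
  refine ⟨1, ?_⟩
  rw [pow_one]
  apply Subtype.ext
  rw [Subgroup.coe_pow, Subgroup.coe_one]
  exact hA.2 a a.2

/-- Images of elementary abelian subgroups are elementary abelian. -/
theorem isElementaryAbelian_map {H : Type*} [Group H] {p : ℕ} {A : Subgroup G}
    (hA : Cfsg.IsElementaryAbelian p A) (f : G →* H) : Cfsg.IsElementaryAbelian p (A.map f) := by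
  rw [isElementaryAbelian_iff] at hA ⊢
  constructor
  · rintro _ ⟨a, ha, rfl⟩ _ ⟨b, hb, rfl⟩
    rw [← map_mul, ← map_mul, hA.1 a ha b hb]
  · rintro _ ⟨a, ha, rfl⟩
    rw [← map_pow, hA.2 a ha, map_one]

/-- Preimages of elementary abelian subgroups under injective maps are elementary abelian. -/
theorem isElementaryAbelian_comap {H : Type*} [Group H] {p : ℕ} {A : Subgroup H}
    (hA : Cfsg.IsElementaryAbelian p A) (f : G →* H) (hf : Function.Injective f) :
    Cfsg.IsElementaryAbelian p (A.comap f) := by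
  rw [isElementaryAbelian_iff] at hA ⊢
  constructor
  · intro a ha b hb
    apply hf
    rw [map_mul, map_mul]
    exact hA.1 _ ha _ hb
  · intro a ha
    apply hf
    rw [map_pow, map_one]
    exact hA.2 _ ha

theorem card_map_of_injective {H : Type*} [Group H] (A : Subgroup G) (f : G →* H)
    (hf : Function.Injective f) : Nat.card (A.map f) = Nat.card A :=
  (Nat.card_congr (Subgroup.equivMapOfInjective A f hf).toEquiv).symm

/-- In a finite group there is an elementary abelian `p`-subgroup of largest order. -/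
theorem exists_maxElementaryAbelian [Finite G] (p : ℕ) :
    ∃ A : Subgroup G, A ∈ Cfsg.maxElementaryAbelianSubgroups p G := by
  classical
  have hfin : Set.Finite {A : Subgroup G | Cfsg.IsElementaryAbelian p A} := Set.toFinite _
  have hne : Set.Nonempty {A : Subgroup G | Cfsg.IsElementaryAbelian p A} :=
    ⟨⊥, isElementaryAbelian_bot p⟩
  obtain ⟨A, hA, hmax⟩ := Set.exists_max_image _ (fun A : Subgroup G => Nat.card A) hfin hne
  exact ⟨A, hA, fun B hB => hmax B hB⟩

theorem le_thompsonSubgroup {p : ℕ} {A : Subgroup G}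
    (hA : A ∈ Cfsg.maxElementaryAbelianSubgroups p G) : A ≤ Cfsg.thompsonSubgroup p G :=
  le_sSup hA

/-- Membership in `maxElementaryAbelianSubgroups` in terms of a known maximal element. -/
theorem mem_maxElementaryAbelian_iff_card {p : ℕ} {A₀ : Subgroup G}
    (hA₀ : A₀ ∈ Cfsg.maxElementaryAbelianSubgroups p G) (A : Subgroup G) :
    A ∈ Cfsg.maxElementaryAbelianSubgroups p G ↔
      Cfsg.IsElementaryAbelian p A ∧ Nat.card A = Nat.card A₀ := by
  constructor
  · intro hA
    exact ⟨hA.1, le_antisymm (hA₀.2 A hA.1) (hA.2 A₀ hA₀.1)⟩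
  · rintro ⟨hA1, hA2⟩
    exact ⟨hA1, fun B hB => hA2 ▸ hA₀.2 B hB⟩

/-- An automorphism (or isomorphism) maps maximal elementary abelian subgroups to such. -/
theorem map_mem_maxElementaryAbelian {H : Type*} [Group H] {p : ℕ} (φ : G ≃* H) {A : Subgroup G}
    (hA : A ∈ Cfsg.maxElementaryAbelianSubgroups p G) :
    A.map φ.toMonoidHom ∈ Cfsg.maxElementaryAbelianSubgroups p H := by
  refine ⟨isElementaryAbelian_map hA.1 _, ?_⟩
  intro B hB
  rw [card_map_of_injective A φ.toMonoidHom φ.injective]
  have h1 : Cfsg.IsElementaryAbelian p (B.map φ.symm.toMonoidHom) := isElementaryAbelian_map hB _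
  have h2 := hA.2 _ h1
  rwa [card_map_of_injective B φ.symm.toMonoidHom φ.symm.injective] at h2

end Cfsg.Agent.Helper10
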