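import Mathlib
import Cfsg.Agent.Helper16.DefOneSetup
import Cfsg.Agent.Helper82.McKayP.Singular

/-!
# (CAN-b) of the defect-one engine (helper82 #5408): equivariance of `can`, `mult`, `rowZ`, `Rset`

`mult_smul` is unconditional.  `can_smul'`, `rowZ_smul'`, `Rset_smul'` take the statements of
(GR-c)/(CAN-a) they depend on as explicit hypotheses, in exactly the shape
`isCanon_smul P hP`, `isCanon_can P hP`, `can_apply_regular P hP`, `canon_ext P hP` supply.
-/

set_option autoImplicit false
set_option linter.unusedSectionVars false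

namespace Cfsg.Agent.Helper10.DefOneCANb

open Cfsg Cfsg.Agent.Helper16 Cfsg.Agent.Helper16.DefOne
open scoped ComplexConjugate

universe u

variable {G : Type u} [Group G] [Fintype G] {p : ℕ} [Fact p.Prime] (P : Sylow p G)

/-- conjugation by an element of the normalizer preserves the order -/
theorem orderOf_normConj_symm (H : Subgroup G) (n : Subgroup.normalizer (H : Set G)) (x : H) :
    orderOf ((normConj H n).symm x) = orderOf x :=
  MulEquiv.orderOf_eq (normConj H n).symm x

/-- `can` commutes with the action of `N`; hypotheses = `isCanon_smul P hP`, `isCanon_can P hP`,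
`can_apply_regular P hP`, `canon_ext P hP`. -/
theorem can_smul'
    (h_isCanon_smul : ∀ (n : nor P) (θ : IrrCharacter (cen P)), IsCanon P θ → IsCanon P (n • θ))
    (h_isCanon_can : ∀ φ : IrrCharacter (cen P), IsCanon P (can P φ))
    (h_can_apply_regular : ∀ (φ : IrrCharacter (cen P)) (x : cen P), ¬ p ∣ orderOf x →
      (φ : cen P → ℂ) x = (can P φ : cen P → ℂ) x)
    (h_canon_ext : ∀ θ θ' : IrrCharacter (cen P), IsCanon P θ → IsCanon P θ' →
      (∀ x : cen P, ¬ p ∣ orderOf x → (θ : cen P → ℂ) x = (θ' : cen P → ℂ) x) → θ = θ')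
    (n : nor P) (φ : IrrCharacter (cen P)) : can P (n • φ) = n • can P φ := by
  apply h_canon_ext _ _ (h_isCanon_can _) (h_isCanon_smul n _ (h_isCanon_can φ))
  intro x hx
  rw [← h_can_apply_regular (n • φ) x hx, smul_irr_apply, smul_irr_apply]
  apply h_can_apply_regular
  rwa [orderOf_normConj_symm]

theorem mult_smul (χ : IrrCharacter G) (n : nor P) (φ : IrrCharacter (cen P)) :
    mult P χ (n • φ) = mult P χ φ := by
  have : Fintype (cen P) := Fintype.ofFinite _
  apply Int.cast_injective (α := ℂ)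
  rw [mult_cast, mult_cast]
  unfold classInner
  congr 1
  rw [← Equiv.sum_comp (normConj (cen P) n).toEquiv]
  apply Finset.sum_congr rfl
  intro d _
  have h1 : (χ : G → ℂ) (((normConj (cen P) n).toEquiv d : cen P) : G) = (χ : G → ℂ) (d : G) := by
    show (χ : G → ℂ) ((n : G) * (d : G) * (n : G)⁻¹) = _
    exact Helper79.irr_isClassFunction χ (d : G) (n : G)
  have h2 : ((n • φ : IrrCharacter (cen P)) : cen P → ℂ) ((normConj (cen P) n).toEquiv d)
      = (φ : cen P → ℂ) d := by
    rw [smul_irr_apply]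
    exact congrArg (φ : cen P → ℂ) ((normConj (cen P) n).symm_apply_apply d)
  beta_reduce
  rw [h1, h2]

/-- hypothesis = `can_smul P hP` -/
theorem rowZ_smul'
    (h_can_smul : ∀ (n : nor P) (φ : IrrCharacter (cen P)), can P (n • φ) = n • can P φ)
    (χ : IrrCharacter G) (n : nor P) (φ : IrrCharacter (cen P)) :
    rowZ P χ (n • φ) = rowZ P χ φ := by
  unfold rowZ
  rw [h_can_smul, mult_smul, mult_smul]

/-- hypothesis = `can_smul P hP` -/
theorem Rset_smul'
    (h_can_smul : ∀ (n : nor P) (φ : IrrCharacter (cen P)), can P (n • φ) = n • can P φ)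
    (n : nor P) (θ : IrrCharacter (cen P)) : Rset P (n • θ) = Rset P θ := by
  ext χ
  constructor
  · rintro ⟨φ, hφ, hne⟩
    refine ⟨n⁻¹ • φ, ?_, ?_⟩
    · rw [h_can_smul, hφ, inv_smul_smul]
    · rwa [rowZ_smul' P h_can_smul]
  · rintro ⟨ψ, hψ, hne⟩
    refine ⟨n • ψ, ?_, ?_⟩
    · rw [h_can_smul, hψ]
    · rwa [rowZ_smul' P h_can_smul]

/-- all four with the (GR-c)/(CAN-a) facts as hypotheses, for one-line gluing -/
theorem rowZ_smul''
    (h_isCanon_smul : ∀ (n : nor P) (θ : IrrCharacter (cen P)), IsCanon P θ → IsCanon P (n • θ))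
    (h_isCanon_can : ∀ φ : IrrCharacter (cen P), IsCanon P (can P φ))
    (h_can_apply_regular : ∀ (φ : IrrCharacter (cen P)) (x : cen P), ¬ p ∣ orderOf x →
      (φ : cen P → ℂ) x = (can P φ : cen P → ℂ) x)
    (h_canon_ext : ∀ θ θ' : IrrCharacter (cen P), IsCanon P θ → IsCanon P θ' →
      (∀ x : cen P, ¬ p ∣ orderOf x → (θ : cen P → ℂ) x = (θ' : cen P → ℂ) x) → θ = θ')
    (χ : IrrCharacter G) (n : nor P) (φ : IrrCharacter (cen P)) :
    rowZ P χ (n • φ) = rowZ P χ φ :=
  rowZ_smul' P (can_smul' P h_isCanon_smul h_isCanon_can h_can_apply_regular h_canon_ext) χ n φ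

theorem Rset_smul''
    (h_isCanon_smul : ∀ (n : nor P) (θ : IrrCharacter (cen P)), IsCanon P θ → IsCanon P (n • θ))
    (h_isCanon_can : ∀ φ : IrrCharacter (cen P), IsCanon P (can P φ))
    (h_can_apply_regular : ∀ (φ : IrrCharacter (cen P)) (x : cen P), ¬ p ∣ orderOf x →
      (φ : cen P → ℂ) x = (can P φ : cen P → ℂ) x)
    (h_canon_ext : ∀ θ θ' : IrrCharacter (cen P), IsCanon P θ → IsCanon P θ' →
      (∀ x : cen P, ¬ p ∣ orderOf x → (θ : cen P → ℂ) x = (θ' : cen P → ℂ) x) → θ = θ')
    (n : nor P) (θ : IrrCharacter (cen P)) : Rset P (n • θ) = Rset P θ :=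
  Rset_smul' P (can_smul' P h_isCanon_smul h_isCanon_can h_can_apply_regular h_canon_ext) n θ

end Cfsg.Agent.Helper10.DefOneCANb
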