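import Mathlib

set_option autoImplicit false

namespace Cfsg.Agent.Helper10

open Subgroup
open scoped commutatorElement

/-- A maximal subgroup which is normal contains the commutator subgroup. -/
theorem commutator_le_of_coatom_normal {F : Type*} [Group F] (M : Subgroup F) (hM : IsCoatom M)
    [hMn : M.Normal] : commutator F ≤ M := by
  rw [commutator_def, Subgroup.commutator_le]
  intro x _ y _
  by_cases hx : x ∈ M
  · have : ⁅x, y⁆ = x * (y * x⁻¹ * y⁻¹) := by rw [commutatorElement_def]; group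
    rw [this]
    exact M.mul_mem hx (hMn.conj_mem _ (M.inv_mem hx) y)
  · have hsup : M ⊔ Subgroup.zpowers x = ⊤ := by
      by_contra hne
      have hlt : M < M ⊔ Subgroup.zpowers x := by
        refine lt_of_le_of_ne le_sup_left ?_
        intro heq
        apply hx
        rw [heq]
        exact Subgroup.mem_sup_right (Subgroup.mem_zpowers x)
      exact hne (hM.2 _ hlt)
    have hy : y ∈ M ⊔ Subgroup.zpowers x := by rw [hsup]; trivial
    rw [Subgroup.mem_sup_of_normal_left] at hy
    obtain ⟨m, hm, _, ⟨k, rfl⟩, rfl⟩ := hy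
    have : ⁅x, m * x ^ k⁆ = (x * m * x⁻¹) * m⁻¹ := by
      rw [commutatorElement_def]
      have h1 : x * (m * x ^ k) * x⁻¹ * (m * x ^ k)⁻¹ = x * m * (x ^ k * x⁻¹ * (x ^ k)⁻¹) * m⁻¹ := by group
      rw [h1]
      have h2 : x ^ k * x⁻¹ * (x ^ k)⁻¹ = x⁻¹ := by
        rw [← zpow_neg_one, ← zpow_add, ← zpow_neg, ← zpow_add]; congr 1; ring
      rw [h2]
    rw [this]
    exact M.mul_mem (hMn.conj_mem m hm x) (M.inv_mem hm)

/-- A nilpotent finite group with trivial Frattini subgroup is commutative. -/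
theorem isMulCommutative_of_nilpotent_of_frattini_eq_bot {F : Type*} [Group F] [Finite F]
    (hnil : Group.IsNilpotent F) (hΦ : frattini F = ⊥) : IsMulCommutative F := by
  have h02 := (Group.isNilpotent_of_finite_tfae (G := F)).out 0 2
  have hcoatom := h02.mp hnil
  have hle : commutator F ≤ frattini F := by
    rw [frattini, Order.radical]
    simp only [le_iInf_iff]
    intro M hM
    have := hcoatom M hM
    exact commutator_le_of_coatom_normal M hM
  rw [hΦ, le_bot_iff] at hle
  rw [← Subgroup.center_eq_top_iff]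
  rw [commutator_def, Subgroup.commutator_eq_bot_iff_le_centralizer, Subgroup.coe_top,
    Subgroup.centralizer_univ] at hle
  exact top_le_iff.mp hle

/-- A nontrivial normal subgroup of a finite group contains a minimal normal subgroup. -/
theorem exists_minimal_normal_le {G : Type*} [Group G] [Finite G] (D : Subgroup G) [hD : D.Normal]
    (hDne : D ≠ ⊥) : ∃ N : Subgroup G, N.Normal ∧ N ≠ ⊥ ∧ N ≤ D ∧
      ∀ M : Subgroup G, M.Normal → M ≤ N → M = ⊥ ∨ M = N := by
  obtain ⟨N, hN⟩ := exists_minimal_of_wellFoundedLT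
    (fun N : Subgroup G => N.Normal ∧ N ≠ ⊥ ∧ N ≤ D) ⟨D, hD, hDne, le_rfl⟩
  refine ⟨N, hN.prop.1, hN.prop.2.1, hN.prop.2.2, fun M hM hMN => ?_⟩
  by_cases h : M = ⊥
  · exact Or.inl h
  · exact Or.inr (le_antisymm hMN (hN.le_of_le ⟨hM, h, hMN.trans hN.prop.2.2⟩ hMN))

end Cfsg.Agent.Helper10
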