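import Mathlib

set_option autoImplicit false

namespace Cfsg.Agent.Helper10

open Subgroup

/-- A minimal normal subgroup of a solvable group is abelian. -/
theorem minNormal_commutative_of_solvable {G : Type*} [Group G] [Group.IsSolvable G]
    (M : Subgroup G) [M.Normal] (hM : M ≠ ⊥)
    (hmin : ∀ K : Subgroup G, K.Normal → K ≤ M → K = ⊥ ∨ K = M) :
    ∀ x ∈ M, ∀ y ∈ M, x * y = y * x := by
  have hlt : ⁅M, M⁆ < M := Group.IsSolvable.commutator_lt_of_ne_bot hM
  have hn : (⁅M, M⁆ : Subgroup G).Normal := inferInstance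
  rcases hmin _ hn hlt.le with h | h
  · have h2 : M ≤ centralizer (M : Set G) := Subgroup.commutator_eq_bot_iff_le_centralizer.mp h
    intro x hx y hy
    exact (Subgroup.mem_centralizer_iff.mp (h2 hy) x hx)
  · exact absurd h hlt.ne

/-- A minimal normal subgroup of a finite solvable group is an elementary abelian `p`-group. -/
theorem minNormal_elementary_of_solvable {G : Type*} [Group G] [Finite G] [Group.IsSolvable G]
    (M : Subgroup G) [hMn : M.Normal] (hM : M ≠ ⊥)
    (hmin : ∀ K : Subgroup G, K.Normal → K ≤ M → K = ⊥ ∨ K = M) :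
    ∃ p : ℕ, p.Prime ∧ (∀ x ∈ M, x ^ p = 1) ∧ ∃ d : ℕ, 0 < d ∧ Nat.card M = p ^ d := by
  have hab := minNormal_commutative_of_solvable M hM hmin
  have hcard : Nat.card M ≠ 1 := by
    rw [Ne, Subgroup.card_eq_one]; exact hM
  obtain ⟨p, hp, hpd⟩ := Nat.exists_prime_and_dvd hcard
  have : Fact p.Prime := ⟨hp⟩
  obtain ⟨x, hx⟩ := exists_prime_orderOf_dvd_card' p hpd
  -- K = elements of M of order dividing p
  let K : Subgroup G :=
    { carrier := {x | x ∈ M ∧ x ^ p = 1}
      one_mem' := ⟨M.one_mem, one_pow p⟩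
      mul_mem' := by
        rintro a b ⟨ha, ha'⟩ ⟨hb, hb'⟩
        refine ⟨M.mul_mem ha hb, ?_⟩
        have : Commute a b := hab a ha b hb
        rw [this.mul_pow, ha', hb', one_mul]
      inv_mem' := by
        rintro a ⟨ha, ha'⟩
        exact ⟨M.inv_mem ha, by rw [inv_pow, ha', inv_one]⟩ }
  have hKn : K.Normal := by
    constructor
    rintro a ⟨ha, ha'⟩ g
    refine ⟨hMn.conj_mem a ha g, ?_⟩
    rw [conj_pow, ha', mul_one, mul_inv_cancel]
  have hKM : K ≤ M := fun a ha => ha.1
  have hKne : K ≠ ⊥ := by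
    intro h
    have hxK : (x : G) ∈ K := by
      refine ⟨x.2, ?_⟩
      rw [← Subgroup.coe_pow, ← hx, pow_orderOf_eq_one, Subgroup.coe_one]
    rw [h, Subgroup.mem_bot] at hxK
    have : x = 1 := Subtype.ext hxK
    rw [this, orderOf_one] at hx
    exact hp.one_lt.ne hx
  have hKeq : K = M := (hmin K hKn hKM).resolve_left hKne
  have hexp : ∀ x ∈ M, x ^ p = 1 := by
    intro a ha
    rw [← hKeq] at ha
    exact ha.2
  refine ⟨p, hp, hexp, ?_⟩
  have hpg : IsPGroup p M := by
    intro a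
    refine ⟨1, ?_⟩
    rw [pow_one]
    apply Subtype.ext
    rw [Subgroup.coe_pow, Subgroup.coe_one]
    exact hexp a a.2
  obtain ⟨d, hd⟩ := IsPGroup.iff_card.mp hpg
  refine ⟨d, ?_, hd⟩
  rcases Nat.eq_zero_or_pos d with h0 | h0
  · rw [h0, pow_zero] at hd
    exact absurd hd hcard
  · exact h0

end Cfsg.Agent.Helper10
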