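import Mathlib

set_option autoImplicit false

namespace Cfsg.Agent.Helper10

open Subgroup

theorem relIndex_sup_right_of_le_normalizer {G : Type*} [Group G] (H N : Subgroup G)
    (hLE : H ≤ normalizer (N : Set G)) : N.relIndex (H ⊔ N) = N.relIndex H := by
  let _i1 := Subgroup.normal_subgroupOf_of_le_normalizer hLE
  let _i2 := Subgroup.normal_subgroupOf_sup_of_le_normalizer hLE
  exact Nat.card_congr (QuotientGroup.quotientInfEquivProdNormalizerQuotient H N hLE).toEquiv.symm

/-- Product formula `|HN| |H ∩ N| = |H| |N|` when `H` normalises `N`. -/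
theorem card_sup_mul_card_inf {G : Type*} [Group G] (H N : Subgroup G)
    (hLE : H ≤ normalizer (N : Set G)) :
    Nat.card (H ⊔ N : Subgroup G) * Nat.card (H ⊓ N : Subgroup G) = Nat.card H * Nat.card N := by
  have h1 : Nat.card (H ⊔ N : Subgroup G) = Nat.card N * N.relIndex H := by
    rw [← relIndex_sup_right_of_le_normalizer H N hLE, ← Subgroup.relIndex_bot_left,
      ← Subgroup.relIndex_bot_left, Subgroup.relIndex_mul_relIndex _ _ _ bot_le le_sup_right]
  have h2 : Nat.card H = Nat.card (H ⊓ N : Subgroup G) * N.relIndex H := by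
    rw [← Subgroup.inf_relIndex_left, ← Subgroup.relIndex_bot_left, ← Subgroup.relIndex_bot_left,
      inf_comm, Subgroup.relIndex_mul_relIndex _ _ _ bot_le inf_le_right]
  rw [h1, h2]; ring

end Cfsg.Agent.Helper10
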