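import Mathlib
import Cfsg.Prelude.Def_Transfer
import Cfsg.Agent.Helper10.Thompson

set_option autoImplicit false

namespace Cfsg.Agent.Helper10

open Subgroup

variable {G : Type*} [Group G]

/-- If `U` contains a maximal elementary abelian subgroup `A₀` of `G`, the maximal elementary abelian
subgroups of `U` are exactly those of `G` contained in `U`. -/
theorem map_subtype_mem_maxElementaryAbelian {p : ℕ} {U A₀ : Subgroup G}
    (hA₀ : A₀ ∈ Cfsg.maxElementaryAbelianSubgroups p G) (hA₀U : A₀ ≤ U) {A' : Subgroup U}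
    (hA' : A' ∈ Cfsg.maxElementaryAbelianSubgroups p U) :
    A'.map U.subtype ∈ Cfsg.maxElementaryAbelianSubgroups p G := by
  rw [mem_maxElementaryAbelian_iff_card hA₀]
  refine ⟨isElementaryAbelian_map hA'.1 _, ?_⟩
  rw [card_map_of_injective A' U.subtype U.subtype_injective]
  apply le_antisymm
  · rw [← card_map_of_injective A' U.subtype U.subtype_injective]
    exact hA₀.2 _ (isElementaryAbelian_map hA'.1 _)
  · have h1 : Cfsg.IsElementaryAbelian p (A₀.subgroupOf U) :=
      isElementaryAbelian_comap hA₀.1 U.subtype U.subtype_injective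
    have h2 := hA'.2 _ h1
    have h3 : Nat.card (A₀.subgroupOf U) = Nat.card A₀ :=
      Nat.card_congr (Subgroup.subgroupOfEquivOfLe hA₀U).toEquiv
    rwa [h3] at h2

theorem subgroupOf_mem_maxElementaryAbelian {p : ℕ} {U A : Subgroup G}
    (hA : A ∈ Cfsg.maxElementaryAbelianSubgroups p G) (hAU : A ≤ U) :
    A.subgroupOf U ∈ Cfsg.maxElementaryAbelianSubgroups p U := by
  refine ⟨isElementaryAbelian_comap hA.1 U.subtype U.subtype_injective, ?_⟩
  intro B' hB'
  have h3 : Nat.card (A.subgroupOf U) = Nat.card A :=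
    Nat.card_congr (Subgroup.subgroupOfEquivOfLe hAU).toEquiv
  rw [h3, ← card_map_of_injective B' U.subtype U.subtype_injective]
  exact hA.2 _ (isElementaryAbelian_map hB' _)

/-- `J(U)`, viewed in `G`, is generated by the maximal elementary abelian subgroups of `G` inside `U`,
provided there is at least one. -/
theorem thompsonSubgroupOf_eq_sSup {p : ℕ} {U A₀ : Subgroup G}
    (hA₀ : A₀ ∈ Cfsg.maxElementaryAbelianSubgroups p G) (hA₀U : A₀ ≤ U) :
    Cfsg.thompsonSubgroupOf p U =
      sSup {A : Subgroup G | A ∈ Cfsg.maxElementaryAbelianSubgroups p G ∧ A ≤ U} := by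
  unfold Cfsg.thompsonSubgroupOf Cfsg.thompsonSubgroup
  apply le_antisymm
  · rw [Subgroup.map_le_iff_le_comap]
    apply sSup_le
    intro A' hA'
    rw [← Subgroup.map_le_iff_le_comap]
    apply le_sSup
    exact ⟨map_subtype_mem_maxElementaryAbelian hA₀ hA₀U hA', Subgroup.map_subtype_le _⟩
  · apply sSup_le
    rintro A ⟨hA, hAU⟩
    have h1 : A.subgroupOf U ≤ sSup (Cfsg.maxElementaryAbelianSubgroups p U) :=
      le_sSup (subgroupOf_mem_maxElementaryAbelian hA hAU)
    have h2 := Subgroup.map_mono (f := U.subtype) h1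
    rwa [Subgroup.subgroupOf_map_subtype, inf_eq_left.mpr hAU] at h2

end Cfsg.Agent.Helper10
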