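import Mathlib
import Cfsg.Agent.Helper71.Alp.Defs

/-!
# Alperin's theorem (S3782), piece (Ca) (helper10 for helper71)

The centraliser of an admissible section `X / Y` is a `φ`-invariant normal subgroup whose index
is at most `(|X : Y|)!`.  The relative index bound (B2) is taken as a hypothesis in
`exists_cent_of_relIndex_le`.
-/

set_option autoImplicit false

namespace Cfsg.Agent.Helper10.Alp

open Cfsg.Agent.Helper71.Alp

/-- The homomorphism `G → Perm (XY/Y)` given by conjugation. -/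
noncomputable def secHom {G : Type*} [Group G] (X Y : Subgroup G) [hX : X.Normal] [hY : Y.Normal] :
    G →* Equiv.Perm ↥(X.map (QuotientGroup.mk' Y)) :=
  have : (X.map (QuotientGroup.mk' Y)).Normal := hX.map _ (QuotientGroup.mk'_surjective Y)
  (MulAut.toPerm _).comp
    ((MulAut.conjNormal (H := X.map (QuotientGroup.mk' Y))).comp (QuotientGroup.mk' Y))

theorem secHom_apply_coe {G : Type*} [Group G] (X Y : Subgroup G) [hX : X.Normal] [hY : Y.Normal]
    (g : G) (z : ↥(X.map (QuotientGroup.mk' Y))) :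
    ((secHom X Y g z : ↥(X.map (QuotientGroup.mk' Y))) : G ⧸ Y) =
      (QuotientGroup.mk' Y g) * (z : G ⧸ Y) * (QuotientGroup.mk' Y g)⁻¹ := by
  have : (X.map (QuotientGroup.mk' Y)).Normal := hX.map _ (QuotientGroup.mk'_surjective Y)
  exact MulAut.conjNormal_apply _ _

theorem mem_ker_secHom_iff {G : Type*} [Group G] (X Y : Subgroup G) [hX : X.Normal]
    [hY : Y.Normal] (g : G) :
    g ∈ (secHom X Y).ker ↔ ∀ x ∈ X, x * g * x⁻¹ * g⁻¹ ∈ Y := by
  rw [MonoidHom.mem_ker]
  constructor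
  · intro hg x hx
    have hz : (QuotientGroup.mk' Y x) ∈ X.map (QuotientGroup.mk' Y) := Subgroup.mem_map_of_mem _ hx
    have h1 := secHom_apply_coe X Y g ⟨_, hz⟩
    rw [hg] at h1
    simp only [Equiv.Perm.coe_one, id_eq] at h1
    -- h1 : mk x = mk g * mk x * (mk g)⁻¹
    have h2 : (QuotientGroup.mk' Y (g * x * g⁻¹ * x⁻¹)) = 1 := by
      rw [map_mul, map_mul, map_mul, map_inv, map_inv, ← h1, mul_inv_cancel]
    rw [← MonoidHom.mem_ker, QuotientGroup.ker_mk'] at h2
    have h3 := Y.inv_mem h2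
    have h4 : (g * x * g⁻¹ * x⁻¹)⁻¹ = x * g * x⁻¹ * g⁻¹ := by group
    rwa [h4] at h3
  · intro hg
    ext z
    obtain ⟨z, hz⟩ := z
    obtain ⟨x, hx, rfl⟩ := Subgroup.mem_map.mp hz
    have h1 := secHom_apply_coe X Y g ⟨_, hz⟩
    simp only [Equiv.Perm.coe_one, id_eq]
    rw [h1]
    have h3 := Y.inv_mem (hg x hx)
    have h4 : (x * g * x⁻¹ * g⁻¹)⁻¹ = g * x * g⁻¹ * x⁻¹ := by group
    rw [h4, ← QuotientGroup.ker_mk' Y, MonoidHom.mem_ker] at h3
    rw [map_mul, map_mul, map_mul, map_inv, map_inv, mul_inv_eq_one] at h3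
    exact h3

theorem index_ker_secHom_le {G : Type*} [Group G] [Finite G] (X Y : Subgroup G) [hX : X.Normal]
    [hY : Y.Normal] : (secHom X Y).ker.index ≤ (Y.relIndex X).factorial := by
  rw [Subgroup.index_ker]
  have h1 : Nat.card ↥(secHom X Y).range ≤ Nat.card (Equiv.Perm ↥(X.map (QuotientGroup.mk' Y))) :=
    Nat.card_le_card_of_injective _ Subtype.val_injective
  rw [Nat.card_perm] at h1
  have h2 : Nat.card ↥(X.map (QuotientGroup.mk' Y)) = Y.relIndex X := by
    have := Subgroup.relIndex_ker (K := X) (QuotientGroup.mk' Y)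
    rw [QuotientGroup.ker_mk'] at this
    exact this.symm
  rwa [h2] at h1

/-- (Ca), with the relative index bound (B2) as a hypothesis. -/
theorem exists_cent_of_relIndex_le {G : Type*} [Group G] [Finite G] {p : ℕ} {m : ℕ}
    (φ : MulAut G) (X Y : Subgroup G) (h : Sec p φ X Y) (hm : Y.relIndex X ≤ m) :
    ∃ C : Subgroup G, C.Normal ∧ Inv φ C ∧ C.index ≤ m.factorial ∧
      ∀ g ∈ C, ∀ x ∈ X, x * g * x⁻¹ * g⁻¹ ∈ Y := by
  obtain ⟨hXn, hYn, hYX, hXi, hYi, -, -⟩ := h
  refine ⟨(secHom X Y).ker, inferInstance, ?_, ?_, ?_⟩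
  · intro g
    rw [mem_ker_secHom_iff, mem_ker_secHom_iff]
    constructor
    · intro hg x hx
      have hx' : φ.symm x ∈ X := (hXi _).2 (by rw [MulEquiv.apply_symm_apply]; exact hx)
      have h1 := (hYi _).1 (hg _ hx')
      simpa only [map_mul, map_inv, MulEquiv.apply_symm_apply] using h1
    · intro hg x hx
      have h1 := hg _ ((hXi x).1 hx)
      rw [hYi]
      simpa only [map_mul, map_inv] using h1
  · exact (index_ker_secHom_le X Y).trans (Nat.factorial_le hm)
  · intro g hg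
    exact (mem_ker_secHom_iff X Y g).1 hg

end Cfsg.Agent.Helper10.Alp
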