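import Mathlib
import Cfsg.Agent.Helper71.Alp.Defs
import Cfsg.Agent.Helper10.AlpCa
import Cfsg.Agent.Helper23.AlpB2
import Cfsg.Agent.Helper59.AlpB1

/-!
# Alperin's theorem (S3782), piece (Ca), exact statement (helper10 for helper71)
-/

set_option autoImplicit false

namespace Cfsg.Agent.Helper10.Alp

open Cfsg.Agent.Helper71.Alp

/-- (Ca) the centraliser of an admissible section is an invariant normal subgroup of bounded
index. -/
theorem exists_cent_of_sec {G : Type*} [Group G] [Finite G] {p n : ℕ} (hp : p.Prime) (φ : MulAut G)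
    (hφ : φ ^ p = 1) (hfix : FixLE φ (p ^ n)) (X Y : Subgroup G) (h : Sec p φ X Y) :
    ∃ C : Subgroup G, C.Normal ∧ Inv φ C ∧ C.index ≤ (bp p ^ (p * n)).factorial ∧
      ∀ g ∈ C, ∀ x ∈ X, x * g * x⁻¹ * g⁻¹ ∈ Y :=
  exists_cent_of_relIndex_le φ X Y h
    (Cfsg.Agent.Helper23.Alp.relIndex_le_of_sec_of hp φ hφ hfix
      (Cfsg.Agent.Helper59.Alp.relIndex_le_of_exp hp φ hφ hfix) X Y h)

end Cfsg.Agent.Helper10.Alp
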