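/-
helper10: chunk [T3] of THEOREM N3 (#3892, helper70; B-G §14, S1430/S1431):
GB3 `le_centralizer_of_mem_tau3`, `exists_sylow_le_centralizer`, GB4 `isCyclic_of_ideal_of_not_conj`.
-/
import Mathlib
import Cfsg.Agent.Helper70.BG14N1
import Cfsg.Agent.S1408
import Cfsg.Agent.Helper64.BG13W

set_option autoImplicit false

namespace Cfsg.Agent.Helper10.BG14

open Cfsg Cfsg.Agent.Helper29 Cfsg.Agent.Helper29.BG10 Cfsg.Agent.Helper29.BG11
open Cfsg.Agent.Helper70.BG14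
open scoped commutatorElement

variable {G : Type*} [Group G] [Finite G]

/-- (GB3) a `τ₃(M)`-subgroup of `M` centralizes every `t`-subgroup of `M'` it normalizes,
`t ∉ β(M)` -/
theorem le_centralizer_of_mem_tau3 (hG : Cfsg.IsMinSimpleOddOrder G) {M : Subgroup G}
    (hM : IsCoatom M) {s : ℕ} (hs : s ∈ Cfsg.tau3 M) {Y : Subgroup G} (hYM : Y ≤ M)
    (hY : Nat.card ↥Y = s) {t : ℕ} (ht : t.Prime) (hts : t ≠ s) (htβ : t ∉ Cfsg.beta M)
    {T : Subgroup G} (hTM : T ≤ ⁅M, M⁆) (hT : IsPGroup t ↥T)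
    (hYT : Y ≤ Subgroup.normalizer (T : Set G)) : T ≤ Subgroup.centralizer (Y : Set G) := by
  have : Fact t.Prime := ⟨ht⟩
  have hsp : s.Prime := hs.1
  have : Fact s.Prime := ⟨hsp⟩
  have hMM : ⁅M, M⁆ ≤ M := by
    rw [Subgroup.commutator_le]
    intro a ha b hb
    exact M.mul_mem (M.mul_mem (M.mul_mem ha hb) (M.inv_mem ha)) (M.inv_mem hb)
  by_cases htM : t ∣ Nat.card M
  · -- the normal `t`-complement `N` of `M'`
    have h14 := bb1414 hG M hM t ht htM htβ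
    obtain ⟨N, hNK, hMN, htN, hall⟩ :=
      Cfsg.Agent.Helper23.BG13.exists_normal_qcompl (q := t) (H := M) (K := ⁅M, M⁆)
        (Cfsg.Agent.Helper23.BG13.le_normalizer_commutator_self M) h14
    have hYp : IsPGroup s Y := IsPGroup.of_card (n := 1) (by rw [pow_one]; exact hY)
    have hYc : Y ≤ ⁅M, M⁆ :=
      Cfsg.Agent.Helper23.BG13.le_commutator_of_mem_tau3 hG (bbU hG) hM hs hYp hYM
    have hYN : Y ≤ N := by
      apply hall Y hYc
      rw [hY]
      exact (Nat.coprime_primes hsp ht).2 (Ne.symm hts)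
    have h1 : ⁅T, Y⁆ ≤ T := by
      rw [Subgroup.commutator_le]
      intro a ha b hb
      have hb' := hYT hb
      have : b * a⁻¹ * b⁻¹ ∈ T := (Subgroup.mem_normalizer_iff.1 hb' a⁻¹).1 (T.inv_mem ha)
      have e : ⁅a, b⁆ = a * (b * a⁻¹ * b⁻¹) := by
        rw [commutatorElement_def]; group
      rw [e]
      exact T.mul_mem ha this
    have h2 : ⁅T, Y⁆ ≤ N := by
      rw [Subgroup.commutator_le]
      intro a ha b hb
      have ha' : a ∈ Subgroup.normalizer (N : Set G) := hMN (hMM (hTM ha))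
      have : a * b * a⁻¹ ∈ N := (Subgroup.mem_normalizer_iff.1 ha' b).1 (hYN hb)
      have e : ⁅a, b⁆ = (a * b * a⁻¹) * b⁻¹ := by
        rw [commutatorElement_def]
      rw [e]
      exact N.mul_mem this (N.inv_mem (hYN hb))
    have h3 : T ⊓ N = ⊥ := by
      apply Subgroup.inf_eq_bot_of_coprime
      obtain ⟨k, hk⟩ := IsPGroup.iff_card.1 hT
      rw [hk]
      exact Nat.Coprime.pow_left k ((Nat.Prime.coprime_iff_not_dvd ht).2 htN)
    have h4 : ⁅T, Y⁆ = ⊥ := by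
      rw [eq_bot_iff, ← h3]
      exact le_inf h1 h2
    exact Subgroup.commutator_eq_bot_iff_le_centralizer.1 h4
  · -- `t ∤ |M|`: `T = 1`
    have hT1 : T = ⊥ := by
      obtain ⟨k, hk⟩ := IsPGroup.iff_card.1 hT
      have hd : Nat.card T ∣ Nat.card M := Subgroup.card_dvd_of_le (hTM.trans hMM)
      rw [hk] at hd
      rcases Nat.eq_zero_or_pos k with rfl | hpos
      · rw [pow_zero] at hk
        exact Subgroup.card_eq_one.1 hk
      · exact absurd ((dvd_pow_self t hpos.ne').trans hd) htM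
    rw [hT1]
    exact bot_le

/-- for `q ∈ σ(M) ∖ β(M)` some Sylow `q`-subgroup of `M_σ` centralizes `Y` -/
theorem exists_sylow_le_centralizer (hG : Cfsg.IsMinSimpleOddOrder G) {M E Y : Subgroup G}
    {s : ℕ} (h : N3Hyp M E Y s) {q : ℕ} (hq : q ∈ Cfsg.sigma M) (hqβ : q ∉ Cfsg.beta M) :
    ∃ Q : Subgroup G, IsSylowIn q Q (Cfsg.sigmaCore M) ∧
      Q ≤ Cfsg.sigmaCore M ⊓ Subgroup.centralizer (Y : Set G) := by
  have hM := h.coatom
  have hs := h.mem_tau3
  have hsp : s.Prime := hs.1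
  have : Fact s.Prime := ⟨hsp⟩
  have : Fact q.Prime := ⟨hq.1⟩
  have hYM : Y ≤ M := h.le.trans h.compl.1
  have hY := h.card
  have hqs : q ≠ s := by
    rintro rfl
    exact hs.2.1 hq
  have hYK : Y ≤ Subgroup.normalizer ((Cfsg.sigmaCore M : Subgroup G) : Set G) :=
    hYM.trans (BG11.le_normalizer_sigmaCore M)
  have hcop : (Nat.card ↥Y).Coprime (Nat.card ↥(Cfsg.sigmaCore M)) := by
    rw [hY]
    refine (Nat.Prime.coprime_iff_not_dvd hsp).2 fun hd => ?_
    exact hs.2.1 (BG11.primes_sigmaCore M s hsp hd)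
  have hYp : IsPGroup s Y := IsPGroup.of_card (n := 1) (by rw [pow_one]; exact hY)
  have hYsolv : Group.IsSolvable ↥Y := by
    have := hYp.isNilpotent
    infer_instance
  obtain ⟨Q, hQ, -, hYQ⟩ := Cfsg.Agent.Helper64.BG13W.exists_invariant_sylow_ge Y
    (Cfsg.sigmaCore M) ⊥ hYK hcop (Or.inl hYsolv) q IsPGroup.of_bot bot_le
    (by
      have hb : (⊥ : Subgroup G).Normal := inferInstance
      rw [Subgroup.normalizer_eq_top_iff.2 hb]; exact le_top)
  refine ⟨Q, hQ, le_inf hQ.1 ?_⟩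
  have hQM : Q ≤ M := hQ.1.trans (BG11.sigmaCore_le M)
  have hQc : Q ≤ ⁅M, M⁆ :=
    Cfsg.Agent.Helper23.BG13.le_commutator_of_mem_sigma hG (bbU hG) hM hq hQ.2.1 hQM
  exact le_centralizer_of_mem_tau3 hG hM hs hYM hY hq.1 hqs hqβ hQc hQ.2.1 hYQ

/-- (GB4) for a prime `t` that is ideal and in `σ(M)`, and `H` maximal not conjugate to `M`,
the `t`-subgroups of `H` are cyclic (uses SP, S1408) -/
theorem isCyclic_of_ideal_of_not_conj (hG : Cfsg.IsMinSimpleOddOrder G) (hSP : SP G)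
    {M H : Subgroup G} (hM : IsCoatom M) (hH : IsCoatom H) (hnc : ∀ g : G, cj g M ≠ H)
    {t : ℕ} (ht : t ∈ Cfsg.beta M) {S : Subgroup G} (hSH : S ≤ H) (hS : IsPGroup t ↥S) :
    IsCyclic ↥S := by
  have hU := bbU hG
  have htp : t.Prime := ht.1.1
  have : Fact t.Prime := ⟨htp⟩
  have htσ : t ∈ Cfsg.sigma M := alpha_subset_sigma hG hU hM ht.1
  have htσH : t ∉ Cfsg.sigma H := hSP M H hM hH hnc t htσ
  have hrk : Cfsg.PRankLE t 1 ↥H := by
    by_contra h1
    by_cases h2 : Cfsg.PRankLE t 2 ↥H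
    · exact (Cfsg.Agent.S1408.result hG H hH t htσH h2 h1).1 ht.2
    · exact htσH (alpha_subset_sigma hG hU hH ⟨htp, h2⟩)
  exact Cfsg.Agent.Helper23.BG13.isCyclic_of_isPGroup_of_pRankLE_one hG.1 hS
    (Cfsg.Agent.Helper23.BG13.pRankLE_mono hSH hrk)

end Cfsg.Agent.Helper10.BG14
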