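/-
helper10: an abelian subgroup of odd order acting fixed-point-freely on a nontrivial subgroup that
it normalizes is cyclic (piece (FC) of #3759, for helper50's S1383).
-/
import Mathlib
import Cfsg.Agent.Helper71.FpfZGroup

set_option autoImplicit false

namespace Cfsg.Agent.Helper10.BG16FC

open scoped IsMulCommutative in
theorem isNilpotent_of_isMulCommutative {A : Type*} [Group A] [IsMulCommutative A] :
    Group.IsNilpotent A :=
  CommGroup.isNilpotent

theorem isCyclic_of_fpf_of_comm_subgroup {G : Type*} [Group G] [Finite G] (R A : Subgroup G)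
    (hAR : A ≤ Subgroup.normalizer (R : Set G)) (hR : R ≠ ⊥) (hodd : Odd (Nat.card A))
    (hA : IsMulCommutative A)
    (hfpf : ∀ a ∈ A, a ≠ 1 → ∀ y ∈ R, y ≠ 1 → a * y ≠ y * a) : IsCyclic A := by
  set Nn := Subgroup.normalizer (R : Set G) with hNn
  have hRN : R ≤ Nn := Subgroup.le_normalizer
  have hKn : (R.subgroupOf Nn).Normal := Subgroup.normal_in_normalizer
  have hK : R.subgroupOf Nn ≠ ⊥ := by
    intro h
    apply hR
    rw [eq_bot_iff]
    intro y hy
    have : (⟨y, hRN hy⟩ : Nn) ∈ R.subgroupOf Nn := by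
      rw [Subgroup.mem_subgroupOf]; exact hy
    rw [h, Subgroup.mem_bot] at this
    rw [Subgroup.mem_bot]
    exact congrArg Subtype.val this
  have hodd' : Odd (Nat.card (A.subgroupOf Nn)) := by
    rwa [Cfsg.Agent.Helper71.card_subgroupOf_eq_card_inf, inf_eq_left.mpr hAR]
  have hfpf' : ∀ x ∈ A.subgroupOf Nn, x ≠ 1 → ∀ y ∈ R.subgroupOf Nn, y ≠ 1 → x * y ≠ y * x := by
    intro x hx hx1 y hy hy1 hxy
    rw [Subgroup.mem_subgroupOf] at hx hy
    refine hfpf (x : G) hx (fun e => hx1 (Subtype.ext e)) (y : G) hy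
      (fun e => hy1 (Subtype.ext e)) ?_
    have := congrArg Subtype.val hxy
    simpa using this
  have hZ : IsZGroup (A.subgroupOf Nn) :=
    Cfsg.Agent.Helper71.isZGroup_of_fpf_of_odd (R.subgroupOf Nn) (A.subgroupOf Nn) hK hodd' hfpf'
  have e : ↥(A.subgroupOf Nn) ≃* ↥A := Subgroup.subgroupOfEquivOfLe hAR
  have hZA : IsZGroup A := IsZGroup.of_injective (f := e.symm.toMonoidHom) e.symm.injective
  have hnil : Group.IsNilpotent A := isNilpotent_of_isMulCommutative
  infer_instance

end Cfsg.Agent.Helper10.BG16FC
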