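/-
helper10: decomposition of a nilpotent subgroup `H` as `O_p(H) × O_{p'}(H)` (piece (ND) of #3759,
for helper50's S1383).
-/
import Mathlib
import Cfsg.Agent.Lib.Cores

set_option autoImplicit false

namespace Cfsg.Agent.Helper10.BG16ND

open Cfsg.Agent.Lib

/-- a characteristic subgroup of `T` is normalized by `N_G(T)` -/
theorem normalizer_le_normalizer_map_of_char {G : Type*} [Group G] (T : Subgroup G)
    (K : Subgroup ↥T) (hK : K.Characteristic) :
    Subgroup.normalizer (T : Set G) ≤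
      Subgroup.normalizer ((K.map T.subtype : Subgroup G) : Set G) := by
  have key : ∀ g ∈ Subgroup.normalizer (T : Set G), ∀ x ∈ K.map T.subtype,
      g * x * g⁻¹ ∈ K.map T.subtype := by
    rintro g hg _ ⟨k, hk, rfl⟩
    set φ : ↥T ≃* ↥T := T.normalizerMonoidHom ⟨g, hg⟩ with hφ
    have h1 : K.map φ.toMonoidHom = K := Subgroup.characteristic_iff_map_eq.mp hK φ
    have h2 : φ k ∈ K := by
      rw [← h1]
      exact ⟨k, hk, rfl⟩
    exact ⟨φ k, h2, rfl⟩
  intro g hg
  rw [Subgroup.mem_normalizer_iff]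
  intro x
  constructor
  · exact key g hg x
  · intro h
    have := key g⁻¹ (inv_mem hg) _ h
    simpa [mul_assoc] using this

section internal

variable {N : Type*} [Group N] [Finite N]

/-- all Sylow subgroups of a finite nilpotent group are normal -/
theorem sylow_normal_of_nilpotent (hN : Group.IsNilpotent N) (q : ℕ) [hq : Fact q.Prime]
    (Q : Sylow q N) : (Q : Subgroup N).Normal := by
  have h := (Group.isNilpotent_of_finite_tfae (G := N)).out 0 3
  exact h.mp hN q hq Q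

theorem pCore_sup_pPrimeCore_eq_top (hN : Group.IsNilpotent N) (p : ℕ) [Fact p.Prime] :
    Cfsg.pCore p N ⊔ Cfsg.pPrimeCore p N = ⊤ := by
  rw [← Subgroup.index_eq_one]
  by_contra hne
  obtain ⟨q, hq, hqd⟩ := Nat.exists_prime_and_dvd hne
  have : Fact q.Prime := ⟨hq⟩
  obtain ⟨Q⟩ : Nonempty (Sylow q N) := inferInstance
  have hQn : (Q : Subgroup N).Normal := sylow_normal_of_nilpotent hN q Q
  have hQle : (Q : Subgroup N) ≤ Cfsg.pCore p N ⊔ Cfsg.pPrimeCore p N := by
    by_cases hqp : q = p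
    · subst hqp
      exact le_trans (le_pCore hQn Q.2) le_sup_left
    · refine le_trans (le_pPrimeCore hQn ?_) le_sup_right
      obtain ⟨n, hn⟩ := IsPGroup.iff_card.mp Q.2
      rw [hn]
      exact Nat.Coprime.pow_left n ((Nat.coprime_primes hq Fact.out).mpr hqp)
  exact Q.not_dvd_index (dvd_trans hqd (Subgroup.index_dvd_of_le hQle))

theorem mem_pCore_of_pow (hN : Group.IsNilpotent N) (p : ℕ) [Fact p.Prime] (x : N)
    (hx : ∃ n : ℕ, x ^ p ^ n = 1) : x ∈ Cfsg.pCore p N := by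
  have hz : IsPGroup p (Subgroup.zpowers x) := by
    obtain ⟨n, hn⟩ := hx
    rintro ⟨y, hy⟩
    obtain ⟨k, rfl⟩ := Subgroup.mem_zpowers_iff.mp hy
    refine ⟨n, Subtype.ext ?_⟩
    simp only [Subgroup.coe_pow, Subgroup.coe_one]
    rw [← zpow_natCast, ← zpow_mul, mul_comm, zpow_mul, zpow_natCast, hn, one_zpow]
  obtain ⟨P, hP⟩ := hz.exists_le_sylow
  have hPn : (P : Subgroup N).Normal := sylow_normal_of_nilpotent hN p P
  exact le_pCore hPn P.2 (hP (Subgroup.mem_zpowers x))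

end internal

theorem nilpotent_pCore_decomp {G : Type*} [Group G] [Finite G] (p : ℕ) [Fact p.Prime]
    (H : Subgroup G) (hH : Group.IsNilpotent H) :
    (Cfsg.pCore p ↥H).map H.subtype ⊔ (Cfsg.pPrimeCore p ↥H).map H.subtype = H ∧
    (Cfsg.pCore p ↥H).map H.subtype ⊓ (Cfsg.pPrimeCore p ↥H).map H.subtype = ⊥ ∧
    (∀ a ∈ (Cfsg.pCore p ↥H).map H.subtype, ∀ b ∈ (Cfsg.pPrimeCore p ↥H).map H.subtype,
      a * b = b * a) ∧
    IsPGroup p ↥((Cfsg.pCore p ↥H).map H.subtype) ∧
    (Nat.card ↥((Cfsg.pPrimeCore p ↥H).map H.subtype)).Coprime p ∧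
    (∀ x ∈ H, (∃ n : ℕ, x ^ p ^ n = 1) → x ∈ (Cfsg.pCore p ↥H).map H.subtype) ∧
    Subgroup.normalizer (H : Set G) ≤
      Subgroup.normalizer (((Cfsg.pCore p ↥H).map H.subtype : Subgroup G) : Set G) ∧
    Subgroup.normalizer (H : Set G) ≤
      Subgroup.normalizer (((Cfsg.pPrimeCore p ↥H).map H.subtype : Subgroup G) : Set G) := by
  have hinj : Function.Injective H.subtype := Subgroup.subtype_injective H
  have hdisj : Cfsg.pCore p ↥H ⊓ Cfsg.pPrimeCore p ↥H = ⊥ := pCore_inf_pPrimeCore p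
  have h1 : (Cfsg.pCore p ↥H).Normal :=
    Subgroup.normal_of_characteristic _ (h := pCore_characteristic p)
  have h2 : (Cfsg.pPrimeCore p ↥H).Normal :=
    Subgroup.normal_of_characteristic _ (h := pPrimeCore_characteristic p)
  refine ⟨?_, ?_, ?_, ?_, ?_, ?_, ?_, ?_⟩
  · rw [← Subgroup.map_sup, pCore_sup_pPrimeCore_eq_top hH p, ← MonoidHom.range_eq_map,
      Subgroup.range_subtype]
  · rw [← Subgroup.map_inf _ _ _ hinj, hdisj, Subgroup.map_bot]
  · rintro _ ⟨a, ha, rfl⟩ _ ⟨b, hb, rfl⟩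
    have := Subgroup.commute_of_normal_of_disjoint _ _ h1 h2 (disjoint_iff.mpr hdisj) a b ha hb
    rw [← map_mul, ← map_mul, this.eq]
  · exact (isPGroup_pCore p).map H.subtype
  · have : Nat.card ↥((Cfsg.pPrimeCore p ↥H).map H.subtype) = Nat.card (Cfsg.pPrimeCore p ↥H) :=
      Nat.card_congr ((Cfsg.pPrimeCore p ↥H).equivMapOfInjective H.subtype hinj).symm.toEquiv
    rw [this]
    exact card_pPrimeCore_coprime p
  · intro x hx hpow
    refine ⟨⟨x, hx⟩, mem_pCore_of_pow hH p ⟨x, hx⟩ ?_, rfl⟩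
    obtain ⟨n, hn⟩ := hpow
    exact ⟨n, Subtype.ext (by simpa using hn)⟩
  · exact normalizer_le_normalizer_map_of_char H _ (pCore_characteristic p)
  · exact normalizer_le_normalizer_map_of_char H _ (pPrimeCore_characteristic p)

end Cfsg.Agent.Helper10.BG16ND
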