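import Cfsg.Agent.Helper74.CharBasic
import Cfsg.Agent.Helper79.CharBasic
import Cfsg.Agent.Helper57.BP.Lemmas

/-!
# S4504, piece (R1): a character with an irreducible restriction is irreducible
(helper10 for helper57)
-/

set_option autoImplicit false
set_option linter.style.haveILetI false

namespace Cfsg.Agent.Helper10.BP

open Cfsg Cfsg.Agent
open scoped ComplexConjugate

universe u

/-- the degree of a character in terms of its multiplicities -/
theorem charDegree_eq_sum_mult {H : Type u} [Group H] [Fintype H] [Fintype (IrrCharacter H)]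
    {θ : H → ℂ} (hθ : IsCharacter H θ) (n : IrrCharacter H → ℕ)
    (hn : ∀ ψ : IrrCharacter H, classInner θ (ψ : H → ℂ) = n ψ) :
    charDegree θ = ∑ ψ : IrrCharacter H, n ψ * charDegree (ψ : H → ℂ) := by
  have hdec := Helper74.isCharacter_eq_sum_irr hθ
  have h1 := congrFun hdec 1
  simp only [Finset.sum_apply, Pi.smul_apply, smul_eq_mul] at h1
  rw [Helper79.isCharacter_one hθ] at h1
  have h2 : (charDegree θ : ℂ) =
      ((∑ ψ : IrrCharacter H, n ψ * charDegree (ψ : H → ℂ) : ℕ) : ℂ) := by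
    rw [h1]
    push_cast
    exact Finset.sum_congr rfl (fun ψ _ => by rw [hn ψ, Helper79.irr_one])
  exact_mod_cast h2

/-- (R1) a character with an irreducible restriction is irreducible -/
theorem irr_of_restrict_irr {G : Type u} [Group G] [Fintype G] (K : Subgroup G)
    (χ : G → ℂ) (hχ : IsCharacter G χ) (ψK : IrrCharacter K)
    (hres : ∀ k : K, (ψK : K → ℂ) k = χ k) : ∃ ψ : IrrCharacter G, (ψ : G → ℂ) = χ := by
  classical
  letI : Fintype (IrrCharacter G) := Helper74.irrFintype G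
  letI : Fintype (IrrCharacter K) := Helper74.irrFintype K
  have hdec := Helper74.isCharacter_eq_sum_irr hχ
  choose n hn using Helper74.isCharacter_inner_irr_nat hχ
  have hresChar : ∀ ψ : IrrCharacter G, IsCharacter K (fun k : K => (ψ : G → ℂ) k) :=
    fun ψ => Helper74.isCharacter_restrict K (Helper74.irr_isCharacter ψ)
  choose m hm using fun ψ : IrrCharacter G => Helper74.isCharacter_inner_irr_nat (hresChar ψ) ψK
  -- `ψK = ∑ n_ψ ψ|_K`
  have hfun : (ψK : K → ℂ) =
      ∑ ψ : IrrCharacter G, (n ψ : ℂ) • (fun k : K => (ψ : G → ℂ) k) := by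
    funext k
    rw [hres k]
    have := congrFun hdec k
    simp only [Finset.sum_apply, Pi.smul_apply, smul_eq_mul] at this ⊢
    rw [this]
    exact Finset.sum_congr rfl (fun ψ _ => by rw [hn ψ])
  -- `1 = ∑ n_ψ m_ψ`
  have hsum : ∑ ψ : IrrCharacter G, n ψ * m ψ = 1 := by
    have h1 : (1 : ℂ) = ∑ ψ : IrrCharacter G, (n ψ : ℂ) * (m ψ : ℂ) := by
      rw [← Helper74.irr_inner_self ψK]
      have e : classInner (ψK : K → ℂ) (ψK : K → ℂ) =
          classInner (∑ ψ : IrrCharacter G, (n ψ : ℂ) • (fun k : K => (ψ : G → ℂ) k))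
            (ψK : K → ℂ) := congrArg (fun f => classInner f (ψK : K → ℂ)) hfun
      rw [e, Helper79.classInner_sum_left]
      refine Finset.sum_congr rfl (fun ψ _ => ?_)
      rw [Helper79.classInner_smul_left, hm ψ]
    have h2 : ((∑ ψ : IrrCharacter G, n ψ * m ψ : ℕ) : ℂ) = ((1 : ℕ) : ℂ) := by
      push_cast
      exact h1.symm
    exact_mod_cast h2
  -- the constituent `ψ₀`
  obtain ⟨ψ₀, hψ₀⟩ : ∃ ψ₀ : IrrCharacter G, n ψ₀ * m ψ₀ ≠ 0 := by
    by_contra hcon
    push Not at hcon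
    rw [Finset.sum_eq_zero (fun ψ _ => hcon ψ)] at hsum
    exact zero_ne_one hsum
  have hle1 : n ψ₀ * m ψ₀ ≤ 1 := by
    rw [← hsum]
    exact Finset.single_le_sum (f := fun ψ : IrrCharacter G => n ψ * m ψ)
      (fun _ _ => Nat.zero_le _) (Finset.mem_univ ψ₀)
  have hnm : n ψ₀ * m ψ₀ = 1 := by omega
  have hn0 : n ψ₀ = 1 := Nat.eq_one_of_mul_eq_one_right hnm
  have hm0 : m ψ₀ = 1 := Nat.eq_one_of_mul_eq_one_left hnm
  -- degrees
  have hdegχ := charDegree_eq_sum_mult hχ n hn
  have hdegK : charDegree (ψK : K → ℂ) = charDegree χ := by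
    have h1 : ((charDegree (ψK : K → ℂ) : ℕ) : ℂ) = ((charDegree χ : ℕ) : ℂ) := by
      rw [← Helper79.irr_one ψK, ← Helper79.isCharacter_one hχ, hres 1]
      rfl
    exact_mod_cast h1
  have hdegres : charDegree (fun k : K => (ψ₀ : G → ℂ) k) = charDegree (ψ₀ : G → ℂ) := by
    have h1 : ((charDegree (fun k : K => (ψ₀ : G → ℂ) k) : ℕ) : ℂ) =
        ((charDegree (ψ₀ : G → ℂ) : ℕ) : ℂ) := by
      rw [← Helper79.isCharacter_one (hresChar ψ₀), ← Helper79.irr_one ψ₀]
      rfl
    exact_mod_cast h1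
  choose c hc using Helper74.isCharacter_inner_irr_nat (hresChar ψ₀)
  have hdeg0 := charDegree_eq_sum_mult (hresChar ψ₀) c hc
  have hcK : c ψK = 1 := by
    have h1 : ((c ψK : ℕ) : ℂ) = ((m ψ₀ : ℕ) : ℂ) := by rw [← hc ψK, ← hm ψ₀]
    have h2 : c ψK = m ψ₀ := by exact_mod_cast h1
    rw [h2, hm0]
  have hge : charDegree (ψK : K → ℂ) ≤ charDegree (ψ₀ : G → ℂ) := by
    rw [← hdegres, hdeg0]
    have := Finset.single_le_sum (f := fun φ : IrrCharacter K => c φ * charDegree (φ : K → ℂ))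
      (fun _ _ => Nat.zero_le _) (Finset.mem_univ ψK)
    simp only [hcK, one_mul] at this
    exact this
  -- the other multiplicities vanish
  have hother : ∀ ψ : IrrCharacter G, ψ ≠ ψ₀ → n ψ = 0 := by
    intro ψ hψ
    have hpair : n ψ₀ * charDegree (ψ₀ : G → ℂ) + n ψ * charDegree (ψ : G → ℂ) ≤ charDegree χ := by
      rw [hdegχ, ← Finset.sum_pair (f := fun φ : IrrCharacter G => n φ * charDegree (φ : G → ℂ))
        hψ.symm]
      exact Finset.sum_le_sum_of_subset (Finset.subset_univ _)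
    rw [hn0, one_mul] at hpair
    have hpos : 0 < charDegree (ψ : G → ℂ) := Helper79.irr_charDegree_pos ψ
    have hz : n ψ * charDegree (ψ : G → ℂ) = 0 := by omega
    rcases Nat.mul_eq_zero.1 hz with h | h
    · exact h
    · omega
  refine ⟨ψ₀, ?_⟩
  rw [hdec, Finset.sum_eq_single ψ₀]
  · rw [hn ψ₀, hn0, Nat.cast_one, one_smul]
  · intro ψ _ hψ
    rw [hn ψ, hother ψ hψ, Nat.cast_zero, zero_smul]
  · intro h
    exact absurd (Finset.mem_univ ψ₀) h

end Cfsg.Agent.Helper10.BP
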