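import Cfsg.Agent.Helper74.CharBasic
import Cfsg.Agent.Helper79.CharBasic
import Cfsg.Agent.Helper57.BP.Lemmas

/-!
# S4504, piece (R2): a linear constituent of `ψ ψ̄`, trivial on the `p`-singular elements, is
trivial when `ψ` restricts irreducibly to the subgroup generated by the elements of order `p`
(helper10 for helper57)
-/

set_option autoImplicit false
set_option linter.style.haveILetI false

namespace Cfsg.Agent.Helper10.BP

open Cfsg Cfsg.Agent Cfsg.Agent.Helper57.BH Cfsg.Agent.Helper77.DefOne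
open scoped ComplexConjugate

universe u

/-- a linear character that is trivial on the elements of order `p` is trivial on the subgroup
they generate -/
theorem linear_eq_one_on_normalClosure {G : Type u} [Group G] (p : ℕ)
    (K : Subgroup G) (hK : K = Subgroup.normalClosure {g : G | orderOf g = p})
    (μ : G → ℂ) (hμc : IsCharacter G μ) (hμ1 : μ 1 = 1)
    (hμ : ∀ g : G, orderOf g = p → μ g = 1) : ∀ k ∈ K, μ k = 1 := by
  have hmul : ∀ a b : G, μ (a * b) = μ a * μ b :=
    fun a b => Helper79.isCharacter_linear_mul hμc hμ1 a b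
  let H : Subgroup G :=
    { carrier := {g | μ g = 1}
      one_mem' := hμ1
      mul_mem' := by
        intro a b ha hb
        show μ (a * b) = 1
        rw [hmul, show μ a = 1 from ha, show μ b = 1 from hb, one_mul]
      inv_mem' := by
        intro a ha
        show μ a⁻¹ = 1
        have := hmul a a⁻¹
        rw [mul_inv_cancel, hμ1, show μ a = 1 from ha, one_mul] at this
        exact this.symm }
  have hle : K ≤ H := by
    rw [hK, Subgroup.normalClosure, Subgroup.closure_le]
    intro g hg
    show μ g = 1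
    apply hμ
    obtain ⟨a, ha, hc⟩ := Group.mem_conjugatesOfSet_iff.mp hg
    have ha' : orderOf a = p := ha
    obtain ⟨c, rfl⟩ := isConj_iff.mp hc
    rw [← ha']
    exact (SemiconjBy.orderOf_eq c (show SemiconjBy c a (c * a * c⁻¹) by
      unfold SemiconjBy; group)).symm
  intro k hk
  exact hle hk

/-- (R2) if `ψ` restricts irreducibly to the subgroup `K` generated by the elements of order
`p`, then a linear constituent of `ψ ψ̄` that is trivial on the `p`-singular elements is trivial -/
theorem eq_one_of_restrict_irr {G : Type u} [Group G] [Fintype G] (p : ℕ)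
    (K : Subgroup G) (hK : K = Subgroup.normalClosure {g : G | orderOf g = p})
    (ψ : IrrCharacter G) (ψK : IrrCharacter K)
    (hres : ∀ k : K, (ψK : K → ℂ) k = (ψ : G → ℂ) k)
    (μ : IrrCharacter G) (hμ1 : charDegree (μ : G → ℂ) = 1)
    (hμ : ∀ g : G, p ∣ orderOf g → (μ : G → ℂ) g = 1)
    (hc : classInner (mulConj (ψ : G → ℂ) (ψ : G → ℂ)) (μ : G → ℂ) ≠ 0) : μ = oneIrrG G := by
  classical
  by_contra hne
  letI : Fintype (IrrCharacter G) := Helper74.irrFintype G
  set Ψ : G → ℂ := mulConj (ψ : G → ℂ) (ψ : G → ℂ) with hΨ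
  have hΨc : IsCharacter G Ψ := isCharacter_mulConj ψ ψ
  have hdec := Helper74.isCharacter_eq_sum_irr hΨc
  choose a ha using Helper74.isCharacter_inner_irr_nat hΨc
  -- `μ` is trivial on `K`
  have hμone : (μ : G → ℂ) 1 = 1 := by
    rw [Helper79.irr_one, hμ1]
    simp
  have hμK : ∀ k ∈ K, (μ : G → ℂ) k = 1 :=
    linear_eq_one_on_normalClosure p K hK (μ : G → ℂ) (Helper74.irr_isCharacter μ) hμone
      (fun g hg => hμ g (by rw [hg]))
  -- the multiplicities of the restrictions in `1_K`
  have hresChar : ∀ χ : IrrCharacter G, IsCharacter K (fun k : K => (χ : G → ℂ) k) :=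
    fun χ => Helper74.isCharacter_restrict K (Helper74.irr_isCharacter χ)
  choose t ht using fun χ : IrrCharacter G =>
    Helper74.isCharacter_inner_irr_nat (hresChar χ) (oneIrrG K)
  have honeK : classInner ((oneIrrG K : IrrCharacter K) : K → ℂ)
      ((oneIrrG K : IrrCharacter K) : K → ℂ) = 1 := Helper74.irr_inner_self (oneIrrG K)
  -- `⟨Ψ|_K, 1_K⟩ = ⟨ψK, ψK⟩ = 1`
  have hleft : classInner (fun k : K => Ψ k) ((oneIrrG K : IrrCharacter K) : K → ℂ) = 1 := by
    rw [← Helper74.irr_inner_self ψK]
    unfold classInner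
    congr 1
    refine Finset.sum_congr rfl (fun k _ => ?_)
    rw [hΨ, hres k]
    show (ψ : G → ℂ) k * conj ((ψ : G → ℂ) k) * conj (1 : ℂ) = _
    rw [map_one, mul_one]
  -- `Ψ|_K = ∑ a_χ χ|_K`
  have hfun : (fun k : K => Ψ k) =
      ∑ χ : IrrCharacter G, (a χ : ℂ) • (fun k : K => (χ : G → ℂ) k) := by
    funext k
    have := congrFun hdec k
    simp only [Finset.sum_apply, Pi.smul_apply, smul_eq_mul] at this ⊢
    rw [this]
    exact Finset.sum_congr rfl (fun χ _ => by rw [ha χ])
  have hsum : ∑ χ : IrrCharacter G, a χ * t χ = 1 := by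
    have h1 : (1 : ℂ) = ∑ χ : IrrCharacter G, (a χ : ℂ) * (t χ : ℂ) := by
      rw [← hleft, hfun, Helper79.classInner_sum_left]
      refine Finset.sum_congr rfl (fun χ _ => ?_)
      rw [Helper79.classInner_smul_left, ht χ]
    have h2 : ((∑ χ : IrrCharacter G, a χ * t χ : ℕ) : ℂ) = ((1 : ℕ) : ℂ) := by
      push_cast
      exact h1.symm
    exact_mod_cast h2
  -- the two constituents `1_G` and `μ`
  have ha1 : a (oneIrrG G) = 1 := by
    have h1 : ((a (oneIrrG G) : ℕ) : ℂ) = ((1 : ℕ) : ℂ) := by
      rw [← ha (oneIrrG G), Nat.cast_one, ← Helper74.irr_inner_self ψ]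
      unfold classInner
      congr 1
      refine Finset.sum_congr rfl (fun g _ => ?_)
      show (ψ : G → ℂ) g * conj ((ψ : G → ℂ) g) * conj (1 : ℂ) = _
      rw [map_one, mul_one]
    exact_mod_cast h1
  have ht1 : t (oneIrrG G) = 1 := by
    have h1 : ((t (oneIrrG G) : ℕ) : ℂ) = ((1 : ℕ) : ℂ) := by
      rw [← ht (oneIrrG G), Nat.cast_one, ← honeK]
      rfl
    exact_mod_cast h1
  have htμ : t μ = 1 := by
    have h1 : ((t μ : ℕ) : ℂ) = ((1 : ℕ) : ℂ) := by
      rw [← ht μ, Nat.cast_one, ← honeK]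
      congr 1
      funext k
      exact hμK k k.2
    exact_mod_cast h1
  have haμ : 1 ≤ a μ := by
    rw [Nat.one_le_iff_ne_zero]
    intro h0
    apply hc
    rw [ha μ, h0, Nat.cast_zero]
  have hpair : a (oneIrrG G) * t (oneIrrG G) + a μ * t μ ≤ 1 := by
    rw [← hsum, ← Finset.sum_pair (f := fun χ : IrrCharacter G => a χ * t χ) (Ne.symm hne)]
    exact Finset.sum_le_sum_of_subset (Finset.subset_univ _)
  rw [ha1, ht1, htμ] at hpair
  omega

end Cfsg.Agent.Helper10.BP
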