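import Mathlib

/-!
# (CJ4) for helper58 (S0508): in a simple group with Klein four Sylow 2-subgroups all
involutions are conjugate
-/

set_option autoImplicit false

namespace Cfsg.Agent.Helper10.BSWD

open Subgroup

/-- every involution is conjugate into a given Sylow `2`-subgroup -/
theorem exists_conj_mem_sylow_two {G : Type*} [Group G] [Finite G] (S : Sylow 2 G) (x : G)
    (hx : orderOf x = 2) : ∃ h : G, h * x * h⁻¹ ∈ (S : Subgroup G) := by
  have hP : IsPGroup 2 (zpowers x) := by
    apply IsPGroup.of_card (n := 1)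
    rw [Nat.card_zpowers, hx, pow_one]
  obtain ⟨Q, hQ⟩ := hP.exists_le_sylow
  obtain ⟨h, hh⟩ := MulAction.exists_smul_eq G Q S
  refine ⟨h, ?_⟩
  rw [← hh, Sylow.coe_subgroup_smul]
  have hxQ : x ∈ (Q : Subgroup G) := hQ (mem_zpowers x)
  have := Subgroup.smul_mem_pointwise_smul x (MulAut.conj h) (Q : Subgroup G) hxQ
  rwa [MulAut.smul_def, MulAut.conj_apply] at this

/-- (CJ4) -/
theorem involutions_conj_of_klein {G : Type*} [Group G] [Finite G] [IsSimpleGroup G] (S : Sylow 2 G)
    (hS : Nonempty (↥(S : Subgroup G) ≃* DihedralGroup 2)) :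
    ∀ x y : G, orderOf x = 2 → orderOf y = 2 → IsConj x y := by
  classical
  obtain ⟨e⟩ := hS
  have hcard : Nat.card (S : Subgroup G) = 4 := by
    rw [Nat.card_congr e.toEquiv, DihedralGroup.nat_card]
  have hexp : ∀ x ∈ (S : Subgroup G), x * x = 1 := by
    intro x hx
    have h1 : ∀ d : DihedralGroup 2, d * d = 1 := by decide
    have h2 := h1 (e ⟨x, hx⟩)
    rw [← map_mul, MulEquiv.map_eq_one_iff] at h2
    exact congrArg Subtype.val h2
  have hcomm : ∀ x ∈ (S : Subgroup G), ∀ y ∈ (S : Subgroup G), x * y = y * x := by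
    intro x hx y hy
    have h1 := hexp x hx
    have h2 := hexp y hy
    have h3 := hexp (x * y) (mul_mem hx hy)
    have hxi : x⁻¹ = x := inv_eq_of_mul_eq_one_left h1
    have hyi : y⁻¹ = y := inv_eq_of_mul_eq_one_left h2
    have : (x * y)⁻¹ = x * y := inv_eq_of_mul_eq_one_left h3
    rw [mul_inv_rev, hxi, hyi] at this
    exact this.symm
  -- Burnside's transfer theorem: `N(S)` does not centralize `S`
  have hnot : ¬ normalizer ((S : Subgroup G) : Set G) ≤ centralizer ((S : Subgroup G) : Set G) := by
    intro hP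
    have hc := MonoidHom.ker_transferSylow_isComplement' S hP
    rcases (MonoidHom.normal_ker (MonoidHom.transferSylow S hP)).eq_bot_or_eq_top with h | h
    · rw [h, isComplement'_bot_left] at hc
      have hG4 : Nat.card (⊤ : Subgroup G) = 4 := hc ▸ hcard
      have hallS : ∀ x : G, x ∈ (S : Subgroup G) := fun x => by rw [hc]; trivial
      obtain ⟨x, hx⟩ := exists_ne (1 : G)
      have hN : (zpowers x).Normal := by
        constructor
        intro n hn g
        have : g * n * g⁻¹ = n := by
          rw [hcomm g (hallS g) n (hallS n), mul_inv_cancel_right]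
        rw [this]
        exact hn
      rcases hN.eq_bot_or_eq_top with h0 | h0
      · rw [zpowers_eq_bot] at h0
        exact hx h0
      · have h1 : Nat.card (zpowers x) = 4 := by rw [h0]; exact hG4
        rw [Nat.card_zpowers] at h1
        have h2 : orderOf x ∣ 2 := orderOf_dvd_of_pow_eq_one (by rw [pow_two]; exact hexp x (hallS x))
        have := Nat.le_of_dvd (by norm_num) h2
        omega
    · rw [h, isComplement'_top_left] at hc
      have : Nat.card (⊥ : Subgroup G) = 4 := hc ▸ hcard
      rw [Subgroup.card_bot] at this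
      omega
  obtain ⟨g, hgN, hgC⟩ := SetLike.not_le_iff_exists.mp hnot
  rw [mem_centralizer_iff] at hgC
  simp only [not_forall, exists_prop] at hgC
  obtain ⟨a, haS', hne⟩ := hgC
  have haS : a ∈ (S : Subgroup G) := haS'
  have hconjS : ∀ z ∈ (S : Subgroup G), g * z * g⁻¹ ∈ (S : Subgroup G) := fun z hz =>
    (mem_normalizer_iff.mp hgN z).mp hz
  -- the odd part of the order of `g`
  obtain ⟨k, m, hm, hkm⟩ := Nat.exists_eq_two_pow_mul_odd (orderOf_pos g).ne'
  have hgm : g ^ m ∈ (S : Subgroup G) := by
    have hP : IsPGroup 2 (zpowers (g ^ m)) := by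
      rintro ⟨h, hh⟩
      obtain ⟨i, rfl⟩ := mem_zpowers_iff.mp hh
      refine ⟨k, Subtype.ext ?_⟩
      show ((g ^ m) ^ i) ^ 2 ^ k = 1
      rw [← zpow_natCast, ← zpow_mul, mul_comm, zpow_mul, zpow_natCast, ← pow_mul, mul_comm m,
        ← hkm, pow_orderOf_eq_one, one_zpow]
    have h1 := hP.inf_normalizer_sylow S
    have h3 : g ^ m ∈ zpowers (g ^ m) ⊓ (S : Subgroup G) :=
      h1.le ⟨mem_zpowers _, pow_mem hgN m⟩
    exact h3.2
  set b := g * a * g⁻¹ with hb
  have hbS : b ∈ (S : Subgroup G) := hconjS a haS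
  set c := g * b * g⁻¹ with hc
  have hcS : c ∈ (S : Subgroup G) := hconjS b hbS
  have hab : a ≠ b := by
    intro h
    apply hne
    calc a * g = g * a * g⁻¹ * g := by rw [← hb, ← h]
      _ = g * a := by group
  have hac : a ≠ c := by
    intro h
    -- `g ^ 2` commutes with `a`
    have h2 : Commute (g ^ 2) a := by
      have h2' : g * g * a * (g * g)⁻¹ = a := by
        calc g * g * a * (g * g)⁻¹ = g * (g * a * g⁻¹) * g⁻¹ := by group
          _ = a := by rw [← hb, ← hc, ← h]
      show g ^ 2 * a = a * g ^ 2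
      rw [pow_two]
      calc g * g * a = g * g * a * (g * g)⁻¹ * (g * g) := by group
        _ = a * (g * g) := by rw [h2']
    obtain ⟨j, hj⟩ := hm
    have h3 : Commute (g ^ (2 * j)) a := by
      rw [pow_mul]
      exact h2.pow_left j
    have h4 : g ^ m * a = a * g ^ m := hcomm _ hgm a haS
    have hsplit : g ^ m = g ^ (2 * j) * g := by rw [hj, pow_succ]
    have e1 : g ^ (2 * j) * (g * a) = g ^ (2 * j) * (a * g) := by
      calc g ^ (2 * j) * (g * a) = g ^ m * a := by rw [hsplit, mul_assoc]
        _ = a * g ^ m := h4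
        _ = a * g ^ (2 * j) * g := by rw [hsplit, mul_assoc]
        _ = g ^ (2 * j) * a * g := by rw [h3.eq]
        _ = g ^ (2 * j) * (a * g) := by rw [mul_assoc]
    exact hne (mul_left_cancel e1).symm
  have hbc : b ≠ c := by
    intro h
    apply hab
    have : g * a * g⁻¹ = g * b * g⁻¹ := by rw [← hb, ← hc]; exact h
    exact mul_left_cancel (mul_right_cancel this)
  have ha1 : a ≠ 1 := by
    rintro rfl
    exact hne (by rw [one_mul, mul_one])
  have hb1 : b ≠ 1 := by
    intro h
    apply ha1
    have : g * a * g⁻¹ = g * 1 * g⁻¹ := by rw [← hb, h]; group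
    exact mul_left_cancel (mul_right_cancel this)
  have hc1 : c ≠ 1 := by
    intro h
    apply hb1
    have : g * b * g⁻¹ = g * 1 * g⁻¹ := by rw [← hc, h]; group
    exact mul_left_cancel (mul_right_cancel this)
  -- `S = {1, a, b, c}`
  have hT : ({1, a, b, c} : Finset G).card = 4 := by
    rw [Finset.card_insert_of_notMem (by simp [ha1.symm, hb1.symm, hc1.symm]),
      Finset.card_insert_of_notMem (by simp [hab, hac]),
      Finset.card_insert_of_notMem (by simp [hbc]), Finset.card_singleton]
  have hsub : ((({1, a, b, c} : Finset G)) : Set G) ⊆ ((S : Subgroup G) : Set G) := by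
    intro z hz
    simp only [Finset.coe_insert, Finset.coe_singleton, Set.mem_insert_iff,
      Set.mem_singleton_iff] at hz
    rcases hz with rfl | rfl | rfl | rfl
    · exact one_mem _
    · exact haS
    · exact hbS
    · exact hcS
  have hSeq : ((({1, a, b, c} : Finset G)) : Set G) = ((S : Subgroup G) : Set G) := by
    apply Set.eq_of_subset_of_ncard_le hsub _ (Set.toFinite _)
    rw [Set.ncard_coe_finset, hT, ← hcard]
    exact le_of_eq (Nat.card_coe_set_eq _)
  have hcases : ∀ z ∈ (S : Subgroup G), z ≠ 1 → z = a ∨ z = b ∨ z = c := by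
    intro z hz hz1
    have hz' : z ∈ ((S : Subgroup G) : Set G) := hz
    rw [← hSeq] at hz'
    simp only [Finset.coe_insert, Finset.coe_singleton, Set.mem_insert_iff,
      Set.mem_singleton_iff] at hz'
    rcases hz' with h | h | h | h
    · exact absurd h hz1
    · exact Or.inl h
    · exact Or.inr (Or.inl h)
    · exact Or.inr (Or.inr h)
  have hcab : IsConj a b := isConj_iff.mpr ⟨g, rfl⟩
  have hcbc : IsConj b c := isConj_iff.mpr ⟨g, rfl⟩
  -- every involution is conjugate to `a`
  have hall : ∀ x : G, orderOf x = 2 → IsConj x a := by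
    intro x hx
    obtain ⟨h, hh⟩ := exists_conj_mem_sylow_two S x hx
    have hx1 : h * x * h⁻¹ ≠ 1 := by
      intro h1
      have : x = 1 := by
        have : h * x * h⁻¹ = h * 1 * h⁻¹ := by rw [h1]; group
        exact mul_left_cancel (mul_right_cancel this)
      rw [this, orderOf_one] at hx
      omega
    have hxc : IsConj x (h * x * h⁻¹) := isConj_iff.mpr ⟨h, rfl⟩
    rcases hcases _ hh hx1 with h' | h' | h'
    · rw [h'] at hxc; exact hxc
    · rw [h'] at hxc; exact hxc.trans hcab.symm
    · rw [h'] at hxc; exact hxc.trans (hcab.trans hcbc).symm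
  intro x y hx hy
  exact (hall x hx).trans (hall y hy).symm

end Cfsg.Agent.Helper10.BSWD
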