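import Mathlib

/-!
# (TI) for helper58 (S0508): the TI property of `K = O ⊔ C`
-/

set_option autoImplicit false
set_option linter.unusedVariables false

namespace Cfsg.Agent.Helper10.BSWD

open Subgroup

/-- an element of `K ⊔ ⟨s⟩` (with `s` an involution normalizing `K`) lies in `K` or in `K s`. -/
theorem mem_or_mul_of_mem_sup_zpowers {G : Type*} [Group G] (s : G) (K : Subgroup G)
    (hs : orderOf s = 2) (hinv : ∀ x ∈ K, s * x * s⁻¹ = x⁻¹) (y : G) (hy : y ∈ K ⊔ zpowers s) :
    y ∈ K ∨ ∃ k ∈ K, y = k * s := by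
  have hLE : zpowers s ≤ normalizer (K : Set G) := by
    rw [zpowers_le]
    rw [mem_normalizer_iff]
    intro h
    constructor
    · intro hh
      rw [hinv h hh]
      exact K.inv_mem hh
    · intro hh
      have h2 := hinv _ hh
      have hs2 : s * s = 1 := by rw [← pow_two, ← hs, pow_orderOf_eq_one]
      have hsi : s⁻¹ = s := inv_eq_of_mul_eq_one_left hs2
      have e : s * (s * h * s⁻¹) * s⁻¹ = h := by
        rw [hsi]
        calc s * (s * h * s) * s = (s * s) * h * (s * s) := by group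
          _ = h := by rw [hs2, one_mul, mul_one]
      rw [e] at h2
      have : h = (s * h * s⁻¹)⁻¹ := h2
      rw [this]
      exact K.inv_mem hh
  have hcoe := coe_mul_of_right_le_normalizer_left K (zpowers s) hLE
  have hy' : y ∈ ((K ⊔ zpowers s : Subgroup G) : Set G) := hy
  rw [hcoe] at hy'
  obtain ⟨k, hk, z, hz, rfl⟩ := hy'
  obtain ⟨i, rfl⟩ := mem_zpowers_iff.mp hz
  have hmod : s ^ i = s ^ (i % 2) := by
    have := zpow_mod_orderOf s i
    rw [hs] at this
    exact_mod_cast this.symm
  rcases Int.emod_two_eq_zero_or_one i with h0 | h1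
  · left
    show k * s ^ i ∈ K
    rw [hmod, h0, zpow_zero, mul_one]
    exact hk
  · right
    refine ⟨k, hk, ?_⟩
    show k * s ^ i = k * s
    rw [hmod, h1, zpow_one]

/-- (TI) -/
theorem ti_of_struct {G : Type*} [Group G] [Finite G] (t s : G) (K O : Subgroup G)
    (ht : orderOf t = 2) (htK : t ∈ K) (hKab : ∀ a ∈ K, ∀ b ∈ K, a * b = b * a)
    (hs : orderOf s = 2) (hsK : s ∉ K)
    (hH : K ⊔ zpowers s = centralizer ({t} : Set G))
    (hinv : ∀ x ∈ K, s * x * s⁻¹ = x⁻¹)
    (huniq : ∀ x ∈ K, orderOf x = 2 → x = t)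
    (hOK : O ≤ K) (hodd : ∀ x ∈ K, Odd (orderOf x) → x ∈ O)
    (hc : ∀ Y : Subgroup G, Y ≤ O → Y ≠ ⊥ → normalizer (Y : Set G) ≤ centralizer ({t} : Set G)) :
    ∀ g : G, g ∉ centralizer ({t} : Set G) → K ⊓ K.map (MulAut.conj g).toMonoidHom = ⊥ := by
  intro g hg
  rw [eq_bot_iff]
  rintro x ⟨hxK, hxg⟩
  rw [mem_bot]
  by_contra hx1
  obtain ⟨k0, hk0, hk0x⟩ := mem_map.mp hxg
  have hk0x' : g * k0 * g⁻¹ = x := hk0x
  -- `g` centralizes `t` as soon as `g⁻¹ t g = t`
  have hgt : g⁻¹ * t * g ≠ t := by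
    intro h
    apply hg
    rw [mem_centralizer_iff]
    intro h' hh'
    rw [Set.mem_singleton_iff] at hh'
    subst hh'
    calc h' * g = g * (g⁻¹ * h' * g) := by group
      _ = g * h' := by rw [h]
  have hxpos : 0 < orderOf x := orderOf_pos x
  rcases Nat.even_or_odd (orderOf x) with hev | hod
  · -- even order
    have h2 : 2 ∣ orderOf x := hev.two_dvd
    set j := orderOf x / 2 with hj
    have hy2 : orderOf (x ^ j) = 2 := orderOf_pow_orderOf_div hxpos.ne' h2
    have hyK : x ^ j ∈ K := K.pow_mem hxK j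
    have hyt : x ^ j = t := huniq _ hyK hy2
    have hk0j : k0 ^ j ∈ K := K.pow_mem hk0 j
    have hconj : g * k0 ^ j * g⁻¹ = x ^ j := by
      rw [← hk0x', conj_pow]
    have hk0j2 : orderOf (k0 ^ j) = 2 := by
      rw [← hy2, ← hconj]
      exact ((MulAut.conj g).orderOf_eq (k0 ^ j)).symm
    have hk0t : k0 ^ j = t := huniq _ hk0j hk0j2
    apply hgt
    rw [hk0t, hyt] at hconj
    calc g⁻¹ * t * g = g⁻¹ * (g * t * g⁻¹) * g := by rw [hconj]
      _ = t := by group
  · -- odd order
    have hxO : x ∈ O := hodd x hxK hod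
    have hY : zpowers x ≤ O := by
      rw [zpowers_le]
      exact hxO
    have hYne : zpowers x ≠ ⊥ := by
      intro h
      rw [zpowers_eq_bot] at h
      exact hx1 h
    have hN := hc (zpowers x) hY hYne
    set t' := g * t * g⁻¹ with ht'
    -- `t'` commutes with `x`
    have hcomm : t' * x = x * t' := by
      rw [ht', ← hk0x']
      have := hKab t htK k0 hk0
      calc g * t * g⁻¹ * (g * k0 * g⁻¹) = g * (t * k0) * g⁻¹ := by group
        _ = g * (k0 * t) * g⁻¹ := by rw [this]
        _ = g * k0 * g⁻¹ * (g * t * g⁻¹) := by group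
    have ht'N : t' ∈ normalizer ((zpowers x : Subgroup G) : Set G) := by
      apply centralizer_le_normalizer
      rw [mem_centralizer_iff]
      intro h hh
      obtain ⟨i, rfl⟩ := mem_zpowers_iff.mp hh
      exact ((Commute.zpow_right (show Commute t' x from hcomm) i).eq).symm
    have ht'C : t' ∈ K ⊔ zpowers s := by
      rw [hH]
      exact hN ht'N
    have ht'2 : orderOf t' = 2 := by
      rw [← ht]
      exact (MulAut.conj g).orderOf_eq t
    rcases mem_or_mul_of_mem_sup_zpowers s K hs hinv t' ht'C with h | ⟨k, hk, hks⟩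
    · have := huniq t' h ht'2
      apply hgt
      have e : g⁻¹ * t' * g = t := by
        rw [ht']
        group
      rw [this] at e
      exact e
    · -- `t' = k s` inverts `x`
      have hxinv : t' * x * t'⁻¹ = x⁻¹ := by
        rw [hks]
        have h1 := hinv x hxK
        have h2 := hKab k hk x⁻¹ (K.inv_mem hxK)
        calc k * s * x * (k * s)⁻¹ = k * (s * x * s⁻¹) * k⁻¹ := by group
          _ = k * x⁻¹ * k⁻¹ := by rw [h1]
          _ = x⁻¹ * k * k⁻¹ := by rw [h2]
          _ = x⁻¹ := by group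
      have hxx : x = x⁻¹ := by
        rw [← hxinv, hcomm]
        group
      have hx2 : x ^ 2 = 1 := by
        rw [pow_two]
        nth_rewrite 2 [hxx]
        exact mul_inv_cancel x
      have hd : orderOf x ∣ 2 := orderOf_dvd_of_pow_eq_one hx2
      have h12 : orderOf x = 1 ∨ orderOf x = 2 := (Nat.dvd_prime Nat.prime_two).mp hd
      rcases h12 with h | h
      · exact hx1 (orderOf_eq_one_iff.mp h)
      · rw [h] at hod
        exact absurd hod (by decide)

end Cfsg.Agent.Helper10.BSWD
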