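import Mathlib
import Cfsg.Agent.Helper25.Bli.Defs

/-!
# S4484 piece (FL): the minimal flats
-/

set_option autoImplicit false
set_option linter.unusedSectionVars false
set_option linter.unusedVariables false

namespace Cfsg.Agent.Helper10.Bli

open Module Module.End Cfsg.Agent.Helper25.Bli

variable {G : Type*} [Group G] {V : Type*} [NormedAddCommGroup V] [InnerProductSpace ℂ V]
  [FiniteDimensional ℂ V]

/-- the `α`-eigenspace of the conjugate `g x g⁻¹` -/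
noncomputable abbrev cE (Φ : G →* unitary (V →L[ℂ] V)) (x : G) (α : ℂ) (g : G) : Submodule ℂ V :=
  eigenspace (act Φ (g * x * g⁻¹)) α

theorem act_mul_apply (Φ : G →* unitary (V →L[ℂ] V)) (g h : G) (v : V) :
    act Φ (g * h) v = act Φ g (act Φ h v) := by
  simp [act, map_mul]

theorem act_one_apply (Φ : G →* unitary (V →L[ℂ] V)) (v : V) : act Φ 1 v = v := by
  simp [act]

theorem act_mul (Φ : G →* unitary (V →L[ℂ] V)) (g h : G) :
    act Φ (g * h) = act Φ g ∘ₗ act Φ h :=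
  LinearMap.ext fun v => act_mul_apply Φ g h v

theorem act_inv_apply (Φ : G →* unitary (V →L[ℂ] V)) (h : G) (v : V) :
    act Φ h⁻¹ (act Φ h v) = v := by
  rw [← act_mul_apply, inv_mul_cancel, act_one_apply]

theorem act_apply_inv (Φ : G →* unitary (V →L[ℂ] V)) (h : G) (v : V) :
    act Φ h (act Φ h⁻¹ v) = v := by
  rw [← act_mul_apply, mul_inv_cancel, act_one_apply]

theorem act_injective (Φ : G →* unitary (V →L[ℂ] V)) (h : G) : Function.Injective (act Φ h) :=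
  Function.LeftInverse.injective (act_inv_apply Φ h)

theorem map_act (Φ : G →* unitary (V →L[ℂ] V)) (h : G) (W : Submodule ℂ V) :
    W.map (act Φ h) = W.comap (act Φ h⁻¹) := by
  ext v
  simp only [Submodule.mem_map, Submodule.mem_comap]
  constructor
  · rintro ⟨w, hw, rfl⟩
    rwa [act_inv_apply]
  · intro hv
    exact ⟨act Φ h⁻¹ v, hv, act_apply_inv Φ h v⟩

theorem finrank_map_act (Φ : G →* unitary (V →L[ℂ] V)) (h : G) (W : Submodule ℂ V) :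
    finrank ℂ (W.map (act Φ h)) = finrank ℂ W :=
  (Submodule.equivMapOfInjective (act Φ h) (act_injective Φ h) W).finrank_eq.symm

theorem comap_cE (Φ : G →* unitary (V →L[ℂ] V)) (x : G) (α : ℂ) (h g : G) :
    (cE Φ x α g).comap (act Φ h⁻¹) = cE Φ x α (h * g) := by
  ext v
  simp only [Submodule.mem_comap, mem_eigenspace_iff]
  have e : h * g * x * (h * g)⁻¹ = h * (g * x * g⁻¹) * h⁻¹ := by group
  have e2 : act Φ (h * (g * x * g⁻¹) * h⁻¹) v =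
      act Φ h (act Φ (g * x * g⁻¹) (act Φ h⁻¹ v)) := by
    rw [act_mul_apply, act_mul_apply]
  rw [e, e2]
  constructor
  · intro hv
    rw [hv, map_smul, act_apply_inv]
  · intro hv
    have h1 := congrArg (act Φ h⁻¹) hv
    rw [act_inv_apply, map_smul] at h1
    exact h1

theorem exists_flats [Finite G] (Φ : G →* unitary (V →L[ℂ] V)) (x : G) (α : ℂ)
    (hα : HasEigenvalue (act Φ x) α) :
    ∃ ℱ : Set (Submodule ℂ V), ℱ.Finite ∧ ℱ.Nonempty ∧ (∀ W ∈ ℱ, W ≠ ⊥) ∧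
      (∀ W ∈ ℱ, ∀ W' ∈ ℱ, W ≠ W' → W ⊓ W' = ⊥) ∧
      (∀ W ∈ ℱ, ∀ g : G, W ≤ cE Φ x α g ∨ W ⊓ cE Φ x α g = ⊥) ∧
      (∀ W ∈ ℱ, ∃ g : G, W ≤ cE Φ x α g) ∧
      (∀ W ∈ ℱ, ∀ W' ∈ ℱ, (∀ g : G, W ≤ cE Φ x α g ↔ W' ≤ cE Φ x α g) → W = W') ∧
      (∀ g : G, ∀ W ∈ ℱ, W.map (act Φ g) ∈ ℱ) ∧
      (∀ W ∈ ℱ, ∀ W' ∈ ℱ, ∃ g : G, W.map (act Φ g) = W') := by
  -- flats
  let P : Submodule ℂ V → Prop :=
    fun W => ∃ T : Set G, T.Nonempty ∧ W = ⨅ g ∈ T, cE Φ x α g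
  have P_cE : ∀ g, P (cE Φ x α g) := fun g => ⟨{g}, Set.singleton_nonempty g, by simp⟩
  have P_inf : ∀ W F, P W → P F → P (W ⊓ F) := by
    rintro W F ⟨T, hT, hW⟩ ⟨T', hT', hF⟩
    exact ⟨T ∪ T', hT.inl, by rw [iInf_union, ← hW, ← hF]⟩
  have P_map : ∀ W (h : G), P W → P (W.map (act Φ h)) := by
    rintro W h ⟨T, hT, hW⟩
    refine ⟨(fun g => h * g) '' T, hT.image _, ?_⟩
    rw [iInf_image, hW, map_act]
    simp only [Submodule.comap_iInf, comap_cE]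
  have P_some : ∀ W, P W → ∃ g, W ≤ cE Φ x α g := by
    rintro W ⟨T, ⟨g, hg⟩, hW⟩
    exact ⟨g, by rw [hW]; exact iInf₂_le g hg⟩
  have P_det : ∀ W W', P W → (∀ g : G, W ≤ cE Φ x α g → W' ≤ cE Φ x α g) → W' ≤ W := by
    rintro W W' ⟨T, hT, hW⟩ hiff
    rw [hW]
    refine le_iInf₂ fun g hg => hiff g ?_
    rw [hW]
    exact iInf₂_le g hg
  -- a nonzero flat of minimal dimension
  let S : Set ℕ := {n | ∃ W, P W ∧ W ≠ ⊥ ∧ finrank ℂ W = n}
  have h1ne : cE Φ x α 1 ≠ ⊥ := by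
    have e : (1 : G) * x * 1⁻¹ = x := by simp
    show eigenspace (act Φ (1 * x * 1⁻¹)) α ≠ ⊥
    rw [e]
    exact hα
  have hS : S.Nonempty := ⟨_, cE Φ x α 1, P_cE 1, h1ne, rfl⟩
  obtain ⟨W0, hW0P, hW0ne, hW0m⟩ := Nat.sInf_mem hS
  have hmin : ∀ W, P W → W ≠ ⊥ → finrank ℂ W0 ≤ finrank ℂ W := by
    intro W hP hne
    rw [hW0m]
    exact Nat.sInf_le ⟨W, hP, hne, rfl⟩
  have hA : ∀ W F, P W → finrank ℂ W = finrank ℂ W0 → P F → W ⊓ F = ⊥ ∨ W ≤ F := by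
    intro W F hW hWm hF
    by_cases hb : W ⊓ F = ⊥
    · exact Or.inl hb
    right
    have h1 := hmin _ (P_inf W F hW hF) hb
    have h2 : W ⊓ F = W :=
      Submodule.eq_of_le_of_finrank_le inf_le_left (by rw [hWm]; exact h1)
    rw [← h2]
    exact inf_le_right
  have hW0pos : finrank ℂ W0 ≠ 0 := fun h => hW0ne (Submodule.finrank_eq_zero.mp h)
  refine ⟨Set.range (fun h : G => W0.map (act Φ h)), Set.finite_range _, Set.range_nonempty _,
    ?_, ?_, ?_, ?_, ?_, ?_, ?_⟩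
  · rintro _ ⟨h, rfl⟩ hb
    have hb' : W0.map (act Φ h) = ⊥ := hb
    apply hW0pos
    rw [← finrank_map_act Φ h W0, hb', finrank_bot]
  · rintro _ ⟨h, rfl⟩ _ ⟨h', rfl⟩ hne
    rcases hA _ _ (P_map W0 h hW0P) (finrank_map_act Φ h W0) (P_map W0 h' hW0P) with h1 | h1
    · exact h1
    · exfalso
      apply hne
      exact Submodule.eq_of_le_of_finrank_le h1
        (by rw [finrank_map_act, finrank_map_act])
  · rintro _ ⟨h, rfl⟩ g
    exact (hA _ _ (P_map W0 h hW0P) (finrank_map_act Φ h W0) (P_cE g)).symm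
  · rintro _ ⟨h, rfl⟩
    exact P_some _ (P_map W0 h hW0P)
  · rintro _ ⟨h, rfl⟩ _ ⟨h', rfl⟩ hiff
    exact le_antisymm
      (P_det _ _ (P_map W0 h' hW0P) fun g hg => (hiff g).mpr hg)
      (P_det _ _ (P_map W0 h hW0P) fun g hg => (hiff g).mp hg)
  · rintro g _ ⟨h, rfl⟩
    refine ⟨g * h, ?_⟩
    show W0.map (act Φ (g * h)) = (W0.map (act Φ h)).map (act Φ g)
    rw [act_mul, Submodule.map_comp]
  · rintro _ ⟨h, rfl⟩ _ ⟨h', rfl⟩
    refine ⟨h' * h⁻¹, ?_⟩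
    show (W0.map (act Φ h)).map (act Φ (h' * h⁻¹)) = W0.map (act Φ h')
    rw [← Submodule.map_comp, ← act_mul, inv_mul_cancel_right]

end Cfsg.Agent.Helper10.Bli
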