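import Mathlib
import Cfsg.Agent.Helper25.Bli.Defs

/-!
# S4484 piece (L4b): a `u`-stable subspace meeting an eigenspace of the unitary `u` trivially is
orthogonal to it
-/

set_option autoImplicit false
set_option linter.unusedSectionVars false
set_option linter.unusedVariables false

namespace Cfsg.Agent.Helper10.Bli

open Module Module.End Cfsg.Agent.Helper25.Bli

variable {G : Type*} [Group G] {V : Type*} [NormedAddCommGroup V] [InnerProductSpace ℂ V]
  [FiniteDimensional ℂ V]

/-- (L4b) a `u`-stable subspace meeting the `α`-eigenspace of the unitary `u` trivially is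
orthogonal to it. -/
theorem isOrtho_eigenspace_of_inf_eq_bot (u : unitary (V →L[ℂ] V)) (α : ℂ) (W' : Submodule ℂ V)
    (hst : W'.map ((u : V →L[ℂ] V) : V →ₗ[ℂ] V) ≤ W')
    (hinf : W' ⊓ eigenspace ((u : V →L[ℂ] V) : V →ₗ[ℂ] V) α = ⊥) :
    W' ⟂ eigenspace ((u : V →L[ℂ] V) : V →ₗ[ℂ] V) α := by
  have := FiniteDimensional.complete ℂ V
  set U : V →ₗ[ℂ] V := ((u : V →L[ℂ] V) : V →ₗ[ℂ] V) with hU
  have hnorm : ∀ z, ‖U z‖ = ‖z‖ := fun z => ContinuousLinearMap.norm_map_of_mem_unitary u.2 z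
  have hinner : ∀ a b, inner ℂ (U a) (U b) = inner ℂ a b :=
    fun a b => ContinuousLinearMap.inner_map_map_of_mem_unitary u.2 a b
  let T : V →ₗ[ℂ] V := U - α • LinearMap.id
  have hTapp : ∀ z, T z = U z - α • z := fun z => rfl
  have hT : ∀ z ∈ W', T z ∈ W' := by
    intro z hz
    have h1 : U z ∈ W' := hst ⟨z, hz, rfl⟩
    rw [hTapp]
    exact W'.sub_mem h1 (W'.smul_mem α hz)
  let T' : W' →ₗ[ℂ] W' := T.restrict hT
  have hT'app : ∀ z : W', ((T' z : W') : V) = U z - α • (z : V) := fun z => rfl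
  have hinj : Function.Injective T' := by
    rw [← LinearMap.ker_eq_bot, LinearMap.ker_eq_bot']
    intro z hz
    have h1 : U (z : V) - α • (z : V) = 0 := by
      rw [← hT'app, hz]
      rfl
    have h2 : (z : V) ∈ eigenspace U α := by
      rw [mem_eigenspace_iff]
      exact sub_eq_zero.mp h1
    have h3 : (z : V) ∈ W' ⊓ eigenspace U α := ⟨z.2, h2⟩
    rw [hinf, Submodule.mem_bot] at h3
    exact Subtype.ext h3
  have hsurj : Function.Surjective T' := LinearMap.injective_iff_surjective.mp hinj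
  rw [Submodule.isOrtho_iff_inner_eq]
  intro w' hw' v hv
  rw [mem_eigenspace_iff] at hv
  by_cases hv0 : v = 0
  · rw [hv0, inner_zero_right]
  obtain ⟨z, hz⟩ := hsurj ⟨w', hw'⟩
  have hz' : w' = U z - α • (z : V) := by
    rw [← hT'app, hz]
  have hα : ‖α‖ = 1 := by
    have h1 := hnorm v
    rw [hv, norm_smul] at h1
    have hvn : ‖v‖ ≠ 0 := norm_ne_zero_iff.mpr hv0
    exact mul_right_cancel₀ hvn (h1.trans (one_mul _).symm)
  have hα0 : α ≠ 0 := by
    intro h
    rw [h, norm_zero] at hα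
    exact zero_ne_one hα
  have h1 : inner ℂ (U z) (U v) = inner ℂ (z : V) v := hinner _ _
  rw [hv, inner_smul_right] at h1
  have h2 : (starRingEnd ℂ) α * α = 1 := by
    rw [Complex.conj_mul', hα]
    norm_num
  rw [hz', inner_sub_left, inner_smul_left]
  apply mul_left_cancel₀ hα0
  rw [mul_zero, mul_sub, h1, ← mul_assoc, mul_comm α, h2, one_mul, sub_self]

end Cfsg.Agent.Helper10.Bli
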