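import Mathlib
import Cfsg.Prelude.Def_Blocks
import Cfsg.Agent.Helper74.CharBasic

set_option autoImplicit false

/-!
# Piece (C3) of helper95's #4853 (Blichfeldt / Jordan, S4465 + S4469): the irreducible constituents
of a faithful character form a jointly faithful family of irreducible characters of degree `≤ n`.
-/

namespace Cfsg.Agent.Helper10.Blich

open Cfsg

universe u

theorem exists_irr_family {G : Type u} [Group G] [Finite G] (χ : G → ℂ) (hχ : IsCharacter G χ)
    (hfaith : ∀ g : G, χ g = χ 1 → g = 1) (n : ℕ) (hn : charDegree χ ≤ n) :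
    ∃ S : Finset (G → ℂ), (∀ ψ ∈ S, IsIrrCharacter G ψ ∧ charDegree ψ ≤ n) ∧
      ∀ g : G, (∀ ψ ∈ S, ψ g = ψ 1) → g = 1 := by
  classical
  cases nonempty_fintype G
  let := Helper74.irrFintype G
  choose m hm using Helper74.isCharacter_inner_irr_nat hχ
  have hsum : ∀ g : G, χ g = ∑ ψ : IrrCharacter G, (m ψ : ℂ) * (ψ : G → ℂ) g := by
    intro g
    have h := congrFun (Helper74.isCharacter_eq_sum_irr hχ) g
    rw [Finset.sum_apply] at h
    refine h.trans (Finset.sum_congr rfl fun ψ _ => ?_)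
    rw [Pi.smul_apply, smul_eq_mul, hm]
  have hdeg : charDegree χ = ∑ ψ : IrrCharacter G, m ψ * charDegree (ψ : G → ℂ) := by
    have h1 := hsum 1
    rw [← Helper74.charDegree_cast hχ] at h1
    have h2 : (∑ ψ : IrrCharacter G, (m ψ : ℂ) * (ψ : G → ℂ) 1) =
        ((∑ ψ : IrrCharacter G, m ψ * charDegree (ψ : G → ℂ) : ℕ) : ℂ) := by
      push_cast
      refine Finset.sum_congr rfl fun ψ _ => ?_
      rw [Helper74.charDegree_cast (Helper74.irr_isCharacter ψ)]
    rw [h2] at h1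
    exact_mod_cast h1
  refine ⟨(Finset.univ.filter fun ψ : IrrCharacter G => m ψ ≠ 0).image
    (fun ψ : IrrCharacter G => (ψ : G → ℂ)), ?_, ?_⟩
  · intro ψ hψ
    obtain ⟨ψ', hψ', rfl⟩ := Finset.mem_image.1 hψ
    have hm0 : m ψ' ≠ 0 := (Finset.mem_filter.1 hψ').2
    refine ⟨ψ'.2, ?_⟩
    calc charDegree (ψ' : G → ℂ) ≤ m ψ' * charDegree (ψ' : G → ℂ) :=
          Nat.le_mul_of_pos_left _ (Nat.pos_of_ne_zero hm0)
      _ ≤ ∑ ψ : IrrCharacter G, m ψ * charDegree (ψ : G → ℂ) :=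
          Finset.single_le_sum (f := fun ψ : IrrCharacter G => m ψ * charDegree (ψ : G → ℂ))
            (fun _ _ => Nat.zero_le _) (Finset.mem_univ ψ')
      _ = charDegree χ := hdeg.symm
      _ ≤ n := hn
  · intro g hg
    apply hfaith
    rw [hsum g, hsum 1]
    refine Finset.sum_congr rfl fun ψ _ => ?_
    by_cases h0 : m ψ = 0
    · rw [h0]
      simp
    · rw [hg (ψ : G → ℂ) (Finset.mem_image.2 ⟨ψ, Finset.mem_filter.2 ⟨Finset.mem_univ _, h0⟩, rfl⟩)]

end Cfsg.Agent.Helper10.Blich
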