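import Mathlib
import Cfsg.Prelude.Def_Blocks
import Cfsg.Agent.Helper10.BlichC3
import Cfsg.Agent.Helper80.Degree
import Cfsg.Agent.Helper15.LinChar

set_option autoImplicit false

/-!
# Piece (C1) of helper95's #4853 (Blichfeldt / Jordan, S4465 + S4469): a group with a faithful
character of degree `≤ n` all of whose prime divisors exceed `n` is commutative.
-/

namespace Cfsg.Agent.Helper10.Blich

open Cfsg

universe u

theorem comm_of_faithful_of_large_primes {G : Type u} [Group G] [Finite G] (χ : G → ℂ)
    (hχ : IsCharacter G χ) (hfaith : ∀ g : G, χ g = χ 1 → g = 1) (n : ℕ)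
    (hn : charDegree χ ≤ n) (hbig : ∀ q : ℕ, q.Prime → q ∣ Nat.card G → n < q) :
    ∀ x y : G, x * y = y * x := by
  obtain ⟨S, hS, hSf⟩ := exists_irr_family χ hχ hfaith n hn
  have hlin : ∀ ψ ∈ S, ψ 1 = 1 := by
    intro ψ hψ
    obtain ⟨hirr, hdeg⟩ := hS ψ hψ
    have hdvd := Helper80.IsIrrCharacter.charDegree_dvd_card hirr
    have hd1 : charDegree ψ = 1 := by
      by_contra hne
      obtain ⟨q, hq, hqd⟩ := Nat.exists_prime_and_dvd hne
      have h1 := hbig q hq (hqd.trans hdvd)
      have hpos : 0 < charDegree ψ := by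
        rcases Nat.eq_zero_or_pos (charDegree ψ) with h0 | h0
        · rw [h0] at hdvd
          have h3 := Nat.eq_zero_of_zero_dvd hdvd
          have h4 := Nat.card_pos (α := G)
          omega
        · exact h0
      have h2 := Nat.le_of_dvd hpos hqd
      omega
    rw [← Helper74.charDegree_cast (Helper74.isCharacter_of_isIrr hirr), hd1]
    simp
  intro x y
  have hc1 : x * y * x⁻¹ * y⁻¹ = 1 := by
    apply hSf
    intro ψ hψ
    have hc := Helper74.isCharacter_of_isIrr (hS ψ hψ).1
    have h1 := hlin ψ hψ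
    rw [Helper15.linChar_mul hc h1, Helper15.linChar_mul hc h1, Helper15.linChar_mul hc h1,
      Helper15.linChar_inv hc h1, Helper15.linChar_inv hc h1, h1]
    have hx := Helper15.linChar_ne_zero hc h1 x
    have hy := Helper15.linChar_ne_zero hc h1 y
    field_simp
  calc x * y = (x * y * x⁻¹ * y⁻¹) * (y * x) := by group
    _ = y * x := by rw [hc1, one_mul]

end Cfsg.Agent.Helper10.Blich
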