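import Mathlib
import Cfsg.Agent.Helper77.Blk.Defs

/-!
S3888 (helper77, Blackburn), piece (BI2): Case I, conclusion: the chain data force `p = 3` and `C_C(x) ≤ E`.
-/

set_option autoImplicit false

universe u

namespace Cfsg.Agent.Helper10.Blk

open Subgroup Cfsg.Agent.Helper77.Blk

theorem BI2_conj_pow {G : Type u} [Group G] (b x : G) (n : ℕ) :
    b⁻¹ * x ^ n * b = (b⁻¹ * x * b) ^ n := by
  induction n with
  | zero => simp
  | succ n ih =>
    rw [pow_succ, pow_succ, ← ih]
    group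

section beta
variable {G : Type u} [Group G] [Finite G] {p : ℕ} [hp : Fact p.Prime]

/-- (BI2) Case I, conclusion: the chain data force `p = 3` and `C_C(x) ≤ E`. -/
theorem beta_caseI_concl (hp2 : p ≠ 2) (hG : IsPGroup p G) (E : Subgroup G) [E.Normal]
    (hEcard : Nat.card E = p ^ 2) (hEexp : ∀ e ∈ E, e ^ p = 1)
    (hCE : ∀ c ∈ centralizer (E : Set G), c ^ p = 1 → c ∈ E)
    (hK2 : PropK2.{u} p)
    (x : G) (hxC : x ∉ centralizer (E : Set G))
    (e1 u1 f g : G) (he1 : e1 ∈ E) (he1n : e1 ≠ 1) (he1x : x⁻¹ * e1 * x = e1)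
    (hfix : ∀ e ∈ E, x⁻¹ * e * x = e → e ∈ zpowers e1)
    (hcomm : ∀ e ∈ E, e⁻¹ * (x⁻¹ * e * x) ∈ zpowers e1)
    (hu1 : u1 ∈ centralizer (E : Set G)) (hu1p : u1 ^ p = e1) (hf : f ∈ E)
    (hu1x : x⁻¹ * u1 * x = u1 * f) (hg : g ∈ zpowers e1) (hfx : x⁻¹ * f * x = f * g)
    (hrel : e1 * g ^ (p.choose 3) = 1) :
    p = 3 ∧ ∀ w ∈ centralizer (E : Set G), x⁻¹ * w * x = w → w ∈ E := by
  have _ := hxC
  have _ := hp2
  have hpp : p.Prime := hp.out
  have hzE : zpowers e1 ≤ E := zpowers_le.2 he1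
  have hgE : g ∈ E := hzE hg
  -- `E` is abelian
  have hEab : ∀ a ∈ E, ∀ b ∈ E, a * b = b * a := by
    intro a ha b hb
    have hcm : IsMulCommutative ↥E := IsPGroup.isMulCommutative_of_card_eq_prime_sq (p := p) hEcard
    have := hcm.is_comm.comm (⟨a, ha⟩ : ↥E) ⟨b, hb⟩
    exact congrArg Subtype.val this
  refine ⟨?_, ?_⟩
  · -- `p = 3`
    by_contra h3
    have h4 : 3 < p := by
      have := hpp.two_le
      omega
    have hdvd : p ∣ p.choose 3 := hpp.dvd_choose_self (by norm_num) h4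
    obtain ⟨c, hc⟩ := hdvd
    rw [hc, pow_mul, hEexp g hgE, one_pow, mul_one] at hrel
    exact he1n hrel
  · intro w hw hwx
    by_contra hwE
    set C : Subgroup G := centralizer (E : Set G) with hC
    -- the order of `w`
    have hex : ∃ k : ℕ, w ^ p ^ k = 1 := hG w
    classical
    set k := Nat.find hex with hk
    have hk1 : w ^ p ^ k = 1 := Nat.find_spec hex
    have hkmin : ∀ m < k, w ^ p ^ m ≠ 1 := fun m hm => Nat.find_min hex hm
    have hk2 : 2 ≤ k := by
      by_contra hcon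
      have : k = 0 ∨ k = 1 := by omega
      rcases this with h0 | h1
      · rw [h0, pow_zero, pow_one] at hk1
        exact hwE (hk1 ▸ E.one_mem)
      · rw [h1, pow_one] at hk1
        exact hwE (hCE w hw hk1)
    obtain ⟨k', hk'⟩ : ∃ k', k = k' + 2 := ⟨k - 2, by omega⟩
    set w' := w ^ p ^ k' with hw'
    have hw'C : w' ∈ C := C.pow_mem hw _
    have hw'x : x⁻¹ * w' * x = w' := by
      rw [hw', BI2_conj_pow, hwx]
    have hw'p : w' ^ p ≠ 1 := by
      rw [hw', ← pow_mul, ← pow_succ]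
      exact hkmin (k' + 1) (by omega)
    have hw'pp : (w' ^ p) ^ p = 1 := by
      rw [hw', ← pow_mul, ← pow_mul, ← pow_two, ← pow_add, ← hk']
      exact hk1
    have hw'pE : w' ^ p ∈ E := hCE _ (C.pow_mem hw'C _) hw'pp
    have hw'px : x⁻¹ * w' ^ p * x = w' ^ p := by
      rw [BI2_conj_pow, hw'x]
    -- `w' ^ p = e1 ^ j`
    have hmem := hfix _ hw'pE hw'px
    have hfin : IsOfFinOrder e1 := isOfFinOrder_of_finite e1
    rw [← mem_powers_iff_mem_zpowers] at hmem
    obtain ⟨j, hj⟩ := hmem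
    have hj' : e1 ^ j = w' ^ p := hj
    -- `K2` in `↥C`
    have hGC : IsPGroup p ↥C := hG.to_subgroup C
    have hPC : PCentral p ↥C := by
      intro c hc
      have hc1 : (c : G) ^ p = 1 := by
        have := congrArg Subtype.val hc
        simpa using this
      have hcE : (c : G) ∈ E := hCE c.1 c.2 hc1
      rw [Subgroup.mem_center_iff]
      intro d
      apply Subtype.ext
      have := (Subgroup.mem_centralizer_iff.1 d.2) c.1 hcE
      simpa using this.symm
    have hk2' := hK2 ↥C hGC hPC (⟨u1, hu1⟩ ^ j) (⟨w', hw'C⟩⁻¹) (by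
      apply Subtype.ext
      show ((u1 ^ j) ^ p) ^ p = 1
      rw [← pow_mul u1, mul_comm, pow_mul, hu1p, ← pow_mul, mul_comm, pow_mul, hEexp e1 he1, one_pow]) (by
      apply Subtype.ext
      show ((w'⁻¹) ^ p) ^ p = 1
      rw [inv_pow, inv_pow, hw'pp, inv_one])
    have hk3 : (u1 ^ j * w'⁻¹) ^ p = 1 := by
      have := congrArg Subtype.val hk2'
      have e : (u1 ^ j * w'⁻¹) ^ p = (u1 ^ j) ^ p * (w'⁻¹) ^ p := this
      rw [e, ← pow_mul, mul_comm, pow_mul, hu1p, hj', inv_pow, mul_inv_cancel]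
    set e := u1 ^ j * w'⁻¹ with he
    have heC : e ∈ C := C.mul_mem (C.pow_mem hu1 _) (C.inv_mem hw'C)
    have heE : e ∈ E := hCE e heC hk3
    -- conjugating by `x`
    have cu1f : Commute u1 f := ((Subgroup.mem_centralizer_iff.1 hu1) f hf).symm
    have cfw : Commute (f ^ j) w'⁻¹ := by
      have : Commute (f ^ j) w' := (Subgroup.mem_centralizer_iff.1 hw'C) (f ^ j) (E.pow_mem hf _)
      exact this.inv_right
    have hxe : x⁻¹ * e * x = e * f ^ j := by
      have h1 : x⁻¹ * e * x = (x⁻¹ * u1 ^ j * x) * (x⁻¹ * w' * x)⁻¹ := by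
        rw [he]
        group
      rw [h1, BI2_conj_pow, hu1x, hw'x, cu1f.mul_pow, he, mul_assoc, cfw.eq, ← mul_assoc]
    have hfj : f ^ j ∈ zpowers e1 := by
      have := hcomm e heE
      rwa [hxe, ← mul_assoc, inv_mul_cancel, one_mul] at this
    -- `f ^ j` is fixed by `x`
    have hfixz : ∀ z ∈ zpowers e1, x⁻¹ * z * x = z := by
      have hle : zpowers e1 ≤ centralizer ({x} : Set G) := by
        rw [zpowers_le]
        rw [Subgroup.mem_centralizer_iff]
        intro h hh
        rw [Set.mem_singleton_iff] at hh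
        rw [hh]
        calc x * e1 = x * (x⁻¹ * e1 * x) := by rw [he1x]
          _ = e1 * x := by group
      intro z hz
      have := (Subgroup.mem_centralizer_iff.1 (hle hz)) x rfl
      calc x⁻¹ * z * x = x⁻¹ * (z * x) := by rw [mul_assoc]
        _ = x⁻¹ * (x * z) := by rw [this]
        _ = z := by group
    have h5 := hfixz _ hfj
    rw [BI2_conj_pow, hfx, (show Commute f g from hEab f hf g hgE).mul_pow] at h5
    have hgj : g ^ j = 1 := by
      have := mul_left_cancel (a := f ^ j) (b := g ^ j) (c := 1) (by rw [h5, mul_one])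
      exact this
    -- contradiction
    have he1g : e1 = (g ^ p.choose 3)⁻¹ := eq_inv_of_mul_eq_one_left hrel
    apply hw'p
    rw [← hj', he1g, inv_pow, ← pow_mul, mul_comm, pow_mul, hgj, one_pow, inv_one]

end beta

end Cfsg.Agent.Helper10.Blk
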