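import Mathlib
import Cfsg.Agent.Helper77.Blk.Defs

/-!
S3888 (helper77, Blackburn), piece (NU): the twisted power formula.
-/

set_option autoImplicit false

universe u

namespace Cfsg.Agent.Helper10.Blk

open Subgroup Cfsg.Agent.Helper77.Blk

theorem NU_conj_pow {G : Type u} [Group G] (b x : G) (n : ℕ) :
    b⁻¹ * x ^ n * b = (b⁻¹ * x * b) ^ n := by
  induction n with
  | zero => simp
  | succ n ih =>
    rw [pow_succ, pow_succ, ← ih]
    group

/-- (NU) If `b` conjugates `v ↦ v*e`, `e ↦ e*d`, `d ↦ d` and `v, e, d` commute pairwise, then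
`(b*v)^k = b^k * v^k * e^C(k,2) * d^C(k,3)`. -/
theorem mul_pow_twisted {G : Type u} [Group G] (b v e d : G)
    (hv : b⁻¹ * v * b = v * e) (he : b⁻¹ * e * b = e * d) (hd : b⁻¹ * d * b = d)
    (c1 : v * e = e * v) (c2 : v * d = d * v) (c3 : e * d = d * e) (k : ℕ) :
    (b * v) ^ k = b ^ k * v ^ k * e ^ (k.choose 2) * d ^ (k.choose 3) := by
  have cve : Commute v e := c1
  have cvd : Commute v d := c2
  have ced : Commute e d := c3
  induction k with
  | zero => simp
  | succ k ih =>
    set a := k.choose 2 with ha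
    set c := k.choose 3 with hc
    have hch2 : (k + 1).choose 2 = k + a := by
      rw [Nat.choose_succ_succ' k 1, Nat.choose_one_right]
    have hch3 : (k + 1).choose 3 = a + c := by
      rw [Nat.choose_succ_succ' k 2]
    have key : v ^ k * e ^ a * d ^ c * b = b * (v ^ k * e ^ k * (e ^ a * d ^ a) * d ^ c) := by
      have h1 : b⁻¹ * (v ^ k * e ^ a * d ^ c) * b =
          (b⁻¹ * v ^ k * b) * (b⁻¹ * e ^ a * b) * (b⁻¹ * d ^ c * b) := by group
      have h2 : b⁻¹ * (v ^ k * e ^ a * d ^ c) * b = v ^ k * e ^ k * (e ^ a * d ^ a) * d ^ c := by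
        rw [h1, NU_conj_pow, NU_conj_pow, NU_conj_pow, hv, he, hd, cve.mul_pow, ced.mul_pow]
      rw [← h2]
      group
    have hEv : Commute (e ^ k * (e ^ a * d ^ a) * d ^ c) v := by
      have h1 : Commute (e ^ k) v := (cve.symm).pow_left k
      have h2 : Commute (e ^ a) v := (cve.symm).pow_left a
      have h3 : Commute (d ^ a) v := (cvd.symm).pow_left a
      have h4 : Commute (d ^ c) v := (cvd.symm).pow_left c
      exact (h1.mul_left (h2.mul_left h3)).mul_left h4
    rw [pow_succ, ih, hch2, hch3]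
    calc b ^ k * v ^ k * e ^ a * d ^ c * (b * v)
        = b ^ k * (v ^ k * e ^ a * d ^ c * b) * v := by simp only [mul_assoc]
      _ = b ^ k * (b * (v ^ k * e ^ k * (e ^ a * d ^ a) * d ^ c)) * v := by rw [key]
      _ = b ^ (k + 1) * (v ^ k * ((e ^ k * (e ^ a * d ^ a) * d ^ c) * v)) := by
          rw [pow_succ]
          simp only [mul_assoc]
      _ = b ^ (k + 1) * (v ^ k * (v * (e ^ k * (e ^ a * d ^ a) * d ^ c))) := by rw [hEv.eq]
      _ = b ^ (k + 1) * v ^ (k + 1) * e ^ (k + a) * d ^ (a + c) := by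
          rw [pow_succ v, pow_add e, pow_add d]
          simp only [mul_assoc]

end Cfsg.Agent.Helper10.Blk
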