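import Cfsg.Agent.Helper19.CT.Simple
import Cfsg.Agent.Helper40.StMono

/-!
helper10, piece (NCONJ) of helper19's CT farm (#15616, S1164 Curtis–Tits presentation): port of
`Helper40.St.nbar_conj` (file `Helper40/StNorm.lean`) to relations on a closed set `S` of roots.
-/

set_option autoImplicit false
set_option linter.unusedSectionVars false
set_option linter.unusedVariables false

namespace Cfsg.Agent.Helper10.CT

open Cfsg Cfsg.Lie Cfsg.Agent.Helper18 Cfsg.Agent.Helper40.St Cfsg.Agent.Helper40.ChevAdd Cfsg.Agent.Helper40.UProd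
  Cfsg.Agent.Helper40.SL2Hom Cfsg.Agent.Helper40.NMono Cfsg.Agent.Helper19.CT

universe u v

section
variable {K : Type u} [Field K] {D : ChevalleyDatum} {Γ : Type v} [Group Γ] {X : ℕ → K → Γ} {S : ℕ → Prop}

theorem NCONJ_wordG_mem (H : Subgroup Γ) (wd : List (ℕ × K)) (h : ∀ e ∈ wd, X e.1 e.2 ∈ H) :
    wordG X wd ∈ H := by
  apply Subgroup.list_prod_mem
  intro g hg
  obtain ⟨e, he, rfl⟩ := List.mem_map.mp hg
  exact h e he

/-- conjugation by `x̄_r(a)` preserves the subgroup of the `x̄_s(u)`, `s ∈ S`, `f s > 0`, if `f r = 0`, `r ∈ S` -/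
theorem NCONJ_conj_X_mem_UGon (hD : D ∈ [chevG2, chevB2, chevD4, chevF4, chevE6, chevE7, chevE8])
    (R : RelsOn D X S) (hS : ClosedOn D S)
    (f : ℕ → ℤ) (hf : ∀ v < D.nroots, IsAdditiveAt D f v) (r : ℕ) (hr : r < D.nroots) (hSr : S r)
    (hfr : f r = 0) (a : K)
    (g : Γ) (hg : g ∈ UGon D X S f) : X r a * g * (X r a)⁻¹ ∈ UGon D X S f := by
  unfold UGon at hg
  induction hg using Subgroup.closure_induction with
  | mem x hx =>
    obtain ⟨s, hs, hSs, hfs, u, rfl⟩ := hx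
    have hsr : s ≠ r := by
      rintro rfl
      omega
    have hsn : s ≠ D.neg r := by
      rintro rfl
      rw [(hf r hr).1, hfr] at hfs
      omega
    have h1 := R.comm r s hr hs hSr hSs hsr hsn (-a) u
    rw [R.X_neg r hr hSr] at h1
    have h2 : X r a * X s u * (X r a)⁻¹ = X s u * wordG X (D.commWord K r s (-a) u) := by
      rw [mul_assoc, h1]
      group
    rw [h2]
    apply Subgroup.mul_mem _ (X_mem_UGon f s hs hSs hfs u)
    apply NCONJ_wordG_mem
    intro e he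
    unfold ChevalleyDatum.commWord at he
    obtain ⟨c, hc, rfl⟩ := List.mem_map.mp he
    obtain ⟨c1, c2, c3, c4⟩ := commTerms_lvl D hD f hf r s hr hs c hc
    apply X_mem_UGon f c.1 c1 (hS r s hr hs hSr hSs c hc)
    rw [c2, hfr]
    have : (1 : ℤ) ≤ (c.2.2.2 : ℤ) := by exact_mod_cast c4
    nlinarith
  | one =>
    simp only [mul_one, mul_inv_cancel]
    exact Subgroup.one_mem _
  | mul x y _ _ hx hy =>
    have : X r a * (x * y) * (X r a)⁻¹ = (X r a * x * (X r a)⁻¹) * (X r a * y * (X r a)⁻¹) := by group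
    rw [this]
    exact Subgroup.mul_mem _ hx hy
  | inv x _ hx =>
    have : X r a * x⁻¹ * (X r a)⁻¹ = (X r a * x * (X r a)⁻¹)⁻¹ := by group
    rw [this]
    exact Subgroup.inv_mem _ hx

theorem NCONJ_X_mem_normalizer (hD : D ∈ [chevG2, chevB2, chevD4, chevF4, chevE6, chevE7, chevE8])
    (R : RelsOn D X S) (hS : ClosedOn D S)
    (f : ℕ → ℤ) (hf : ∀ v < D.nroots, IsAdditiveAt D f v) (r : ℕ) (hr : r < D.nroots) (hSr : S r)
    (hfr : f r = 0) (a : K) :
    X r a ∈ Subgroup.normalizer (UGon D X S f : Set Γ) := by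
  rw [Subgroup.mem_normalizer_iff]
  intro g
  constructor
  · exact NCONJ_conj_X_mem_UGon hD R hS f hf r hr hSr hfr a g
  · intro h
    have := NCONJ_conj_X_mem_UGon hD R hS f hf r hr hSr hfr (-a) _ h
    rw [R.X_neg r hr hSr] at this
    have e : (X r a)⁻¹ * (X r a * g * (X r a)⁻¹) * (X r a)⁻¹⁻¹ = g := by group
    rw [e] at this
    exact this

theorem NCONJ_nbar_mem_normalizer (hD : D ∈ [chevG2, chevB2, chevD4, chevF4, chevE6, chevE7, chevE8])
    (R : RelsOn D X S) (hS : ClosedOn D S)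
    (f : ℕ → ℤ) (hf : ∀ v < D.nroots, IsAdditiveAt D f v) (p : ℕ) (hp : p < D.nroots)
    (hn : D.neg p < D.nroots) (hSp : S p) (hSn : S (D.neg p))
    (hfp : f p = 0) (t : K) : nbar D X p t ∈ Subgroup.normalizer (UGon D X S f : Set Γ) := by
  have hfn : f (D.neg p) = 0 := by rw [(hf p hp).1, hfp]; rfl
  unfold nbar w
  exact Subgroup.mul_mem _ (Subgroup.mul_mem _ (NCONJ_X_mem_normalizer hD R hS f hf p hp hSp hfp _)
    (NCONJ_X_mem_normalizer hD R hS f hf _ hn hSn hfn _)) (NCONJ_X_mem_normalizer hD R hS f hf p hp hSp hfp _)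

end

section
variable {K : Type u} [Field K] {D : ChevalleyDatum} {Γ : Type v} [Group Γ] {X : ℕ → K → Γ}
  {hadd : Cfsg.Agent.Helper40.ChevAdd.addOK D = true} {π : Γ →* GL D.Idx K} {S : ℕ → Prop}

theorem NCONJ_π_nbar (O : OverOn D hadd X π S) (p : ℕ) (hp : p < D.nroots) (hn : D.neg p < D.nroots)
    (hSp : S p) (hSn : S (D.neg p)) (t : K) :
    π (nbar D X p t) = Cfsg.Agent.Helper40.SL2Chev.nG D hadd p t := by
  unfold nbar Cfsg.Agent.Helper40.SL2Chev.nG w
  rw [map_mul, map_mul, O.π_X p hp hSp, O.π_X _ hn hSn]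

/-- (NCONJ) port of `Helper40.St.nbar_conj` to relations on a closed set `S` -/
theorem nbar_conjOn {K : Type u} [Field K] {D : ChevalleyDatum} {Γ : Type v} [Group Γ] {X : ℕ → K → Γ}
    {hadd : Cfsg.Agent.Helper40.ChevAdd.addOK D = true} {π : Γ →* GL D.Idx K} {S : ℕ → Prop}
    (hD : D ∈ [chevG2, chevB2, chevD4, chevF4, chevE6, chevE7, chevE8]) (O : OverOn D hadd X π S)
    (hS : ClosedOn D S) (i : ℕ) (hi : i < D.rank) (hSp : S (D.simple i)) (hSn : S (D.neg (D.simple i)))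
    (hSr : ∀ s < D.nroots, S s → S (D.reflectRoot i s))
    (s : ℕ) (hs : s < D.nroots) (hSs : S s) (hsp : s ≠ D.simple i) (hsn : s ≠ D.neg (D.simple i))
    (t : K) (ht : t ≠ 0) :
    D.reflectRoot i s < D.nroots ∧ ∃ c : K, c ≠ 0 ∧ ∀ u : K,
      nbar D X (D.simple i) t * X s u * (nbar D X (D.simple i) t)⁻¹ = X (D.reflectRoot i s) (c * u) := by
  obtain ⟨φ, St⟩ := exists_std D hD
  obtain ⟨hrs, c, hc, hG⟩ := nG_conj_exists (hadd := hadd) hD i hi s hs t ht
  obtain ⟨f, hfa, hf0, hf⟩ := exists_posLvl D hD i hi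
  have hp := St.simple_lt i hi
  have hn := St.neg_lt _ hp
  refine ⟨hrs, c, hc, fun u => ?_⟩
  have hπ : π (nbar D X (D.simple i) t * X s u * (nbar D X (D.simple i) t)⁻¹) =
      π (X (D.reflectRoot i s) (c * u)) := by
    rw [map_mul, map_mul, map_inv, NCONJ_π_nbar O _ hp hn hSp hSn, O.π_X s hs hSs,
      O.π_X _ hrs (hSr s hs hSs), hG]
  by_cases hpos : hlfOf D ≤ s
  · apply transferOn hD O hS St.reg _ _ _ _ hπ
    · apply UGon_mono (S := S) (S' := S) (f := f) (g := φ)
        (fun u hu hSu h => ⟨hSu, (St.pos u hu).mpr ((hf u hu).mp h).1⟩)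
      have hnorm := NCONJ_nbar_mem_normalizer hD O.toRelsOn hS f hfa _ hp hn hSp hSn hf0 t
      exact (Subgroup.mem_normalizer_iff.mp hnorm _).mp
        (X_mem_UGon f s hs hSs ((hf s hs).mpr ⟨hpos, hsp⟩) u)
    · obtain ⟨r1, r2, -⟩ := reflectRoot_pos D hD i s hi ⟨hpos, hs⟩ hsp
      exact X_mem_UGon φ _ r2 (hSr s hs hSs) ((St.pos _ r2).mpr r1) _
  · have hns := St.neg_lt s hs
    have hnpos : hlfOf D ≤ D.neg s := (St.pos_neg_iff s hs).mpr hpos
    have hnsp : D.neg s ≠ D.simple i := by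
      intro e
      apply hsn
      rw [← e, St.neg_neg s hs]
    have hfs : 0 < - f s := by
      have := (hf _ hns).mpr ⟨hnpos, hnsp⟩
      rw [(hfa s hs).1] at this
      exact this
    obtain ⟨r1, r2, -⟩ := reflectRoot_pos D hD i (D.neg s) hi ⟨hnpos, hns⟩ hnsp
    rw [St.refl_neg i hi s hs] at r1 r2
    apply transferOn hD O hS St.reg.neg _ _ _ _ hπ
    · apply UGon_mono (S := S) (S' := S) (f := fun u => - f u) (g := fun u => - φ u)
      · intro u hu hSu h
        refine ⟨hSu, ?_⟩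
        have hnu := St.neg_lt u hu
        have h1 : 0 < f (D.neg u) := by rw [(hfa u hu).1]; exact h
        have h2 := ((hf _ hnu).mp h1).1
        have h3 := (St.pos _ hnu).mpr h2
        rw [St.φ_neg u hu] at h3
        exact h3
      · have hnorm := NCONJ_nbar_mem_normalizer hD O.toRelsOn hS (fun u => - f u)
          (fun v hv => isAdditiveAt_neg (hfa v hv)) _ hp hn hSp hSn (by simp [hf0]) t
        exact (Subgroup.mem_normalizer_iff.mp hnorm _).mp
          (X_mem_UGon (fun u => - f u) s hs hSs hfs u)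
    · apply X_mem_UGon (fun u => - φ u) _ hrs (hSr s hs hSs)
      have h3 := (St.pos _ r2).mpr r1
      rw [St.φ_neg _ hrs] at h3
      exact h3

end

end Cfsg.Agent.Helper10.CT
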