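import Mathlib

set_option autoImplicit false

namespace Cfsg.Agent.Helper10

open Subgroup

/-- A coatom `U` together with a subgroup not contained in it generates everything. -/
theorem sup_eq_top_of_coatom_of_not_le {G : Type*} [Group G] {U N : Subgroup G} (hU : IsCoatom U)
    (hN : ¬ N ≤ U) : N ⊔ U = ⊤ := by
  by_contra hne
  have hlt : U < N ⊔ U := by
    refine lt_of_le_of_ne le_sup_right ?_
    intro heq
    apply hN
    rw [heq]
    exact le_sup_left
  exact hne (hU.2 _ hlt)

/-- A nontrivial normal subgroup is not contained in a core-free subgroup. -/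
theorem not_le_of_normalCore_eq_bot {G : Type*} [Group G] {U N : Subgroup G}
    (hcore : U.normalCore = ⊥) [N.Normal] (hN : N ≠ ⊥) : ¬ N ≤ U := by
  intro hle
  have := Subgroup.normal_le_normalCore.mpr hle
  rw [hcore] at this
  exact hN (le_bot_iff.mp this)

/-- A nontrivial normal subgroup supplements a core-free maximal subgroup. -/
theorem sup_eq_top_of_coreFree_coatom {G : Type*} [Group G] {U N : Subgroup G} (hU : IsCoatom U)
    (hcore : U.normalCore = ⊥) [N.Normal] (hN : N ≠ ⊥) : N ⊔ U = ⊤ :=
  sup_eq_top_of_coatom_of_not_le hU (not_le_of_normalCore_eq_bot hcore hN)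

/-- Every element is a product `n * u` when `N` is a nontrivial normal subgroup and `U` a core-free
maximal subgroup. -/
theorem exists_mul_of_coreFree_coatom {G : Type*} [Group G] {U N : Subgroup G} (hU : IsCoatom U)
    (hcore : U.normalCore = ⊥) [N.Normal] (hN : N ≠ ⊥) (g : G) : ∃ n ∈ N, ∃ u ∈ U, n * u = g := by
  have hg : g ∈ N ⊔ U := by rw [sup_eq_top_of_coreFree_coatom hU hcore hN]; trivial
  rwa [Subgroup.mem_sup_of_normal_left] at hg

/-- A subgroup of a core-free subgroup `U` normalised by `U` and by `N` with `N ⊔ U = ⊤` is trivial. -/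
theorem eq_bot_of_le_coreFree {G : Type*} [Group G] {U N X : Subgroup G}
    (hcore : U.normalCore = ⊥) (hNU : N ⊔ U = ⊤) (hXU : X ≤ U)
    (hN : N ≤ normalizer (X : Set G)) (hUX : U ≤ normalizer (X : Set G)) : X = ⊥ := by
  have htop : normalizer (X : Set G) = ⊤ := by
    rw [eq_top_iff, ← hNU]; exact sup_le hN hUX
  have hXn : X.Normal := Subgroup.normalizer_eq_top_iff.mp htop
  have := Subgroup.normal_le_normalCore.mpr hXU
  rw [hcore] at this
  exact le_bot_iff.mp this

/-- `C_G(N) ∩ U = 1` for a core-free maximal subgroup `U` and a nontrivial normal subgroup `N`. -/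
theorem centralizer_inf_coreFree_coatom {G : Type*} [Group G] {U N : Subgroup G} (hU : IsCoatom U)
    (hcore : U.normalCore = ⊥) [N.Normal] (hN : N ≠ ⊥) :
    Subgroup.centralizer (N : Set G) ⊓ U = ⊥ := by
  apply eq_bot_of_le_coreFree hcore (sup_eq_top_of_coreFree_coatom hU hcore hN) inf_le_right
  · refine le_trans ?_ (Subgroup.centralizer_le_normalizer _)
    rw [Subgroup.le_centralizer_iff]
    exact inf_le_left
  · intro u hu
    have hCn : (Subgroup.centralizer (N : Set G)).Normal := inferInstance
    rw [Subgroup.mem_normalizer_iff]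
    intro x
    constructor
    · intro hx
      exact ⟨hCn.conj_mem x hx.1 u, U.mul_mem (U.mul_mem hu hx.2) (U.inv_mem hu)⟩
    · intro hx
      have h1 := hCn.conj_mem _ hx.1 u⁻¹
      have h2 := U.mul_mem (U.mul_mem (U.inv_mem hu) hx.2) (U.inv_mem (U.inv_mem hu))
      have : u⁻¹ * (u * x * u⁻¹) * u⁻¹⁻¹ = x := by group
      rw [this] at h1 h2
      exact ⟨h1, h2⟩

/-- A nontrivial normal subgroup contained in `C_G(N)` equals `C_G(N)` (core-free maximal `U`). -/
theorem eq_centralizer_of_normal_le {G : Type*} [Group G] {U N K : Subgroup G} (hU : IsCoatom U)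
    (hcore : U.normalCore = ⊥) [N.Normal] (hN : N ≠ ⊥) [K.Normal] (hK : K ≠ ⊥)
    (hKC : K ≤ Subgroup.centralizer (N : Set G)) : K = Subgroup.centralizer (N : Set G) := by
  apply le_antisymm hKC
  intro c hc
  obtain ⟨k, hk, u, hu, hku⟩ := exists_mul_of_coreFree_coatom hU hcore hK c
  have hu' : u ∈ Subgroup.centralizer (N : Set G) ⊓ U := by
    refine ⟨?_, hu⟩
    have : u = k⁻¹ * c := by rw [← hku]; group
    rw [this]
    exact Subgroup.mul_mem _ (Subgroup.inv_mem _ (hKC hk)) hc
  rw [centralizer_inf_coreFree_coatom hU hcore hN, Subgroup.mem_bot] at hu'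
  rw [← hku, hu', mul_one]; exact hk

end Cfsg.Agent.Helper10
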