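import Mathlib
import Cfsg.Agent.Helper3.Cov2P5Defs
import Cfsg.Agent.Helper5.UnitaryCenter

/-!
# (5C) for helper3 (S2500 part 5): the normaliser of a Singer torus of `SU_3(q)`, `q = 3^a`, is a
proper subgroup: `diag(c, c⁻¹, 1)` is not semilinear.
-/

set_option autoImplicit false

namespace Cfsg.Agent.Helper10.Cov2P5

open Polynomial Module Matrix Cfsg.Agent.Helper3.Cov2

variable {F : Type*} [Field F] [Fintype F] {q : ℕ}

/-- the diagonal matrix `diag(c, c⁻¹, 1)` as an element of `SU_3(q)` -/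
def diagSU (c : F) (hc : c ^ (q + 1) = 1) : Cfsg.SU 3 F q :=
  ⟨⟨Matrix.diagonal ![c, c⁻¹, 1], by
    have hc0 : c ≠ 0 := by
      rintro rfl
      rw [zero_pow (by omega)] at hc
      exact zero_ne_one hc
    rw [Matrix.det_diagonal, Fin.prod_univ_three]
    simp [hc0]⟩, by
    intro u v
    have hci : (c⁻¹) ^ (q + 1) = 1 := by rw [inv_pow, hc, inv_one]
    show Cfsg.hermForm 3 F q (Matrix.diagonal ![c, c⁻¹, 1] *ᵥ u) (Matrix.diagonal ![c, c⁻¹, 1] *ᵥ v) =
      Cfsg.hermForm 3 F q u v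
    unfold Cfsg.hermForm
    simp only [Matrix.mulVec_diagonal, Fin.sum_univ_three, Matrix.cons_val_zero, Matrix.cons_val_one,
      Matrix.cons_val_two, Matrix.head_cons, Matrix.tail_cons, one_mul, mul_pow, one_pow]
    have e1 : c * u 0 * (c ^ q * v 0 ^ q) = c ^ (q + 1) * (u 0 * v 0 ^ q) := by ring
    have e2 : c⁻¹ * u 1 * (c⁻¹ ^ q * v 1 ^ q) = c⁻¹ ^ (q + 1) * (u 1 * v 1 ^ q) := by ring
    rw [e1, e2, hc, hci, one_mul, one_mul]⟩

omit [Fintype F] in
theorem diagSU_coe (c : F) (hc : c ^ (q + 1) = 1) :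
    ((diagSU c hc : Cfsg.SU 3 F q).1.1 : Matrix (Fin 3) (Fin 3) F) = Matrix.diagonal ![c, c⁻¹, 1] :=
  rfl

variable (L : Type*) [Field L] [Algebra F L] [Finite L]

omit [Fintype F] in
theorem pow_card_pow_eq [Finite F] (hF : Nat.card F = q ^ 2) (hL3 : finrank F L = 3) (x : L) (i : ℕ) :
    x ^ (((q ^ 2) ^ 3) ^ i) = x := by
  have : Fintype L := Fintype.ofFinite L
  have hcard : Fintype.card L = (q ^ 2) ^ 3 := by
    rw [← Nat.card_eq_fintype_card, Module.natCard_eq_pow_finrank (K := F) (V := L), hF, hL3]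
  induction i with
  | zero => rw [pow_zero, pow_one]
  | succ i ih => rw [pow_succ, pow_mul, ih, ← hcard, FiniteField.pow_card]

/-- (5C) -/
theorem exists_not_mem_singerSet (hF : Fintype.card F = q ^ 2) (a : ℕ) (_ha : 1 ≤ a)
    (hq : q = 3 ^ a) (hL3 : finrank F L = 3) (ψ : L ≃ₗ[F] (Fin 3 → F)) :
    ∃ A : Cfsg.SU 3 F q, A ∉ singerSet L q ψ := by
  obtain ⟨c, hc, hc2⟩ := Cfsg.Agent.Helper5.exists_norm_one_sq_ne_one hF
  refine ⟨diagSU c hc, ?_⟩
  rintro ⟨t, i, hA⟩
  rw [diagSU_coe] at hA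
  set M : Matrix (Fin 3) (Fin 3) F := Matrix.diagonal ![c, c⁻¹, 1] with hM
  set n : ℕ := (q ^ 2) ^ i with hn
  -- the cube of `M` acts as a multiplication
  have hcube : ∀ x : L, M *ᵥ (M *ᵥ (M *ᵥ ψ x)) = ψ ((t * (t * t ^ n) ^ n) * x) := by
    intro x
    rw [hA x, hA, hA]
    congr 1
    have e : n * n * n = ((q ^ 2) ^ 3) ^ i := by
      rw [pow_right_comm (q ^ 2) 3 i]
      ring
    have hx : x ^ (n * n * n) = x := by
      rw [e]
      exact pow_card_pow_eq L (by rw [Nat.card_eq_fintype_card, hF]) hL3 x i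
    calc t * (t * (t * x ^ n) ^ n) ^ n = (t * (t * t ^ n) ^ n) * x ^ (n * n * n) := by ring
      _ = (t * (t * t ^ n) ^ n) * x := by rw [hx]
  set s : L := t * (t * t ^ n) ^ n with hs
  -- `s = 1` from the third basis vector
  have hMe : ∀ (j : Fin 3) (d : F), M *ᵥ (M *ᵥ (M *ᵥ (Pi.single j d))) =
      Pi.single j ((![c, c⁻¹, 1] : Fin 3 → F) j * ((![c, c⁻¹, 1] : Fin 3 → F) j *
        ((![c, c⁻¹, 1] : Fin 3 → F) j * d))) := by
    intro j d
    rw [hM, Matrix.diagonal_mulVec_single, Matrix.diagonal_mulVec_single,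
      Matrix.diagonal_mulVec_single]
  have hs1 : s = 1 := by
    have h1 := hcube (ψ.symm (Pi.single 2 1))
    rw [LinearEquiv.apply_symm_apply, hMe] at h1
    simp only [Matrix.cons_val_two, Matrix.head_cons, Matrix.tail_cons, mul_one] at h1
    have h2 : ψ.symm (Pi.single 2 1) = s * ψ.symm (Pi.single 2 1) := by
      apply ψ.injective
      rw [← h1, LinearEquiv.apply_symm_apply]
    have hne : ψ.symm (Pi.single (2 : Fin 3) (1 : F)) ≠ 0 := by
      intro h0
      have := congrArg ψ h0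
      rw [LinearEquiv.apply_symm_apply, map_zero] at this
      have := congrFun this 2
      simp at this
    have h3 : (s - 1) * ψ.symm (Pi.single 2 1) = 0 := by
      rw [sub_mul, one_mul, ← h2, sub_self]
    rcases mul_eq_zero.1 h3 with h | h
    · exact sub_eq_zero.1 h
    · exact absurd h hne
  -- `c ^ 3 = 1` from the first basis vector
  have hc3 : c * (c * (c * 1)) = 1 := by
    have h1 := hcube (ψ.symm (Pi.single 0 1))
    rw [LinearEquiv.apply_symm_apply, hMe, hs1, one_mul, LinearEquiv.apply_symm_apply] at h1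
    simp only [Matrix.cons_val_zero] at h1
    have := congrFun h1 0
    simpa using this
  -- characteristic `3`
  have : Fact (Nat.Prime 3) := ⟨Nat.prime_three⟩
  have hchar : CharP F 3 := charP_of_card_eq_prime_pow (f := a * 2) (by rw [hF, hq, ← pow_mul])
  have h3 : (c - 1) ^ 3 = 0 := by
    rw [sub_pow_char, one_pow, sub_eq_zero]
    rw [← hc3]
    ring
  have hc1 : c = 1 := sub_eq_zero.1 (pow_eq_zero_iff (by norm_num) |>.1 h3)
  exact hc2 (by rw [hc1, one_pow])

end Cfsg.Agent.Helper10.Cov2P5
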