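import Mathlib
import Cfsg.Agent.S0751
import Cfsg.Agent.S0837

/-!
# (5G2) for helper3 (S2500 part 5): an element of `SU_3(q)` without nonisotropic eigenvectors has
`(A - 1)² ≠ 0`.
-/

set_option autoImplicit false

namespace Cfsg.Agent.Helper10.Cov2P5

open Polynomial Module Matrix

variable {F : Type*} [Field F] [Fintype F] {q : ℕ}

/-- a subspace of `F³` all of whose vectors are isotropic has dimension at most `1` -/
theorem finrank_le_one_of_isotropic (hF : Fintype.card F = q ^ 2) (W : Submodule F (Fin 3 → F))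
    (hW : ∀ v ∈ W, Cfsg.hermForm 3 F q v v = 0) : finrank F W ≤ 1 := by
  have hle : W ≤ W.orthogonalBilin (Cfsg.Agent.S0837.hB hF 3) := by
    by_contra hcon
    obtain ⟨u, hu, hne⟩ := Cfsg.Agent.S0751.exists_nonisotropic (Cfsg.Agent.S0837.hB hF 3)
      (Cfsg.Agent.S0837.frobHom_ne_id hF) (Cfsg.Agent.S0837.frobHom_frobHom hF)
      (Cfsg.Agent.S0837.hB_isSymm hF 3) W hcon
    rw [Cfsg.Agent.S0837.hB_apply] at hne
    exact hne (hW u hu)
  have h1 := Cfsg.Agent.S0751.finrank_orth (Cfsg.Agent.S0837.hB hF 3)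
    (Cfsg.Agent.S0837.hB_isSymm hF 3) (Cfsg.Agent.S0837.hB_nondegenerate hF 3).1 W
  have h2 := Submodule.finrank_mono hle
  have h3 : finrank F (Fin 3 → F) = 3 := by simp
  omega

/-- (5G2) -/
theorem sq_ne_zero_of_no_nonisotropic (hF : Fintype.card F = q ^ 2) (A : Cfsg.SU 3 F q)
    (hno : ∀ v : Fin 3 → F, Cfsg.hermForm 3 F q v v ≠ 0 →
      ∀ c : F, (A.1.1 : Matrix (Fin 3) (Fin 3) F) *ᵥ v ≠ c • v) :
    ((A.1.1 : Matrix (Fin 3) (Fin 3) F) - 1) ^ 2 ≠ 0 := by
  intro hsq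
  set N : Matrix (Fin 3) (Fin 3) F := (A.1.1 : Matrix (Fin 3) (Fin 3) F) - 1 with hN
  set f : (Fin 3 → F) →ₗ[F] (Fin 3 → F) := Matrix.toLin' N with hf
  have hff : ∀ v, f (f v) = 0 := by
    intro v
    rw [hf, Matrix.toLin'_apply, Matrix.toLin'_apply, Matrix.mulVec_mulVec, ← pow_two, hsq,
      Matrix.zero_mulVec]
  have hrk : LinearMap.range f ≤ LinearMap.ker f := by
    rintro _ ⟨v, rfl⟩
    exact LinearMap.mem_ker.2 (hff v)
  have h1 := Submodule.finrank_mono hrk
  have h2 := LinearMap.finrank_range_add_finrank_ker f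
  have h3 : finrank F (Fin 3 → F) = 3 := by simp
  have hiso : ∀ v ∈ LinearMap.ker f, Cfsg.hermForm 3 F q v v = 0 := by
    intro v hv
    by_contra hne
    apply hno v hne 1
    rw [LinearMap.mem_ker, hf, Matrix.toLin'_apply, hN, Matrix.sub_mulVec, Matrix.one_mulVec,
      sub_eq_zero] at hv
    rw [hv, one_smul]
  have h4 := finrank_le_one_of_isotropic hF (LinearMap.ker f) hiso
  omega

end Cfsg.Agent.Helper10.Cov2P5
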