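import Mathlib

/-!
# (D25) for S0679 (helper54): `25 ∤ |G|` for a 2-transitive group of degree 11 whose elements of
order 5 move 10 points
-/

set_option autoImplicit false
set_option linter.style.haveILetI false

namespace Cfsg.Agent.Helper10.D11

open Equiv MulAction

variable {α : Type*} [Fintype α] [DecidableEq α]

/-- (D25) -/
theorem not_25_dvd_card (hα : Fintype.card α = 11) (G : Subgroup (Perm α))
    (h2 : IsMultiplyPretransitive G α 2)
    (h5 : ∀ f ∈ G, orderOf f = 5 → f.support.card = 10) : ¬ 25 ∣ Nat.card G := by
  intro h25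
  haveI : Fact (Nat.Prime 5) := ⟨by norm_num⟩
  -- a pair of distinct points
  have hcardE : Fintype.card (Fin 2 ↪ α) = 110 := by
    rw [Fintype.card_embedding_eq, hα, Fintype.card_fin]
    rfl
  haveI : Nonempty (Fin 2 ↪ α) := by
    rw [← Fintype.card_pos_iff, hcardE]; norm_num
  obtain ⟨x⟩ := ‹Nonempty (Fin 2 ↪ α)›
  -- orbit-stabiliser
  have horb : orbit G x = Set.univ := by
    ext y
    simp only [Set.mem_univ, iff_true]
    exact MulAction.exists_smul_eq G x y
  have hG : Nat.card G = 110 * Nat.card (stabilizer G x) := by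
    have hn : (orbit G x).ncard = 110 := by
      rw [horb, Set.ncard_univ, Nat.card_eq_fintype_card, hcardE]
    rw [← Subgroup.index_mul_card (stabilizer G x), MulAction.index_stabilizer]
    exact congrArg (· * Nat.card (stabilizer G x)) hn
  -- 5 divides the stabiliser
  have h5s : 5 ∣ Nat.card (stabilizer G x) := by
    rw [hG] at h25
    have : (25 : ℕ) ∣ 110 * Nat.card (stabilizer G x) := h25
    omega
  obtain ⟨f, hf⟩ := exists_prime_orderOf_dvd_card' 5 h5s
  -- `f` as a permutation
  have hfG : ((f : G) : Perm α) ∈ G := (f : G).2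
  have hfo : orderOf ((f : G) : Perm α) = 5 := by
    rw [Subgroup.orderOf_coe, Subgroup.orderOf_coe, hf]
  have hsupp := h5 _ hfG hfo
  -- but `f` fixes `x 0` and `x 1`
  have hfix : ∀ i : Fin 2, ((f : G) : Perm α) (x i) = x i := by
    intro i
    have h1 : (f : G) • x = x := f.2
    have h2 := congrArg (fun e : Fin 2 ↪ α => e i) h1
    simpa [Function.Embedding.smul_apply, Subgroup.smul_def, Equiv.Perm.smul_def] using h2
  have hsub : (((f : G) : Perm α).support) ⊆ (Finset.univ \ {x 0, x 1}) := by
    intro a ha
    rw [Equiv.Perm.mem_support] at ha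
    simp only [Finset.mem_sdiff, Finset.mem_univ, Finset.mem_insert, Finset.mem_singleton,
      true_and, not_or]
    constructor
    · rintro rfl; exact ha (hfix 0)
    · rintro rfl; exact ha (hfix 1)
  have hne : x 0 ≠ x 1 := by
    intro h
    have := x.injective h
    exact absurd this (by decide)
  have hcard := Finset.card_le_card hsub
  rw [Finset.card_sdiff_of_subset (Finset.subset_univ _), Finset.card_univ, hα,
    Finset.card_pair hne, hsupp] at hcard
  omega

end Cfsg.Agent.Helper10.D11
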