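import Mathlib
import Cfsg.Agent.Helper12.PrimeDegNormalizer

/-!
# (N3b) for S0679 (helper54): the normaliser of a subgroup of order 3 moving 6 of the 11 points has
order prime to 5 and to 11
-/

set_option autoImplicit false
set_option linter.style.haveILetI false

namespace Cfsg.Agent.Helper10.D11

open Equiv MulAction

/-- an element of odd order normalising a subgroup of order 3 centralises it -/
theorem commute_of_mem_normalizer_zpowers {H : Type*} [Group H] {s y : H} (hs : orderOf s = 3)
    {m : ℕ} (hy : y ^ (2 * m + 1) = 1)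
    (hn : y ∈ Subgroup.normalizer ((Subgroup.zpowers s : Subgroup H) : Set H)) : Commute y s := by
  have hs3 : s ^ 3 = 1 := by rw [← hs]; exact pow_orderOf_eq_one s
  have hs1 : s ≠ 1 := by
    intro h
    rw [h, orderOf_one] at hs
    norm_num at hs
  have hmem : y * s * y⁻¹ ∈ Subgroup.zpowers s :=
    (Subgroup.mem_normalizer_iff.mp hn s).mp (Subgroup.mem_zpowers s)
  obtain ⟨k, hk⟩ := Subgroup.mem_zpowers_iff.mp hmem
  rw [← zpow_mod_orderOf, hs] at hk
  simp only [Nat.cast_ofNat] at hk
  have hk0 : 0 ≤ k % 3 := Int.emod_nonneg _ (by norm_num)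
  have hk3 : k % 3 < 3 := Int.emod_lt_of_pos _ (by norm_num)
  have hcases : k % 3 = 0 ∨ k % 3 = 1 ∨ k % 3 = 2 := by omega
  rcases hcases with h | h | h
  · exfalso
    rw [h, zpow_zero] at hk
    apply hs1
    have : y * s * y⁻¹ = 1 := hk.symm
    calc s = y⁻¹ * (y * s * y⁻¹) * y := by group
      _ = 1 := by rw [this]; group
  · rw [h, zpow_one] at hk
    show y * s = s * y
    calc y * s = (y * s * y⁻¹) * y := by group
      _ = s * y := by rw [← hk]
  · rw [h] at hk
    have hinv : y * s * y⁻¹ = s⁻¹ := by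
      rw [← hk]
      rw [eq_inv_iff_mul_eq_one]
      show s ^ (2 : ℤ) * s = 1
      rw [← zpow_add_one]
      norm_num
      exact_mod_cast hs3
    -- `y s = s⁻¹ y` and `y s⁻¹ = s y`
    have h1 : y * s = s⁻¹ * y := by
      calc y * s = (y * s * y⁻¹) * y := by group
        _ = s⁻¹ * y := by rw [hinv]
    have h2 : y * s⁻¹ = s * y := by
      have : y * s⁻¹ * y⁻¹ = s := by
        have e : y * s⁻¹ * y⁻¹ = (y * s * y⁻¹)⁻¹ := by group
        rw [e, hinv, inv_inv]
      calc y * s⁻¹ = (y * s⁻¹ * y⁻¹) * y := by group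
        _ = s * y := by rw [this]
    have hc2 : Commute (y ^ 2) s := by
      show y ^ 2 * s = s * y ^ 2
      calc y ^ 2 * s = y * (y * s) := by rw [pow_two, mul_assoc]
        _ = y * (s⁻¹ * y) := by rw [h1]
        _ = (y * s⁻¹) * y := by rw [mul_assoc]
        _ = s * y * y := by rw [h2]
        _ = s * y ^ 2 := by rw [pow_two, mul_assoc]
    have hc : Commute ((y ^ 2) ^ (m + 1)) s := hc2.pow_left _
    have e : (y ^ 2) ^ (m + 1) = y := by
      rw [← pow_mul, show 2 * (m + 1) = (2 * m + 1) + 1 by ring, pow_succ, hy, one_mul]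
    rwa [e] at hc

variable {α : Type*} [Fintype α] [DecidableEq α]

/-- (N3b) -/
theorem not_5_11_dvd_card_normalizer (hα : Fintype.card α = 11) (G : Subgroup (Perm α))
    (h5 : ∀ f ∈ G, orderOf f = 5 → f.support.card = 10)
    (hFS : ∀ f y : Perm α, orderOf f = 5 → f.support.card = 10 → Commute f y →
      5 ∣ y.support.card)
    (s : G) (hs : orderOf s = 3) (hss : (s : Perm α).support.card = 6) :
    ¬ 5 ∣ Nat.card (Subgroup.normalizer ((Subgroup.zpowers s : Subgroup G) : Set G)) ∧
    ¬ 11 ∣ Nat.card (Subgroup.normalizer ((Subgroup.zpowers s : Subgroup G) : Set G)) := by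
  haveI : Fact (Nat.Prime 5) := ⟨by norm_num⟩
  haveI : Fact (Nat.Prime 11) := ⟨by norm_num⟩
  constructor
  · intro hdvd
    obtain ⟨y', hy'⟩ := exists_prime_orderOf_dvd_card' 5 hdvd
    have hyo : orderOf (y' : G) = 5 := by rw [Subgroup.orderOf_coe, hy']
    have hy5 : (y' : G) ^ (2 * 2 + 1) = 1 := by
      rw [show 2 * 2 + 1 = 5 by norm_num, ← hyo]; exact pow_orderOf_eq_one _
    have hc := commute_of_mem_normalizer_zpowers hs hy5 y'.2
    have hfo : orderOf (((y' : G) : Perm α)) = 5 := by rw [Subgroup.orderOf_coe, hyo]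
    have hcP : Commute (((y' : G) : Perm α)) (s : Perm α) := by
      have := congrArg (Subtype.val : G → Perm α) hc.eq
      exact this
    have := hFS _ _ hfo (h5 _ (y' : G).2 hfo) hcP
    rw [hss] at this
    omega
  · intro hdvd
    obtain ⟨y', hy'⟩ := exists_prime_orderOf_dvd_card' 11 hdvd
    have hyo : orderOf (y' : G) = 11 := by rw [Subgroup.orderOf_coe, hy']
    have hy11 : (y' : G) ^ (2 * 5 + 1) = 1 := by
      rw [show 2 * 5 + 1 = 11 by norm_num, ← hyo]; exact pow_orderOf_eq_one _
    have hc := commute_of_mem_normalizer_zpowers hs hy11 y'.2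
    have hfo : orderOf (((y' : G) : Perm α)) = 11 := by rw [Subgroup.orderOf_coe, hyo]
    have hcP : (s : Perm α) * ((y' : G) : Perm α) = ((y' : G) : Perm α) * (s : Perm α) := by
      have := congrArg (Subtype.val : G → Perm α) hc.eq
      exact this.symm
    have hmem := Cfsg.Agent.Helper12.PDNorm.comm_mem_zpowers (p := 11) hα _ _ hfo hcP
    have hd := orderOf_dvd_of_mem_zpowers hmem
    rw [hfo, Subgroup.orderOf_coe, hs] at hd
    omega

end Cfsg.Agent.Helper10.D11
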