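import Cfsg.Agent.Helper40.D4Tor.Defs

/-!
helper40, S2376, piece (ORD), core: the order of the split torus element, given the (ENT) facts as hypotheses.
-/

set_option autoImplicit false
set_option maxRecDepth 100000

namespace Cfsg.Agent.Helper10.D4Tor

open Cfsg Cfsg.Lie Cfsg.Agent.Helper18 Cfsg.Agent.Helper19.Twist Cfsg.Agent.Helper40.D4Tor

/-! ### arithmetic -/

/-- `q² + q - 1` is prime to `q³ - 1` -/
theorem ORD_coprime (q : ℕ) (hq : 2 ≤ q) : Nat.Coprime (q ^ 2 + q - 1) (q ^ 3 - 1) := by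
  have h1 : 1 ≤ q ^ 2 + q := by nlinarith
  have h2 : 1 ≤ q ^ 3 := Nat.one_le_pow _ _ (by omega)
  set A := q ^ 2 + q - 1 with hA
  set B := q ^ 3 - 1 with hB
  have hA1 : A + 1 = q ^ 2 + q := by omega
  have hB1 : B + 1 = q ^ 3 := by omega
  have hAz : (A : ℤ) = (q : ℤ) ^ 2 + q - 1 := by
    have := congrArg (Nat.cast : ℕ → ℤ) hA1
    push_cast at this
    linarith
  have hBz : (B : ℤ) = (q : ℤ) ^ 3 - 1 := by
    have := congrArg (Nat.cast : ℕ → ℤ) hB1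
    push_cast at this
    linarith
  have hid : ((q : ℤ) ^ 2 + q) * A - ((q : ℤ) + 2) * B = 2 := by
    rw [hAz, hBz]
    ring
  -- `A` is odd
  have hodd : ¬ 2 ∣ A := by
    intro h2A
    have heven : 2 ∣ q ^ 2 + q := by
      have : q ^ 2 + q = q * (q + 1) := by ring
      rw [this]
      exact (Nat.even_mul_succ_self q).two_dvd
    rw [← hA1] at heven
    have : 2 ∣ 1 := (Nat.dvd_add_right h2A).1 heven
    omega
  rw [Nat.coprime_iff_gcd_eq_one]
  set d := Nat.gcd A B with hd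
  have hdA : d ∣ A := Nat.gcd_dvd_left A B
  have hdB : d ∣ B := Nat.gcd_dvd_right A B
  have hd2 : (d : ℤ) ∣ 2 := by
    rw [← hid]
    exact dvd_sub (Dvd.dvd.mul_left (Int.natCast_dvd_natCast.2 hdA) _)
      (Dvd.dvd.mul_left (Int.natCast_dvd_natCast.2 hdB) _)
  have hd2' : d ∣ 2 := by exact_mod_cast hd2
  have hdle : d ≤ 2 := Nat.le_of_dvd (by norm_num) hd2'
  have hd0 : d ≠ 0 := by
    intro h0
    rw [h0] at hd2'
    omega
  have hdne2 : d ≠ 2 := by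
    intro h
    rw [h] at hdA
    exact hodd hdA
  omega

/-- `lcm(q² - 1, q³ - 1) = (q³ - 1)(q + 1)` -/
theorem ORD_lcm_dvd (q m : ℕ) (hq : 2 ≤ q) (h2 : q ^ 2 - 1 ∣ m) (h3 : q ^ 3 - 1 ∣ m) :
    (q ^ 3 - 1) * (q + 1) ∣ m := by
  obtain ⟨p, rfl⟩ : ∃ p, q = p + 1 := ⟨q - 1, by omega⟩
  have hp : 1 ≤ p := by omega
  have e2 : (p + 1) ^ 2 - 1 = p * (p + 2) := by
    apply Nat.sub_eq_of_eq_add
    ring
  have e3 : (p + 1) ^ 3 - 1 = p * (p ^ 2 + 3 * p + 3) := by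
    apply Nat.sub_eq_of_eq_add
    ring
  rw [e2] at h2
  rw [e3] at h3 ⊢
  obtain ⟨m', rfl⟩ : p ∣ m := Dvd.dvd.trans (Dvd.intro _ rfl) h2
  have h2' : p + 2 ∣ m' := (Nat.mul_dvd_mul_iff_left (by omega)).1 h2
  have h3' : p ^ 2 + 3 * p + 3 ∣ m' := (Nat.mul_dvd_mul_iff_left (by omega)).1 h3
  have hcop : Nat.Coprime (p + 2) (p ^ 2 + 3 * p + 3) := by
    have e : p ^ 2 + 3 * p + 3 = (p + 2) * (p + 1) + 1 := by ring
    rw [e]
    exact (Nat.coprime_mul_left_add_right (p + 2) 1 (p + 1)).2 (Nat.coprime_one_right _)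
  have h4 : (p + 2) * (p ^ 2 + 3 * p + 3) ∣ m' := hcop.mul_dvd_of_dvd_of_dvd h2' h3'
  have e : p * (p ^ 2 + 3 * p + 3) * (p + 1 + 1) = p * ((p + 2) * (p ^ 2 + 3 * p + 3)) := by ring
  rw [e]
  exact Nat.mul_dvd_mul_left p h4

/-- `q² - 1` divides `(q³ - 1)(q + 1)` -/
theorem ORD_dvd_two (q : ℕ) (hq : 2 ≤ q) : q ^ 2 - 1 ∣ (q ^ 3 - 1) * (q + 1) := by
  obtain ⟨p, rfl⟩ : ∃ p, q = p + 1 := ⟨q - 1, by omega⟩
  have e2 : (p + 1) ^ 2 - 1 = p * (p + 2) := by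
    apply Nat.sub_eq_of_eq_add
    ring
  have e3 : (p + 1) ^ 3 - 1 = p * (p ^ 2 + 3 * p + 3) := by
    apply Nat.sub_eq_of_eq_add
    ring
  rw [e2, e3]
  exact ⟨p ^ 2 + 3 * p + 3, by ring⟩

/-! ### the order -/

/-- (ORD), given the (ENT) facts -/
theorem orderOf_hT_of {K : Type*} [Field K] (q : ℕ) (hq : 2 ≤ q) (β t : K) (ht : orderOf t = q ^ 3 - 1)
    (hβ : orderOf β = q ^ 2 - 1)
    (hT_mem : ∀ (β t t' t'' : K), β ≠ 0 → t ≠ 0 → t' ≠ 0 → t'' ≠ 0 →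
      hG chevD4 K 14 β * T t t' t'' ∈ chevD4.diagonalSubgroup K)
    (hT_entry : ∀ (β t t' t'' : K), β ≠ 0 → t ≠ 0 → t' ≠ 0 → t'' ≠ 0 → ∀ (u : ℕ), u < 24 →
      ent (hG chevD4 K 14 β * T t t' t'') u =
        β ^ pairing' chevD4 14 u *
          (t ^ pairing' chevD4 18 u * t' ^ pairing' chevD4 13 u * t'' ^ pairing' chevD4 12 u))
    (ent_pow : ∀ (k : GL chevD4.Idx K), k ∈ chevD4.diagonalSubgroup K → ∀ (m r : ℕ),
      ent (k ^ m) r = ent k r ^ m)
    (eq_one_of_ent : ∀ (k : GL chevD4.Idx K), k ∈ chevD4.diagonalSubgroup K →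
      (∀ r < 24, ent k r = 1) → k = 1) :
    orderOf (hG chevD4 K 14 β * T t (t ^ q) (t ^ q ^ 2)) = (q ^ 3 - 1) * (q + 1) := by
  have hq3 : 0 < q ^ 3 - 1 := by
    have : 2 ^ 3 ≤ q ^ 3 := Nat.pow_le_pow_left hq 3
    omega
  have hq2 : 0 < q ^ 2 - 1 := by
    have : 2 ^ 2 ≤ q ^ 2 := Nat.pow_le_pow_left hq 2
    omega
  have ht0 : t ≠ 0 := by
    rintro rfl
    rw [orderOf_eq_zero_iff'.2 (fun n hn => by rw [zero_pow hn.ne']; exact zero_ne_one)] at ht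
    omega
  have hβ0 : β ≠ 0 := by
    rintro rfl
    rw [orderOf_eq_zero_iff'.2 (fun n hn => by rw [zero_pow hn.ne']; exact zero_ne_one)] at hβ
    omega
  have ht1 : t ^ q ≠ 0 := pow_ne_zero _ ht0
  have ht2 : t ^ q ^ 2 ≠ 0 := pow_ne_zero _ ht0
  set k := hG chevD4 K 14 β * T t (t ^ q) (t ^ q ^ 2) with hk
  have hkm : k ∈ chevD4.diagonalSubgroup K := hT_mem β t _ _ hβ0 ht0 ht1 ht2
  have hke : ∀ u, u < 24 → ent k u = β ^ pairing' chevD4 14 u *
      (t ^ pairing' chevD4 18 u * (t ^ q) ^ pairing' chevD4 13 u * (t ^ q ^ 2) ^ pairing' chevD4 12 u) :=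
    fun u hu => hT_entry β t _ _ hβ0 ht0 ht1 ht2 u hu
  set N := (q ^ 3 - 1) * (q + 1) with hN
  have htN : t ^ N = 1 := by
    rw [hN, pow_mul, ← ht, pow_orderOf_eq_one, one_pow]
  have hβN : β ^ N = 1 := by
    obtain ⟨c, hc⟩ := ORD_dvd_two q hq
    rw [hN, hc, pow_mul, ← hβ, pow_orderOf_eq_one, one_pow]
  have hz : ∀ (x : K) (a : ℤ), x ^ N = 1 → (x ^ a) ^ N = 1 := by
    intro x a hx
    rw [← zpow_natCast, ← zpow_mul, mul_comm, zpow_mul, zpow_natCast, hx, one_zpow]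
  -- `k ^ N = 1`
  have hkN : k ^ N = 1 := by
    apply eq_one_of_ent _ (pow_mem hkm N)
    intro r hr
    rw [ent_pow k hkm, hke r hr, mul_pow, mul_pow, mul_pow, hz β _ hβN, hz t _ htN]
    have e1 : ((t ^ q) ^ pairing' chevD4 13 r) ^ N = 1 := by
      apply hz
      rw [← pow_mul, mul_comm, pow_mul, htN, one_pow]
    have e2 : ((t ^ q ^ 2) ^ pairing' chevD4 12 r) ^ N = 1 := by
      apply hz
      rw [← pow_mul, mul_comm, pow_mul, htN, one_pow]
    rw [e1, e2]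
    simp
  -- `k ^ m = 1 → N ∣ m`
  have hdvd : ∀ m : ℕ, k ^ m = 1 → N ∣ m := by
    intro m hm
    have hent : ∀ r, r < 24 → ent k r ^ m = 1 := by
      intro r hr
      rw [← ent_pow k hkm, hm]
      have := ent_pow k hkm 0 r
      rw [pow_zero, pow_zero] at this
      exact this
    -- entry at the highest root
    have h23 := hent 23 (by norm_num)
    rw [hke 23 (by norm_num)] at h23
    have v1 : pairing' chevD4 14 23 = 1 := by decide
    have v2 : pairing' chevD4 18 23 = 0 := by decide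
    have v3 : pairing' chevD4 13 23 = 0 := by decide
    have v4 : pairing' chevD4 12 23 = 0 := by decide
    rw [v1, v2, v3, v4] at h23
    simp only [zpow_one, zpow_zero, mul_one] at h23
    have hd2 : q ^ 2 - 1 ∣ m := by
      rw [← hβ]
      exact orderOf_dvd_of_pow_eq_one h23
    -- entry at `p₂ + p₃ + p₄`
    have h17 := hent 17 (by norm_num)
    rw [hke 17 (by norm_num)] at h17
    have w1 : pairing' chevD4 14 17 = 0 := by decide
    have w2 : pairing' chevD4 18 17 = -1 := by decide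
    have w3 : pairing' chevD4 13 17 = 1 := by decide
    have w4 : pairing' chevD4 12 17 = 1 := by decide
    rw [w1, w2, w3, w4] at h17
    simp only [zpow_one, zpow_zero, one_mul, zpow_neg] at h17
    have hA1 : 1 ≤ q ^ 2 + q := by nlinarith
    have e17 : t⁻¹ * t ^ q * t ^ q ^ 2 = t ^ (q ^ 2 + q - 1) := by
      have : t ^ (q ^ 2 + q - 1) * t = t ^ q * t ^ q ^ 2 := by
        rw [← pow_succ, ← pow_add]
        congr 1
        omega
      field_simp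
      rw [mul_comm t, this, mul_comm]
    rw [e17, ← pow_mul] at h17
    have hd3' : q ^ 3 - 1 ∣ (q ^ 2 + q - 1) * m := by
      rw [← ht]
      exact orderOf_dvd_of_pow_eq_one h17
    have hd3 : q ^ 3 - 1 ∣ m := (ORD_coprime q hq).symm.dvd_of_dvd_mul_left hd3'
    exact ORD_lcm_dvd q m hq hd2 hd3
  exact Nat.dvd_antisymm (orderOf_dvd_of_pow_eq_one hkN) (hdvd _ (pow_orderOf_eq_one k))

end Cfsg.Agent.Helper10.D4Tor
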