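import Cfsg.Agent.Helper40.D4Tor.Defs
import Cfsg.Agent.Helper10.D4TorORDCore

/-!
helper40, S2376, piece (ORD): the order of the split torus element.
(The four (ENT) facts are proved here under `ORD_`-prefixed names, so that this file does not wait for (ENT).)
-/

set_option autoImplicit false
set_option maxRecDepth 100000

namespace Cfsg.Agent.Helper10.D4Tor

open Cfsg Cfsg.Lie Cfsg.Agent.Helper18 Cfsg.Agent.Helper19.Twist Cfsg.Agent.Helper40.D4Tor

theorem ORD_hT_mem {K : Type*} [Field K] (β t t' t'' : K) (hβ : β ≠ 0) (ht : t ≠ 0) (ht' : t' ≠ 0)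
    (ht'' : t'' ≠ 0) : hG chevD4 K 14 β * T t t' t'' ∈ chevD4.diagonalSubgroup K := by
  have m14 := hG_mem (K := K) chevD4 memD4 14 (by decide) _ hβ
  have m18 := hG_mem (K := K) chevD4 memD4 18 (by decide) _ ht
  have m13 := hG_mem (K := K) chevD4 memD4 13 (by decide) _ ht'
  have m12 := hG_mem (K := K) chevD4 memD4 12 (by decide) _ ht''
  exact mul_mem m14 (mul_mem (mul_mem m18 m13) m12)

theorem ORD_hT_entry {K : Type*} [Field K] (β t t' t'' : K) (hβ : β ≠ 0) (ht : t ≠ 0) (ht' : t' ≠ 0)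
    (ht'' : t'' ≠ 0) (u : ℕ) (hu : u < 24) :
    ent (hG chevD4 K 14 β * T t t' t'') u =
      β ^ pairing' chevD4 14 u *
        (t ^ pairing' chevD4 18 u * t' ^ pairing' chevD4 13 u * t'' ^ pairing' chevD4 12 u) := by
  have hu' : u < chevD4.nroots := hu
  have m14 := hG_mem (K := K) chevD4 memD4 14 (by decide) _ hβ
  have m18 := hG_mem (K := K) chevD4 memD4 18 (by decide) _ ht
  have m13 := hG_mem (K := K) chevD4 memD4 13 (by decide) _ ht'
  have m12 := hG_mem (K := K) chevD4 memD4 12 (by decide) _ ht''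
  unfold ent T
  rw [rootEntry_mul chevD4 memD4 _ _ m14 (mul_mem (mul_mem m18 m13) m12),
    rootEntry_mul chevD4 memD4 _ _ (mul_mem m18 m13) m12, rootEntry_mul chevD4 memD4 _ _ m18 m13,
    rootEntry_hG chevD4 memD4 14 u (by decide) hu' _ hβ, rootEntry_hG chevD4 memD4 18 u (by decide) hu' _ ht,
    rootEntry_hG chevD4 memD4 13 u (by decide) hu' _ ht', rootEntry_hG chevD4 memD4 12 u (by decide) hu' _ ht'']

theorem ORD_ent_one {K : Type*} [Field K] (r : ℕ) : ent (1 : GL chevD4.Idx K) r = 1 := by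
  unfold ent rootEntry
  split_ifs
  · simp
  · rfl

theorem ORD_ent_pow {K : Type*} [Field K] (k : GL chevD4.Idx K) (hk : k ∈ chevD4.diagonalSubgroup K)
    (m r : ℕ) : ent (k ^ m) r = ent k r ^ m := by
  induction m with
  | zero => rw [pow_zero, pow_zero, ORD_ent_one]
  | succ m ih =>
    rw [pow_succ, pow_succ, ← ih]
    unfold ent
    exact rootEntry_mul chevD4 memD4 _ _ (pow_mem hk m) hk r

theorem ORD_eq_one_of_ent {K : Type*} [Field K] (k : GL chevD4.Idx K)
    (hk : k ∈ chevD4.diagonalSubgroup K) (h : ∀ r < 24, ent k r = 1) : k = 1 := by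
  apply diag_ext chevD4 memD4 coordD4 coordOK_D4 k 1 hk (one_mem _)
  intro i hi
  have h1 : chevD4.simple i < 24 := by
    have : ∀ i < chevD4.rank, chevD4.simple i < 24 := by decide
    exact this i hi
  have h2 := h _ h1
  have h3 := ORD_ent_one (K := K) (chevD4.simple i)
  unfold ent at h2 h3
  rw [h2, h3]

/-- (ORD) the order of the split torus element. -/
theorem orderOf_hT {K : Type*} [Field K] (q : ℕ) (hq : 2 ≤ q) (β t : K) (ht : orderOf t = q ^ 3 - 1)
    (hβ : orderOf β = q ^ 2 - 1) :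
    orderOf (hG chevD4 K 14 β * T t (t ^ q) (t ^ q ^ 2)) = (q ^ 3 - 1) * (q + 1) :=
  orderOf_hT_of q hq β t ht hβ ORD_hT_mem ORD_hT_entry ORD_ent_pow ORD_eq_one_of_ent

end Cfsg.Agent.Helper10.D4Tor
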