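-- helper10: piece (ADD) of the DT farm #13881 for helper16 (S4641): additivity of the lifted trace function
-- along a composition series.
import Cfsg.Agent.Helper16.DT.Defs

set_option autoImplicit false
set_option linter.unusedSectionVars false
set_option linter.unusedVariables false

namespace Cfsg.Agent.Helper10.DT

open Cfsg Cfsg.Agent.Helper16 Cfsg.Agent.Helper16.DT Polynomial Matrix

universe u v w

section Decomp

variable {p : ℕ} [Fact p.Prime] {M : Ideal AlgInt} [M.IsMaximal] {G : Type u} [Group G]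

theorem ADD_monic (l : List (Σ m : ℕ, G →* Matrix (Fin m) (Fin m) (AlgInt ⧸ M))) (g : G) :
    Polynomial.Monic ((l.map fun s : (Σ m : ℕ, G →* Matrix (Fin m) (Fin m) (AlgInt ⧸ M)) =>
      (s.2 g).charpoly).prod) := by
  induction l with
  | nil => simp
  | cons s l ih =>
    rw [List.map_cons, List.prod_cons]
    exact (Matrix.charpoly_monic _).mul ih

theorem ADD_aux (l : List (Σ m : ℕ, G →* Matrix (Fin m) (Fin m) (AlgInt ⧸ M))) (g : G) :
    (Multiset.map (teich p M) (Polynomial.roots ((l.map fun s : (Σ m : ℕ, G →* Matrix (Fin m) (Fin m) (AlgInt ⧸ M)) =>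
      (s.2 g).charpoly).prod))).sum
      = ((l.map fun s : (Σ m : ℕ, G →* Matrix (Fin m) (Fin m) (AlgInt ⧸ M)) => brauerFull p M s.2).sum) g := by
  induction l with
  | nil => simp
  | cons s l ih =>
    rw [List.map_cons, List.prod_cons, List.map_cons, List.sum_cons, Pi.add_apply, ← ih]
    have h1 : (s.2 g).charpoly * ((l.map fun s : (Σ m : ℕ, G →* Matrix (Fin m) (Fin m) (AlgInt ⧸ M)) =>
        (s.2 g).charpoly).prod) ≠ 0 :=
      ((Matrix.charpoly_monic _).mul (ADD_monic l g)).ne_zero
    rw [Polynomial.roots_mul h1, Multiset.map_add, Multiset.sum_add]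
    rfl

/-- (ADD) the lifted trace function is additive along a composition series. -/
theorem brauerFull_compSeries {n : ℕ} (ρ : G →* Matrix (Fin n) (Fin n) (AlgInt ⧸ M))
    (l : List (Σ m : ℕ, G →* Matrix (Fin m) (Fin m) (AlgInt ⧸ M)))
    (h : ∀ g, (ρ g).charpoly = (l.map fun s => (s.2 g).charpoly).prod) :
    brauerFull p M ρ = (l.map fun s => brauerFull p M s.2).sum := by
  funext g
  rw [← ADD_aux l g, ← h g]
  rfl

end Decomp

end Cfsg.Agent.Helper10.DT
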