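-- helper10: piece (BCH) of the DT farm #13881 for helper16 (S4641): a matrix representation whose group algebra
-- action is onto the full matrix algebra stays irreducible over every extension field.
import Cfsg.Agent.Helper16.DT.Defs

set_option autoImplicit false
set_option linter.unusedSectionVars false
set_option linter.unusedVariables false

namespace Cfsg.Agent.Helper10.DT

open Cfsg Cfsg.Agent.Helper16 Cfsg.Agent.Helper16.DT Polynomial Matrix

universe u v w

section Wedderburn

variable {K : Type v} [Field K] {G : Type u} [Group G]

/-- the matrix unit acts as `w ↦ w j • e_i` -/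
theorem BCH_unit_mulVec {L : Type*} [Field L] [Algebra K L] {ι : Type w} [Fintype ι] [DecidableEq ι]
    (i j : ι) (w : ι → L) :
    ((algebraMap K L).mapMatrix (Matrix.of fun a b : ι => if a = i ∧ b = j then (1 : K) else 0)).mulVec w
      = Pi.single i (w j) := by
  funext a
  simp only [RingHom.mapMatrix_apply, Matrix.mulVec, dotProduct, Matrix.map_apply, Matrix.of_apply]
  by_cases ha : a = i
  · subst ha
    rw [Pi.single_eq_same]
    rw [Finset.sum_eq_single j]
    · simp
    · intro b _ hb
      simp [hb]
    · intro hj
      exact absurd (Finset.mem_univ j) hj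
  · rw [Pi.single_eq_of_ne ha]
    apply Finset.sum_eq_zero
    intro b _
    simp [ha]

/-- (BCH) a matrix representation whose group algebra action is onto the full matrix algebra stays
irreducible over every extension field. -/
theorem isIrredMat_map_of_surjective {L : Type*} [Field L] [Algebra K L] [Fintype G]
    {ι : Type w} [Fintype ι] [DecidableEq ι] [Nonempty ι] (σ : G →* Matrix ι ι K)
    (hs : ∀ A : Matrix ι ι K, ∃ x : G → K, gaAct σ x = A) :
    IsIrredMat (((algebraMap K L).mapMatrix : Matrix ι ι K →+* Matrix ι ι L).toMonoidHom.comp σ) := by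
  classical
  refine ⟨inferInstance, fun W hW => ?_⟩
  -- `W` is stable under all matrices over `K`
  have key : ∀ A : Matrix ι ι K, ∀ w ∈ W, ((algebraMap K L).mapMatrix A).mulVec w ∈ W := by
    intro A w hw
    obtain ⟨x, rfl⟩ := hs A
    unfold gaAct
    rw [map_sum, Matrix.sum_mulVec]
    apply Submodule.sum_mem
    intro g _
    have e : (algebraMap K L).mapMatrix (x g • σ g)
        = (algebraMap K L (x g)) • (algebraMap K L).mapMatrix (σ g) := by
      ext a b
      simp [RingHom.mapMatrix_apply, Matrix.map_apply, Matrix.smul_apply]
    rw [e, Matrix.smul_mulVec]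
    exact W.smul_mem _ (hW g w hw)
  by_cases hbot : W = ⊥
  · left; exact hbot
  · right
    obtain ⟨w, hw, hw0⟩ := (Submodule.ne_bot_iff W).mp hbot
    have hj : ∃ j, w j ≠ 0 := by
      by_contra hcon
      apply hw0
      funext j
      by_contra hne
      exact hcon ⟨j, hne⟩
    obtain ⟨j, hj⟩ := hj
    have hbasis : ∀ i : ι, (Pi.single i (1 : L) : ι → L) ∈ W := by
      intro i
      have h1 := key (Matrix.of fun a b : ι => if a = i ∧ b = j then (1 : K) else 0) w hw
      rw [BCH_unit_mulVec] at h1
      have h2 := W.smul_mem (w j)⁻¹ h1
      have e : (w j)⁻¹ • (Pi.single i (w j) : ι → L) = Pi.single i (1 : L) := by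
        funext a
        by_cases ha : a = i
        · subst ha
          simp [hj]
        · simp [Pi.single_eq_of_ne ha]
      rw [e] at h2
      exact h2
    rw [eq_top_iff]
    intro v _
    have e : v = ∑ i, v i • (Pi.single i (1 : L) : ι → L) := by
      funext a
      rw [Finset.sum_apply]
      simp [Pi.single_apply]
    rw [e]
    exact Submodule.sum_mem _ (fun i _ => W.smul_mem _ (hbasis i))

end Wedderburn

end Cfsg.Agent.Helper10.DT
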