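-- helper10: piece (WA2) of the DT farm #13881 for helper16 (S4641): consequences of a Wedderburn decomposition.
import Cfsg.Agent.Helper16.DT.Defs

set_option autoImplicit false
set_option linter.unusedSectionVars false
set_option linter.unusedVariables false

namespace Cfsg.Agent.Helper10.DT

open Cfsg Cfsg.Agent.Helper16 Cfsg.Agent.Helper16.DT Polynomial Matrix

universe u v w

section Wedderburn

variable {K : Type v} [Field K] {G : Type u} [Group G]

/-- the group algebra action as a linear map into the product of the matrix algebras -/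
noncomputable def WA2_map [Fintype G] {r : ℕ} (d : Fin r → ℕ)
    (σ : ∀ i, G →* Matrix (Fin (d i)) (Fin (d i)) K) :
    (G → K) →ₗ[K] (∀ i, Matrix (Fin (d i)) (Fin (d i)) K) where
  toFun x := fun i => gaAct (σ i) x
  map_add' x y := by
    funext i
    simp only [gaAct, Pi.add_apply, add_smul, Finset.sum_add_distrib]
  map_smul' c x := by
    funext i
    simp only [gaAct, Pi.smul_apply, smul_eq_mul, RingHom.id_apply, Finset.smul_sum, mul_smul]

theorem WA2_map_apply [Fintype G] {r : ℕ} (d : Fin r → ℕ)
    (σ : ∀ i, G →* Matrix (Fin (d i)) (Fin (d i)) K) (x : G → K) (i : Fin r) :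
    WA2_map d σ x i = gaAct (σ i) x := rfl

/-- conjugation of the group algebra action -/
theorem WA2_gaAct_conj [Fintype G] {ι : Type w} [Fintype ι] [DecidableEq ι] {κ : Type*} [Fintype κ]
    [DecidableEq κ] (ρ : G →* Matrix ι ι K) (τ : G →* Matrix κ κ K) (P : Matrix ι κ K) (Q : Matrix κ ι K)
    (h : ∀ g, P * τ g * Q = ρ g) (x : G → K) : gaAct ρ x = P * gaAct τ x * Q := by
  unfold gaAct
  rw [Matrix.mul_sum, Matrix.sum_mul]
  refine Finset.sum_congr rfl (fun g _ => ?_)
  rw [← h g, Matrix.mul_smul, Matrix.smul_mul]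

/-- (WA2) consequences of a Wedderburn decomposition. -/
theorem wedderburn_consequences [Fintype G] {r : ℕ} (d : Fin r → ℕ)
    (σ : ∀ i, G →* Matrix (Fin (d i)) (Fin (d i)) K) (hd : ∀ i, 0 < d i)
    (hbij : ∀ A : (∀ i, Matrix (Fin (d i)) (Fin (d i)) K),
      ∃! x : G → K, ∀ i, gaAct (σ i) x = A i) :
    (∑ i, d i ^ 2 = Fintype.card G) ∧ (∀ i j, i ≠ j → ¬ MatEquiv (σ i) (σ j)) := by
  classical
  constructor
  · have hb : Function.Bijective (WA2_map d σ) := by
      constructor
      · intro x y hxy
        obtain ⟨z, -, hz⟩ := hbij (WA2_map d σ x)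
        have h1 : x = z := hz x (fun i => rfl)
        have h2 : y = z := hz y (fun i => by rw [← WA2_map_apply, ← hxy])
        rw [h1, h2]
      · intro A
        obtain ⟨x, hx, -⟩ := hbij A
        exact ⟨x, funext hx⟩
    have e := LinearEquiv.ofBijective (WA2_map d σ) hb
    have h1 := e.finrank_eq
    rw [Module.finrank_fintype_fun_eq_card, Module.finrank_pi_fintype] at h1
    rw [h1]
    refine Finset.sum_congr rfl (fun i _ => ?_)
    rw [Module.finrank_matrix, Module.finrank_self, mul_one, Fintype.card_fin, sq]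
  · intro i j hij hE
    obtain ⟨P, Q, hPQ, hQP, hc⟩ := hE
    obtain ⟨x, hx, -⟩ := hbij (fun k => if k = i then (1 : Matrix (Fin (d k)) (Fin (d k)) K) else 0)
    have hi := hx i
    have hj := hx j
    simp only [if_true] at hi
    rw [if_neg (Ne.symm hij)] at hj
    rw [WA2_gaAct_conj (σ i) (σ j) P Q hc x, hj, Matrix.mul_zero, Matrix.zero_mul] at hi
    have hne : Nonempty (Fin (d i)) := ⟨⟨0, hd i⟩⟩
    exact zero_ne_one hi

end Wedderburn

end Cfsg.Agent.Helper10.DT
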