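import Mathlib
import Cfsg.Agent.Helper16.DefOneSetup
import Cfsg.Agent.Helper48.DefOneGRa
import Cfsg.Agent.Helper77.ExtFirstMain
import Cfsg.Agent.Helper77.ConjMax

/-!
# (BLK-b) of the defect-one engine (helper16 #5611): extended first main theorem for `|P| = p`

Two canonical characters `θ, θ'` of `C = C_G(P)` whose blocks induce the same block `B` of `G`
with defect group `P` are conjugate under `N = N_G(C)`.
-/

set_option autoImplicit false
set_option linter.unusedSectionVars false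

namespace Cfsg.Agent.Helper10.DefOneBLKb

open Cfsg Cfsg.Agent.Helper16 Cfsg.Agent.Helper16.DefOne

universe u

variable {G : Type u} [Group G] [Fintype G] {p : ℕ} [Fact p.Prime] (M : Ideal AlgInt)
  (P : Sylow p G)

/-- a block `b` of `C = C_G(P)` inducing `B` gives the Brauer pair `(P, b)` of `B` -/
theorem isBrauerPairOf_of_ind (hM : IsPModular p M) (hP : Nat.card P = p)
    (b : Set (IrrCharacter (cen P))) (hb : IsPBlock M b) (B : Set (IrrCharacter G))
    (hind : IsInducedBlock M (cen P) b B) : IsBrauerPairOf p M B (P : Subgroup G) b := by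
  classical
  have hfin : Fintype (cen P) := Fintype.ofFinite _
  exact Helper77.isBrauerPairOf_of_isInducedBlock hM (P : Subgroup G) (cen P) P.2
    (Helper48.DefOneGR.le_cen P hP) le_rfl (Subgroup.centralizer_le_normalizer _)
    Subgroup.le_normalizer B b hb
    (fun t ht => Helper77.stabilizesBlock_of_mem_self _ b t ht) b hb
    (fun t => (Helper77.extFun_of_mem _ _ t.2).symm) hind

/-- (BLK-b), primed: `hblk`, `hself`, `hcan_smul` are `sameBlock_iff_can M P hM hP`,
`can_eq_self P hP`, `can_smul P hP` of helper82's skeleton. -/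
theorem exists_smul_eq_of_isInducedBlock' (hM : IsPModular p M) (hP : Nat.card P = p)
    (hblk : ∀ φ ψ : IrrCharacter (cen P),
      SameBlock M (φ : cen P → ℂ) (ψ : cen P → ℂ) ↔ can P φ = can P ψ)
    (hself : ∀ θ : IrrCharacter (cen P), IsCanon P θ → can P θ = θ)
    (hcan_smul : ∀ (n : nor P) (φ : IrrCharacter (cen P)), can P (n • φ) = n • can P φ)
    (θ θ' : IrrCharacter (cen P)) (hθ : IsCanon P θ) (hθ' : IsCanon P θ')
    (B : Set (IrrCharacter G)) (hBP : IsDefectGroup p M B P)
    (hind : IsInducedBlock M (cen P) (blockOf M (θ : cen P → ℂ)) B)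
    (hind' : IsInducedBlock M (cen P) (blockOf M (θ' : cen P → ℂ)) B) :
    ∃ n : nor P, n • θ = θ' := by
  classical
  have hMp : M.IsPrime := Helper77.isPrime_of_isPModular hM
  have hB : IsPBlock M B := hind.2.1
  have hPe := isBrauerPairOf_of_ind M P hM hP _ ⟨θ, rfl⟩ B hind
  have hPe₂ := isBrauerPairOf_of_ind M P hM hP _ ⟨θ', rfl⟩ B hind'
  have hcard : Nat.card (P : Subgroup G) = p ^ blockDefect p B :=
    Helper77.card_defectGroup hM hB (P : Subgroup G) hBP
  have hfinN : Fintype (Subgroup.normalizer ((P : Subgroup G) : Set G)) := Fintype.ofFinite _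
  obtain ⟨n, hn⟩ := Helper77.exists_conjSet_eq hM B (P : Subgroup G) _ _ hPe hPe₂ hcard
  have hθe : θ ∈ blockOf M (θ : cen P → ℂ) := Helper78.mem_blockOf_self hMp θ
  rw [← hn] at hθe
  obtain ⟨θ₂, hθ₂, hθ₂eq⟩ := hθe
  have hc2 : can P θ₂ = θ' := by
    have h1 := (hblk θ' θ₂).mp hθ₂
    rw [hself θ' hθ'] at h1
    exact h1.symm
  have hnN : (n : G) ∈ nor P := by
    rw [Helper48.DefOneGR.nor_eq_normalizer P hP]
    exact n.2
  have hsm : (⟨(n : G), hnN⟩ : nor P) • θ₂ = θ := by
    rw [← hθ₂eq]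
    apply Subtype.ext
    funext c
    rfl
  have h3 : θ = (⟨(n : G), hnN⟩ : nor P) • θ' := by
    calc θ = can P θ := (hself θ hθ).symm
      _ = can P ((⟨(n : G), hnN⟩ : nor P) • θ₂) := by rw [hsm]
      _ = (⟨(n : G), hnN⟩ : nor P) • can P θ₂ := hcan_smul _ θ₂
      _ = (⟨(n : G), hnN⟩ : nor P) • θ' := by rw [hc2]
  refine ⟨(⟨(n : G), hnN⟩ : nor P)⁻¹, ?_⟩
  rw [h3, inv_smul_smul]

end Cfsg.Agent.Helper10.DefOneBLKb
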