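import Cfsg.Agent.Helper40.E6Tor.Defs2

/-!
helper10, piece (WORD27) of helper40's E6Tor farm (#14814, S2373): the elements of `G0` are the
products of root elements of the `27`-dimensional model.
-/

set_option autoImplicit false
set_option linter.unusedVariables false

namespace Cfsg.Agent.Helper10.E6Tor

open Cfsg Cfsg.Lie Cfsg.Agent.Helper18 Cfsg.Agent.Helper19.Cox Cfsg.Agent.Helper19.Poinc
  Cfsg.Agent.Helper80.Tor Cfsg.Agent.Helper36.TorD Cfsg.Agent.Helper83.E6C Cfsg.Agent.Helper40.E6Tor
open Polynomial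

theorem WORD27_append {L : Type*} [Field L] (w₁ w₂ : List (ℕ × L)) :
    word27 L (w₁ ++ w₂) = word27 L w₁ * word27 L w₂ := by
  unfold word27
  rw [List.map_append, List.prod_append]

theorem WORD27_inv {L : Type*} [Field L] (w : List (ℕ × L)) :
    (word27 L w)⁻¹ = word27 L (w.map fun p => (p.1, -p.2)).reverse := by
  induction w with
  | nil => simp [word27]
  | cons p w ih =>
    have h1 : word27 L (p :: w) = x27GL L p.1 p.2 * word27 L w := by
      unfold word27
      rw [List.map_cons, List.prod_cons]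
    have h2 : word27 L [((p.1, -p.2) : ℕ × L)] = x27GL L p.1 (-p.2) := by
      unfold word27
      simp
    rw [h1, mul_inv_rev, ih, List.map_cons, List.reverse_cons, WORD27_append, h2, x27GL_inv]

/-- (WORD27) the elements of `G0` are the products of root elements -/
theorem exists_word27 {L : Type*} [Field L] (g : GL I27 L) (hg : g ∈ G0 L) :
    ∃ w : List (ℕ × L), word27 L w = g := by
  unfold G0 at hg
  induction hg using Subgroup.closure_induction with
  | mem x hx =>
    obtain ⟨r, t, rfl⟩ := hx
    refine ⟨[(r, t)], ?_⟩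
    unfold word27
    simp
  | one => exact ⟨[], by simp [word27]⟩
  | mul x y _ _ hx hy =>
    obtain ⟨w₁, rfl⟩ := hx
    obtain ⟨w₂, rfl⟩ := hy
    exact ⟨w₁ ++ w₂, WORD27_append w₁ w₂⟩
  | inv x _ hx =>
    obtain ⟨w, rfl⟩ := hx
    exact ⟨_, (WORD27_inv w).symm⟩

end Cfsg.Agent.Helper10.E6Tor
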