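import Cfsg.Agent.Helper40.E6Tor.Defs2
import Cfsg.Agent.Helper18.UpStruct

/-!
helper10, piece (WORDS) of helper40's E6Tor farm (#14814, S2373): the elements of the Chevalley
group `E₆(L)` are the products of root elements.
-/

set_option autoImplicit false
set_option linter.unusedVariables false

namespace Cfsg.Agent.Helper10.E6Tor

open Cfsg Cfsg.Lie Cfsg.Agent.Helper18 Cfsg.Agent.Helper19.Cox Cfsg.Agent.Helper19.Poinc
  Cfsg.Agent.Helper80.Tor Cfsg.Agent.Helper36.TorD Cfsg.Agent.Helper83.E6C Cfsg.Agent.Helper40.E6Tor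
open Polynomial

theorem WORDS_hE6 : chevE6 ∈ [chevG2, chevB2, chevD4, chevF4, chevE6, chevE7, chevE8] := by
  simp

theorem WORDS_inv {L : Type*} [Field L] (w : List (ℕ × L)) :
    (wordGL chevE6 L w)⁻¹ = wordGL chevE6 L (w.map fun p => (p.1, -p.2)).reverse := by
  induction w with
  | nil => simp [wordGL]
  | cons p w ih =>
    have h1 : wordGL chevE6 L (p :: w) = xGL chevE6 L p.1 p.2 * wordGL chevE6 L w := by
      unfold wordGL
      rw [List.map_cons, List.prod_cons]
    have h2 : wordGL chevE6 L [((p.1, -p.2) : ℕ × L)] = xGL chevE6 L p.1 (-p.2) := by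
      unfold wordGL
      simp
    rw [h1, mul_inv_rev, ih, List.map_cons, List.reverse_cons, wordGL_append', h2,
      Cfsg.Agent.Helper18.xGL_inv' chevE6 WORDS_hE6]

/-- (WORDS) the elements of the Chevalley group are the products of root elements -/
theorem exists_wordGL {L : Type*} [Field L] (g : GL chevE6.Idx L) (hg : g ∈ chevE6.group L) :
    ∃ w : List (ℕ × L), wordGL chevE6 L w = g := by
  unfold ChevalleyDatum.group at hg
  induction hg using Subgroup.closure_induction with
  | mem x hx =>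
    obtain ⟨r, t, hrt⟩ := hx
    refine ⟨[(r.val, t)], ?_⟩
    have h1 : wordGL chevE6 L [((r.val, t) : ℕ × L)] = xGL chevE6 L r.val t := by
      unfold wordGL
      simp
    rw [h1]
    apply Units.ext
    rw [xGL_val chevE6 _ (triOK_of_mem chevE6 WORDS_hE6), hrt]
    unfold ChevalleyDatum.x
    rw [dif_pos r.2]
  | one => exact ⟨[], by simp [wordGL]⟩
  | mul x y _ _ hx hy =>
    obtain ⟨w₁, rfl⟩ := hx
    obtain ⟨w₂, rfl⟩ := hy
    exact ⟨w₁ ++ w₂, wordGL_append' chevE6 w₁ w₂⟩
  | inv x _ hx =>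
    obtain ⟨w, rfl⟩ := hx
    exact ⟨_, (WORDS_inv w).symm⟩

/-- (WORDS) -/
theorem wordGL_mem_group {L : Type*} [Field L] (w : List (ℕ × L)) : wordGL chevE6 L w ∈ chevE6.group L := by
  unfold wordGL
  apply Subgroup.list_prod_mem
  intro g hg
  obtain ⟨p, -, rfl⟩ := List.mem_map.mp hg
  exact xGL_mem_group' chevE6 WORDS_hE6 _ _

end Cfsg.Agent.Helper10.E6Tor
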