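-- helper10: piece (COMM) of the E8INV-1 farm #14274 (architect helper18, S4281): a word which negates `α_i` commutes
-- with `s_i` on the roots.
import Cfsg.Agent.Helper18.E8Odd.Defs

set_option autoImplicit false
set_option maxRecDepth 100000

namespace Cfsg.Agent.Helper10.E8Inv

open Cfsg Cfsg.Lie Cfsg.Agent.Helper18 Cfsg.Agent.Helper18.E8Odd Cfsg.Agent.Helper36.E8Odd Cfsg.Agent.Helper40.SL2Hom

/-- the linear form of the statement -/
theorem COMM_lin (s : List ℕ) (i : Fin 8) (h : Lw s (e i) = - e i) (v : V) :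
    reflL i (Lw s (reflL i v)) = Lw s v := by
  have h1 : B (e i) (Lw s v) = - B (e i) v := by
    have h2 := B_Lw s (e i) v
    rw [h, map_neg, LinearMap.neg_apply] at h2
    rw [← h2, neg_neg]
  rw [reflL_apply i v, map_sub, map_smul, h, reflL_apply, map_sub, map_smul, map_neg, h1, B_e_e]
  simp only [smul_neg, sub_neg_eq_add]
  module

/-- (COMM) a word which negates `α_i` commutes with `s_i`. -/
theorem comm_of_neg (s : List ℕ) (hs : ∀ i ∈ s, i < 8) (i : ℕ) (hi : i < 8) (h : aW s (sr i) = 239 - sr i) :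
    ∀ x < 240, aW (i :: (s ++ [i])) x = aW s x := by
  intro x hx
  obtain ⟨hsi, -, hcs⟩ := cf_simple ⟨i, hi⟩
  have hsr : sr i < 240 := hsi
  have hcsr : cf (sr i) = e ⟨i, hi⟩ := hcs
  -- `Lw s (e i) = - e i`
  have hneg : Lw s (e ⟨i, hi⟩) = - e ⟨i, hi⟩ := by
    have h2 : cf (aW s (sr i)) = Lw s (cf (sr i)) := (cf_aW s hs (sr i) hsr).2
    rw [h, cf_neg _ hsr, hcsr] at h2
    exact h2.symm
  have hw : ∀ j ∈ i :: (s ++ [i]), j < 8 := by
    intro j hj
    rw [List.mem_cons, List.mem_append, List.mem_singleton] at hj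
    rcases hj with rfl | hj | rfl
    · exact hi
    · exact hs j hj
    · exact hi
  have hlt1 : aW (i :: (s ++ [i])) x < 240 := (cf_aW (i :: (s ++ [i])) hw x hx).1
  have hcf1 : cf (aW (i :: (s ++ [i])) x) = Lw (i :: (s ++ [i])) (cf x) := (cf_aW (i :: (s ++ [i])) hw x hx).2
  have hlt2 : aW s x < 240 := (cf_aW s hs x hx).1
  have hcf2 : cf (aW s x) = Lw s (cf x) := (cf_aW s hs x hx).2
  apply cf_inj _ hlt1 _ hlt2
  rw [hcf1, hcf2, Lw_cons, Lw_append, Lw_cons, Lw_nil]
  have hr : reflN i = reflL ⟨i, hi⟩ := by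
    unfold reflN
    rw [dif_pos hi]
  rw [hr]
  exact COMM_lin s ⟨i, hi⟩ hneg (cf x)

end Cfsg.Agent.Helper10.E8Inv
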