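import Mathlib
import Cfsg.Agent.Helper43.EF.Defs

/-!
# S5976, piece (TRANS): transport of the order bound from `C_Sp(Y0)` to `N_Sp(K)`
(helper10 for helper43)
-/

set_option autoImplicit false
set_option linter.unusedSectionVars false
set_option linter.unusedVariables false

namespace Cfsg.Agent.Helper10.EF

open Matrix Cfsg Cfsg.Geo Cfsg.Agent.Helper13 Cfsg.Agent.Helper45.C3S Cfsg.Agent.Helper43.EF

variable {F : Type*} [Field F] {d : ℕ}

local notation "Vec" => (Fin d ⊕ Fin d → F)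
local notation "Mat" => Matrix (Fin d ⊕ Fin d) (Fin d ⊕ Fin d) F
local notation "⟪" x ", " y "⟫" => Cfsg.sympForm d F x y

/-- the order of `GU_d(q)` (same formula as `Cfsg.Agent.Helper43.EF.guOrd` of the skeleton) -/
def guOrdH10 (q d : ℕ) : ℕ :=
  q ^ (d * (d - 1) / 2) * ∏ i ∈ Finset.range d, (if Even i then q ^ (i + 1) + 1 else q ^ (i + 1) - 1)

theorem conj_comm_aux {ι : Type*} [Fintype ι] [DecidableEq ι] (G Gi U θ Y : Matrix ι ι F)
    (h1 : G * Gi = 1) (h2 : Gi * G = 1) (hY : Gi * θ * G = Y) (hU : U * Y = Y * U) :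
    G * U * Gi * θ = θ * (G * U * Gi) := by
  have hθ : θ = G * Y * Gi := by
    rw [← hY]
    simp only [mul_assoc]
    rw [h1, mul_one, ← mul_assoc, h1, one_mul]
  have e : ∀ X : Matrix ι ι F, Gi * (G * X) = X := fun X => by rw [← mul_assoc, h2, one_mul]
  rw [hθ]
  simp only [mul_assoc]
  rw [e, e, ← mul_assoc U, hU, mul_assoc]

/-- the conjugate by `g` of `C_Sp(Y0)` lies in `N_Sp(K)` when `g⁻¹ θ g = Y0`, `g ∈ Sp`. -/
theorem map_conj_comm_Y0_le {θ : Mat} {δ : F} (K : Subalgebra F Mat)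
    (hgen : ∀ x ∈ K, ∃ a b : F, x = a • (1 : Mat) + b • θ)
    {g : GL (Fin d ⊕ Fin d) F} (hg : g ∈ Cfsg.spGL d F)
    (hY : ((g⁻¹ : GL (Fin d ⊕ Fin d) F) : Mat) * θ * (g : Mat) = Y0 d δ) :
    (commGL (Y0 d δ) ⊓ Cfsg.spGL d F).map (MulAut.conj g).toMonoidHom ≤
      Cfsg.Geo.subalgebraNormalizer K ⊓ Cfsg.spGL d F := by
  rintro x ⟨u, ⟨hu1, hu2⟩, rfl⟩
  have hx : (MulAut.conj g).toMonoidHom u = g * u * g⁻¹ := rfl
  rw [hx]
  refine ⟨?_, (Cfsg.spGL d F).mul_mem ((Cfsg.spGL d F).mul_mem hg hu2)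
    ((Cfsg.spGL d F).inv_mem hg)⟩
  apply mem_normalizer_of_commuteG K hgen
  rw [Units.val_mul, Units.val_mul]
  exact conj_comm_aux (g : Mat) ((g⁻¹ : GL (Fin d ⊕ Fin d) F) : Mat) (u : Mat) θ (Y0 d δ)
    (gl_mul_inv g) (gl_inv_mul g) hY (mem_commGL.1 hu1)

/-- (TRANS), for an arbitrary number `n` in place of `guOrd q d` (no finiteness needed). -/
theorem dvd_card_normalizer_of_dvd {n : ℕ}
    {θ : Mat} {δ : F} (K : Subalgebra F Mat)
    (hgen : ∀ x ∈ K, ∃ a b : F, x = a • (1 : Mat) + b • θ)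
    (hstd : ∃ g ∈ Cfsg.spGL d F, ((g⁻¹ : GL (Fin d ⊕ Fin d) F) : Mat) * θ * (g : Mat) = Y0 d δ)
    (hemb : n ∣ Nat.card ↥(commGL (Y0 d δ) ⊓ Cfsg.spGL d F)) :
    n ∣ Nat.card ↥(Cfsg.Geo.subalgebraNormalizer K ⊓ Cfsg.spGL d F) := by
  obtain ⟨g, hg, hY⟩ := hstd
  have hle := map_conj_comm_Y0_le K hgen hg hY
  have hcard : Nat.card ↥((commGL (Y0 d δ) ⊓ Cfsg.spGL d F).map (MulAut.conj g).toMonoidHom) =
      Nat.card ↥(commGL (Y0 d δ) ⊓ Cfsg.spGL d F) :=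
    Subgroup.card_map_of_injective (MulAut.conj g).injective
  exact hemb.trans (hcard ▸ Subgroup.card_dvd_of_le hle)

/-- (TRANS) transport of the order bound to `N(K)` (statement of the skeleton with `guOrdH10`,
which is the skeleton's `guOrd` verbatim). -/
theorem guOrd_dvd_card_normalizer [Fintype F] {q : ℕ} (hq : Fintype.card F = q)
    {θ : Mat} {δ : F} (hs : SData θ δ) (K : Subalgebra F Mat)
    (hθK : θ ∈ K) (hgen : ∀ x ∈ K, ∃ a b : F, x = a • (1 : Mat) + b • θ)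
    (hstd : ∃ g ∈ Cfsg.spGL d F, ((g⁻¹ : GL (Fin d ⊕ Fin d) F) : Mat) * θ * (g : Mat) = Y0 d δ)
    (hemb : guOrdH10 q d ∣ Nat.card ↥(commGL (Y0 d δ) ⊓ Cfsg.spGL d F)) :
    guOrdH10 q d ∣ Nat.card ↥(Cfsg.Geo.subalgebraNormalizer K ⊓ Cfsg.spGL d F) :=
  dvd_card_normalizer_of_dvd K hgen hstd hemb

end Cfsg.Agent.Helper10.EF
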