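import Mathlib
import Cfsg.Agent.Helper43.EF.Defs

/-!
# S5976, piece (TV): a symplectic transvection is a derangement on the cosets of `N(K)`
(helper10 for helper43)
-/

set_option autoImplicit false
set_option linter.unusedSectionVars false
set_option linter.unusedVariables false

namespace Cfsg.Agent.Helper10.EF

open Matrix Cfsg Cfsg.Geo Cfsg.Agent.Helper13 Cfsg.Agent.Helper45.C3S Cfsg.Agent.Helper43.EF

variable {F : Type*} [Field F] {d : ℕ}

local notation "Vec" => (Fin d ⊕ Fin d → F)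
local notation "Mat" => Matrix (Fin d ⊕ Fin d) (Fin d ⊕ Fin d) F
local notation "⟪" x ", " y "⟫" => Cfsg.sympForm d F x y

/-- no symplectic transvection `x ↦ x + ⟪x, w⟫ w`, `w ≠ 0`, normalises `K = F[θ]`
(no finiteness, no hypothesis on `⟪θ w, w⟫`). -/
theorem tvGL_not_mem_normalizer {θ : Mat} {δ : F} (hs : SData θ δ) (K : Subalgebra F Mat)
    (hθK : θ ∈ K) (hgen : ∀ x ∈ K, ∃ a b : F, x = a • (1 : Mat) + b • θ) {w : Vec}
    (hw0 : w ≠ 0) :
    (tvGL w (1 : F) : GL (Fin d ⊕ Fin d) F) ∉ Cfsg.Geo.subalgebraNormalizer K := by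
  intro hmem
  obtain ⟨Tm, hTm⟩ : ∃ Tm : Mat, Tm = ((tvGL w (1 : F) : GL (Fin d ⊕ Fin d) F) : Mat) := ⟨_, rfl⟩
  obtain ⟨Ti, hTi⟩ : ∃ Ti : Mat,
      Ti = (((tvGL w (1 : F))⁻¹ : GL (Fin d ⊕ Fin d) F) : Mat) := ⟨_, rfl⟩
  have him : Ti * Tm = 1 := by
    rw [hTm, hTi, ← Units.val_mul, inv_mul_cancel, Units.val_one]
  have h1 : Tm * θ * Ti ∈ K := by
    rw [hTm, hTi]
    exact (hmem θ).1 hθK
  obtain ⟨a, b, hab⟩ := hgen _ h1
  have h2 : Tm * θ = (a • (1 : Mat) + b • θ) * Tm := by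
    rw [← hab, mul_assoc, him, mul_one]
  have hT : ∀ x : Vec, Tm *ᵥ x = x + ⟪x, w⟫ • w := by
    intro x
    rw [hTm, tvGL_mulVec, one_mul]
  have h3 : ∀ x : Vec, Tm *ᵥ (θ *ᵥ x) = a • (Tm *ᵥ x) + b • (θ *ᵥ (Tm *ᵥ x)) := by
    intro x
    rw [Matrix.mulVec_mulVec, h2, ← Matrix.mulVec_mulVec, Matrix.add_mulVec, Matrix.smul_mulVec,
      Matrix.smul_mulVec, Matrix.one_mulVec]
  -- step 1: `x = w`
  have h4 := h3 w
  rw [hT, hT, sympForm_self, zero_smul, add_zero] at h4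
  obtain ⟨ha, hb⟩ := hs.kdata.li hw0 (a := a - ⟪θ *ᵥ w, w⟫) (b := b - 1)
    (by
      have : (a - ⟪θ *ᵥ w, w⟫) • w + (b - 1) • (θ *ᵥ w) =
          (a • w + b • (θ *ᵥ w)) - (θ *ᵥ w + ⟪θ *ᵥ w, w⟫ • w) := by module
      rw [this, ← h4, sub_self])
  have hb1 : b = 1 := by linear_combination hb
  have ha1 : a = ⟪θ *ᵥ w, w⟫ := by linear_combination ha
  -- step 2: `x = θ w`
  have hθθ : θ *ᵥ (θ *ᵥ w) = δ • w := by
    rw [Matrix.mulVec_mulVec, hs.sq, Matrix.smul_mulVec, Matrix.one_mulVec]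
  have h5 := h3 (θ *ᵥ w)
  rw [hb1, one_smul, hT, hT, hθθ, sympForm_smul_left, sympForm_self, mul_zero, zero_smul, add_zero,
    Matrix.mulVec_add, Matrix.mulVec_smul, hθθ, ← ha1] at h5
  obtain ⟨-, h2a⟩ := hs.kdata.li hw0 (a := a * a) (b := 2 * a)
    (by
      have : (a * a) • w + (2 * a) • (θ *ᵥ w) =
          (a • (θ *ᵥ w + a • w) + (δ • w + a • (θ *ᵥ w))) - δ • w := by module
      rw [this, ← h5, sub_self])
  have ha0 : a = 0 := by
    rcases mul_eq_zero.1 h2a with h | h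
    · exact absurd h hs.two
    · exact h
  -- step 3: a vector `x` with `⟪x, w⟫ ≠ 0`
  obtain ⟨x, hx⟩ := sympForm_nondeg_left hw0
  have h6 := h3 x
  rw [ha0, hb1, zero_smul, zero_add, one_smul, hT, hT, Matrix.mulVec_add, Matrix.mulVec_smul] at h6
  have h7 : ⟪θ *ᵥ x, w⟫ • w + (-⟪x, w⟫) • (θ *ᵥ w) = 0 := by
    have := add_left_cancel h6
    rw [this]
    module
  exact hx (neg_eq_zero.1 (hs.kdata.li hw0 h7).2)

theorem tvGL_pow (v : Vec) (n : ℕ) :
    (tvGL v (1 : F) : GL (Fin d ⊕ Fin d) F) ^ n = tvGL v (n : F) := by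
  induction n with
  | zero =>
    rw [pow_zero, Nat.cast_zero]
    apply Units.ext
    rw [tvGL_coe, sympTransvection_zero, Units.val_one]
  | succ n ih => rw [pow_succ, ih, tvGL_mul, Nat.cast_succ]

/-- (TV) a transvection is a derangement -/
theorem exists_tv_derangement (h2 : (2 : F) ≠ 0) (hd : 1 ≤ d) {p : ℕ} [CharP F p]
    {θ : Mat} {δ : F} (hs : SData θ δ) (K : Subalgebra F Mat) (hθK : θ ∈ K)
    (hgen : ∀ x ∈ K, ∃ a b : F, x = a • (1 : Mat) + b • θ) :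
    ∃ x ∈ Cfsg.spGL d F, x ^ p = 1 ∧ (∀ z : F, (x : Mat) ≠ z • (1 : Mat)) ∧
      ∀ g ∈ Cfsg.spGL d F, g⁻¹ * x * g ∉ Cfsg.Geo.subalgebraNormalizer K := by
  classical
  set v : Vec := Pi.single (Sum.inl ⟨0, hd⟩) 1 with hv
  have hv0 : v ≠ 0 := by
    intro h
    have := congrFun h (Sum.inl ⟨0, hd⟩)
    rw [hv, Pi.single_eq_same, Pi.zero_apply] at this
    exact one_ne_zero this
  refine ⟨tvGL v 1, tvGL_mem_spGL v 1, ?_, ?_, ?_⟩
  · rw [tvGL_pow, CharP.cast_eq_zero]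
    apply Units.ext
    rw [tvGL_coe, sympTransvection_zero, Units.val_one]
  · intro z hz
    have hT : ∀ x : Vec, ((tvGL v (1 : F) : GL (Fin d ⊕ Fin d) F) : Mat) *ᵥ x = x + ⟪x, v⟫ • v := by
      intro x
      rw [tvGL_mulVec, one_mul]
    have hz1 : z = 1 := by
      have h1 := hT v
      rw [hz, Matrix.smul_mulVec, Matrix.one_mulVec, sympForm_self, zero_smul, add_zero] at h1
      have h3 : (z - 1) • v = 0 := by rw [sub_smul, one_smul, h1, sub_self]
      rcases smul_eq_zero.1 h3 with h | h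
      · linear_combination h
      · exact absurd h hv0
    obtain ⟨x, hx⟩ := sympForm_nondeg_left hv0
    have h1 := hT x
    rw [hz, hz1, one_smul, Matrix.one_mulVec] at h1
    have h3 : ⟪x, v⟫ • v = 0 := by
      have := add_left_cancel (a := x) (b := 0) (c := ⟪x, v⟫ • v) (by rw [add_zero]; exact h1)
      exact this.symm
    rcases smul_eq_zero.1 h3 with h | h
    · exact hx h
    · exact hv0 h
  · intro g hg
    have hgi : (g⁻¹ : GL (Fin d ⊕ Fin d) F) ∈ Cfsg.spGL d F := (Cfsg.spGL d F).inv_mem hg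
    have h1 := conj_tvGL hgi v (1 : F)
    rw [inv_inv] at h1
    rw [h1]
    apply tvGL_not_mem_normalizer hs K hθK hgen
    intro h0
    apply hv0
    have := gl_mulVec_inv g v
    rw [h0, Matrix.mulVec_zero] at this
    exact this.symm

end Cfsg.Agent.Helper10.EF
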