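import Mathlib
import Cfsg.Agent.Helper11.SL2Recog

set_option autoImplicit false

/-!
# Piece (AUTGL) of helper23's #5147 (S3054 + S3055): `Aut W ≃* GL₂(p)` for a plane `W`, in the
coordinates of `Helper11.SL2Recog`.
-/

namespace Cfsg.Agent.Helper10.ES3

open Matrix Cfsg.Agent.Helper11.SL2Recog

section

variable {G : Type*} [Group G] {p : ℕ} [hp : Fact p.Prime] {W : Subgroup G} {w₁ w₂ : G}
  (hP : PlaneData p W w₁ w₂)

/-- the additive map of the coordinate plane induced by an endomorphism of `W`. -/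
noncomputable def coordHom (φ : ↥W →* ↥W) : T p →+ T p where
  toFun v := coord hP (φ (eFun hP v))
  map_zero' := by rw [eFun_zero, map_one, coord_one]
  map_add' u v := by rw [eFun_add, map_mul, coord_mul]

theorem coordHom_apply (φ : ↥W →* ↥W) (v : T p) :
    coordHom hP φ v = coord hP (φ (eFun hP v)) := rfl

/-- the matrix of an endomorphism of `W`. -/
noncomputable def coordMat (φ : ↥W →* ↥W) : Matrix (Fin 2) (Fin 2) (ZMod p) :=
  LinearMap.toMatrix' ((coordHom hP φ).toZModLinearMap p)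

theorem coordMat_mulVec (φ : ↥W →* ↥W) (v : T p) :
    coordMat hP φ *ᵥ v = coord hP (φ (eFun hP v)) := by
  rw [coordMat, ← Matrix.toLin'_apply, Matrix.toLin'_toMatrix']
  rfl

theorem coordMat_comp (φ ψ : ↥W →* ↥W) :
    coordMat hP (φ.comp ψ) = coordMat hP φ * coordMat hP ψ := by
  rw [coordMat, coordMat, coordMat, ← LinearMap.toMatrix'_comp]
  congr 1
  apply LinearMap.ext
  intro v
  show coord hP (φ (ψ (eFun hP v))) = coord hP (φ (eFun hP (coord hP (ψ (eFun hP v)))))
  rw [eFun_coord]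

theorem coordMat_id : coordMat hP (MonoidHom.id ↥W) = 1 := by
  rw [coordMat, ← LinearMap.toMatrix'_id]
  congr 1
  apply LinearMap.ext
  intro v
  show coord hP (eFun hP v) = v
  rw [coord_eFun]

/-- the endomorphism of `W` with a given matrix. -/
noncomputable def ofMat (M : Matrix (Fin 2) (Fin 2) (ZMod p)) : ↥W →* ↥W where
  toFun x := eFun hP (M *ᵥ coord hP x)
  map_one' := by rw [coord_one, Matrix.mulVec_zero, eFun_zero]
  map_mul' x y := by rw [coord_mul, Matrix.mulVec_add, eFun_add]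

theorem ofMat_apply (M : Matrix (Fin 2) (Fin 2) (ZMod p)) (x : ↥W) :
    ofMat hP M x = eFun hP (M *ᵥ coord hP x) := rfl

theorem coordMat_ofMat (M : Matrix (Fin 2) (Fin 2) (ZMod p)) : coordMat hP (ofMat hP M) = M := by
  rw [coordMat]
  have h : (coordHom hP (ofMat hP M)).toZModLinearMap p = Matrix.toLin' M := by
    apply LinearMap.ext
    intro v
    show coord hP (eFun hP (M *ᵥ coord hP (eFun hP v))) = Matrix.toLin' M v
    rw [coord_eFun, coord_eFun, Matrix.toLin'_apply]
  rw [h, LinearMap.toMatrix'_toLin']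

end

theorem exists_autGL {G : Type*} [Group G] {p : ℕ} [hp : Fact p.Prime] {W : Subgroup G}
    {w₁ w₂ : G} (hP : PlaneData p W w₁ w₂) :
    ∃ Θ : MulAut ↥W ≃* GL (Fin 2) (ZMod p),
      ∀ (φ : MulAut ↥W) (x : ↥W), coord hP (φ x) = (Θ φ).1 *ᵥ coord hP x := by
  let Θ₀ : MulAut ↥W →* Matrix (Fin 2) (Fin 2) (ZMod p) :=
    { toFun := fun φ => coordMat hP φ.toMonoidHom
      map_one' := coordMat_id hP
      map_mul' := fun φ ψ => coordMat_comp hP φ.toMonoidHom ψ.toMonoidHom }
  have hΘ₀ : ∀ φ : MulAut ↥W, Θ₀ φ = coordMat hP φ.toMonoidHom := fun _ => rfl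
  let Θ₁ : MulAut ↥W →* GL (Fin 2) (ZMod p) := Θ₀.toHomUnits
  have hΘ₁ : ∀ φ : MulAut ↥W, (Θ₁ φ).1 = coordMat hP φ.toMonoidHom := fun _ => rfl
  have hinj : Function.Injective Θ₁ := by
    intro φ ψ h
    have h1 : coordMat hP φ.toMonoidHom = coordMat hP ψ.toMonoidHom := by
      rw [← hΘ₁, ← hΘ₁, h]
    ext x
    have h2 := congrArg (fun M => M *ᵥ coord hP x) h1
    simp only [coordMat_mulVec, eFun_coord] at h2
    have h3 := congrArg (eFun hP) h2
    rw [eFun_coord, eFun_coord] at h3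
    exact congrArg Subtype.val h3
  have hsurj : Function.Surjective Θ₁ := by
    intro M
    have hl : ∀ x, ofMat hP (M⁻¹ : GL (Fin 2) (ZMod p)).1 (ofMat hP M.1 x) = x := by
      intro x
      rw [ofMat_apply, ofMat_apply, coord_eFun, Matrix.mulVec_mulVec, ← Units.val_mul,
        inv_mul_cancel, Units.val_one, Matrix.one_mulVec, eFun_coord]
    have hr : ∀ x, ofMat hP M.1 (ofMat hP (M⁻¹ : GL (Fin 2) (ZMod p)).1 x) = x := by
      intro x
      rw [ofMat_apply, ofMat_apply, coord_eFun, Matrix.mulVec_mulVec, ← Units.val_mul,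
        mul_inv_cancel, Units.val_one, Matrix.one_mulVec, eFun_coord]
    let φ : MulAut ↥W :=
      { toFun := ofMat hP M.1
        invFun := ofMat hP (M⁻¹ : GL (Fin 2) (ZMod p)).1
        left_inv := hl
        right_inv := hr
        map_mul' := map_mul _ }
    refine ⟨φ, Units.ext ?_⟩
    rw [hΘ₁]
    exact coordMat_ofMat hP M.1
  refine ⟨MulEquiv.ofBijective Θ₁ ⟨hinj, hsurj⟩, fun φ x => ?_⟩
  show coord hP (φ x) = (Θ₁ φ).1 *ᵥ coord hP x
  rw [hΘ₁, coordMat_mulVec, eFun_coord]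
  rfl

end Cfsg.Agent.Helper10.ES3
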