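import Mathlib
import Cfsg.Agent.Helper11.SL2Recog
import Cfsg.Agent.Helper10.ES3AUTGL

set_option autoImplicit false

/-!
# Shared lemmas for pieces (TORUS-a) and (SLGEN) of helper23's #5147 / #5312 (S3054 + S3055):
automorphisms of a plane `W ≤ G` induced by conjugation in `G`, and their matrices.
-/

namespace Cfsg.Agent.Helper10.ES3

open Matrix Cfsg.Agent.Helper11.SL2Recog

section

variable {G : Type*} [Group G] {p : ℕ} [hp : Fact p.Prime] {W : Subgroup G} {w₁ w₂ : G}

/-- the automorphisms of `W` induced by conjugation in `G`. -/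
def innerAut (W : Subgroup G) : Subgroup (MulAut ↥W) where
  carrier := {φ | ∃ g : G, ∀ x : ↥W, (φ x : G) = g * x * g⁻¹}
  one_mem' := ⟨1, fun x => by simp⟩
  mul_mem' := by
    rintro φ ψ ⟨g, hg⟩ ⟨h, hh⟩
    refine ⟨g * h, fun x => ?_⟩
    rw [MulAut.mul_apply, hg, hh]
    group
  inv_mem' := by
    rintro φ ⟨g, hg⟩
    refine ⟨g⁻¹, fun x => ?_⟩
    have h := hg (φ⁻¹ x)
    rw [MulAut.apply_inv_self] at h
    rw [h]
    group

theorem mem_innerAut {φ : MulAut ↥W} :
    φ ∈ innerAut W ↔ ∃ g : G, ∀ x : ↥W, (φ x : G) = g * x * g⁻¹ := Iff.rfl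

variable (hP : PlaneData p W w₁ w₂)
include hP

theorem finite_of_planeData : Finite ↥W :=
  Nat.finite_of_card_ne_zero (by rw [hP.card]; exact pow_ne_zero 2 hp.out.ne_zero)

/-- an element mapping the basis into `W` normalizes `W`. -/
theorem mem_normalizer_of_basis (g : G) (h1 : g * w₁ * g⁻¹ ∈ W) (h2 : g * w₂ * g⁻¹ ∈ W) :
    g ∈ Subgroup.normalizer (W : Set G) := by
  have := finite_of_planeData hP
  apply Subgroup.mem_normalizer_fintype
  intro n hn
  have e := eFun_coord hP ⟨n, hn⟩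
  have e' : n = w₁ ^ ((coord hP ⟨n, hn⟩) 0).val * w₂ ^ ((coord hP ⟨n, hn⟩) 1).val :=
    (congrArg Subtype.val e).symm
  rw [e']
  have e2 : g * (w₁ ^ ((coord hP ⟨n, hn⟩) 0).val * w₂ ^ ((coord hP ⟨n, hn⟩) 1).val) * g⁻¹ =
      (g * w₁ * g⁻¹) ^ ((coord hP ⟨n, hn⟩) 0).val * (g * w₂ * g⁻¹) ^ ((coord hP ⟨n, hn⟩) 1).val := by
    rw [conj_pow, conj_pow]
    group
  rw [SetLike.mem_coe, e2]
  exact W.mul_mem (W.pow_mem h1 _) (W.pow_mem h2 _)

/-- the automorphism induced by an element of the normalizer is inner, with the matrix of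
`Helper11.SL2Recog.matHom`. -/
theorem exists_inner_of_normalizer (g : ↥(Subgroup.normalizer (W : Set G))) :
    ∃ φ ∈ innerAut W, coordMat hP φ.toMonoidHom = matHom hP g := by
  refine ⟨Subgroup.normalizerMonoidHom W g, ⟨(g : G), fun x => rfl⟩, ?_⟩
  show LinearMap.toMatrix' ((coordHom hP _).toZModLinearMap p) =
    LinearMap.toMatrix' ((alpha hP g).toZModLinearMap p)
  congr 2

/-- the matrix isomorphism of (AUTGL), with its matrix identified. -/
theorem exists_autGL' : ∃ Θ : MulAut ↥W ≃* GL (Fin 2) (ZMod p),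
    ∀ φ : MulAut ↥W, (Θ φ).1 = coordMat hP φ.toMonoidHom := by
  obtain ⟨Θ, hΘ⟩ := exists_autGL hP
  refine ⟨Θ, fun φ => ?_⟩
  apply Matrix.toLin'.injective
  apply LinearMap.ext
  intro v
  rw [Matrix.toLin'_apply, Matrix.toLin'_apply, coordMat_mulVec]
  have h := hΘ φ (eFun hP v)
  rw [coord_eFun] at h
  exact h.symm

/-- if the inner automorphisms contain an upper and a lower nontrivial transvection, every matrix of
`SL₂(p)` comes from an inner automorphism. -/
theorem inner_of_transvections {c d : ZMod p} (hc : c ≠ 0) (hd : d ≠ 0)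
    (h01 : ∃ φ ∈ innerAut W, coordMat hP φ.toMonoidHom =
      (SpecialLinearGroup.transvection (zero_ne_one : (0 : Fin 2) ≠ 1) c : Matrix _ _ (ZMod p)))
    (h10 : ∃ φ ∈ innerAut W, coordMat hP φ.toMonoidHom =
      (SpecialLinearGroup.transvection (one_ne_zero : (1 : Fin 2) ≠ 0) d : Matrix _ _ (ZMod p)))
    (A : SpecialLinearGroup (Fin 2) (ZMod p)) :
    ∃ φ ∈ innerAut W, coordMat hP φ.toMonoidHom = (A : Matrix (Fin 2) (Fin 2) (ZMod p)) := by
  obtain ⟨Θ, hΘ⟩ := exists_autGL' hP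
  have key : ∀ B : SpecialLinearGroup (Fin 2) (ZMod p),
      B ∈ ((innerAut W).map Θ.toMonoidHom).comap SpecialLinearGroup.toGL ↔
        ∃ φ ∈ innerAut W, coordMat hP φ.toMonoidHom = (B : Matrix (Fin 2) (Fin 2) (ZMod p)) := by
    intro B
    rw [Subgroup.mem_comap, Subgroup.mem_map]
    constructor
    · rintro ⟨φ, hφ, h⟩
      refine ⟨φ, hφ, ?_⟩
      rw [← hΘ]
      have h' := congrArg (fun M : GL (Fin 2) (ZMod p) => M.1) h
      exact h'
    · rintro ⟨φ, hφ, h⟩
      refine ⟨φ, hφ, Units.ext ?_⟩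
      show (Θ φ).1 = _
      rw [hΘ, h]
      rfl
  have htop := eq_top_of_transvections
    (((innerAut W).map Θ.toMonoidHom).comap SpecialLinearGroup.toGL) hc hd
    ((key _).2 h01) ((key _).2 h10)
  exact (key A).1 (by rw [htop]; exact Subgroup.mem_top _)

/-- `coordMat` is injective on automorphisms. -/
theorem coordMat_injective {φ ψ : MulAut ↥W}
    (h : coordMat hP φ.toMonoidHom = coordMat hP ψ.toMonoidHom) : φ = ψ := by
  obtain ⟨Θ, hΘ⟩ := exists_autGL' hP
  apply Θ.injective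
  apply Units.ext
  rw [hΘ, hΘ, h]

end

end Cfsg.Agent.Helper10.ES3
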