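import Mathlib
import Cfsg.Prelude.Def_Transfer
import Cfsg.Agent.Helper11.SL2Recog

set_option autoImplicit false
set_option linter.unusedVariables false

/-!
# Piece (PLANE) of helper23's #5147 (S3054 + S3055): a subgroup `A` of order `p²` of an extraspecial
group `P` of order `p³` and exponent `p`, with a non-central `a ∈ A`, is a plane with basis `z, a`.
-/

namespace Cfsg.Agent.Helper10.ES3

open Matrix Cfsg.Agent.Helper11.SL2Recog

theorem planeData_of {G : Type*} [Group G] [Finite G] {p : ℕ} [Fact p.Prime] (P : Subgroup G)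
    (hE : Cfsg.IsExtraspecial p ↥P) (hcard : Nat.card P = p ^ 3) (hexp : ∀ x ∈ P, x ^ p = 1)
    (A : Subgroup G) (hAP : A ≤ P) (hAcard : Nat.card A = p ^ 2) (z a : G) (hzP : z ∈ P)
    (hzc : ∀ x ∈ P, x * z = z * x) (hz1 : z ≠ 1) (haA : a ∈ A)
    (hanc : ∃ x ∈ P, x * a ≠ a * x) : PlaneData p A z a := by
  have hp : p.Prime := Fact.out
  have hAcomm : ∀ x ∈ A, ∀ y ∈ A, x * y = y * x := by
    intro x hx y hy
    have hc := IsPGroup.isMulCommutative_of_card_eq_prime_sq (G := ↥A) hAcard
    exact congrArg Subtype.val (hc.is_comm.comm ⟨x, hx⟩ ⟨y, hy⟩)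
  have haP : a ∈ P := hAP haA
  have hzA : z ∈ A := by
    by_contra hzA
    have hBP : A ⊔ Subgroup.zpowers z ≤ P := sup_le hAP (Subgroup.zpowers_le.2 hzP)
    have h1 : Nat.card (A ⊔ Subgroup.zpowers z : Subgroup G) ∣ p ^ 3 := by
      rw [← hcard]
      exact Subgroup.card_dvd_of_le hBP
    have h2 : p ^ 2 ∣ Nat.card (A ⊔ Subgroup.zpowers z : Subgroup G) := by
      rw [← hAcard]
      exact Subgroup.card_dvd_of_le le_sup_left
    obtain ⟨k, hk3, hk⟩ := (Nat.dvd_prime_pow hp).1 h1
    rw [hk] at h2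
    have hk2 : 2 ≤ k := (Nat.pow_dvd_pow_iff_le_right hp.one_lt).1 h2
    have hk' : k = 2 ∨ k = 3 := by omega
    rcases hk' with rfl | rfl
    · have hAB : A = A ⊔ Subgroup.zpowers z :=
        Subgroup.eq_of_le_of_card_ge le_sup_left (by rw [hk, hAcard])
      apply hzA
      rw [hAB]
      exact Subgroup.mem_sup_right (Subgroup.mem_zpowers z)
    · have hBeq : A ⊔ Subgroup.zpowers z = P :=
        Subgroup.eq_of_le_of_card_ge hBP (by rw [hk, hcard])
      obtain ⟨x, hxP, hxa⟩ := hanc
      have hle : A ⊔ Subgroup.zpowers z ≤ Subgroup.centralizer ({a} : Set G) := by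
        refine sup_le ?_ (Subgroup.zpowers_le.2 ?_)
        · intro y hy
          rw [Subgroup.mem_centralizer_iff]
          intro w hw
          rw [Set.mem_singleton_iff] at hw
          rw [hw]
          exact hAcomm a haA y hy
        · rw [Subgroup.mem_centralizer_iff]
          intro w hw
          rw [Set.mem_singleton_iff] at hw
          rw [hw]
          exact hzc a haP
      rw [hBeq] at hle
      have h3 := Subgroup.mem_centralizer_iff.1 (hle hxP) a (Set.mem_singleton a)
      exact hxa h3.symm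
  have hza : orderOf z = p := orderOf_eq_prime (hexp z hzP) hz1
  refine ⟨hAcomm, fun x hx => hexp x (hAP hx), hzA, haA, hAcard, ?_⟩
  intro i j hij
  have haj : a ^ j = (z ^ i)⁻¹ := eq_inv_of_mul_eq_one_right hij
  have hajc : ∀ x ∈ P, x * a ^ j = a ^ j * x := by
    intro x hx
    have h1 : Commute x z := hzc x hx
    rw [haj]
    exact (h1.pow_right i).inv_right
  have hpj : p ∣ j := by
    by_contra hpj
    have hcop : Nat.Coprime j p := (Nat.Coprime.symm ((Nat.Prime.coprime_iff_not_dvd hp).2 hpj))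
    obtain ⟨m, -, hm⟩ := Nat.exists_mul_mod_eq_one_of_coprime hcop hp.one_lt
    have ha1 : a ^ (j * m) = a := by
      rw [pow_eq_pow_mod _ (hexp a haP), hm, pow_one]
    obtain ⟨x, hxP, hxa⟩ := hanc
    apply hxa
    have h1 : Commute x (a ^ j) := hajc x hxP
    have h2 : Commute x ((a ^ j) ^ m) := h1.pow_right m
    rw [← pow_mul, ha1] at h2
    exact h2
  have haj1 : a ^ j = 1 := by
    obtain ⟨c, rfl⟩ := hpj
    rw [pow_mul, hexp a haP, one_pow]
  rw [haj1, mul_one] at hij
  refine ⟨?_, hpj⟩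
  rw [← hza]
  exact orderOf_dvd_of_pow_eq_one hij

end Cfsg.Agent.Helper10.ES3
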