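import Mathlib
import Cfsg.Prelude.Def_Transfer

set_option autoImplicit false

/-!
# Piece (REP-a) of helper23's #5147 (S3054 + S3055): the representation of `Aut E` on
`E / Z(E) = 𝔽_p²` for an extraspecial group `E` of order `p³` and exponent `p`.
-/

namespace Cfsg.Agent.Helper10.ES3

open Matrix

/-- version with the module structure given as an instance. -/
theorem exists_rep_comm_aux {Q : Type*} [CommGroup Q] [Finite Q] (p e : ℕ) [hp : Fact p.Prime]
    [Module (ZMod p) (Additive Q)] (hcard : Nat.card Q = p ^ e) :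
    ∃ (ρ : MulAut Q →* GL (Fin e) (ZMod p)) (c : Q → (Fin e → ZMod p)),
      Function.Bijective c ∧ (∀ x y, c (x * y) = c x + c y) ∧
      ∀ (φ : MulAut Q) (x : Q), c (φ x) = (ρ φ).1 *ᵥ c x := by
  classical
  have : Finite (Additive Q) := inferInstanceAs (Finite Q)
  have : Module.Finite (ZMod p) (Additive Q) := Module.Finite.of_finite
  have hfin : Module.finrank (ZMod p) (Additive Q) = e := by
    have h1 : Nat.card (Additive Q) = Nat.card (ZMod p) ^ Module.finrank (ZMod p) (Additive Q) :=
      Module.natCard_eq_pow_finrank (K := ZMod p) (V := Additive Q)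
    have h2 : Nat.card (Additive Q) = p ^ e := hcard
    rw [h2, Nat.card_eq_fintype_card, ZMod.card] at h1
    exact (Nat.pow_right_injective hp.out.two_le h1).symm
  let b : Module.Basis (Fin e) (ZMod p) (Additive Q) :=
    Module.finBasisOfFinrankEq (ZMod p) (Additive Q) hfin
  let f1 : MulAut Q →* Module.End (ZMod p) (Additive Q) :=
    { toFun := fun α =>
        (MulEquiv.toAdditive α : Additive Q ≃+ Additive Q).toAddMonoidHom.toZModLinearMap p
      map_one' := LinearMap.ext fun x => rfl
      map_mul' := fun α β => LinearMap.ext fun x => rfl }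
  let f2 : MulAut Q →* (Module.End (ZMod p) (Additive Q))ˣ := f1.toHomUnits
  let e3 : (Module.End (ZMod p) (Additive Q))ˣ ≃* (Matrix (Fin e) (Fin e) (ZMod p))ˣ :=
    Units.mapEquiv (LinearMap.toMatrixAlgEquiv b).toMulEquiv
  refine ⟨e3.toMonoidHom.comp f2, fun x => b.equivFun (Additive.ofMul x), ?_, ?_, ?_⟩
  · exact b.equivFun.bijective.comp Additive.ofMul.bijective
  · intro x y
    beta_reduce
    rw [ofMul_mul, map_add]
  · intro φ x
    have h1 : ((e3.toMonoidHom.comp f2) φ).1 = LinearMap.toMatrix b b (f1 φ) := rfl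
    rw [h1]
    exact (LinearMap.toMatrix_mulVec_repr b b (f1 φ) (Additive.ofMul x)).symm

/-- an elementary abelian group of order `p ^ e` with coordinates on which `Aut` acts by matrices. -/
theorem exists_rep_comm {Q : Type*} [CommGroup Q] [Finite Q] (p e : ℕ) [hp : Fact p.Prime]
    (hexp : ∀ a : Q, a ^ p = 1) (hcard : Nat.card Q = p ^ e) :
    ∃ (ρ : MulAut Q →* GL (Fin e) (ZMod p)) (c : Q → (Fin e → ZMod p)),
      Function.Bijective c ∧ (∀ x y, c (x * y) = c x + c y) ∧
      ∀ (φ : MulAut Q) (x : Q), c (φ x) = (ρ φ).1 *ᵥ c x := by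
  have hV : ∀ x : Additive Q, p • x = 0 := fun x => hexp (Additive.toMul x)
  exact @exists_rep_comm_aux Q _ _ p e hp (AddCommGroup.zmodModule hV) hcard

theorem exists_rep {E : Type*} [Group E] [Finite E] {p : ℕ} [Fact p.Prime]
    (hE : Cfsg.IsExtraspecial p E) (hcard : Nat.card E = p ^ 3) (hexp : ∀ x : E, x ^ p = 1) :
    ∃ (ρ : MulAut E →* GL (Fin 2) (ZMod p)) (c : E → (Fin 2 → ZMod p)),
      Function.Surjective c ∧ (∀ x y, c (x * y) = c x + c y) ∧
      (∀ x, c x = 0 ↔ x ∈ Subgroup.center E) ∧
      (∀ (φ : MulAut E) (x : E), c (φ x) = (ρ φ).1 *ᵥ c x) := by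
  classical
  have hp : p.Prime := Fact.out
  have hcomm : commutator E = Subgroup.center E := hE.1.2.2
  have hcen : Nat.card (Subgroup.center E) = p := hE.2
  have hof : Function.Surjective (Abelianization.of : E →* Abelianization E) :=
    QuotientGroup.mk_surjective
  have hQcard : Nat.card (Abelianization E) = p ^ 2 := by
    have h1 := Subgroup.card_mul_index (commutator E)
    rw [hcomm, hcen, hcard] at h1
    have h2 : (Subgroup.center E).index = p ^ 2 := by
      apply Nat.eq_of_mul_eq_mul_left hp.pos
      rw [h1]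
      ring
    rw [← h2, ← hcomm]
    rfl
  have hQexp : ∀ a : Abelianization E, a ^ p = 1 := by
    intro a
    obtain ⟨x, rfl⟩ := hof a
    rw [← map_pow, hexp, map_one]
  obtain ⟨ρ', c', hbij, hadd, heq⟩ := exists_rep_comm p 2 hQexp hQcard
  have hc'1 : c' 1 = 0 := by
    have h := hadd 1 1
    rw [mul_one] at h
    exact left_eq_add.1 h
  let g1 : MulAut E →* MulAut (Abelianization E) :=
    { toFun := fun φ => φ.abelianizationCongr
      map_one' := by
        ext a
        obtain ⟨x, rfl⟩ := hof a
        rw [abelianizationCongr_of]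
        rfl
      map_mul' := fun φ ψ => by
        ext a
        obtain ⟨x, rfl⟩ := hof a
        rw [abelianizationCongr_of, MulAut.mul_apply, MulAut.mul_apply,
          abelianizationCongr_of, abelianizationCongr_of] }
  refine ⟨ρ'.comp g1, fun x => c' (Abelianization.of x), ?_, ?_, ?_, ?_⟩
  · exact hbij.surjective.comp hof
  · intro x y
    beta_reduce
    rw [map_mul, hadd]
  · intro x
    beta_reduce
    constructor
    · intro h
      have h1 : Abelianization.of x = 1 := hbij.injective (h.trans hc'1.symm)
      rw [← hcomm, ← Abelianization.ker_of]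
      exact h1
    · intro h
      rw [← hcomm, ← Abelianization.ker_of] at h
      have h1 : Abelianization.of x = 1 := h
      rw [h1, hc'1]
  · intro φ x
    have h1 : (g1 φ) (Abelianization.of x) = Abelianization.of (φ x) :=
      abelianizationCongr_of φ x
    show c' (Abelianization.of (φ x)) = (ρ' (g1 φ)).1 *ᵥ c' (Abelianization.of x)
    rw [← heq, h1]

end Cfsg.Agent.Helper10.ES3
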