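import Mathlib
import Cfsg.Agent.Helper11.SL2Recog
import Cfsg.Agent.Helper10.ES3Inner

set_option autoImplicit false

/-!
# Piece (SLGEN) of helper23's #5312 (S3055): two transvections induced by conjugation give that every
automorphism of order `p` of the plane `W` is induced by conjugation.
-/

namespace Cfsg.Agent.Helper10.ES3

open Matrix Cfsg.Agent.Helper11.SL2Recog

theorem hSL_of_transvections {G : Type*} [Group G] {p : ℕ} [hp : Fact p.Prime] {W : Subgroup G}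
    {w₁ w₂ : G} (hP : PlaneData p W w₁ w₂) (x y : G) (s t : ℕ) (hs : ¬ p ∣ s) (ht : ¬ p ∣ t)
    (hx1 : x * w₁ * x⁻¹ = w₁) (hx2 : x * w₂ * x⁻¹ = w₁ ^ s * w₂)
    (hy1 : y * w₁ * y⁻¹ = w₁ * w₂ ^ t) (hy2 : y * w₂ * y⁻¹ = w₂) :
    ∀ φ : MulAut ↥W, orderOf φ = p → ∃ g : G, ∀ a : ↥W, (φ a : G) = g * (a : G) * g⁻¹ := by
  have hxN : x ∈ Subgroup.normalizer (W : Set G) :=
    mem_normalizer_of_basis hP x (by rw [hx1]; exact hP.mem₁)
      (by rw [hx2]; exact W.mul_mem (W.pow_mem hP.mem₁ _) hP.mem₂)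
  have hyN : y ∈ Subgroup.normalizer (W : Set G) :=
    mem_normalizer_of_basis hP y (by rw [hy1]; exact W.mul_mem hP.mem₁ (W.pow_mem hP.mem₂ _))
      (by rw [hy2]; exact hP.mem₂)
  have hMx : matHom hP ⟨x, hxN⟩ = !![(1 : ZMod p), (s : ZMod p); 0, 1] := by
    have h := matHom_eq hP ⟨x, hxN⟩ 1 0 s 1 (by simpa using hx1) (by simpa using hx2)
    simpa using h
  have hMy : matHom hP ⟨y, hyN⟩ = !![(1 : ZMod p), 0; (t : ZMod p), 1] := by
    have h := matHom_eq hP ⟨y, hyN⟩ 1 t 0 1 (by simpa using hy1) (by simpa using hy2)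
    simpa using h
  have hs' : (s : ZMod p) ≠ 0 := fun h => hs ((ZMod.natCast_eq_zero_iff s p).mp h)
  have ht' : (t : ZMod p) ≠ 0 := fun h => ht ((ZMod.natCast_eq_zero_iff t p).mp h)
  have h01 : ∃ φ ∈ innerAut W, coordMat hP φ.toMonoidHom =
      (SpecialLinearGroup.transvection (zero_ne_one : (0 : Fin 2) ≠ 1) (s : ZMod p) :
        Matrix _ _ (ZMod p)) := by
    obtain ⟨φ, hφ, hm⟩ := exists_inner_of_normalizer hP ⟨x, hxN⟩
    refine ⟨φ, hφ, ?_⟩
    rw [hm, hMx, SpecialLinearGroup.transvection_coe]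
    ext i j
    fin_cases i <;> fin_cases j <;> simp [Matrix.single_apply]
  have h10 : ∃ φ ∈ innerAut W, coordMat hP φ.toMonoidHom =
      (SpecialLinearGroup.transvection (one_ne_zero : (1 : Fin 2) ≠ 0) (t : ZMod p) :
        Matrix _ _ (ZMod p)) := by
    obtain ⟨φ, hφ, hm⟩ := exists_inner_of_normalizer hP ⟨y, hyN⟩
    refine ⟨φ, hφ, ?_⟩
    rw [hm, hMy, SpecialLinearGroup.transvection_coe]
    ext i j
    fin_cases i <;> fin_cases j <;> simp [Matrix.single_apply]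
  intro φ hφ
  have hpow : (coordMat hP φ.toMonoidHom) ^ p = 1 := by
    obtain ⟨Θ, hΘ⟩ := exists_autGL' hP
    have h1 : φ ^ p = 1 := by
      rw [← hφ]
      exact pow_orderOf_eq_one φ
    have h2 : (Θ φ) ^ p = 1 := by rw [← map_pow, h1, map_one]
    have h3 := congrArg (fun M : GL (Fin 2) (ZMod p) => M.1) h2
    simp only [Units.val_pow_eq_pow_val, Units.val_one] at h3
    rwa [hΘ] at h3
  have hdet : (coordMat hP φ.toMonoidHom).det = 1 := by
    have h1 := congrArg Matrix.det hpow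
    rw [Matrix.det_pow, Matrix.det_one, ZMod.pow_card] at h1
    exact h1
  obtain ⟨ψ, hψ, hm⟩ := inner_of_transvections hP hs' ht' h01 h10
    ⟨coordMat hP φ.toMonoidHom, hdet⟩
  have hψφ : ψ = φ := coordMat_injective hP hm
  rw [← hψφ]
  exact hψ

end Cfsg.Agent.Helper10.ES3
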