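import Mathlib
import Cfsg.Agent.Helper11.SL2Recog
import Cfsg.Agent.Helper10.ES3Inner

set_option autoImplicit false
set_option linter.unusedSimpArgs false

/-!
# Piece (TORUS-a) of helper23's #5147 (S3054 + S3055): if every automorphism of order `p` of the plane
`W` is induced by conjugation, then so is the torus element `diag(k, l)`, `k l = 1`.
-/

namespace Cfsg.Agent.Helper10.ES3

open Matrix Cfsg.Agent.Helper11.SL2Recog

theorem orderOf_transvection {p : ℕ} [hp : Fact p.Prime] {i j : Fin 2} (hij : i ≠ j) :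
    orderOf (SpecialLinearGroup.transvection hij (1 : ZMod p)) = p := by
  apply orderOf_eq_prime
  · rw [transvection_nsmul, nsmul_eq_mul, mul_one, ZMod.natCast_self,
      SpecialLinearGroup.transvection_coeff_zero]
  · intro h
    have h1 : (SpecialLinearGroup.transvection hij (1 : ZMod p) :
        Matrix (Fin 2) (Fin 2) (ZMod p)) i j = (1 : Matrix (Fin 2) (Fin 2) (ZMod p)) i j := by
      rw [h]
      rfl
    simp only [SpecialLinearGroup.transvection_coe, Matrix.transvection, Matrix.add_apply,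
      Matrix.one_apply_ne hij, Matrix.single_apply_same, zero_add] at h1
    exact one_ne_zero h1

theorem exists_conj_diag {G : Type*} [Group G] {p : ℕ} [hp : Fact p.Prime] {W : Subgroup G}
    {w₁ w₂ : G} (hP : PlaneData p W w₁ w₂)
    (hSL : ∀ φ : MulAut ↥W, orderOf φ = p → ∃ g : G, ∀ x : ↥W, (φ x : G) = g * (x : G) * g⁻¹)
    (k l : ℕ) (hkl : (k : ZMod p) * (l : ZMod p) = 1) :
    ∃ g : G, g * w₁ * g⁻¹ = w₁ ^ k ∧ g * w₂ * g⁻¹ = w₂ ^ l := by
  obtain ⟨Θ, hΘ⟩ := exists_autGL' hP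
  have htr : ∀ {i j : Fin 2} (hij : i ≠ j), ∃ φ ∈ innerAut W, coordMat hP φ.toMonoidHom =
      (SpecialLinearGroup.transvection hij (1 : ZMod p) : Matrix _ _ (ZMod p)) := by
    intro i j hij
    have hord : orderOf (Θ.symm (SpecialLinearGroup.toGL
        (SpecialLinearGroup.transvection hij (1 : ZMod p)))) = p := by
      rw [MulEquiv.orderOf_eq, orderOf_injective SpecialLinearGroup.toGL
        SpecialLinearGroup.toGL_injective, orderOf_transvection hij]
    refine ⟨_, hSL _ hord, ?_⟩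
    rw [← hΘ, MulEquiv.apply_symm_apply]
    rfl
  have hcoord_inj : ∀ x y : ↥W, coord hP x = coord hP y → x = y := by
    intro x y h
    have h1 := congrArg (eFun hP) h
    rwa [eFun_coord, eFun_coord] at h1
  have hdet : (!![(k : ZMod p), 0; 0, (l : ZMod p)] : Matrix (Fin 2) (Fin 2) (ZMod p)).det = 1 := by
    rw [Matrix.det_fin_two_of, mul_zero, sub_zero, hkl]
  obtain ⟨φ, ⟨g, hg⟩, hm⟩ := inner_of_transvections hP (one_ne_zero : (1 : ZMod p) ≠ 0)
    (one_ne_zero : (1 : ZMod p) ≠ 0) (htr zero_ne_one) (htr one_ne_zero)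
    ⟨!![(k : ZMod p), 0; 0, (l : ZMod p)], hdet⟩
  have hact : ∀ x : ↥W, coord hP (φ x) =
      !![(k : ZMod p), 0; 0, (l : ZMod p)] *ᵥ coord hP x := by
    intro x
    have h1 := coordMat_mulVec hP φ.toMonoidHom (coord hP x)
    rw [eFun_coord, hm] at h1
    exact h1.symm
  have hmem : ∀ i j : ℕ, w₁ ^ i * w₂ ^ j ∈ W := fun i j =>
    W.mul_mem (W.pow_mem hP.mem₁ _) (W.pow_mem hP.mem₂ _)
  refine ⟨g, ?_, ?_⟩
  · have e1 : (⟨w₁, hP.mem₁⟩ : ↥W) = ⟨w₁ ^ 1 * w₂ ^ 0, hmem 1 0⟩ := Subtype.ext (by simp)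
    have h1 : φ ⟨w₁, hP.mem₁⟩ = ⟨w₁ ^ k * w₂ ^ 0, hmem k 0⟩ := by
      apply hcoord_inj
      rw [hact, e1, coord_pow_mul, coord_pow_mul]
      ext i
      fin_cases i <;> simp [Matrix.mulVec, dotProduct, Fin.sum_univ_two]
    have h2 := hg ⟨w₁, hP.mem₁⟩
    rw [h1] at h2
    simpa using h2.symm
  · have e1 : (⟨w₂, hP.mem₂⟩ : ↥W) = ⟨w₁ ^ 0 * w₂ ^ 1, hmem 0 1⟩ := Subtype.ext (by simp)
    have h1 : φ ⟨w₂, hP.mem₂⟩ = ⟨w₁ ^ 0 * w₂ ^ l, hmem 0 l⟩ := by
      apply hcoord_inj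
      rw [hact, e1, coord_pow_mul, coord_pow_mul]
      ext i
      fin_cases i <;> simp [Matrix.mulVec, dotProduct, Fin.sum_univ_two]
    have h2 := hg ⟨w₂, hP.mem₂⟩
    rw [h1] at h2
    simpa using h2.symm

end Cfsg.Agent.Helper10.ES3
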