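import Mathlib
import Cfsg.Agent.Helper45.EllDefs
import Cfsg.Agent.Helper68.QSpQF2

/-! (EF2) of helper45's S5988 engine (elliptic spaces): pure arithmetic, `Crit` with `ε = -1` at the
maximal number of blocks gives the right hand side (`StarE`, `EvenRHSE` from `Helper45.EllDefs`).
The `ε = -1` twin of `Helper68.QSpQF2`. (helper10) -/

set_option autoImplicit false

namespace Cfsg.Agent.Helper10.Ell

open Cfsg.Agent.Helper99.QSp
open Cfsg.Agent.Helper45.Ell
open Cfsg.Agent.Helper68.QSp

/-- (EF2), odd `i`. -/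
theorem rhsE_of_crit_odd {i c d e : ℕ} (hi : Odd i) (hc : c = 2 * i) (he : 1 ≤ e) (hed : e < d)
    (hstar : StarE i d e) (hcrit : Crit i c d e ((2 * d) / c) 1 (-1)) :
    c ≤ 2 * e ∧ 0 < (2 * e) % c ∧ (2 * e) % c < (2 * d) % c := by
  unfold StarE at hstar
  subst hc
  have hi0 : 0 < i := hi.pos
  have hc0 : 0 < 2 * i := by omega
  have hbs : ∀ j, bsign i j = 1 := fun j => by
    unfold bsign; rw [if_neg (Nat.not_even_iff_odd.2 hi)]
  obtain ⟨B, hBdef⟩ : ∃ B, (2 * d) / (2 * i) = B := ⟨_, rfl⟩
  obtain ⟨k0, hk0def⟩ : ∃ k0, (2 * d) % (2 * i) = k0 := ⟨_, rfl⟩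
  have hn : B * (2 * i) + k0 = 2 * d := by
    rw [← hBdef, ← hk0def]; exact Nat.div_add_mod' (2 * d) (2 * i)
  have hk0 : k0 < 2 * i := by rw [← hk0def]; exact Nat.mod_lt _ hc0
  rw [hBdef] at hcrit
  obtain ⟨b', hb'B, hb'm, hcase⟩ := hcrit
  -- only the middle case of `Crit` is possible
  have hmid : b' * (2 * i) < 2 * e ∧ 2 * e - b' * (2 * i) < 2 * d - B * (2 * i) := by
    rcases hcase with ⟨_, h2⟩ | h | ⟨_, _, h3⟩
    · rw [hbs] at h2; norm_num at h2
    · exact h
    · rw [hbs, hbs] at h3; norm_num at h3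
  obtain ⟨h1, h2⟩ := hmid
  have hdm := divmod_unique' hc0
    (show 2 * e = b' * (2 * i) + (2 * e - b' * (2 * i)) by omega) (by omega)
  rw [hk0def]
  refine ⟨?_, by omega, by omega⟩
  by_contra hlt
  push Not at hlt
  have hl : (2 * e) % (2 * i) = 2 * e := Nat.mod_eq_of_lt hlt
  have hke : 2 * e < k0 := by omega
  -- a divisor `i ∣ d - k` with `k ≤ e` contradicts `2 e < k0`
  have hfin : ∀ k, k ≤ e → i ∣ d - k → False := by
    intro k hk hdvd
    have h2k : (2 * d) % (2 * i) = 2 * k := mod_star_odd hi0 (by omega) hdvd (by omega)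
    omega
  rcases hstar with ⟨k, hke', hk⟩ | h | h
  · rcases hk with h | ⟨h1', h2'⟩
    · exact hfin k (by omega) h
    · apply h2'
      have hcop : Nat.Coprime i 2 := Nat.coprime_two_right.2 hi
      exact hcop.dvd_of_dvd_mul_left h1'
  · exact hfin (e - 1) (by omega) (by
      have : d - (e - 1) = d - e + 1 := by omega
      rw [this]; exact h)
  · exact hfin e le_rfl h

/-- (EF2), even `i`. -/
theorem rhsE_of_crit_even {i c d e : ℕ} (hi : Even i) (hi0 : 0 < i) (hc : c = i) (he : 1 ≤ e)
    (hed : e < d) (hstar : StarE i d e)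
    (hcrit : ((2 * d) / c * c = 2 * d → bsign i ((2 * d) / c) = 1) →
      Crit i c d e ((2 * d) / c) 1 (-1)) :
    EvenRHSE i c d (2 * e) := by
  unfold StarE at hstar
  unfold EvenRHSE
  subst hc
  have hbs : ∀ j, bsign c j = (-1) ^ j := fun j => by unfold bsign; rw [if_pos hi]
  obtain ⟨B, hBdef⟩ : ∃ B, (2 * d) / c = B := ⟨_, rfl⟩
  obtain ⟨k0, hk0def⟩ : ∃ k0, (2 * d) % c = k0 := ⟨_, rfl⟩
  have hn : B * c + k0 = 2 * d := by
    rw [← hBdef, ← hk0def]; exact Nat.div_add_mod' (2 * d) c
  have hk0 : k0 < c := by rw [← hk0def]; exact Nat.mod_lt _ hi0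
  obtain ⟨M, hMdef⟩ : ∃ M, (2 * e) / c = M := ⟨_, rfl⟩
  obtain ⟨l0, hl0def⟩ : ∃ l0, (2 * e) % c = l0 := ⟨_, rfl⟩
  have hm : M * c + l0 = 2 * e := by
    rw [← hMdef, ← hl0def]; exact Nat.div_add_mod' (2 * e) c
  have hl0 : l0 < c := by rw [← hl0def]; exact Nat.mod_lt _ hi0
  rw [hBdef] at hcrit
  rw [hBdef, hk0def, hMdef, hl0def]
  by_cases hA : l0 = 0 ∧ Odd M
  · obtain ⟨hl, hM⟩ := hA
    by_cases hk : k0 = 0
    · left; exact ⟨hk, Or.inr ⟨hl, hM⟩⟩
    · right
      refine ⟨?_, Or.inr (Or.inr ⟨hl, by omega, hM⟩)⟩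
      have h1M : 1 ≤ M := hM.pos
      nlinarith
  · by_cases hadm : B * c = 2 * d → bsign c B = 1
    · obtain ⟨b', hb'B, hb'm, hcase⟩ := hcrit hadm
      -- the common consequences
      have hcommon : M = b' ∧ 0 < l0 ∧ l0 ≤ k0 ∧ (l0 = k0 → Odd (M + B)) := by
        rcases hcase with ⟨h1, h2⟩ | ⟨h1, h2⟩ | ⟨h1, h2, h3⟩
        · exfalso
          have := divmod_unique' hi0 (show 2 * e = b' * c + 0 by omega) hi0
          rw [hMdef, hl0def] at this
          apply hA
          refine ⟨this.2, ?_⟩
          rw [this.1]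
          rw [hbs] at h2
          by_contra hodd
          rw [Nat.not_odd_iff_even] at hodd
          rw [hodd.neg_one_pow] at h2
          norm_num at h2
        · have := divmod_unique' hi0
            (show 2 * e = b' * c + (2 * e - b' * c) by omega) (by omega)
          rw [hMdef, hl0def] at this
          refine ⟨this.1, by omega, by omega, fun h => by omega⟩
        · have := divmod_unique' hi0
            (show 2 * e = b' * c + (2 * e - b' * c) by omega) (by omega)
          rw [hMdef, hl0def] at this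
          refine ⟨this.1, by omega, by omega, fun _ => ?_⟩
          rw [hbs, hbs, one_mul, ← pow_add] at h3
          rw [this.1]
          by_contra hodd
          rw [Nat.not_odd_iff_even] at hodd
          rw [hodd.neg_one_pow] at h3
          norm_num at h3
      obtain ⟨hMb, hlpos, hlk, hpar⟩ := hcommon
      -- `c ≤ 2 e`
      have hcm : c ≤ 2 * e := by
        by_contra hlt
        push Not at hlt
        have hM0 : M = 0 := by
          rcases Nat.eq_zero_or_pos M with h | h
          · exact h
          · exfalso; nlinarith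
        have hl2e : l0 = 2 * e := by rw [hM0] at hm; omega
        rcases hstar with ⟨k, hke, hk⟩ | h | h
        · rcases hk with h | ⟨h1, h2⟩
          · have := mod_star1 hi0 (by omega) h (by omega)
            omega
          · have h3 := mod_star2 hi0 (by omega) h1 (by omega)
            omega
        · have h' : c ∣ d - (e - 1) := by
            have : d - (e - 1) = d - e + 1 := by omega
            rw [this]; exact h
          have := mod_star1 hi0 (by omega) h' (by omega)
          omega
        · have h3 := mod_star1 hi0 hed h (by omega)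
          have hBo : Odd B := by
            have := hpar (by omega)
            rw [hM0, zero_add] at this
            exact this
          obtain ⟨t, ht⟩ := h
          have hB2 : B * c = 2 * (c * t) := by omega
          have hB2' : B * c = (2 * t) * c := by rw [hB2]; ring
          have hBt : B = 2 * t := Nat.eq_of_mul_eq_mul_right hi0 hB2'
          rw [hBt] at hBo
          exact (Nat.not_even_iff_odd.2 hBo) (even_two_mul t)
      right
      refine ⟨hcm, ?_⟩
      rcases lt_or_eq_of_le hlk with h | h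
      · exact Or.inl ⟨hlpos, h⟩
      · refine Or.inr (Or.inl ⟨hlpos, h, ?_⟩)
        have h5 : 2 * d + 2 * e - 2 * k0 = (B + M) * c := by
          rw [add_mul]; omega
        rw [h5, Nat.mul_div_cancel _ hi0, add_comm]
        exact hpar h
    · push Not at hadm
      obtain ⟨h1, h2⟩ := hadm
      left
      refine ⟨by omega, Or.inl ?_⟩
      rw [hbs] at h2
      by_contra hodd
      rw [Nat.not_odd_iff_even] at hodd
      exact h2 hodd.neg_one_pow

end Cfsg.Agent.Helper10.Ell
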