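import Mathlib
set_option autoImplicit false
open scoped commutatorElement

namespace Cfsg.Agent.Helper10.Engel

variable {E : Type*} [Group E]

theorem hallWitt (a b c : E) :
    (a * ⁅b, ⁅a⁻¹, c⁆⁆ * a⁻¹) * (c * ⁅a, ⁅c⁻¹, b⁆⁆ * c⁻¹) * (b * ⁅c, ⁅b⁻¹, a⁆⁆ * b⁻¹) = 1 := by
  simp only [commutatorElement_def]
  group

theorem comm_mul_right (x y z : E) : ⁅x, y * z⁆ = ⁅x, y⁆ * (y * ⁅x, z⁆ * y⁻¹) := by
  simp only [commutatorElement_def]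
  group

/-- conjugation fixes what it commutes with -/
theorem conj_eq_of_commute {g a : E} (h : Commute g a) : g * a * g⁻¹ = a := by
  rw [h.eq, mul_inv_cancel_right]

section engel
variable (hE : ∀ x g : E, Commute x (g * x * g⁻¹))
include hE

theorem commute_left (a b : E) : Commute a ⁅a, b⁆ := by
  have h1 : ⁅a, b⁆ = a * (b * a * b⁻¹)⁻¹ := by
    rw [commutatorElement_def]; group
  rw [h1]
  exact (Commute.refl a).mul_right (hE a b).inv_right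

theorem commute_right (a b : E) : Commute b ⁅a, b⁆ := by
  have h1 : ⁅a, b⁆ = (a * b * a⁻¹) * b⁻¹ := by
    rw [commutatorElement_def]
  rw [h1]
  exact (hE b a).mul_right (Commute.refl b).inv_right

theorem comm_inv_left (g z : E) : ⁅g⁻¹, z⁆ = ⁅g, z⁆⁻¹ := by
  have h1 : ⁅g⁻¹, z⁆ = g⁻¹ * ⁅g, z⁆⁻¹ * g := by
    simp only [commutatorElement_def]; group
  have h2 : Commute g ⁅g, z⁆⁻¹ := (commute_left hE g z).inv_right
  rw [h1, mul_assoc, ← h2.eq, inv_mul_cancel_left]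

theorem comm_inv_right (g z : E) : ⁅g, z⁻¹⁆ = ⁅g, z⁆⁻¹ := by
  have h1 : ⁅g, z⁻¹⁆ = z⁻¹ * ⁅g, z⁆⁻¹ * z := by
    simp only [commutatorElement_def]; group
  have h2 : Commute z ⁅g, z⁆⁻¹ := (commute_right hE g z).inv_right
  rw [h1, mul_assoc, ← h2.eq, inv_mul_cancel_left]

/-- antisymmetry in the first two arguments -/
theorem T12 (x y z : E) : ⁅⁅x, y⁆, z⁆ = ⁅⁅y, x⁆, z⁆⁻¹ := by
  rw [← commutatorElement_inv y x, comm_inv_left hE]

theorem T_commute_fst (x y z : E) : Commute x ⁅⁅x, y⁆, z⁆ := by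
  -- from `⁅x, z * y⁆`
  have he : Commute x ⁅x, z * y⁆ := commute_left hE x (z * y)
  rw [comm_mul_right] at he
  have hc : Commute x ⁅x, z⁆ := commute_left hE x z
  have hd : Commute x ⁅x, y⁆ := commute_left hE x y
  have h1 : Commute x (z * ⁅x, y⁆ * z⁻¹) := by
    have := hc.inv_right.mul_right he
    rwa [inv_mul_cancel_left] at this
  have h2 : z * ⁅x, y⁆ * z⁻¹ = ⁅z, ⁅x, y⁆⁆ * ⁅x, y⁆ := by
    simp only [commutatorElement_def]; group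
  rw [h2] at h1
  have h3 : Commute x ⁅z, ⁅x, y⁆⁆ := by
    have := h1.mul_right hd.inv_right
    rwa [mul_inv_cancel_right] at this
  rw [← commutatorElement_inv z ⁅x, y⁆]
  exact h3.inv_right

theorem T_commute_snd (x y z : E) : Commute y ⁅⁅x, y⁆, z⁆ := by
  rw [T12 hE]
  exact (T_commute_fst hE y x z).inv_right

theorem T_commute_thd (x y z : E) : Commute z ⁅⁅x, y⁆, z⁆ := commute_right hE _ _

theorem T_commute_comm (x y z : E) : Commute ⁅x, y⁆ ⁅⁅x, y⁆, z⁆ := commute_left hE _ _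

/-- antisymmetry in the last two arguments -/
theorem T23 (x y z : E) : ⁅⁅x, z⁆, y⁆ = ⁅⁅x, y⁆, z⁆⁻¹ := by
  set c := ⁅x, y⁆ with hc
  set d := ⁅x, z⁆ with hd
  set T := ⁅c, z⁆ with hT
  set T' := ⁅d, y⁆ with hT'
  have he : Commute (y * z) ⁅x, y * z⁆ := commute_right hE x (y * z)
  have h1 : y * d * y⁻¹ = T'⁻¹ * d := by
    rw [hT']; simp only [commutatorElement_def]; group
  have e1 : ⁅x, y * z⁆ = c * (T'⁻¹ * d) := by
    rw [comm_mul_right, h1]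
  -- conjugation by z
  have z1 : z * c * z⁻¹ = T⁻¹ * c := by
    rw [hT]; simp only [commutatorElement_def]; group
  have z2 : z * T'⁻¹ * z⁻¹ = T'⁻¹ := conj_eq_of_commute (T_commute_snd hE x z y).inv_right
  have z3 : z * d * z⁻¹ = d := conj_eq_of_commute (commute_right hE x z)
  -- conjugation by y
  have y1 : y * T⁻¹ * y⁻¹ = T⁻¹ := conj_eq_of_commute (T_commute_snd hE x y z).inv_right
  have y2 : y * c * y⁻¹ = c := conj_eq_of_commute (commute_right hE x y)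
  have y3 : y * T'⁻¹ * y⁻¹ = T'⁻¹ := conj_eq_of_commute (T_commute_thd hE x z y).inv_right
  have hz : z * (c * (T'⁻¹ * d)) * z⁻¹ = T⁻¹ * c * (T'⁻¹ * d) := by
    have : z * (c * (T'⁻¹ * d)) * z⁻¹ = (z * c * z⁻¹) * ((z * T'⁻¹ * z⁻¹) * (z * d * z⁻¹)) := by group
    rw [this, z1, z2, z3]
  have hy : y * (T⁻¹ * c * (T'⁻¹ * d)) * y⁻¹ = T⁻¹ * c * (T'⁻¹ * (T'⁻¹ * d)) := by
    have : y * (T⁻¹ * c * (T'⁻¹ * d)) * y⁻¹ =
        (y * T⁻¹ * y⁻¹) * (y * c * y⁻¹) * ((y * T'⁻¹ * y⁻¹) * (y * d * y⁻¹)) := by group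
    rw [this, y1, y2, y3, h1]
  have hyz : (y * z) * (c * (T'⁻¹ * d)) * (y * z)⁻¹ = c * (T'⁻¹ * d) := by
    rw [← e1]; exact conj_eq_of_commute he
  have hkey : T⁻¹ * c * (T'⁻¹ * (T'⁻¹ * d)) = c * (T'⁻¹ * d) := by
    calc T⁻¹ * c * (T'⁻¹ * (T'⁻¹ * d)) = y * (T⁻¹ * c * (T'⁻¹ * d)) * y⁻¹ := hy.symm
      _ = y * (z * (c * (T'⁻¹ * d)) * z⁻¹) * y⁻¹ := by rw [hz]
      _ = (y * z) * (c * (T'⁻¹ * d)) * (y * z)⁻¹ := by group
      _ = c * (T'⁻¹ * d) := hyz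
  have hcT : T⁻¹ * c = c * T⁻¹ := ((T_commute_comm hE x y z).inv_right.eq).symm
  rw [hcT] at hkey
  have h2 : T⁻¹ * T'⁻¹ = 1 := by
    have h3 : c * ((T⁻¹ * T'⁻¹) * (T'⁻¹ * d)) = c * (1 * (T'⁻¹ * d)) := by
      rw [one_mul, ← hkey]; group
    exact mul_right_cancel (mul_left_cancel h3)
  have h4 : T' = T⁻¹ := by
    have := eq_inv_of_mul_eq_one_right h2
    rw [inv_inv] at this
    exact inv_eq_iff_eq_inv.mp this
  exact h4

/-- **Levi**: in a group where every element commutes with its conjugates, triple commutators have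
order dividing `3`. -/
theorem T_pow_three (a b c : E) : ⁅⁅a, b⁆, c⁆ ^ 3 = 1 := by
  set T := ⁅⁅a, b⁆, c⁆ with hT
  have t1 : b * ⁅c, ⁅b⁻¹, a⁆⁆ * b⁻¹ = T⁻¹ := by
    have h1 : ⁅b⁻¹, a⁆ = ⁅a, b⁆ := by
      rw [comm_inv_left hE, commutatorElement_inv]
    rw [h1, ← commutatorElement_inv ⁅a, b⁆ c, ← hT]
    exact conj_eq_of_commute (T_commute_snd hE a b c).inv_right
  have hcyc1 : ⁅⁅b, c⁆, a⁆ = T := by
    rw [T12 hE b c a, T23 hE c a b, inv_inv, T12 hE c a b, T23 hE a b c, inv_inv]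
  have hcyc2 : ⁅⁅c, a⁆, b⁆ = T := by
    rw [T12 hE c a b, T23 hE a b c, inv_inv]
  have t2 : c * ⁅a, ⁅c⁻¹, b⁆⁆ * c⁻¹ = T⁻¹ := by
    have h1 : ⁅c⁻¹, b⁆ = ⁅b, c⁆ := by
      rw [comm_inv_left hE, commutatorElement_inv]
    rw [h1, ← commutatorElement_inv ⁅b, c⁆ a, hcyc1]
    have := (T_commute_snd hE b c a)
    rw [hcyc1] at this
    exact conj_eq_of_commute this.inv_right
  have t3 : a * ⁅b, ⁅a⁻¹, c⁆⁆ * a⁻¹ = T⁻¹ := by
    have h1 : ⁅a⁻¹, c⁆ = ⁅c, a⁆ := by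
      rw [comm_inv_left hE, commutatorElement_inv]
    rw [h1, ← commutatorElement_inv ⁅c, a⁆ b, hcyc2]
    have := (T_commute_snd hE c a b)
    rw [hcyc2] at this
    exact conj_eq_of_commute this.inv_right
  have hw := hallWitt a b c
  rw [t1, t2, t3] at hw
  have : (T ^ 3)⁻¹ = 1 := by
    rw [← hw, pow_succ, pow_two]; group
  rwa [inv_eq_one] at this

end engel


section fpf3
variable {G : Type*} [Group G]

/-- If `(f τ)^3 = 1` for all `f ∈ F`, then `f · f^τ · f^{τ⁻¹} = 1` and `f` commutes with `τ f τ⁻¹`. -/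
theorem norm_eq_one_of_cube (F : Subgroup G) (τ : G) (hτ : ∀ f ∈ F, (f * τ) ^ 3 = 1) :
    ∀ f ∈ F, f * (τ * f * τ⁻¹) * (τ⁻¹ * f * τ) = 1 := by
  have hτ3 : τ ^ 3 = 1 := by simpa using hτ 1 F.one_mem
  intro f hf
  have h1 : f * (τ * f * τ⁻¹) * (τ⁻¹ * f * τ) = (f * τ) ^ 2 * (τ ^ 3)⁻¹ * (f * τ) := by
    simp only [pow_succ, pow_zero, one_mul]; group
  rw [h1, hτ3, inv_one, mul_one, ← pow_succ]
  exact hτ f hf

theorem commute_conj_of_cube (F : Subgroup G) (τ : G) (hτ : ∀ f ∈ F, (f * τ) ^ 3 = 1) :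
    ∀ f ∈ F, Commute f (τ * f * τ⁻¹) := by
  intro f hf
  have h1 := norm_eq_one_of_cube F τ hτ f hf
  have h2 := norm_eq_one_of_cube F τ hτ f⁻¹ (F.inv_mem hf)
  -- invert h2
  have h3 : (τ⁻¹ * f * τ) * (τ * f * τ⁻¹) * f = 1 := by
    have := congrArg (fun x => x⁻¹) h2
    simpa [mul_inv_rev, mul_assoc] using this
  have h4 : f * (τ * f * τ⁻¹) = (τ⁻¹ * f * τ)⁻¹ := eq_inv_of_mul_eq_one_left h1
  have h5 : (τ * f * τ⁻¹) * f = (τ⁻¹ * f * τ)⁻¹ := by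
    have : (τ⁻¹ * f * τ) * ((τ * f * τ⁻¹) * f) = 1 := by rw [← mul_assoc]; exact h3
    exact eq_inv_of_mul_eq_one_right this
  exact h4.trans h5.symm

/-- A normal subgroup `F` on which `t` and `t⁻¹` act "fixed point freely with order three"
in the strong sense that all elements of `F t ∪ F t⁻¹` have cube one, is 2-Engel. -/
theorem engel_of_fpf3 (F : Subgroup G) [F.Normal] (t : G) (h3 : ∀ f ∈ F, (f * t) ^ 3 = 1)
    (h3' : ∀ f ∈ F, (f * t⁻¹) ^ 3 = 1) : ∀ f ∈ F, ∀ g ∈ F, Commute f (g * f * g⁻¹) := by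
  intro f hf g hg
  have hτ1 : ∀ f ∈ F, (f * (g * t)) ^ 3 = 1 := fun f hf => by
    rw [← mul_assoc]; exact h3 _ (F.mul_mem hf hg)
  have hτ2 : ∀ f ∈ F, (f * (g * t⁻¹)) ^ 3 = 1 := fun f hf => by
    rw [← mul_assoc]; exact h3' _ (F.mul_mem hf hg)
  have c1 := commute_conj_of_cube F (g * t) hτ1 f hf
  have c2 := commute_conj_of_cube F (g * t⁻¹) hτ2 f hf
  have n1 := norm_eq_one_of_cube F t h3 f hf
  have h1 : (g * f * g⁻¹)⁻¹ = ((g * t) * f * (g * t)⁻¹) * ((g * t⁻¹) * f * (g * t⁻¹)⁻¹) := by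
    have h2 : f⁻¹ = (t * f * t⁻¹) * (t⁻¹ * f * t) := by
      have : f * ((t * f * t⁻¹) * (t⁻¹ * f * t)) = 1 := by rw [← mul_assoc]; exact n1
      exact (eq_inv_of_mul_eq_one_right this).symm ▸ rfl
    have h3 : (g * f * g⁻¹)⁻¹ = g * f⁻¹ * g⁻¹ := by group
    rw [h3, h2]; group
  have h2 : Commute f (g * f * g⁻¹)⁻¹ := by
    rw [h1]; exact c1.mul_right c2
  simpa using h2.inv_right

/-- **Class two**: such an `F` of exponent dividing four has nilpotency class at most two. -/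
theorem class_two_of_fpf3 (F : Subgroup G) [F.Normal] (t : G) (h4 : ∀ f ∈ F, f ^ 4 = 1)
    (h3 : ∀ f ∈ F, (f * t) ^ 3 = 1) (h3' : ∀ f ∈ F, (f * t⁻¹) ^ 3 = 1) :
    ∀ x ∈ F, ∀ y ∈ F, ∀ z ∈ F, ⁅⁅x, y⁆, z⁆ = 1 := by
  have hE : ∀ x g : F, Commute x (g * x * g⁻¹) := by
    intro x g
    have := engel_of_fpf3 F t h3 h3' x x.2 g g.2
    exact Subtype.ext this.eq
  intro x hx y hy z hz
  set x' : F := ⟨x, hx⟩ with hx'
  set y' : F := ⟨y, hy⟩ with hy'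
  set z' : F := ⟨z, hz⟩ with hz'
  have h1 := T_pow_three hE x' y' z'
  have h2 : ⁅⁅x', y'⁆, z'⁆ ^ 4 = 1 :=
    Subtype.ext (by simpa using h4 _ (⁅⁅x', y'⁆, z'⁆).2)
  have h5 : ⁅⁅x', y'⁆, z'⁆ = 1 := by
    have := h2
    rw [pow_succ, h1, one_mul] at this
    exact this
  have h6 := congrArg (F.subtype) h5
  simpa [map_commutatorElement] using h6


theorem norm_eq_one_of_cube' (F : Subgroup G) (τ : G) (hτ : ∀ f ∈ F, (f * τ) ^ 3 = 1) :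
    ∀ f ∈ F, (τ⁻¹ * f * τ) * (τ * f * τ⁻¹) * f = 1 := by
  intro f hf
  have h2 := norm_eq_one_of_cube F τ hτ f⁻¹ (F.inv_mem hf)
  have := congrArg (fun x => x⁻¹) h2
  simpa [mul_inv_rev, mul_assoc] using this

/-- the centre of `F`, as a subgroup of the ambient group -/
def cen (F : Subgroup G) : Subgroup G := F ⊓ Subgroup.centralizer (F : Set G)

theorem mem_cen {F : Subgroup G} {k : G} : k ∈ cen F ↔ k ∈ F ∧ ∀ g ∈ F, g * k = k * g := by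
  unfold cen
  rw [Subgroup.mem_inf, Subgroup.mem_centralizer_iff]
  rfl

theorem conj_mem_cen (F : Subgroup G) [hF : F.Normal] {k : G} (hk : k ∈ cen F) (g : G) :
    g * k * g⁻¹ ∈ cen F := by
  rw [mem_cen] at hk ⊢
  refine ⟨hF.conj_mem k hk.1 g, fun x hx => ?_⟩
  have hx' : g⁻¹ * x * g ∈ F := by
    have := hF.conj_mem x hx g⁻¹
    simpa using this
  have := hk.2 _ hx'
  calc x * (g * k * g⁻¹) = g * ((g⁻¹ * x * g) * k) * g⁻¹ := by group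
    _ = g * (k * (g⁻¹ * x * g)) * g⁻¹ := by rw [this]
    _ = g * k * g⁻¹ * x := by group

/-- If `w` is an involution and `(a w)^4 = 1`, then `(a · a^w)^2 = 1`. -/
theorem sq_mul_conj_of_pow_four {w a : G} (hw : w * w = 1) (h : (a * w) ^ 4 = 1) :
    (a * (w * a * w⁻¹)) ^ 2 = 1 := by
  have hwinv : w⁻¹ = w := inv_eq_of_mul_eq_one_left hw
  have h1 : a * (w * a * w⁻¹) = (a * w) ^ 2 := by
    rw [hwinv, pow_two]; group
  rw [h1, ← pow_mul]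
  exact h

/-- In class two, `(a b)^2 = 1` and `a^4 = 1` give `b^2 = a^2 k` with `k` central. -/
theorem sq_eq_sq_mul_cen (F : Subgroup G) [hF : F.Normal]
    (c2 : ∀ x ∈ F, ∀ y ∈ F, ∀ z ∈ F, ⁅⁅x, y⁆, z⁆ = 1) {a b : G} (ha : a ∈ F) (hb : b ∈ F)
    (ha4 : a ^ 4 = 1) (hab : (a * b) ^ 2 = 1) : ∃ k ∈ cen F, b ^ 2 = a ^ 2 * k := by
  refine ⟨⁅a, b⁆, ?_, ?_⟩
  · rw [mem_cen]
    refine ⟨?_, fun g hg => ?_⟩
    · rw [commutatorElement_def]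
      exact F.mul_mem (F.mul_mem (F.mul_mem ha hb) (F.inv_mem ha)) (F.inv_mem hb)
    · exact ((commutatorElement_eq_one_iff_commute.mp (c2 a ha b hb g hg)).eq).symm
  · have hc : Commute ⁅a, b⁆ a := commutatorElement_eq_one_iff_commute.mp (c2 a ha b hb a ha)
    have h1 : a * b * (a * b) = 1 := by rw [← pow_two]; exact hab
    -- b * a = ⁅b, a⁆ * a * b, so a * ⁅b,a⁆ * a * b * b = 1
    have h2 : b ^ 2 = (a ^ 2)⁻¹ * ⁅a, b⁆ := by
      have h3 : a * b * (a * b) = a ^ 2 * ⁅a, b⁆⁻¹ * b ^ 2 := by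
        have : a * b * (a * b) = a * (⁅a, b⁆⁻¹ * a) * b ^ 2 := by
          rw [commutatorElement_def, pow_two]; group
        rw [this, hc.inv_left.eq]
        simp only [pow_two, mul_assoc]
      rw [h1] at h3
      have h4 : (a ^ 2 * ⁅a, b⁆⁻¹)⁻¹ = b ^ 2 := inv_eq_of_mul_eq_one_right h3.symm
      rw [← h4, mul_inv_rev, inv_inv]
      exact ((hc.pow_right 2).inv_right).eq
    have h5 : (a ^ 2)⁻¹ = a ^ 2 := by
      apply inv_eq_of_mul_eq_one_right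
      rw [← pow_add]; exact ha4
    rw [h2, h5]


/-- Step A: an involution `w` with `(f w)^4 = 1` on `F` moves squares by central elements. -/
theorem conj_sq_eq_of_invol (F : Subgroup G) [hF : F.Normal]
    (c2 : ∀ x ∈ F, ∀ y ∈ F, ∀ z ∈ F, ⁅⁅x, y⁆, z⁆ = 1) (h4 : ∀ f ∈ F, f ^ 4 = 1)
    {w : G} (hw : w * w = 1) (hw4 : ∀ f ∈ F, (f * w) ^ 4 = 1) {a : G} (ha : a ∈ F) :
    ∃ k ∈ cen F, w * a ^ 2 * w⁻¹ = a ^ 2 * k := by
  have hb : w * a * w⁻¹ ∈ F := hF.conj_mem a ha w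
  obtain ⟨k, hk, hk2⟩ := sq_eq_sq_mul_cen F c2 ha hb (h4 a ha)
    (sq_mul_conj_of_pow_four hw (hw4 a ha))
  exact ⟨k, hk, by rw [← hk2, conj_pow]⟩

/-- Step B: composite of two such involutions. -/
theorem conj_sq_eq_of_two_invol (F : Subgroup G) [hF : F.Normal]
    (c2 : ∀ x ∈ F, ∀ y ∈ F, ∀ z ∈ F, ⁅⁅x, y⁆, z⁆ = 1) (h4 : ∀ f ∈ F, f ^ 4 = 1)
    {s w : G} (hw : w * w = 1) (hsw : (s * w) * (s * w) = 1)
    (hw4 : ∀ f ∈ F, (f * w) ^ 4 = 1) (hsw4 : ∀ f ∈ F, (f * (s * w)) ^ 4 = 1)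
    {a : G} (ha : a ∈ F) : ∃ k ∈ cen F, s * a ^ 2 * s⁻¹ = a ^ 2 * k := by
  obtain ⟨k₁, hk₁, e₁⟩ := conj_sq_eq_of_invol F c2 h4 hw hw4 ha
  obtain ⟨k₂, hk₂, e₂⟩ := conj_sq_eq_of_invol F c2 h4 hsw hsw4 ha
  refine ⟨k₂ * ((s * w) * k₁ * (s * w)⁻¹), (cen F).mul_mem hk₂ (conj_mem_cen F hk₁ _), ?_⟩
  have hwinv : w⁻¹ = w := inv_eq_of_mul_eq_one_left hw
  have h1 : s * a ^ 2 * s⁻¹ = (s * w) * (w * a ^ 2 * w⁻¹) * (s * w)⁻¹ := by
    have : (s * w) * (w * a ^ 2 * w⁻¹) * (s * w)⁻¹ = s * (w * w) * a ^ 2 * (w * w)⁻¹ * s⁻¹ := by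
      group
    rw [this, hw]; group
  rw [h1, e₁]
  have h2 : (s * w) * (a ^ 2 * k₁) * (s * w)⁻¹ =
      ((s * w) * a ^ 2 * (s * w)⁻¹) * ((s * w) * k₁ * (s * w)⁻¹) := by group
  rw [h2, e₂, mul_assoc]

/-- **Exponent two**: the `S₃` case. -/
theorem exp_two_of_S3 (F : Subgroup G) [hF : F.Normal] (t u : G) (h4 : ∀ f ∈ F, f ^ 4 = 1)
    (h3 : ∀ f ∈ F, (f * t) ^ 3 = 1) (h3' : ∀ f ∈ F, (f * t⁻¹) ^ 3 = 1)
    (hu : u * u = 1) (htu : (t * u) * (t * u) = 1) (htu' : (t⁻¹ * u) * (t⁻¹ * u) = 1)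
    (hw0 : ∀ f ∈ F, (f * u) ^ 4 = 1) (hw1 : ∀ f ∈ F, (f * (t * u)) ^ 4 = 1)
    (hw2 : ∀ f ∈ F, (f * (t⁻¹ * u)) ^ 4 = 1) : ∀ a ∈ F, a ^ 2 = 1 := by
  have c2 := class_two_of_fpf3 F t h4 h3 h3'
  -- squares are central
  have hsq : ∀ a ∈ F, a ^ 2 ∈ cen F := by
    intro a ha
    obtain ⟨k, hk, e⟩ := conj_sq_eq_of_two_invol F c2 h4 hu htu hw0 hw1 ha
    obtain ⟨k', hk', e'⟩ := conj_sq_eq_of_two_invol F c2 h4 hu htu' hw0 hw2 ha
    have ha2 : a ^ 2 ∈ F := F.pow_mem ha 2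
    have n := norm_eq_one_of_cube F t h3 (a ^ 2) ha2
    rw [e] at n
    have e'' : t⁻¹ * a ^ 2 * t = a ^ 2 * k' := by simpa using e'
    rw [e''] at n
    -- a^2 * (a^2 * k) * (a^2 * k') = 1
    have hk1 : a ^ 2 * k = k * a ^ 2 := (mem_cen.mp hk).2 _ ha2
    have hk2 : a ^ 2 * k' = k' * a ^ 2 := (mem_cen.mp hk').2 _ ha2
    have h6 : a ^ 2 * (a ^ 2 * k) * (a ^ 2 * k') = a ^ 6 * (k * k') := by
      calc a ^ 2 * (a ^ 2 * k) * (a ^ 2 * k') = a ^ 2 * a ^ 2 * (k * a ^ 2) * k' := by group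
        _ = a ^ 2 * a ^ 2 * (a ^ 2 * k) * k' := by rw [hk1]
        _ = a ^ 6 * (k * k') := by
          rw [show (6 : ℕ) = 2 + 2 + 2 from rfl, pow_add, pow_add]; group
    rw [h6] at n
    have h7 : a ^ 6 = a ^ 2 := by
      rw [show (6 : ℕ) = 4 + 2 from rfl, pow_add, h4 a ha, one_mul]
    rw [h7] at n
    have h8 : a ^ 2 = (k * k')⁻¹ := eq_inv_of_mul_eq_one_left n
    rw [h8]
    exact (cen F).inv_mem ((cen F).mul_mem hk hk')
  intro a ha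
  set b₀ := u * a * u⁻¹ with hb₀
  have hb₀F : b₀ ∈ F := hF.conj_mem a ha u
  have r0 : (a * b₀) ^ 2 = 1 := sq_mul_conj_of_pow_four hu (hw0 a ha)
  have r1 : (a * (t * b₀ * t⁻¹)) ^ 2 = 1 := by
    have := sq_mul_conj_of_pow_four htu (hw1 a ha)
    have e : (t * u) * a * (t * u)⁻¹ = t * b₀ * t⁻¹ := by rw [hb₀]; group
    rwa [e] at this
  have r2 : (a * (t⁻¹ * b₀ * t)) ^ 2 = 1 := by
    have := sq_mul_conj_of_pow_four htu' (hw2 a ha)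
    have e : (t⁻¹ * u) * a * (t⁻¹ * u)⁻¹ = t⁻¹ * b₀ * t := by rw [hb₀]; group
    rwa [e] at this
  have n' := norm_eq_one_of_cube' F t h3 b₀ hb₀F
  have n0 := norm_eq_one_of_cube F t h3 b₀ hb₀F
  -- a b a = b⁻¹
  have key : ∀ b : G, (a * b) ^ 2 = 1 → a * b * a = b⁻¹ := by
    intro b hb
    rw [pow_two] at hb
    have : (a * b * a) * b = 1 := by rw [← hb]; group
    exact eq_inv_of_mul_eq_one_left this
  have k0 := key _ r0
  have k1 := key _ r1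
  have k2 := key _ r2
  set b₁ := t * b₀ * t⁻¹ with hb₁
  set b₂ := t⁻¹ * b₀ * t with hb₂
  have hb₁F : b₁ ∈ F := hF.conj_mem b₀ hb₀F t
  have hb₂F : b₂ ∈ F := by
    have := hF.conj_mem b₀ hb₀F t⁻¹
    simpa using this
  -- (a b₀ a)(a b₁ a)(a b₂ a) = (b₂ b₁ b₀)⁻¹ = 1
  have hprod : (a * b₀ * a) * (a * b₁ * a) * (a * b₂ * a) = 1 := by
    rw [k0, k1, k2]
    have : b₀⁻¹ * b₁⁻¹ * b₂⁻¹ = (b₂ * b₁ * b₀)⁻¹ := by group
    rw [this, n', inv_one]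
  set s := a ^ 2 with hs
  have hsF : s ∈ F := F.pow_mem ha 2
  have hsc := hsq a ha
  rw [← hs] at hsc
  have c1 : Commute s b₁ := ((mem_cen.mp hsc).2 _ hb₁F).symm
  have c2' : Commute s b₂ := ((mem_cen.mp hsc).2 _ hb₂F).symm
  have ca : Commute s a := ((mem_cen.mp hsc).2 _ ha).symm
  have h9 : (a * b₀ * a) * (a * b₁ * a) * (a * b₂ * a) = a * (b₀ * b₁ * b₂) * a * (s * s) := by
    have e1 : (a * b₀ * a) * (a * b₁ * a) * (a * b₂ * a)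
        = a * (b₀ * (s * (b₁ * (s * (b₂ * a))))) := by
      rw [hs, pow_two]; simp only [mul_assoc]
    rw [e1, c1.left_comm, c2'.left_comm, c2'.left_comm, ca.eq, ca.left_comm]
    simp only [mul_assoc]
  rw [h9, n0, mul_one] at hprod
  -- a * a * (s * s) = a^6 = 1
  have h10 : a ^ 6 = 1 := by
    rw [← hprod, hs]
    simp only [pow_succ, pow_zero, one_mul, mul_assoc]
  have h11 : a ^ 6 = a ^ 2 := by
    rw [show (6 : ℕ) = 4 + 2 from rfl, pow_add, h4 a ha, one_mul]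
  rw [hs] at *
  rw [← h11, h10]

end fpf3

end Cfsg.Agent.Helper10.Engel
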