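import Cfsg.Agent.Helper36.F4Odd.Defs2
import Cfsg.Agent.Helper36.SigmaWeyl

/-!
# (DS) for helper36 (S4280): representatives of different elements of `W(F₄)` are different modulo
`H`.
-/

set_option autoImplicit false
set_option maxRecDepth 100000

namespace Cfsg.Agent.Helper10.F4Odd

open Cfsg Cfsg.Lie Cfsg.Agent.Helper18 Cfsg.Agent.Helper36.F4Odd Cfsg.Agent.Helper19.Twist
  Cfsg.Agent.Helper36.FieldFix

variable {F : Type*} [Field F]

/-- (DS) representatives of different elements of `W` are different modulo `H`. -/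
theorem nW_dist (w w' : List ℕ) (hw : ∀ i ∈ w, i < 4) (hw' : ∀ i ∈ w', i < 4)
    (h : (nW (F := F) w)⁻¹ * nW w' ∈ chevF4.diagonalSubgroup F) : ∀ x < 48, aW w x = aW w' x := by
  intro x hx
  obtain ⟨c, hc⟩ := (mem_diagonal_iff _).1 h
  have hw'eq : nW (F := F) w' = nW w * tor c := by
    rw [← hc]
    group
  obtain ⟨hlt, η, hη, hconj⟩ := nW_conj (F := F) w hw x hx
  obtain ⟨hlt', η', hη', hconj'⟩ := nW_conj (F := F) w' hw' x hx
  have e1 : nW (F := F) w' * X x 1 * (nW w')⁻¹ =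
      X (rho chevF4 w x) (η * ((chr x c : Fˣ) * 1)) := by
    rw [hw'eq]
    have e : nW w * tor c * X x 1 * (nW w * tor c)⁻¹ =
        nW w * (tor c * X x (1 : F) * (tor c)⁻¹) * (nW w)⁻¹ := by group
    rw [e, tor_conj c x hx, hconj]
  have e2 := hconj' 1
  rw [e1] at e2
  have hη0 : η * (((chr x c : Fˣ) : F) * 1) ≠ 0 := by
    have h1 : η ≠ 0 := by
      rcases hη with rfl | rfl
      · exact one_ne_zero
      · exact neg_ne_zero.mpr one_ne_zero
    exact mul_ne_zero h1 (mul_ne_zero (Units.ne_zero _) one_ne_zero)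
  have hroot : rho chevF4 w x = rho chevF4 w' x :=
    xGL_root_inj chevF4 24 (triOK_of_mem chevF4 hF4) Cfsg.Agent.Helper36.SigmaChev.rootInjOK_F4 _ _ hlt hlt' _ _
      hη0 e2
  rw [(aW_eq_rho w hw x hx).1, (aW_eq_rho w' hw' x hx).1, hroot]

end Cfsg.Agent.Helper10.F4Odd
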