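import Mathlib
import Cfsg.Agent.Helper76.PGroup

set_option autoImplicit false

namespace Cfsg.Agent.Helper10.FV

open Subgroup
open scoped commutatorElement

/-- A 2-group of order `2 ^ n` with an element `g` of order `2 ^ (n - 1)` and `x g x⁻¹ = g ^ r`,
`4 ∣ r + 1`, has derived subgroup `⟨g²⟩` of index 4. -/
theorem index_commutator_of_cyclic_max {Q : Type*} [Group Q] [Finite Q] (n : ℕ) (hn : 2 ≤ n)
    (hQ : Nat.card Q = 2 ^ n) (g x : Q) (hog : orderOf g = 2 ^ (n - 1)) (r : ℕ)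
    (hr : x * g * x⁻¹ = g ^ r) (h4 : 4 ∣ r + 1) : (commutator Q).index = 4 := by
  have : Fact (Nat.Prime 2) := ⟨Nat.prime_two⟩
  have hn1 : n - 1 = (n - 2) + 1 := by omega
  have hn2 : n = (n - 2) + 2 := by omega
  -- `C = ⟨g⟩` is normal
  have hCidx : (zpowers g).index = 2 := by
    have h1 := (zpowers g).card_mul_index
    rw [Nat.card_zpowers, hog, hQ] at h1
    have h2 : (2 : ℕ) ^ n = 2 ^ (n - 1) * 2 := by
      rw [← pow_succ]; congr 1; omega
    rw [h2] at h1
    exact Nat.eq_of_mul_eq_mul_left (pow_pos (by norm_num) _) h1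
  have hCn : (zpowers g).Normal := Subgroup.normal_of_index_eq_two hCidx
  -- `D = ⟨g²⟩`
  have hog2 : orderOf (g ^ 2) = 2 ^ (n - 2) := by
    rw [orderOf_pow_of_dvd (by norm_num) (by rw [hog, hn1, pow_succ]; exact dvd_mul_left _ _), hog,
      hn1, pow_succ, Nat.mul_div_cancel _ (by norm_num)]
  have hDcard : Nat.card (zpowers (g ^ 2)) = 2 ^ (n - 2) := by rw [Nat.card_zpowers, hog2]
  have hDn : (zpowers (g ^ 2)).Normal := by
    constructor
    intro d hd u
    obtain ⟨i, rfl⟩ := mem_zpowers_iff.1 hd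
    have h1 : u * g * u⁻¹ ∈ zpowers g := hCn.conj_mem g (mem_zpowers g) u
    obtain ⟨s, hs⟩ := mem_zpowers_iff.1 h1
    have h2 : u * (g ^ 2) ^ i * u⁻¹ = ((g ^ 2) ^ s) ^ i := by
      have h3 : (g ^ 2) ^ s = (u * g * u⁻¹) ^ 2 := by
        rw [← hs, ← zpow_natCast, ← zpow_natCast, ← zpow_mul, ← zpow_mul, mul_comm]
      rw [h3]
      simp
    rw [h2]
    exact zpow_mem (zpow_mem (mem_zpowers _) s) i
  -- `D ≤ Q'`
  have hDle : zpowers (g ^ 2) ≤ commutator Q := by
    obtain ⟨t, ht⟩ := h4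
    have ht1 : 1 ≤ t := by omega
    have hr' : r = 2 * (2 * t - 1) + 1 := by omega
    have hjodd : Odd (2 * t - 1) := ⟨t - 1, by omega⟩
    have hcomm : ⁅x, g⁆ = (g ^ 2) ^ (2 * t - 1) := by
      rw [commutatorElement_def, hr, hr', pow_succ, mul_inv_cancel_right, pow_mul]
    have hmem : (g ^ 2) ^ (2 * t - 1) ∈ commutator Q := by
      rw [← hcomm, _root_.commutator_def]
      exact Subgroup.commutator_mem_commutator (mem_top x) (mem_top g)
    have hcop : (orderOf (g ^ 2)).Coprime (2 * t - 1) := by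
      rw [hog2]
      exact (Nat.Coprime.pow_left _ (Nat.coprime_two_left.2 hjodd))
    have hord : orderOf ((g ^ 2) ^ (2 * t - 1)) = orderOf (g ^ 2) := hcop.orderOf_pow
    have hle : zpowers ((g ^ 2) ^ (2 * t - 1)) ≤ zpowers (g ^ 2) :=
      zpowers_le.2 (pow_mem (mem_zpowers _) _)
    have heq : zpowers ((g ^ 2) ^ (2 * t - 1)) = zpowers (g ^ 2) :=
      Subgroup.eq_of_le_of_card_ge hle (by rw [Nat.card_zpowers, Nat.card_zpowers, hord])
    rw [← heq]
    exact zpowers_le.2 hmem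
  -- `Q' ≤ D`
  have hDidx : (zpowers (g ^ 2)).index = 4 := by
    have h1 := (zpowers (g ^ 2)).card_mul_index
    rw [hDcard, hQ] at h1
    have h2 : (2 : ℕ) ^ n = 2 ^ (n - 2) * 4 := by
      conv_lhs => rw [hn2, pow_add]
      norm_num
    rw [h2] at h1
    exact Nat.eq_of_mul_eq_mul_left (pow_pos (by norm_num) _) h1
  have hle : commutator Q ≤ zpowers (g ^ 2) := by
    rw [← Subgroup.Normal.quotient_commutative_iff_commutator_le]
    have hcard : Nat.card (Q ⧸ zpowers (g ^ 2)) = 2 ^ 2 := by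
      rw [← Subgroup.index_eq_card, hDidx]; norm_num
    exact IsPGroup.isMulCommutative_of_card_eq_prime_sq hcard
  rw [le_antisymm hle hDle, hDidx]

/-- A non-abelian group of order 8 has derived subgroup of index 4. -/
theorem index_commutator_of_card_eight {Q : Type*} [Group Q] [Finite Q] (hQ : Nat.card Q = 8)
    (hnc : ∃ a b : Q, a * b ≠ b * a) : (commutator Q).index = 4 := by
  have : Fact (Nat.Prime 2) := ⟨Nat.prime_two⟩
  have hQ' : Nat.card Q = 2 ^ 3 := by rw [hQ]; norm_num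
  have hp : IsPGroup 2 Q := IsPGroup.of_card hQ'
  have hnt : Nontrivial Q := by
    rw [← Finite.one_lt_card_iff_nontrivial, hQ]; norm_num
  have hZnt : Nontrivial (center Q) := hp.center_nontrivial
  have hZ1 : Nat.card (center Q) ≠ 1 := by
    intro h
    have := (Nat.card_eq_one_iff_unique.1 h).1
    exact not_subsingleton _ this
  have hmul := (center Q).card_mul_index
  rw [hQ] at hmul
  have hidx_dvd : (center Q).index ∣ 8 := Dvd.intro_left _ hmul
  have hidx_le : (center Q).index ≤ 8 := Nat.le_of_dvd (by norm_num) hidx_dvd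
  obtain ⟨a, b, hab⟩ := hnc
  have hidx : (center Q).index = 2 ^ 2 := by
    generalize hi : (center Q).index = i at hmul hidx_dvd hidx_le
    generalize hc : Nat.card (center Q) = c at hmul hZ1
    interval_cases i
    · omega
    · exact absurd (Cfsg.Agent.Helper76.comm_of_le_center_of_index_dvd_prime Nat.prime_two
        (center Q) le_rfl (by rw [hi]; norm_num) a b) hab
    · exact absurd (Cfsg.Agent.Helper76.comm_of_le_center_of_index_dvd_prime Nat.prime_two
        (center Q) le_rfl (by rw [hi]) a b) hab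
    · omega
    · rfl
    · omega
    · omega
    · omega
    · omega
  have hc := Cfsg.Agent.Helper76.card_commutator_eq_prime_of_index_center hidx
  have h1 := (commutator Q).card_mul_index
  rw [hc, hQ] at h1
  omega


/-- The core of (G-BWD) for `n ≥ 4`. -/
theorem index_commutator_of_conj_pattern {Q G : Type*} [Group Q] [Finite Q] [Group G] (ι : Q →* G)
    (n : ℕ) (hn : 4 ≤ n) (hQ : Nat.card Q = 2 ^ n) (g x : Q) (hxg : x * g ≠ g * x) (e : ℕ)
    (he : e = 0 ∨ e = 2 ^ (n - 2))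
    (hS : ∀ k : ℕ, Odd k → IsConj (ι g ^ k) (ι g) →
      (k ≡ 1 [MOD 2 ^ (n - 1)] ∨ k + 1 ≡ e [MOD 2 ^ (n - 1)])) :
    (commutator Q).index = 4 := by
  have hS' : ∀ k : ℕ, Odd k → IsConj (g ^ k) g →
      (k ≡ 1 [MOD 2 ^ (n - 1)] ∨ k + 1 ≡ e [MOD 2 ^ (n - 1)]) := by
    intro k hk hc
    apply hS k hk
    have := ι.map_isConj hc
    rwa [map_pow] at this
  -- the order of `g`
  obtain ⟨a, ha_le, ha⟩ : ∃ a ≤ n, orderOf g = 2 ^ a := by
    have h1 : orderOf g ∣ 2 ^ n := hQ ▸ orderOf_dvd_natCard g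
    exact (Nat.dvd_prime_pow Nat.prime_two).1 h1
  have hg1 : g ≠ 1 := by rintro rfl; exact hxg (by simp)
  have ha1 : 1 ≤ a := by
    by_contra h
    have h0 : a = 0 := by omega
    rw [h0, pow_zero, orderOf_eq_one_iff] at ha
    exact hg1 ha
  have hgo : g ^ (2 ^ a) = 1 := by rw [← ha]; exact pow_orderOf_eq_one g
  have hoeven : Even (2 ^ a) := (Nat.even_pow.2 ⟨even_two, by omega⟩)
  have hk1 : Odd (1 + 2 ^ a) := odd_one.add_even hoeven
  have hk2 : Odd (1 + 2 * 2 ^ a) := odd_one.add_even (even_two_mul _)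
  have hc1 : IsConj (g ^ (1 + 2 ^ a)) g := by rw [pow_add, hgo, pow_one, mul_one]
  have hc2 : IsConj (g ^ (1 + 2 * 2 ^ a)) g := by
    rw [pow_add, pow_mul', hgo, pow_one, one_pow, mul_one]
  have hM4 : 2 ^ (n - 1) = 2 * 2 ^ (n - 2) := by
    rw [← pow_succ']; congr 1; omega
  have hh4 : 4 ≤ 2 ^ (n - 2) := by
    calc 4 = 2 ^ 2 := by norm_num
      _ ≤ 2 ^ (n - 2) := Nat.pow_le_pow_right (by norm_num) (by omega)
  -- `M ∣ 2 o`
  have hM2o : 2 ^ (n - 1) ∣ 2 * 2 ^ a := by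
    rcases hS' _ hk2 hc2 with h2 | h2
    · have h3 : 1 + 2 * 2 ^ a ≡ 1 + 0 [MOD 2 ^ (n - 1)] := h2
      exact (Nat.modEq_zero_iff_dvd).1 (Nat.ModEq.add_left_cancel' 1 h3)
    · rcases hS' _ hk1 hc1 with h1 | h1
      · have h3 : 1 + 2 ^ a ≡ 1 + 0 [MOD 2 ^ (n - 1)] := h1
        exact Dvd.dvd.mul_left ((Nat.modEq_zero_iff_dvd).1 (Nat.ModEq.add_left_cancel' 1 h3)) 2
      · have h3 : (1 + 2 ^ a + 1) + 2 ^ a ≡ (1 + 2 ^ a + 1) + 0 [MOD 2 ^ (n - 1)] := by
          have h4 : (1 + 2 ^ a + 1) + 2 ^ a = 1 + 2 * 2 ^ a + 1 := by ring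
          rw [h4, add_zero]
          exact h2.trans h1.symm
        exact Dvd.dvd.mul_left ((Nat.modEq_zero_iff_dvd).1 (Nat.ModEq.add_left_cancel' _ h3)) 2
  have ha_ge : n - 1 ≤ a + 1 := by
    rw [← pow_succ'] at hM2o
    exact (Nat.pow_dvd_pow_iff_le_right (by norm_num)).1 hM2o
  -- `a ≠ n`
  have ha_ne_n : a ≠ n := by
    rintro rfl
    have htop : zpowers g = ⊤ := by
      apply Subgroup.eq_top_of_card_eq
      rw [Nat.card_zpowers, ha, hQ]
    have hx : x ∈ zpowers g := htop ▸ mem_top x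
    obtain ⟨i, rfl⟩ := mem_zpowers_iff.1 hx
    exact hxg ((Commute.refl g).zpow_left i).eq
  -- `a ≠ n - 2`
  have ha_ne : a ≠ n - 2 := by
    intro h
    rw [h] at hk1 hc1
    rcases hS' _ hk1 hc1 with h1 | h1
    · have h3 : 1 + 2 ^ (n - 2) ≡ 1 + 0 [MOD 2 ^ (n - 1)] := h1
      have h4 := (Nat.modEq_zero_iff_dvd).1 (Nat.ModEq.add_left_cancel' 1 h3)
      have h5 := Nat.le_of_dvd (by positivity) h4
      omega
    · rcases he with rfl | rfl
      · have h4 := (Nat.modEq_zero_iff_dvd).1 h1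
        have h5 := Nat.le_of_dvd (by positivity) h4
        omega
      · have h3 : 2 + 2 ^ (n - 2) ≡ 0 + 2 ^ (n - 2) [MOD 2 ^ (n - 1)] := by
          have h4 : 1 + 2 ^ (n - 2) + 1 = 2 + 2 ^ (n - 2) := by ring
          rw [h4] at h1
          rw [zero_add]; exact h1
        have h4 := (Nat.modEq_zero_iff_dvd).1 (Nat.ModEq.add_right_cancel' _ h3)
        have h5 := Nat.le_of_dvd (by norm_num) h4
        omega
  have ha_eq : a = n - 1 := by omega
  rw [ha_eq] at ha
  -- `C = ⟨g⟩` is normal of index 2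
  have hCidx : (zpowers g).index = 2 := by
    have h1 := (zpowers g).card_mul_index
    rw [Nat.card_zpowers, ha, hQ] at h1
    have h2 : (2 : ℕ) ^ n = 2 ^ (n - 1) * 2 := by
      rw [← pow_succ]; congr 1; omega
    rw [h2] at h1
    exact Nat.eq_of_mul_eq_mul_left (pow_pos (by norm_num) _) h1
  have hCn : (zpowers g).Normal := Subgroup.normal_of_index_eq_two hCidx
  have hmem : x * g * x⁻¹ ∈ zpowers g := hCn.conj_mem g (mem_zpowers g) x
  obtain ⟨i, hi⟩ := mem_zpowers_iff.1 hmem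
  -- a natural exponent
  obtain ⟨r, hr⟩ : ∃ r : ℕ, x * g * x⁻¹ = g ^ r := by
    refine ⟨(i % (orderOf g : ℤ)).toNat, ?_⟩
    rw [← hi, ← zpow_natCast, Int.toNat_of_nonneg (Int.emod_nonneg _ (by
      rw [ha]; positivity)), zpow_mod_orderOf]
  -- `r` is odd
  have hordc : orderOf (x * g * x⁻¹) = orderOf g := by
    have := orderOf_injective (MulAut.conj x).toMonoidHom (MulAut.conj x).injective g
    simpa using this
  have hrodd : Odd r := by
    by_contra hne
    rw [Nat.not_odd_iff_even] at hne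
    obtain ⟨t, ht⟩ := hne
    have h1 : (g ^ r) ^ (2 ^ (n - 2)) = 1 := by
      rw [← pow_mul, ht, ← two_mul, mul_comm 2 t, mul_assoc, ← hM4, pow_mul', ← ha,
        pow_orderOf_eq_one, one_pow]
    have h2 : orderOf (g ^ r) ∣ 2 ^ (n - 2) := orderOf_dvd_of_pow_eq_one h1
    rw [← hr, hordc, ha, hM4] at h2
    have h3 := Nat.le_of_dvd (by positivity) h2
    omega
  have hconj : IsConj (g ^ r) g := by
    rw [← hr]
    exact isConj_iff.2 ⟨x⁻¹, by group⟩
  have h4 : 4 ∣ r + 1 := by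
    rcases hS' r hrodd hconj with h1 | h1
    · exfalso
      have h2 : g ^ r = g ^ 1 := by
        rw [pow_eq_pow_iff_modEq, ha]; exact h1
      rw [pow_one, ← hr] at h2
      apply hxg
      calc x * g = x * g * x⁻¹ * x := by group
        _ = g * x := by rw [h2]
    · have hd : 4 ∣ 2 ^ (n - 1) := by
        rw [hM4]
        exact Dvd.dvd.mul_left (Nat.dvd_of_mod_eq_zero (by
          have : (2 : ℕ) ^ (n - 2) = 2 ^ (n - 4) * 4 := by
            rw [show (4 : ℕ) = 2 ^ 2 by norm_num, ← pow_add]; congr 1; omega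
          rw [this]; exact Nat.mul_mod_left _ _)) 2
      rw [h1.dvd_iff hd]
      rcases he with rfl | rfl
      · exact dvd_zero 4
      · have : (2 : ℕ) ^ (n - 2) = 2 ^ (n - 4) * 4 := by
          rw [show (4 : ℕ) = 2 ^ 2 by norm_num, ← pow_add]; congr 1; omega
        rw [this]; exact dvd_mul_left _ _
  exact index_commutator_of_cyclic_max n (by omega) hQ g x ha r hr h4


/-- (G-BWD) of #4463. -/
theorem index_four_of_exists {G : Type*} [Group G] [Finite G] (P : Sylow 2 G) (n : ℕ) (hn : 3 ≤ n) (hP : Nat.card P = 2 ^ n) (g : G) (hg : g ∈ (P : Subgroup G)) (hcl : 2 ∣ (Subgroup.centralizer ({g} : Set G)).index) (hk : (∀ k : ℕ, Odd k → (IsConj (g ^ k) g ↔ (k ≡ 1 [MOD 2 ^ (n - 1)] ∨ k + 1 ≡ 0 [MOD 2 ^ (n - 1)]))) ∨ (∀ k : ℕ, Odd k → (IsConj (g ^ k) g ↔ (k ≡ 1 [MOD 2 ^ (n - 1)] ∨ k + 1 ≡ 2 ^ (n - 2) [MOD 2 ^ (n - 1)])))) : (commutator ↥P).index = 4 := by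
  have : Fact (Nat.Prime 2) := ⟨Nat.prime_two⟩
  -- `g` is not central in `P`
  obtain ⟨x, hx, hxg⟩ : ∃ x ∈ (P : Subgroup G), x * g ≠ g * x := by
    by_contra hcon
    push Not at hcon
    have hle : (P : Subgroup G) ≤ Subgroup.centralizer ({g} : Set G) := by
      intro u hu
      rw [Subgroup.mem_centralizer_iff]
      intro c hc
      rw [Set.mem_singleton_iff] at hc
      subst hc
      exact (hcon u hu).symm
    have h1 : (Subgroup.centralizer ({g} : Set G)).index ∣ (P : Subgroup G).index :=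
      Subgroup.index_dvd_of_le hle
    exact P.not_dvd_index (hcl.trans h1)
  have hxg' : (⟨x, hx⟩ : ↥P) * ⟨g, hg⟩ ≠ ⟨g, hg⟩ * ⟨x, hx⟩ := by
    intro h
    exact hxg (congrArg Subtype.val h)
  rcases Nat.lt_or_ge n 4 with hn4 | hn4
  · have hn3 : n = 3 := by omega
    subst hn3
    exact index_commutator_of_card_eight (hP.trans (by norm_num)) ⟨_, _, hxg'⟩
  · rcases hk with hk | hk
    · exact index_commutator_of_conj_pattern (SubgroupClass.subtype P) n hn4 hP ⟨g, hg⟩ ⟨x, hx⟩ hxg'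
        0 (Or.inl rfl) (fun k hkodd hc => (hk k hkodd).1 hc)
    · exact index_commutator_of_conj_pattern (SubgroupClass.subtype P) n hn4 hP ⟨g, hg⟩ ⟨x, hx⟩ hxg'
        (2 ^ (n - 2)) (Or.inr rfl) (fun k hkodd hc => (hk k hkodd).1 hc)

end Cfsg.Agent.Helper10.FV
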