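import Mathlib

set_option autoImplicit false

namespace Cfsg.Agent.Helper10.FV

open Subgroup

/-- (G-F2) of #4463. -/
theorem conj_pow_iff {G : Type*} [Group G] [Finite G] (P : Sylow 2 G) (n : ℕ) (hn : 3 ≤ n) (hP : Nat.card P = 2 ^ n) (g x : G) (hg : g ∈ (P : Subgroup G)) (hx : x ∈ (P : Subgroup G)) (hog : orderOf g = 2 ^ (n - 1)) (r : ℕ) (hr : x * g * x⁻¹ = g ^ r) (hne : g ^ r ≠ g) : 2 ∣ (Subgroup.centralizer ({g} : Set G)).index ∧ ∀ k : ℕ, IsConj (g ^ k) g ↔ (g ^ k = g ∨ g ^ k = g ^ r) := by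
  have hCP : zpowers g ≤ (P : Subgroup G) := Subgroup.zpowers_le.2 hg
  have hCcard : Nat.card (zpowers g) = 2 ^ (n - 1) := by rw [Nat.card_zpowers, hog]
  -- `x ∉ C`
  have hxC : x ∉ zpowers g := by
    intro hxC
    obtain ⟨i, rfl⟩ := mem_zpowers_iff.1 hxC
    apply hne
    rw [← hr]
    have : Commute (g ^ i) g := (Commute.refl g).zpow_left i
    rw [this.eq, mul_inv_cancel_right]
  -- `C` has index 2 in `P`
  have hidx : ((zpowers g).subgroupOf (P : Subgroup G)).index = 2 := by
    have h1 := Subgroup.card_mul_index ((zpowers g).subgroupOf (P : Subgroup G))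
    have h0 : Nat.card ((zpowers g).subgroupOf (P : Subgroup G)) = Nat.card (zpowers g) :=
      Nat.card_congr (Subgroup.subgroupOfEquivOfLe hCP).toEquiv
    rw [h0, hCcard, hP] at h1
    have h2 : (2 : ℕ) ^ n = 2 ^ (n - 1) * 2 := by
      rw [← pow_succ]; congr 1; omega
    rw [h2] at h1
    exact Nat.eq_of_mul_eq_mul_left (pow_pos (by norm_num) _) h1
  -- conjugates of `g` under `P`
  have hPconj : ∀ u ∈ (P : Subgroup G), u * g * u⁻¹ = g ∨ u * g * u⁻¹ = g ^ r := by
    intro u hu
    by_cases huC : u ∈ zpowers g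
    · left
      obtain ⟨i, rfl⟩ := mem_zpowers_iff.1 huC
      have : Commute (g ^ i) g := (Commute.refl g).zpow_left i
      rw [this.eq, mul_inv_cancel_right]
    · right
      have h1 := Subgroup.mul_mem_iff_of_index_two hidx
        (a := (⟨x, hx⟩ : (P : Subgroup G))⁻¹) (b := ⟨u, hu⟩)
      have h2 : (⟨x, hx⟩ : (P : Subgroup G))⁻¹ * ⟨u, hu⟩ ∈ (zpowers g).subgroupOf (P : Subgroup G) := by
        rw [h1]
        constructor
        · intro h
          exact absurd (by simpa [mem_subgroupOf] using h) hxC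
        · intro h
          exact absurd (by simpa [mem_subgroupOf] using h) huC
      have h3 : x⁻¹ * u ∈ zpowers g := by simpa [mem_subgroupOf] using h2
      obtain ⟨i, hi⟩ := mem_zpowers_iff.1 h3
      have hu' : u = x * g ^ i := by rw [hi, mul_inv_cancel_left]
      have hc : Commute (g ^ i) g := (Commute.refl g).zpow_left i
      rw [hu', mul_inv_rev, ← hr]
      have : x * g ^ i * g * ((g ^ i)⁻¹ * x⁻¹) = x * (g ^ i * g * (g ^ i)⁻¹) * x⁻¹ := by group
      rw [this, hc.eq, mul_inv_cancel_right]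
  -- `P ≤ N(C)`
  have hgr : g ^ r ∈ zpowers g := ⟨r, by simp⟩
  have hPN : (P : Subgroup G) ≤ normalizer ((zpowers g : Subgroup G) : Set G) := by
    intro u hu
    apply mem_normalizer_fintype
    intro c hc
    obtain ⟨i, rfl⟩ := mem_zpowers_iff.1 hc
    have h1 : u * g ^ i * u⁻¹ = (u * g * u⁻¹) ^ i := by
      simp
    show u * g ^ i * u⁻¹ ∈ zpowers g
    rw [h1]
    rcases hPconj u hu with h | h
    · rw [h]; exact zpow_mem (mem_zpowers g) i
    · rw [h]; exact zpow_mem hgr i
  -- the map `N(C) → Aut C`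
  set φ := (zpowers g).normalizerMonoidHom with hφ
  have hφapply : ∀ (y : normalizer ((zpowers g : Subgroup G) : Set G)) (c : zpowers g),
      ((φ y c : zpowers g) : G) = (y : G) * c * (y : G)⁻¹ := fun y c => rfl
  -- the range is a 2-group
  have : Fact (Nat.Prime 2) := ⟨Nat.prime_two⟩
  have hcyc : IsCyclic (zpowers g) := inferInstance
  have hAutcard : Nat.card (MulAut (zpowers g)) = 2 ^ (n - 2) := by
    rw [IsCyclic.card_mulAut, hCcard]
    have h1 : n - 1 = (n - 2) + 1 := by omega
    rw [h1, Nat.totient_prime_pow_succ Nat.prime_two]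
    norm_num
  have hRdvd : Nat.card φ.range ∣ 2 ^ (n - 2) := hAutcard ▸ Subgroup.card_subgroup_dvd_card _
  obtain ⟨j, -, hj⟩ := (Nat.dvd_prime_pow Nat.prime_two).1 hRdvd
  have hRp : IsPGroup 2 φ.range := IsPGroup.of_card hj
  -- the image of `P` is everything
  let Q : Sylow 2 φ.range := (P.subtype hPN).mapSurjective φ.rangeRestrict_surjective
  have hQtop : ((P.subtype hPN : Sylow 2 _) : Subgroup _).map φ.rangeRestrict = ⊤ := by
    have h1 : IsPGroup 2 (⊤ : Subgroup φ.range) := by
      intro y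
      obtain ⟨k, hk⟩ := hRp (y : φ.range)
      exact ⟨k, Subtype.ext hk⟩
    have h2 := Q.is_maximal' h1 le_top
    rw [Sylow.coe_mapSurjective] at h2
    exact h2.symm
  -- conjugates of `g` under `N(C)`
  have hNconj : ∀ y ∈ normalizer ((zpowers g : Subgroup G) : Set G),
      y * g * y⁻¹ = g ∨ y * g * y⁻¹ = g ^ r := by
    intro y hy
    have h1 : φ.rangeRestrict ⟨y, hy⟩ ∈ (⊤ : Subgroup φ.range) := mem_top _
    rw [← hQtop] at h1
    obtain ⟨u, hu, hueq⟩ := h1
    have huP : (u : G) ∈ (P : Subgroup G) := by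
      rw [Sylow.coe_subtype] at hu
      exact hu
    have h2 : φ u = φ ⟨y, hy⟩ := congrArg Subtype.val hueq
    have h3 : ((φ u ⟨g, mem_zpowers g⟩ : zpowers g) : G) = ((φ ⟨y, hy⟩ ⟨g, mem_zpowers g⟩ : zpowers g) : G) := by
      rw [h2]
    rw [hφapply, hφapply] at h3
    have h4 : y * g * y⁻¹ = (u : G) * g * (u : G)⁻¹ := h3.symm
    rw [h4]
    exact hPconj u huP
  constructor
  · -- class size
    have hcent : centralizer ((zpowers g : Subgroup G) : Set G) = centralizer ({g} : Set G) := by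
      ext z
      rw [mem_centralizer_iff, mem_centralizer_iff]
      constructor
      · intro h c hc
        rw [Set.mem_singleton_iff] at hc
        subst hc
        exact h c (mem_zpowers c)
      · intro h c hc
        obtain ⟨i, rfl⟩ := mem_zpowers_iff.1 hc
        have h1 : Commute g z := h g rfl
        exact (h1.zpow_left i).eq
    have hle : centralizer ({g} : Set G) ≤ normalizer ((zpowers g : Subgroup G) : Set G) := by
      rw [← hcent]; exact Subgroup.centralizer_le_normalizer _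
    have h1 := Subgroup.relIndex_mul_index hle
    rw [← h1]
    apply Dvd.dvd.mul_right
    -- relIndex = card of range
    have h2 : (centralizer ({g} : Set G)).relIndex (normalizer ((zpowers g : Subgroup G) : Set G)) =
        Nat.card φ.range := by
      rw [← hcent, Subgroup.relIndex, ← Subgroup.normalizerMonoidHom_ker, Subgroup.index_ker]
    rw [h2, hj]
    have hj0 : j ≠ 0 := by
      rintro rfl
      rw [pow_zero] at hj
      -- range trivial contradicts `x g x⁻¹ ≠ g`
      have hsub : Subsingleton φ.range := (Nat.card_eq_one_iff_unique.1 hj).1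
      have h3 : (⟨φ ⟨x, hPN hx⟩, ⟨_, rfl⟩⟩ : φ.range) = 1 := Subsingleton.elim _ _
      have h4 : φ ⟨x, hPN hx⟩ = 1 := congrArg Subtype.val h3
      have h5 : ((φ ⟨x, hPN hx⟩ ⟨g, mem_zpowers g⟩ : zpowers g) : G) = g := by rw [h4]; rfl
      rw [hφapply] at h5
      exact hne (hr ▸ h5)
    exact dvd_pow_self 2 hj0
  · intro k
    constructor
    · intro hconj
      obtain ⟨y, hy⟩ := isConj_iff.1 hconj
      have hgk : y⁻¹ * g * y⁻¹⁻¹ = g ^ k := by
        have h0 : y⁻¹ * (y * g ^ k * y⁻¹) * y⁻¹⁻¹ = g ^ k := by group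
        rwa [hy] at h0
      have hyN : y⁻¹ ∈ normalizer ((zpowers g : Subgroup G) : Set G) := by
        apply mem_normalizer_fintype
        intro c hc
        obtain ⟨i, rfl⟩ := mem_zpowers_iff.1 hc
        have h1 : y⁻¹ * g ^ i * y⁻¹⁻¹ = (y⁻¹ * g * y⁻¹⁻¹) ^ i := by
          simpa using (map_zpow (MulAut.conj y⁻¹) g i)
        show y⁻¹ * g ^ i * y⁻¹⁻¹ ∈ zpowers g
        rw [h1, hgk]
        exact zpow_mem (pow_mem (mem_zpowers g) k) i
      rcases hNconj y⁻¹ hyN with h | h
      · left; rw [← hgk, h]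
      · right; rw [← hgk, h]
    · rintro (h | h)
      · rw [h]
      · rw [h, ← hr]
        exact isConj_iff.2 ⟨x⁻¹, by group⟩

end Cfsg.Agent.Helper10.FV
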