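import Cfsg.Agent.Helper87.FrakLDefs

set_option autoImplicit false
set_option linter.unusedSimpArgs false

/-!
# Piece (NM) of helper87's #4935 (S2863 / S2861): a quadratic `SL₂(F)`-module which is the sum of the
fixed points of the two root subgroups is a sum of natural modules; elements `g` with
`det (g - 1) ≠ 0` act without fixed points.

Method: in `E = End (Additive V)` put `a s = ρ(uU s) - 1`, `b s = ρ(uL s) - 1`.  The Weyl elements
give `a 1 b 1 + b 1 a 1 = 1`, `a s b 1 a t = a (s t)`, `b s = b 1 a s b 1`; then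
`Φ [[p,q],[r,s]] = a p b 1 + a q + b 1 a r b 1 + b 1 a s` is a unital ring homomorphism
`M₂(F) → E` extending `ρ`, and `Φ(adj (g - 1)) Φ(g - 1) = Φ(det (g - 1))` is invertible.
-/

open Matrix Cfsg.Agent.Helper87.FrakL

namespace Cfsg.Agent.Helper10.FrakL

section matrices

variable {F : Type*} [Field F]

theorem uU_val (s : F) : (uU s : Matrix (Fin 2) (Fin 2) F) = !![1, s; 0, 1] := rfl

theorem uL_val (s : F) : (uL s : Matrix (Fin 2) (Fin 2) F) = !![1, 0; s, 1] := rfl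

theorem uU_add (s t : F) : uU (s + t) = uU s * uU t := by
  ext i j
  fin_cases i <;> fin_cases j <;>
    simp [uU_val, Matrix.mul_apply, Fin.sum_univ_two, add_comm]

theorem uL_add (s t : F) : uL (s + t) = uL s * uL t := by
  ext i j
  fin_cases i <;> fin_cases j <;>
    simp [uL_val, Matrix.mul_apply, Fin.sum_univ_two, add_comm]

theorem uU_zero : uU (0 : F) = 1 := by
  ext i j
  fin_cases i <;> fin_cases j <;> simp [uU_val]

theorem uL_zero : uL (0 : F) = 1 := by
  ext i j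
  fin_cases i <;> fin_cases j <;> simp [uL_val]

/-- the Weyl element `[[0, s], [-1/s, 0]]`. -/
def wS (s : F) : SpecialLinearGroup (Fin 2) F := uU s * uL (-s⁻¹) * uU s

theorem wS_val {s : F} (hs : s ≠ 0) :
    (wS s : Matrix (Fin 2) (Fin 2) F) = !![0, s; -s⁻¹, 0] := by
  ext i j
  fin_cases i <;> fin_cases j <;>
    simp [wS, uU_val, uL_val, Matrix.mul_apply, Fin.sum_univ_two, hs]

theorem uL_mul_wS {s : F} (hs : s ≠ 0) (y : F) : uL y * wS s = wS s * uU (-(s ^ 2 * y)) := by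
  ext i j
  fin_cases i <;> fin_cases j <;>
    simp [wS_val hs, uU_val, uL_val, Matrix.mul_apply,
      Fin.sum_univ_two]
  field_simp

theorem uU_mul_wS {s : F} (hs : s ≠ 0) (y : F) : uU y * wS s = wS s * uL (-(y / s ^ 2)) := by
  ext i j
  fin_cases i <;> fin_cases j <;>
    simp [wS_val hs, uU_val, uL_val, Matrix.mul_apply,
      Fin.sum_univ_two]
  field_simp

theorem wS_mul {s t : F} (hs : s ≠ 0) (ht : t ≠ 0) :
    wS (s * t) * wS (-1) = wS s * wS (-1) * (wS t * wS (-1)) := by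
  have h1 : (-1 : F) ≠ 0 := by simp
  ext i j
  fin_cases i <;> fin_cases j <;>
    simp [wS_val hs, wS_val ht, wS_val (mul_ne_zero hs ht), wS_val h1,
      Matrix.mul_apply, Fin.sum_univ_two]
  field_simp

end matrices

section operators

variable {F : Type*} [Field F] {W : Type*} [AddCommGroup W]

theorem end_add_apply (f g : AddMonoid.End W) (v : W) : (f + g) v = f v + g v := rfl
theorem end_sub_apply (f g : AddMonoid.End W) (v : W) : (f - g) v = f v - g v := rfl
theorem end_neg_apply (f : AddMonoid.End W) (v : W) : (-f) v = -(f v) := rfl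
theorem end_mul_apply (f g : AddMonoid.End W) (v : W) : (f * g) v = f (g v) := rfl
theorem end_one_apply (v : W) : (1 : AddMonoid.End W) v = v := rfl
theorem end_zero_apply (v : W) : (0 : AddMonoid.End W) v = 0 := rfl
theorem end_ext {f g : AddMonoid.End W} (h : ∀ v, f v = g v) : f = g := AddMonoidHom.ext h

/-- the operator of the Weyl element. -/
def wOp (a b : F → AddMonoid.End W) (s : F) : AddMonoid.End W :=
  (1 + a s) * (1 + b (-s⁻¹)) * (1 + a s)

/-- the hypotheses on the two operator families. -/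
structure OpData (a b : F → AddMonoid.End W) : Prop where
  a_add : ∀ s t, a (s + t) = a s + a t
  b_add : ∀ s t, b (s + t) = b s + b t
  aa : ∀ s t, a s * a t = 0
  bb : ∀ s t, b s * b t = 0
  h0 : ∀ v : W, (∀ s, a s v = 0) → (∀ s, b s v = 0) → v = 0
  h1 : ∀ v : W, ∃ v₁ v₂ : W, (∀ s, a s v₁ = 0) ∧ (∀ s, b s v₂ = 0) ∧ v = v₁ + v₂
  w12 : ∀ s, s ≠ 0 → ∀ v, (∀ x, a x v = 0) → ∀ y, b y (wOp a b s v) = 0
  w21 : ∀ s, s ≠ 0 → ∀ v, (∀ y, b y v = 0) → ∀ x, a x (wOp a b s v) = 0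
  wmul : ∀ s t, s ≠ 0 → t ≠ 0 →
    wOp a b (s * t) * wOp a b (-1) = wOp a b s * wOp a b (-1) * (wOp a b t * wOp a b (-1))

namespace OpData

variable {a b : F → AddMonoid.End W} (d : OpData a b)
include d

theorem a_zero : a 0 = 0 := by
  have h := d.a_add 0 0
  rw [add_zero] at h
  exact left_eq_add.1 h

theorem b_zero : b 0 = 0 := by
  have h := d.b_add 0 0
  rw [add_zero] at h
  exact left_eq_add.1 h

theorem a_neg (s : F) : a (-s) = -a s := by
  have h := d.a_add (-s) s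
  rw [neg_add_cancel, d.a_zero] at h
  exact eq_neg_of_add_eq_zero_left h.symm

theorem b_neg (s : F) : b (-s) = -b s := by
  have h := d.b_add (-s) s
  rw [neg_add_cancel, d.b_zero] at h
  exact eq_neg_of_add_eq_zero_left h.symm

theorem a_sub (s t : F) : a (s - t) = a s - a t := by
  rw [sub_eq_add_neg, d.a_add, d.a_neg, sub_eq_add_neg]

theorem aa_apply (s t : F) (v : W) : a s (a t v) = 0 := by
  have h := congrArg (fun f : AddMonoid.End W => f v) (d.aa s t)
  exact h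

theorem bb_apply (s t : F) (v : W) : b s (b t v) = 0 := by
  have h := congrArg (fun f : AddMonoid.End W => f v) (d.bb s t)
  exact h

/-- on `V₁` the Weyl operator is `b (-1/s)`, and `a s ∘ b (-1/s) = -1`. -/
theorem w_on_A {s : F} (hs : s ≠ 0) {v : W} (hv : ∀ x, a x v = 0) :
    a s (b (-s⁻¹) v) = -v ∧ wOp a b s v = b (-s⁻¹) v := by
  have hw : wOp a b s v = b (-s⁻¹) v + (v + a s (b (-s⁻¹) v)) := by
    simp only [wOp, end_mul_apply, end_add_apply, end_one_apply, map_add, hv, map_zero, add_zero, zero_add]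
    abel
  have hx : v + a s (b (-s⁻¹) v) = 0 := by
    apply d.h0
    · intro y
      rw [map_add, hv, d.aa_apply, add_zero]
    · intro y
      have h1 := d.w12 s hs v hv y
      rw [hw, map_add, d.bb_apply, zero_add] at h1
      exact h1
  refine ⟨eq_neg_of_add_eq_zero_right hx, ?_⟩
  rw [hw, hx, add_zero]

/-- on `V₂` the Weyl operator is `a s`, and `b (-1/s) ∘ a s = -1`. -/
theorem w_on_B {s : F} (hs : s ≠ 0) {v : W} (hv : ∀ y, b y v = 0) :
    b (-s⁻¹) (a s v) = -v ∧ wOp a b s v = a s v := by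
  have h1 := (d.w_on_A hs (v := a s v) (fun x => d.aa_apply x s v)).1
  have hw : wOp a b s v = a s v + (v + b (-s⁻¹) (a s v)) := by
    simp only [wOp, end_mul_apply, end_add_apply, end_one_apply, map_add, hv, d.aa_apply, h1, map_zero, add_zero, zero_add]
    abel
  have hx : v + b (-s⁻¹) (a s v) = 0 := by
    apply d.h0
    · intro x
      have h2 := d.w21 s hs v hv x
      rw [hw, map_add, d.aa_apply, zero_add] at h2
      exact h2
    · intro y
      rw [map_add, hv, d.bb_apply, add_zero]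
  refine ⟨eq_neg_of_add_eq_zero_right hx, ?_⟩
  rw [hw, hx, add_zero]

theorem ab_inv {s : F} (hs : s ≠ 0) {v : W} (hv : ∀ x, a x v = 0) : a s (b s⁻¹ v) = v := by
  have h := (d.w_on_A hs hv).1
  rw [d.b_neg, end_neg_apply, map_neg, neg_inj] at h
  exact h

theorem ba_inv {s : F} (hs : s ≠ 0) {v : W} (hv : ∀ y, b y v = 0) : b s⁻¹ (a s v) = v := by
  have h := (d.w_on_B hs hv).1
  rw [d.b_neg, end_neg_apply, neg_inj] at h
  exact h


theorem A1 : a 1 * b 1 + b 1 * a 1 = 1 := by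
  refine end_ext fun v => ?_
  obtain ⟨v₁, v₂, h1, h2, rfl⟩ := d.h1 v
  have e1 := d.ab_inv one_ne_zero h1
  have e2 := d.ba_inv one_ne_zero h2
  rw [inv_one] at e1 e2
  simp only [end_add_apply, end_mul_apply, end_one_apply, map_add, h1, h2, e1, e2, map_zero,
    add_zero, zero_add]

theorem torus_on_A {s : F} (hs : s ≠ 0) {x : W} (hx : ∀ y, a y x = 0) :
    (wOp a b s * wOp a b (-1)) x = a s (b 1 x) := by
  have hm1 : (-1 : F) ≠ 0 := by simp
  have e1 := (d.w_on_A hm1 hx).2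
  have e2 : -(-1 : F)⁻¹ = 1 := by simp
  rw [e2] at e1
  rw [end_mul_apply, e1, (d.w_on_B hs (fun y => d.bb_apply y 1 x)).2]

theorem A2 (s t : F) : a s * b 1 * a t = a (s * t) := by
  by_cases hs : s = 0
  · rw [hs, zero_mul, d.a_zero, zero_mul, zero_mul]
  by_cases ht : t = 0
  · rw [ht, mul_zero, d.a_zero, mul_zero]
  refine end_ext fun v => ?_
  obtain ⟨v₁, v₂, h1, h2, rfl⟩ := d.h1 v
  have hv'A : ∀ y, a y (a 1 v₂) = 0 := fun y => d.aa_apply y 1 v₂
  have hbv' : b 1 (a 1 v₂) = v₂ := by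
    have h3 := d.ba_inv one_ne_zero h2
    rwa [inv_one] at h3
  have key := DFunLike.congr_fun (d.wmul s t hs ht) (a 1 v₂)
  rw [d.torus_on_A (mul_ne_zero hs ht) hv'A, end_mul_apply, d.torus_on_A ht hv'A,
    d.torus_on_A hs (fun y => d.aa_apply y t _), hbv'] at key
  simp only [end_mul_apply, map_add, h1, map_zero, zero_add]
  exact key.symm

theorem A3 (y : F) : b y = b 1 * a y * b 1 := by
  by_cases hy : y = 0
  · rw [hy, d.a_zero, d.b_zero, mul_zero, zero_mul]
  refine end_ext fun v => ?_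
  obtain ⟨v₁, v₂, h1, h2, rfl⟩ := d.h1 v
  have hy' : y⁻¹ ≠ 0 := inv_ne_zero hy
  have hinj : ∀ w w' : W, (∀ z, b z w = 0) → (∀ z, b z w' = 0) → a y⁻¹ w = a y⁻¹ w' →
      w = w' := by
    intro w w' hw hw' h
    have e1 := d.ba_inv hy' hw
    have e2 := d.ba_inv hy' hw'
    rw [← e1, ← e2, h]
  have hL : a y⁻¹ (b y v₁) = v₁ := by
    have h3 := d.ab_inv hy' h1
    rwa [inv_inv] at h3
  have hR : a y⁻¹ (b 1 (a y (b 1 v₁))) = v₁ := by
    have h3 := DFunLike.congr_fun (d.A2 y⁻¹ y) (b 1 v₁)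
    simp only [end_mul_apply] at h3
    rw [h3, inv_mul_cancel₀ hy]
    have h4 := d.ab_inv one_ne_zero h1
    rwa [inv_one] at h4
  have hv1 : b y v₁ = b 1 (a y (b 1 v₁)) :=
    hinj _ _ (fun z => d.bb_apply z y v₁) (fun z => d.bb_apply z 1 _) (hL.trans hR.symm)
  simp only [end_mul_apply, map_add, h2, map_zero, add_zero]
  exact hv1


theorem Phi_mul_aux (p q r s p' q' r' s' : F) :
    (a p * b 1 + a q + b 1 * a r * b 1 + b 1 * a s) *
        (a p' * b 1 + a q' + b 1 * a r' * b 1 + b 1 * a s') =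
      a (p * p' + q * r') * b 1 + a (p * q' + q * s') + b 1 * a (r * p' + s * r') * b 1 +
        b 1 * a (r * q' + s * s') := by
  have r1 : ∀ x y : F, a x * a y = 0 := d.aa
  have r1' : ∀ (x y : F) (z : AddMonoid.End W), a x * (a y * z) = 0 := fun x y z => by
    rw [← mul_assoc, d.aa, zero_mul]
  have r2 : b 1 * b 1 = 0 := d.bb 1 1
  have r2' : ∀ z : AddMonoid.End W, b 1 * (b 1 * z) = 0 := fun z => by
    rw [← mul_assoc, d.bb, zero_mul]
  have r3 : ∀ x y : F, a x * (b 1 * a y) = a (x * y) := fun x y => by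
    rw [← mul_assoc, d.A2]
  have r3' : ∀ (x y : F) (z : AddMonoid.End W), a x * (b 1 * (a y * z)) = a (x * y) * z :=
    fun x y z => by rw [← mul_assoc, ← mul_assoc, d.A2]
  simp only [mul_add, add_mul, mul_assoc, r1, r1', r2, r2', r3, r3', mul_zero, zero_mul,
    add_zero, zero_add, d.a_add]
  abel


end OpData

/-- the ring homomorphism `M₂(F) → End W` attached to the two operator families. -/
def Phi (a b : F → AddMonoid.End W) (m : Matrix (Fin 2) (Fin 2) F) : AddMonoid.End W :=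
  a (m 0 0) * b 1 + a (m 0 1) + b 1 * a (m 1 0) * b 1 + b 1 * a (m 1 1)

namespace OpData

variable {a b : F → AddMonoid.End W} (d : OpData a b)
include d

theorem Phi_mul (m m' : Matrix (Fin 2) (Fin 2) F) :
    Phi a b (m * m') = Phi a b m * Phi a b m' := by
  simp only [Phi, Matrix.mul_apply, Fin.sum_univ_two]
  rw [d.Phi_mul_aux]

theorem Phi_one : Phi a b (1 : Matrix (Fin 2) (Fin 2) F) = 1 := by
  have h := d.A1
  simp only [Phi, Matrix.one_apply_eq, Matrix.one_apply_ne, ne_eq, zero_ne_one, one_ne_zero,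
    not_false_eq_true, d.a_zero, mul_zero, zero_mul, add_zero]
  exact h

theorem Phi_sub (m m' : Matrix (Fin 2) (Fin 2) F) :
    Phi a b (m - m') = Phi a b m - Phi a b m' := by
  simp only [Phi, Matrix.sub_apply, d.a_sub, mul_sub, sub_mul]
  abel

theorem Phi_uU (s : F) : Phi a b !![1, s; 0, 1] = 1 + a s := by
  have h := d.A1
  simp only [Phi, Matrix.of_apply, Matrix.cons_val', Matrix.cons_val_zero, Matrix.cons_val_one,
    Matrix.cons_val_fin_one, d.a_zero, mul_zero, zero_mul, add_zero]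
  rw [← h]
  abel

theorem Phi_uL (s : F) : Phi a b !![1, 0; s, 1] = 1 + b s := by
  have h := d.A1
  simp only [Phi, Matrix.of_apply, Matrix.cons_val', Matrix.cons_val_zero, Matrix.cons_val_one,
    Matrix.cons_val_fin_one, d.a_zero, add_zero]
  rw [← h, d.A3 s]
  abel

end OpData

end operators

section final

variable {F : Type*} [Field F]

theorem coe_mul' (g h : SpecialLinearGroup (Fin 2) F) :
    ((g * h : SpecialLinearGroup (Fin 2) F) : Matrix (Fin 2) (Fin 2) F) =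
      (g : Matrix (Fin 2) (Fin 2) F) * (h : Matrix (Fin 2) (Fin 2) F) := rfl

theorem det_eq (g : SpecialLinearGroup (Fin 2) F) :
    (g : Matrix (Fin 2) (Fin 2) F) 0 0 * (g : Matrix (Fin 2) (Fin 2) F) 1 1 -
      (g : Matrix (Fin 2) (Fin 2) F) 0 1 * (g : Matrix (Fin 2) (Fin 2) F) 1 0 = 1 := by
  have h := g.det_coe
  rwa [Matrix.det_fin_two] at h

theorem decomp (g : SpecialLinearGroup (Fin 2) F)
    (hc : (g : Matrix (Fin 2) (Fin 2) F) 1 0 ≠ 0) :
    g = uU (((g : Matrix (Fin 2) (Fin 2) F) 0 0 - 1) / (g : Matrix (Fin 2) (Fin 2) F) 1 0) *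
        uL ((g : Matrix (Fin 2) (Fin 2) F) 1 0) *
        uU (((g : Matrix (Fin 2) (Fin 2) F) 1 1 - 1) / (g : Matrix (Fin 2) (Fin 2) F) 1 0) := by
  have hdet := det_eq g
  ext i j
  fin_cases i <;> fin_cases j <;>
    simp [uU_val, uL_val, Matrix.mul_apply, Fin.sum_univ_two]
  all_goals field_simp
  all_goals first | ring1 | linear_combination hdet | linear_combination (-1 : F) * hdet

section concrete

variable {V : Type*} [CommGroup V] (ρ : SpecialLinearGroup (Fin 2) F →* MulAut V)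

/-- the action on `Additive V`. -/
def Rop (g : SpecialLinearGroup (Fin 2) F) : AddMonoid.End (Additive V) :=
  MonoidHom.toAdditive (ρ g).toMonoidHom

theorem Rop_apply (g : SpecialLinearGroup (Fin 2) F) (v : Additive V) :
    Rop ρ g v = Additive.ofMul (ρ g (Additive.toMul v)) := rfl

theorem Rop_mul (g h : SpecialLinearGroup (Fin 2) F) : Rop ρ (g * h) = Rop ρ g * Rop ρ h := by
  refine end_ext fun v => ?_
  rw [end_mul_apply, Rop_apply, Rop_apply, Rop_apply, map_mul, MulAut.mul_apply]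
  rfl

theorem Rop_one : Rop ρ (1 : SpecialLinearGroup (Fin 2) F) = 1 := by
  refine end_ext fun v => ?_
  rw [Rop_apply, map_one, MulAut.one_apply, end_one_apply]
  rfl

theorem sub_one_apply_eq_zero (g : SpecialLinearGroup (Fin 2) F) (v : Additive V) :
    (Rop ρ g - 1) v = 0 ↔ ρ g (Additive.toMul v) = Additive.toMul v := by
  rw [end_sub_apply, end_one_apply, sub_eq_zero, Rop_apply]
  constructor
  · intro h
    exact congrArg Additive.toMul h
  · intro h
    rw [h]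
    rfl

theorem quad_of (x : F → SpecialLinearGroup (Fin 2) F) (hadd : ∀ s t, x (s + t) = x s * x t)
    (hq : ∀ (s s' : F) (v : V), ρ (x s') (ρ (x s) v / v) = ρ (x s) v / v) :
    (∀ s t, (Rop ρ (x s) - 1) * (Rop ρ (x t) - 1) = 0) ∧
      (∀ s t, Rop ρ (x (s + t)) - 1 = (Rop ρ (x s) - 1) + (Rop ρ (x t) - 1)) := by
  have hfix : ∀ s t, Rop ρ (x t) * (Rop ρ (x s) - 1) = Rop ρ (x s) - 1 := by
    intro s t
    refine end_ext fun v => ?_
    show Additive.ofMul (ρ (x t) (ρ (x s) (Additive.toMul v) / Additive.toMul v)) =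
      Additive.ofMul (ρ (x s) (Additive.toMul v) / Additive.toMul v)
    rw [hq]
  have hzero : ∀ s t, (Rop ρ (x s) - 1) * (Rop ρ (x t) - 1) = 0 := by
    intro s t
    rw [sub_mul, one_mul, hfix, sub_self]
  refine ⟨hzero, fun s t => ?_⟩
  rw [hadd, Rop_mul]
  have h := hzero s t
  have e : Rop ρ (x s) * Rop ρ (x t) - 1 =
      (Rop ρ (x s) - 1) + (Rop ρ (x t) - 1) + (Rop ρ (x s) - 1) * (Rop ρ (x t) - 1) := by
    rw [sub_mul, mul_sub, mul_one, one_mul]
    abel
  rw [e, h, add_zero]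


/-- `a s = ρ(uU s) - 1`. -/
def aOp (s : F) : AddMonoid.End (Additive V) := Rop ρ (uU s) - 1

/-- `b s = ρ(uL s) - 1`. -/
def bOp (s : F) : AddMonoid.End (Additive V) := Rop ρ (uL s) - 1

theorem one_add_aOp (s : F) : 1 + aOp ρ s = Rop ρ (uU s) := by
  rw [aOp]
  abel

theorem one_add_bOp (s : F) : 1 + bOp ρ s = Rop ρ (uL s) := by
  rw [bOp]
  abel

theorem wOp_eq (s : F) : wOp (aOp ρ) (bOp ρ) s = Rop ρ (wS s) := by
  rw [wOp, one_add_aOp, one_add_bOp, wS, Rop_mul, Rop_mul]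

theorem opData
    (h0 : ∀ v : V, (∀ s, ρ (uU s) v = v) → (∀ s, ρ (uL s) v = v) → v = 1)
    (h1 : ∀ v : V, ∃ v₁ v₂ : V, (∀ s, ρ (uU s) v₁ = v₁) ∧ (∀ s, ρ (uL s) v₂ = v₂) ∧ v = v₁ * v₂)
    (h2 : ∀ (s s' : F) (v : V), ρ (uU s') (ρ (uU s) v / v) = ρ (uU s) v / v)
    (h3 : ∀ (s s' : F) (v : V), ρ (uL s') (ρ (uL s) v / v) = ρ (uL s) v / v) :
    OpData (aOp ρ) (bOp ρ) := by
  obtain ⟨haa, ha_add⟩ := quad_of ρ uU uU_add h2
  obtain ⟨hbb, hb_add⟩ := quad_of ρ uL uL_add h3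
  refine ⟨ha_add, hb_add, haa, hbb, ?_, ?_, ?_, ?_, ?_⟩
  · intro v hva hvb
    have h := h0 (Additive.toMul v) (fun s => (sub_one_apply_eq_zero ρ _ v).1 (hva s))
      (fun s => (sub_one_apply_eq_zero ρ _ v).1 (hvb s))
    exact congrArg Additive.ofMul h
  · intro v
    obtain ⟨v₁, v₂, hv₁, hv₂, hv⟩ := h1 (Additive.toMul v)
    refine ⟨Additive.ofMul v₁, Additive.ofMul v₂,
      fun s => (sub_one_apply_eq_zero ρ _ _).2 (hv₁ s),
      fun s => (sub_one_apply_eq_zero ρ _ _).2 (hv₂ s), ?_⟩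
    exact congrArg Additive.ofMul hv
  · intro s hs v hv y
    rw [wOp_eq]
    show (Rop ρ (uL y) - 1) (Rop ρ (wS s) v) = 0
    rw [end_sub_apply, end_one_apply, ← end_mul_apply, ← Rop_mul, uL_mul_wS hs, Rop_mul,
      end_mul_apply]
    have hfix : Rop ρ (uU (-(s ^ 2 * y))) v = v := by
      have h := hv (-(s ^ 2 * y))
      rwa [aOp, end_sub_apply, end_one_apply, sub_eq_zero] at h
    rw [hfix, sub_self]
  · intro s hs v hv x
    rw [wOp_eq]
    show (Rop ρ (uU x) - 1) (Rop ρ (wS s) v) = 0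
    rw [end_sub_apply, end_one_apply, ← end_mul_apply, ← Rop_mul, uU_mul_wS hs, Rop_mul,
      end_mul_apply]
    have hfix : Rop ρ (uL (-(x / s ^ 2))) v = v := by
      have h := hv (-(x / s ^ 2))
      rwa [bOp, end_sub_apply, end_one_apply, sub_eq_zero] at h
    rw [hfix, sub_self]
  · intro s t hs ht
    simp only [wOp_eq, ← Rop_mul]
    rw [wS_mul hs ht]

theorem Rop_eq_Phi (d : OpData (aOp ρ) (bOp ρ)) (g : SpecialLinearGroup (Fin 2) F) :
    Rop ρ g = Phi (aOp ρ) (bOp ρ) (g : Matrix (Fin 2) (Fin 2) F) := by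
  have hU : ∀ s, Rop ρ (uU s) = Phi (aOp ρ) (bOp ρ) (uU s : Matrix (Fin 2) (Fin 2) F) :=
    fun s => by rw [uU_val, d.Phi_uU, one_add_aOp]
  have hL : ∀ s, Rop ρ (uL s) = Phi (aOp ρ) (bOp ρ) (uL s : Matrix (Fin 2) (Fin 2) F) :=
    fun s => by rw [uL_val, d.Phi_uL, one_add_bOp]
  have hmul : ∀ g h : SpecialLinearGroup (Fin 2) F,
      Rop ρ g = Phi (aOp ρ) (bOp ρ) (g : Matrix (Fin 2) (Fin 2) F) →
      Rop ρ h = Phi (aOp ρ) (bOp ρ) (h : Matrix (Fin 2) (Fin 2) F) →
      Rop ρ (g * h) = Phi (aOp ρ) (bOp ρ) ((g * h : SpecialLinearGroup (Fin 2) F) :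
        Matrix (Fin 2) (Fin 2) F) := by
    intro g h hg hh
    rw [Rop_mul, hg, hh, coe_mul', d.Phi_mul]
  have hc : ∀ g : SpecialLinearGroup (Fin 2) F, (g : Matrix (Fin 2) (Fin 2) F) 1 0 ≠ 0 →
      Rop ρ g = Phi (aOp ρ) (bOp ρ) (g : Matrix (Fin 2) (Fin 2) F) := by
    intro g hg
    rw [decomp g hg]
    exact hmul _ _ (hmul _ _ (hU _) (hL _)) (hU _)
  by_cases hg : (g : Matrix (Fin 2) (Fin 2) F) 1 0 = 0
  · have e : g = uL (-1) * (uL 1 * g) := by
      rw [← mul_assoc, ← uL_add, neg_add_cancel, uL_zero, one_mul]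
    have h10 : ((uL 1 * g : SpecialLinearGroup (Fin 2) F) : Matrix (Fin 2) (Fin 2) F) 1 0 ≠ 0 := by
      rw [coe_mul', uL_val, Matrix.mul_apply, Fin.sum_univ_two]
      simp only [Matrix.of_apply, Matrix.cons_val', Matrix.cons_val_zero, Matrix.cons_val_one,
        Matrix.cons_val_fin_one, one_mul, hg, add_zero]
      intro h00
      have h := det_eq g
      rw [h00, hg] at h
      simp at h
    rw [e]
    exact hmul _ _ (hL _) (hc _ h10)
  · exact hc g hg

/-- **(NM)** -/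
theorem natural_module_fpf (ρ : SpecialLinearGroup (Fin 2) F →* MulAut V)
    (h0 : ∀ v : V, (∀ s, ρ (uU s) v = v) → (∀ s, ρ (uL s) v = v) → v = 1)
    (h1 : ∀ v : V, ∃ v₁ v₂ : V, (∀ s, ρ (uU s) v₁ = v₁) ∧ (∀ s, ρ (uL s) v₂ = v₂) ∧ v = v₁ * v₂)
    (h2 : ∀ (s s' : F) (v : V), ρ (uU s') (ρ (uU s) v / v) = ρ (uU s) v / v)
    (h3 : ∀ (s s' : F) (v : V), ρ (uL s') (ρ (uL s) v / v) = ρ (uL s) v / v)
    (g : SpecialLinearGroup (Fin 2) F) (hg : detSubOne g ≠ 0) (v : V) (hv : ρ g v = v) :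
    v = 1 := by
  have d := opData ρ h0 h1 h2 h3
  have hPhi := Rop_eq_Phi ρ d g
  have hfix : Phi (aOp ρ) (bOp ρ) (g : Matrix (Fin 2) (Fin 2) F) (Additive.ofMul v) =
      Additive.ofMul v := by
    rw [← hPhi, Rop_apply]
    exact congrArg Additive.ofMul hv
  have h1' : Phi (aOp ρ) (bOp ρ) ((g : Matrix (Fin 2) (Fin 2) F) - 1) (Additive.ofMul v) = 0 := by
    rw [d.Phi_sub, d.Phi_one, end_sub_apply, end_one_apply, hfix, sub_self]
  have hadj : !![(g : Matrix (Fin 2) (Fin 2) F) 1 1 - 1, -(g : Matrix (Fin 2) (Fin 2) F) 0 1;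
        -(g : Matrix (Fin 2) (Fin 2) F) 1 0, (g : Matrix (Fin 2) (Fin 2) F) 0 0 - 1] *
      ((g : Matrix (Fin 2) (Fin 2) F) - 1) = !![detSubOne g, 0; 0, detSubOne g] := by
    ext i j
    fin_cases i <;> fin_cases j <;>
      simp [Matrix.mul_apply, Fin.sum_univ_two, detSubOne] <;> ring
  have hinv : !![(detSubOne g)⁻¹, 0; 0, (detSubOne g)⁻¹] * !![detSubOne g, 0; 0, detSubOne g] =
      (1 : Matrix (Fin 2) (Fin 2) F) := by
    ext i j
    fin_cases i <;> fin_cases j <;> simp [Matrix.mul_apply, Fin.sum_univ_two, hg]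
  have key : Phi (aOp ρ) (bOp ρ) !![(detSubOne g)⁻¹, 0; 0, (detSubOne g)⁻¹] *
      Phi (aOp ρ) (bOp ρ) !![(g : Matrix (Fin 2) (Fin 2) F) 1 1 - 1,
        -(g : Matrix (Fin 2) (Fin 2) F) 0 1;
        -(g : Matrix (Fin 2) (Fin 2) F) 1 0, (g : Matrix (Fin 2) (Fin 2) F) 0 0 - 1] *
      Phi (aOp ρ) (bOp ρ) ((g : Matrix (Fin 2) (Fin 2) F) - 1) = 1 := by
    rw [mul_assoc, ← d.Phi_mul, hadj, ← d.Phi_mul, hinv, d.Phi_one]
  have h4 := DFunLike.congr_fun key (Additive.ofMul v)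
  rw [end_mul_apply, h1', map_zero, end_one_apply] at h4
  exact congrArg Additive.toMul h4.symm

end concrete

end final

end Cfsg.Agent.Helper10.FrakL
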