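import Mathlib

set_option autoImplicit false

namespace Cfsg.Agent.Helper10

open Subgroup

/-- If `Φ(G) = 1`, every abelian normal subgroup has a complement. -/
theorem exists_complement_of_frattini_eq_bot {G : Type*} [Group G] [Finite G] (hΦ : frattini G = ⊥)
    (A : Subgroup G) [A.Normal] [IsMulCommutative A] :
    ∃ H : Subgroup G, A ⊓ H = ⊥ ∧ A ⊔ H = ⊤ := by
  classical
  have hfin : Set.Finite {H : Subgroup G | A ⊔ H = ⊤} := Set.toFinite _
  have hne : Set.Nonempty {H : Subgroup G | A ⊔ H = ⊤} := ⟨⊤, sup_top_eq A⟩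
  obtain ⟨H, hH, hmin⟩ := Set.exists_min_image _ (fun H : Subgroup G => Nat.card H) hfin hne
  have hH' : A ⊔ H = ⊤ := hH
  refine ⟨H, ?_, hH'⟩
  -- A ⊓ H is normal in G
  have hAC : A ≤ centralizer (A : Set G) := Subgroup.le_centralizer_iff_isMulCommutative.mpr inferInstance
  have hnorm : (A ⊓ H).Normal := by
    rw [← Subgroup.normalizer_eq_top_iff, eq_top_iff, ← hH']
    apply sup_le
    · refine le_trans ?_ (Subgroup.centralizer_le_normalizer _)
      refine le_trans hAC (Subgroup.centralizer_le ?_)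
      intro x hx; exact hx.1
    · intro h hh
      rw [Subgroup.mem_normalizer_iff]
      intro x
      constructor
      · intro hx
        exact ⟨(inferInstance : A.Normal).conj_mem x hx.1 h, H.mul_mem (H.mul_mem hh hx.2) (H.inv_mem hh)⟩
      · intro hx
        have h1 := (inferInstance : A.Normal).conj_mem _ hx.1 h⁻¹
        have h2 := H.mul_mem (H.mul_mem (H.inv_mem hh) hx.2) (H.inv_mem (H.inv_mem hh))
        have : h⁻¹ * (h * x * h⁻¹) * h⁻¹⁻¹ = x := by group
        rw [this] at h1 h2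
        exact ⟨h1, h2⟩
  -- A ⊓ H ≤ Φ(G)
  rw [eq_bot_iff, ← hΦ, frattini, Order.radical]
  simp only [le_iInf_iff]
  intro M hM
  by_contra hnot
  have hsup : (A ⊓ H) ⊔ M = ⊤ := by
    by_contra hne'
    have hlt : M < (A ⊓ H) ⊔ M := by
      refine lt_of_le_of_ne le_sup_right ?_
      intro heq
      apply hnot
      rw [heq]
      exact le_sup_left
    exact hne' (hM.2 _ hlt)
  have hHM : A ⊔ (H ⊓ M) = ⊤ := by
    rw [eq_top_iff, ← hH']
    apply sup_le le_sup_left
    intro h hh
    have hg : h ∈ (A ⊓ H) ⊔ M := by rw [hsup]; trivial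
    rw [Subgroup.mem_sup_of_normal_left] at hg
    obtain ⟨d, hd, m, hm, hdm⟩ := hg
    have hmH : m ∈ H := by
      have : m = d⁻¹ * h := by rw [← hdm]; group
      rw [this]; exact H.mul_mem (H.inv_mem hd.2) hh
    rw [← hdm]
    exact Subgroup.mul_mem_sup hd.1 ⟨hmH, hm⟩
  have hcard := hmin (H ⊓ M) hHM
  have heq : H ⊓ M = H := Subgroup.eq_of_le_of_card_ge inf_le_left hcard
  have hHleM : H ≤ M := by rw [← heq]; exact inf_le_right
  exact hnot (le_trans inf_le_right hHleM)

end Cfsg.Agent.Helper10
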