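import Mathlib
import Cfsg.Prelude.Def_Solvable
import Cfsg.Agent.S0042
import Cfsg.Agent.Helper71.FrobCoprime
import Cfsg.Agent.Helper63.Frobenius

/-!
# (FA) for S3999: the data of a Frobenius group (helper10)
-/

set_option autoImplicit false

namespace Cfsg.Agent.Helper10.FrobOT

open Cfsg

universe u

variable {X : Type u} [Group X] [Finite X]

/-- (FA) Frobenius data: nilpotent normal kernel, complement, coprime, covering -/
theorem frob_data {C : Subgroup X} (hC : IsFrobeniusComplement C) :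
    ∃ N : Subgroup X, N.Normal ∧ Group.IsNilpotent N ∧ Subgroup.IsComplement' N C ∧
      (Nat.card N).Coprime (Nat.card C) ∧ 1 < Nat.card N ∧ 1 < Nat.card C ∧
      (∀ x : X, x ∈ N ∨ ∃ g : X, g⁻¹ * x * g ∈ C) := by
  obtain ⟨N, hNn, hNset, hcompl, hcop, -⟩ := Cfsg.Agent.Helper71.frob_kernel_data hC
  obtain ⟨N', hN'set, -, hnil⟩ := Cfsg.Agent.S0042.result C hC
  have hNN' : N' = N := SetLike.coe_injective (hN'set.trans hNset.symm)
  subst hNN'
  refine ⟨N', hNn, hnil, hcompl, hcop.symm, ?_, ?_, ?_⟩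
  · rw [Subgroup.one_lt_card_iff_ne_bot]
    intro hbot
    have h1 := hcompl.sup_eq_top
    rw [hbot, bot_sup_eq] at h1
    exact hC.2.1 h1
  · rw [Subgroup.one_lt_card_iff_ne_bot]
    exact hC.1
  · intro x
    by_cases hx : x ∈ N'
    · exact Or.inl hx
    · right
      have hx' : x ∉ Cfsg.frobeniusKernel C := by
        rw [← hNset]
        exact hx
      exact ((Cfsg.Agent.Helper63.not_mem_frobeniusKernel_iff C x).mp hx').2

end Cfsg.Agent.Helper10.FrobOT
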