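import Mathlib

/-!
# (GA) for S3999: exactly `|X|_p` `p`-elements force a normal Sylow `p`-subgroup (helper10)
-/

set_option autoImplicit false

namespace Cfsg.Agent.Helper10.FrobOT

universe u

variable {X : Type u} [Group X] [Finite X]

theorem exists_normal_sylow_of_card_pElements (p : ℕ) [Fact p.Prime]
    (h : Nat.card {x : X // ∃ k : ℕ, orderOf x = p ^ k} = p ^ (Nat.card X).factorization p) :
    ∃ P : Subgroup X, P.Normal ∧ Nat.card P = p ^ (Nat.card X).factorization p := by
  obtain P : Sylow p X := default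
  have hPcard : Nat.card P = p ^ (Nat.card X).factorization p := Sylow.card_eq_multiplicity P
  have hsub : ((P : Subgroup X) : Set X) ⊆ {x : X | ∃ k : ℕ, orderOf x = p ^ k} := by
    intro x hx
    obtain ⟨j, hj⟩ := (P.2 : IsPGroup p P) ⟨x, hx⟩
    have h1 : x ^ p ^ j = 1 := by simpa using congrArg Subtype.val hj
    obtain ⟨k, -, hk⟩ := (Nat.dvd_prime_pow (Fact.out : p.Prime)).mp (orderOf_dvd_of_pow_eq_one h1)
    exact ⟨k, hk⟩
  have hset : ((P : Subgroup X) : Set X) = {x : X | ∃ k : ℕ, orderOf x = p ^ k} := by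
    apply Set.eq_of_subset_of_ncard_le hsub _ (Set.toFinite _)
    rw [← Nat.card_coe_set_eq, ← Nat.card_coe_set_eq]
    have e1 : Nat.card ↥{x : X | ∃ k : ℕ, orderOf x = p ^ k} =
        p ^ (Nat.card X).factorization p := h
    have e2 : Nat.card ↥((P : Subgroup X) : Set X) = p ^ (Nat.card X).factorization p := hPcard
    rw [e1, e2]
  refine ⟨P, ⟨fun x hx g => ?_⟩, hPcard⟩
  have hx' : x ∈ ((P : Subgroup X) : Set X) := hx
  rw [hset] at hx'
  obtain ⟨k, hk⟩ := hx'
  have h1 : g * x * g⁻¹ ∈ ((P : Subgroup X) : Set X) := by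
    rw [hset]
    refine ⟨k, ?_⟩
    have h2 : orderOf (g * x * g⁻¹) = orderOf x := MulEquiv.orderOf_eq (MulAut.conj g) x
    rw [h2, hk]
  exact h1

end Cfsg.Agent.Helper10.FrobOT
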