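import Mathlib
import Cfsg.Agent.Helper56.SL25Q

/-!
# (ZB2) for S3999: `SL(2,5)` has exactly 24 elements of order 5 (helper10)
-/

set_option autoImplicit false

namespace Cfsg.Agent.Helper10.FrobOT

open Cfsg.Agent.Helper56.SL25Q

set_option maxRecDepth 100000 in
set_option synthInstance.maxSize 4096 in
theorem k_card_five :
    Fintype.card {x : {x : Q5 // qdet x = 1} // qpow x.1 5 = qone ∧ x.1 ≠ qone} = 24 := by
  decide +kernel

theorem orderOf_eq_five_iff (g : SL5) :
    orderOf g = 5 ↔ qpow (q g) 5 = qone ∧ q g ≠ qone := by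
  have : Fact (Nat.Prime 5) := ⟨by norm_num⟩
  rw [orderOf_eq_prime_iff, eq_one_iff, q_pow, Ne, eq_one_iff]

theorem card_orderOf_five_SL25 :
    Nat.card {g : Matrix.SpecialLinearGroup (Fin 2) (ZMod 5) // orderOf g = 5} = 24 := by
  have e : {g : SL5 // orderOf g = 5} ≃
      {x : {x : Q5 // qdet x = 1} // qpow x.1 5 = qone ∧ x.1 ≠ qone} :=
    slEquiv.subtypeEquiv fun g => orderOf_eq_five_iff g
  rw [Nat.card_congr e, Nat.card_eq_fintype_card]
  exact k_card_five

end Cfsg.Agent.Helper10.FrobOT
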