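import Mathlib

/-!
# Order types of finite groups (helper10)

* `exists_orderOf_equiv`: two finite groups with the same order type admit a bijection preserving
  element orders.
* `IsLarge t x`: every prime divisor of the order of `x` is `≥ t`.
* `TowerCount X`: for every `t`, the number of `t`-large elements is the `t`-large part of `|X|`
  (phrased without factorizations).
* `card_isLarge_eq_mul`: for a normal `p`-subgroup `P` and `t ≤ p`, the `t`-large elements of `X`
  are the full preimage of those of `X ⧸ P`.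
* `isSolvable_of_towerCount`: `TowerCount X` forces a Sylow tower, hence solvability.
-/

set_option autoImplicit false

namespace Cfsg.Agent.Helper10.OrderType

universe u v

/-- two finite types with maps to `ℕ` whose fibres have equal cardinalities are equivalent over `ℕ` -/
theorem exists_equiv_of_card_fiber_eq {A : Type u} {B : Type v} [Finite A] [Finite B]
    (f : A → ℕ) (g : B → ℕ)
    (h : ∀ m : ℕ, Nat.card {a : A // f a = m} = Nat.card {b : B // g b = m}) :
    ∃ e : A ≃ B, ∀ a, g (e a) = f a := by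
  have he : ∀ m : ℕ, Nonempty ({a : A // f a = m} ≃ {b : B // g b = m}) := fun m =>
    Finite.card_eq.mp (h m)
  choose em _ using fun m => (⟨(he m).some, trivial⟩ : ∃ _ : {a : A // f a = m} ≃ {b : B // g b = m}, True)
  refine ⟨(Equiv.sigmaFiberEquiv f).symm.trans
    ((Equiv.sigmaCongrRight em).trans (Equiv.sigmaFiberEquiv g)), fun a => ?_⟩
  exact (em (f a) ⟨a, rfl⟩).2

/-- same order type ⟹ an order-preserving bijection -/
theorem exists_orderOf_equiv {G : Type u} {H : Type v} [Group G] [Finite G] [Group H] [Finite H]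
    (hT : ∀ m : ℕ, Nat.card {g : G // orderOf g = m} = Nat.card {h : H // orderOf h = m}) :
    ∃ e : G ≃ H, ∀ g, orderOf (e g) = orderOf g :=
  exists_equiv_of_card_fiber_eq orderOf orderOf hT

/-- every prime divisor of the order of `x` is at least `t` -/
def IsLarge {X : Type u} [Group X] (t : ℕ) (x : X) : Prop :=
  ∀ q : ℕ, q.Prime → q ∣ orderOf x → t ≤ q

/-- for every `t` the number of `t`-large elements is the `t`-large part of the order -/
def TowerCount (X : Type u) [Group X] : Prop :=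
  ∀ t : ℕ, ∃ a b : ℕ, Nat.card X = a * b ∧ (∀ q : ℕ, q.Prime → q ∣ a → t ≤ q) ∧
    (∀ q : ℕ, q.Prime → q ∣ b → q < t) ∧ Nat.card {x : X // IsLarge t x} = a

theorem towerCount_of_equiv {G : Type u} {H : Type v} [Group G] [Group H]
    (e : G ≃ H) (he : ∀ g, orderOf (e g) = orderOf g) (hG : TowerCount G) : TowerCount H := by
  intro t
  obtain ⟨a, b, h1, h2, h3, h4⟩ := hG t
  refine ⟨a, b, ?_, h2, h3, ?_⟩
  · rw [← h1]
    exact (Nat.card_congr e).symm
  · rw [← h4]
    refine (Nat.card_congr (e.subtypeEquiv fun g => ?_)).symm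
    unfold IsLarge
    rw [he]

section Quot

variable {X : Type u} [Group X]

theorem isLarge_one (t : ℕ) : IsLarge t (1 : X) := by
  intro q hq hd
  rw [orderOf_one] at hd
  exact absurd (Nat.dvd_one.mp hd) hq.ne_one

/-- if all primes dividing `|X|` are `< t`, the only `t`-large element is `1` -/
theorem eq_one_of_isLarge [Finite X] {t : ℕ} (h : ∀ q : ℕ, q.Prime → q ∣ Nat.card X → q < t)
    {x : X} (hx : IsLarge t x) : x = 1 := by
  by_contra hne
  have h1 : orderOf x ≠ 1 := fun h1 => hne (orderOf_eq_one_iff.mp h1)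
  obtain ⟨q, hq, hqd⟩ := Nat.exists_prime_and_dvd h1
  have h2 := h q hq (hqd.trans (orderOf_dvd_natCard x))
  have h3 := hx q hq hqd
  omega

theorem card_isLarge_eq_one [Finite X] {t : ℕ}
    (h : ∀ q : ℕ, q.Prime → q ∣ Nat.card X → q < t) : Nat.card {x : X // IsLarge t x} = 1 := by
  rw [Nat.card_eq_one_iff_unique]
  refine ⟨⟨fun a b => ?_⟩, ⟨⟨1, isLarge_one t⟩⟩⟩
  apply Subtype.ext
  rw [eq_one_of_isLarge h a.2, eq_one_of_isLarge h b.2]

/-- `x` is `t`-large iff its image modulo a normal `p`-subgroup (`t ≤ p`) is -/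
theorem isLarge_mk_iff {p : ℕ} (P : Subgroup X) [P.Normal] (hP : IsPGroup p P) (hp : p.Prime)
    {t : ℕ} (htp : t ≤ p) (x : X) :
    IsLarge t (QuotientGroup.mk x : X ⧸ P) ↔ IsLarge t x := by
  constructor
  · intro h q hq hqd
    obtain ⟨k, hk⟩ := hP ⟨x ^ orderOf (QuotientGroup.mk x : X ⧸ P), by
      rw [← QuotientGroup.eq_one_iff, QuotientGroup.mk_pow, pow_orderOf_eq_one]⟩
    have hk' : (x ^ orderOf (QuotientGroup.mk x : X ⧸ P)) ^ p ^ k = 1 := by
      have := congrArg Subtype.val hk
      simpa using this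
    rw [← pow_mul] at hk'
    have hd : q ∣ orderOf (QuotientGroup.mk x : X ⧸ P) * p ^ k :=
      hqd.trans (orderOf_dvd_of_pow_eq_one hk')
    rcases (Nat.Prime.dvd_mul hq).mp hd with h1 | h1
    · exact h q hq h1
    · have : q = p := (Nat.prime_dvd_prime_iff_eq hq hp).mp (hq.dvd_of_dvd_pow h1)
      omega
  · intro h q hq hqd
    refine h q hq (hqd.trans ?_)
    apply orderOf_dvd_of_pow_eq_one
    rw [← QuotientGroup.mk_pow, pow_orderOf_eq_one, QuotientGroup.mk_one]

/-- the `t`-large elements of `X` are the full preimage of those of `X ⧸ P` -/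
theorem card_isLarge_eq_mul [Finite X] {p : ℕ} (P : Subgroup X) [P.Normal] (hP : IsPGroup p P)
    (hp : p.Prime) {t : ℕ} (htp : t ≤ p) :
    Nat.card {x : X // IsLarge t x} = Nat.card P * Nat.card {y : X ⧸ P // IsLarge t y} := by
  have h1 := QuotientGroup.card_preimage_mk P {y : X ⧸ P | IsLarge t y}
  have h2 : Nat.card {x : X // IsLarge t x} =
      Nat.card ↥(QuotientGroup.mk ⁻¹' {y : X ⧸ P | IsLarge t y}) :=
    Nat.card_congr (Equiv.subtypeEquivRight fun x => (isLarge_mk_iff P hP hp htp x).symm)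
  rw [h2, h1]
  rfl

end Quot

/-- the largest prime divisor of `n > 1` -/
theorem exists_largest_prime {n : ℕ} (h1 : n ≠ 1) (hpos : 0 < n) :
    ∃ p, p.Prime ∧ p ∣ n ∧ ∀ q, q.Prime → q ∣ n → q ≤ p := by
  have hne : n.primeFactors.Nonempty := Nat.nonempty_primeFactors.mpr (by omega)
  obtain ⟨p, hpm, hpmax⟩ := Finset.exists_max_image _ id hne
  exact ⟨p, Nat.prime_of_mem_primeFactors hpm, Nat.dvd_of_mem_primeFactors hpm,
    fun q hq hqd => hpmax q (Nat.mem_primeFactors.mpr ⟨hq, hqd, hpos.ne'⟩)⟩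

/-- the quotient by a normal `p`-subgroup, `p` the largest prime, inherits `TowerCount` -/
theorem towerCount_quotient {X : Type u} [Group X] [Finite X] {p : ℕ} (hp : p.Prime)
    (hmax : ∀ q, q.Prime → q ∣ Nat.card X → q ≤ p) (P : Subgroup X) [P.Normal]
    (hP : IsPGroup p P) (hT : TowerCount X) : TowerCount (X ⧸ P) := by
  have hcardQ : Nat.card X = Nat.card (X ⧸ P) * Nat.card P :=
    Subgroup.card_eq_card_quotient_mul_card_subgroup P
  intro t
  by_cases htp : t ≤ p
  · obtain ⟨a', b', hab', ha', hb', hc'⟩ := hT t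
    have hmul := card_isLarge_eq_mul P hP hp htp
    refine ⟨Nat.card {y : X ⧸ P // IsLarge t y}, b', ?_, ?_, hb', rfl⟩
    · have h1 : Nat.card P * Nat.card (X ⧸ P) =
          Nat.card P * (Nat.card {y : X ⧸ P // IsLarge t y} * b') := by
        rw [mul_comm, ← hcardQ, hab', ← hc', hmul, mul_assoc]
      exact Nat.eq_of_mul_eq_mul_left Nat.card_pos h1
    · intro q hq hqd
      apply ha' q hq
      rw [← hc', hmul]
      exact hqd.trans (Dvd.intro_left _ rfl)
  · push Not at htp
    have hsmall : ∀ q, q.Prime → q ∣ Nat.card (X ⧸ P) → q < t := fun q hq hqd =>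
      lt_of_le_of_lt (hmax q hq (hqd.trans ⟨Nat.card P, hcardQ⟩)) htp
    exact ⟨1, Nat.card (X ⧸ P), (one_mul _).symm,
      fun q hq hqd => absurd (Nat.dvd_one.mp hqd) hq.ne_one, hsmall, card_isLarge_eq_one hsmall⟩

/-- conversely `TowerCount` lifts from the quotient by a normal `p`-subgroup, `p` the largest
prime -/
theorem towerCount_of_quotient {X : Type u} [Group X] [Finite X] {p : ℕ} (hp : p.Prime)
    (hmax : ∀ q, q.Prime → q ∣ Nat.card X → q ≤ p) (P : Subgroup X) [P.Normal]
    (hP : IsPGroup p P) (hT : TowerCount (X ⧸ P)) : TowerCount X := by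
  have hcardQ : Nat.card X = Nat.card (X ⧸ P) * Nat.card P :=
    Subgroup.card_eq_card_quotient_mul_card_subgroup P
  intro t
  by_cases htp : t ≤ p
  · obtain ⟨a', b', hab', ha', hb', hc'⟩ := hT t
    have hmul := card_isLarge_eq_mul P hP hp htp
    refine ⟨Nat.card P * a', b', ?_, ?_, hb', ?_⟩
    · rw [hcardQ, hab']
      ring
    · intro q hq hqd
      rcases (Nat.Prime.dvd_mul hq).mp hqd with h1 | h1
      · have : Fact p.Prime := ⟨hp⟩
        obtain ⟨k, hk⟩ := IsPGroup.iff_card.mp hP
        rw [hk] at h1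
        have : q = p := (Nat.prime_dvd_prime_iff_eq hq hp).mp (hq.dvd_of_dvd_pow h1)
        omega
      · exact ha' q hq h1
    · rw [hmul, hc']
  · push Not at htp
    have hsmall : ∀ q, q.Prime → q ∣ Nat.card X → q < t := fun q hq hqd =>
      lt_of_le_of_lt (hmax q hq hqd) htp
    exact ⟨1, Nat.card X, (one_mul _).symm,
      fun q hq hqd => absurd (Nat.dvd_one.mp hqd) hq.ne_one, hsmall, card_isLarge_eq_one hsmall⟩

/-- `TowerCount` gives a normal Sylow subgroup for the largest prime -/
theorem exists_normal_sylow_of_towerCount {X : Type u} [Group X] [Finite X] {p : ℕ}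
    (hp : p.Prime) (hpd : p ∣ Nat.card X) (hmax : ∀ q, q.Prime → q ∣ Nat.card X → q ≤ p)
    (hT : TowerCount X) :
    ∃ P : Subgroup X, P.Normal ∧ IsPGroup p P ∧ 1 < Nat.card P := by
  have : Fact p.Prime := ⟨hp⟩
  have hpos : 0 < Nat.card X := Nat.card_pos
  obtain ⟨a, b, hab, ha, hb, hcount⟩ := hT p
  have ha0 : a ≠ 0 := by
    rintro rfl
    rw [zero_mul] at hab
    omega
  have hb0 : b ≠ 0 := by
    rintro rfl
    rw [mul_zero] at hab
    omega
  obtain ⟨k, rfl⟩ : ∃ k, a = p ^ k :=
    ⟨_, Nat.eq_prime_pow_of_unique_prime_dvd ha0 (fun {d} hd hda =>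
      le_antisymm (hmax d hd (hda.trans ⟨b, hab⟩)) (ha d hd hda))⟩
  have hpb : ¬ p ∣ b := fun h => lt_irrefl p (hb p hp h)
  have hk : k ≠ 0 := by
    rintro rfl
    rw [pow_zero, one_mul] at hab
    exact hpb (hab ▸ hpd)
  obtain P : Sylow p X := default
  have hPcard : Nat.card P = p ^ k := by
    rw [Sylow.card_eq_multiplicity, hab, Nat.factorization_mul (pow_ne_zero k hp.ne_zero) hb0,
      Finsupp.add_apply, Nat.Prime.factorization_pow hp, Finsupp.single_eq_same,
      Nat.factorization_eq_zero_of_not_dvd hpb, add_zero]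
  have hsub : ((P : Subgroup X) : Set X) ⊆ {x : X | IsLarge p x} := by
    intro x hx q hq hqd
    obtain ⟨j, hj⟩ := (P.2 : IsPGroup p P) ⟨x, hx⟩
    have h1 : x ^ p ^ j = 1 := by simpa using congrArg Subtype.val hj
    have h2 := hqd.trans (orderOf_dvd_of_pow_eq_one h1)
    have h3 : q = p := (Nat.prime_dvd_prime_iff_eq hq hp).mp (hq.dvd_of_dvd_pow h2)
    omega
  have hset : ((P : Subgroup X) : Set X) = {x : X | IsLarge p x} := by
    apply Set.eq_of_subset_of_ncard_le hsub _ (Set.toFinite _)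
    rw [← Nat.card_coe_set_eq, ← Nat.card_coe_set_eq]
    have e1 : Nat.card ↥{x : X | IsLarge p x} = p ^ k := hcount
    have e2 : Nat.card ↥((P : Subgroup X) : Set X) = p ^ k := hPcard
    rw [e1, e2]
  refine ⟨P, ⟨fun x hx g => ?_⟩, P.2, ?_⟩
  · have hx' : x ∈ ((P : Subgroup X) : Set X) := hx
    rw [hset] at hx'
    have h1 : g * x * g⁻¹ ∈ ((P : Subgroup X) : Set X) := by
      rw [hset]
      intro q hq hqd
      apply hx' q hq
      have h2 : orderOf (g * x * g⁻¹) = orderOf x := MulEquiv.orderOf_eq (MulAut.conj g) x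
      rwa [h2] at hqd
    exact h1
  · rw [hPcard]
    exact Nat.one_lt_pow hk hp.one_lt

/-- `TowerCount` forces solvability -/
theorem isSolvable_of_towerCount : ∀ (n : ℕ) (X : Type u) [Group X] [Finite X],
    Nat.card X = n → TowerCount X → Group.IsSolvable X := by
  intro n
  induction n using Nat.strong_induction_on with
  | _ n ih =>
  intro X _ _ hn hT
  by_cases h1 : n = 1
  · have : Subsingleton X := (Nat.card_eq_one_iff_unique.mp (hn.trans h1)).1
    infer_instance
  have hpos : 0 < n := hn ▸ Nat.card_pos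
  obtain ⟨p, hp, hpd, hmax⟩ := exists_largest_prime h1 hpos
  have : Fact p.Prime := ⟨hp⟩
  rw [← hn] at hpd hmax
  obtain ⟨P, hPn, hPp, hP1⟩ := exists_normal_sylow_of_towerCount hp hpd hmax hT
  have hTQ := towerCount_quotient hp hmax P hPp hT
  have hcardQ : Nat.card X = Nat.card (X ⧸ P) * Nat.card P :=
    Subgroup.card_eq_card_quotient_mul_card_subgroup P
  have hlt : Nat.card (X ⧸ P) < n := by
    rw [← hn, hcardQ]
    exact (Nat.lt_mul_iff_one_lt_right Nat.card_pos).mpr hP1
  have hQs : Group.IsSolvable (X ⧸ P) := ih _ hlt (X ⧸ P) rfl hTQ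
  have hPs : Group.IsSolvable P := by
    have := hPp.isNilpotent
    infer_instance
  refine Group.isSolvable_of_ker_le_range P.subtype (QuotientGroup.mk' P) ?_
  rw [QuotientGroup.ker_mk', Subgroup.range_subtype]

end Cfsg.Agent.Helper10.OrderType
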