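import Mathlib
import Cfsg.Prelude.Def_Solvable
import Cfsg.Agent.Helper10.OrderType
import Cfsg.Agent.Helper10.FrobOTFA
import Cfsg.Agent.Helper10.FrobOTGA
import Cfsg.Agent.Helper10.FrobOTZB2
import Cfsg.Agent.Helper29.FrobOTFC
import Cfsg.Agent.Helper29.FrobOTGB
import Cfsg.Agent.Helper89.FrobOTGC
import Cfsg.Agent.Helper89.FrobOTZC
import Cfsg.Agent.Helper63.FrobOTZB1
import Cfsg.Agent.Helper73.FrobOTZB3
import Cfsg.Agent.Helper73.FrobOTZA
import Cfsg.Agent.S3359

/-!
# S3999 assembly (helper10): a group with the order type of a Frobenius group is Frobenius,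
and it is solvable iff the Frobenius group is.

Pieces: (FA)(GA)(ZB2) helper10, (FC)(GB) helper29, (GC)(ZC) helper89, (ZB1) helper63,
(ZB3)(ZA) helper73.
-/

set_option autoImplicit false

namespace Cfsg.Agent.Helper10.FrobOT

open Cfsg

universe u v

theorem orderOf_conj' {X : Type u} [Group X] (g x : X) : orderOf (g⁻¹ * x * g) = orderOf x := by
  have h := MulEquiv.orderOf_eq (MulAut.conj g⁻¹) x
  rwa [MulAut.conj_apply, inv_inv] at h

section

variable {F : Type u} {G : Type v} [Group F] [Finite F] [Group G] [Finite G]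

omit [Finite F] in
/-- element orders of a Frobenius group -/
theorem frob_orderOf_dvd {N C : Subgroup F}
    (hcover : ∀ x : F, x ∈ N ∨ ∃ g : F, g⁻¹ * x * g ∈ C) (x : F) :
    orderOf x ∣ Nat.card N ∨ orderOf x ∣ Nat.card C := by
  rcases hcover x with h | ⟨g, hg⟩
  · left
    have := orderOf_dvd_natCard (⟨x, h⟩ : N)
    rwa [Subgroup.orderOf_mk] at this
  · right
    have := orderOf_dvd_natCard (⟨_, hg⟩ : C)
    rwa [Subgroup.orderOf_mk, orderOf_conj'] at this

/-- (A) a group with the order type of a Frobenius group is a Frobenius group -/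
theorem exists_frobenius_of_orderType {C₀ : Subgroup F} (hC₀ : IsFrobeniusComplement C₀)
    (e : F ≃ G) (he : ∀ x, orderOf (e x) = orderOf x) :
    ∃ C : Subgroup G, IsFrobeniusComplement C := by
  obtain ⟨N₀, hN₀n, hnil, hcompl, hcop, hν1, hc1, hcover⟩ := frob_data hC₀
  have hFcard : Nat.card N₀ * Nat.card C₀ = Nat.card F := hcompl.card_mul_card
  have hidx : N₀.index = Nat.card C₀ := hcompl.symm.index_eq_card
  have hGF : Nat.card G = Nat.card F := (Nat.card_congr e).symm
  -- normal Sylow subgroups of `G` for the primes of `ν`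
  have hsyl : ∀ p : ℕ, p.Prime → p ∣ Nat.card N₀ →
      ∃ P : Subgroup G, P.Normal ∧ Nat.card P = p ^ (Nat.card G).factorization p := by
    intro p hp hpd
    have : Fact p.Prime := ⟨hp⟩
    have h1 := Cfsg.Agent.Helper29.FrobOT.card_pElements_of_nilpotent_normal_hall N₀ hnil (hidx ▸ hcop) p hpd
    apply exists_normal_sylow_of_card_pElements p
    rw [hGF, ← h1]
    refine (Nat.card_congr (e.subtypeEquiv fun x => ?_)).symm
    rw [he]
  obtain ⟨N, hNn, hNcard⟩ := Cfsg.Agent.Helper29.FrobOT.exists_normal_card_eq_of_normal_sylows (Nat.card N₀) (Nat.card C₀)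
    (hGF.trans hFcard.symm) hcop hsyl
  have hNidx : N.index = Nat.card C₀ := by
    have h1 := Subgroup.card_mul_index N
    rw [hNcard, hGF, ← hFcard] at h1
    exact Nat.eq_of_mul_eq_mul_left (by omega) h1
  refine Cfsg.Agent.Helper89.FrobOT.exists_frobenius_complement_of_no_mixed N (hNcard ▸ hν1) (hNidx ▸ hc1)
    (by rw [hNcard, hNidx]; exact hcop) ?_
  intro p q hp hq hpd hqd x hx
  rw [hNcard] at hpd
  rw [hNidx] at hqd
  have hy : orderOf (e.symm x) = p * q := by
    rw [← hx, ← he (e.symm x), Equiv.apply_symm_apply]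
  rcases frob_orderOf_dvd hcover (e.symm x) with h | h
  · rw [hy] at h
    have hq1 : q ∣ Nat.card N₀ := (Dvd.intro_left p rfl).trans h
    have := Nat.eq_one_of_dvd_coprimes hcop hq1 hqd
    exact hq.ne_one this
  · rw [hy] at h
    have hp1 : p ∣ Nat.card C₀ := (Dvd.intro q rfl).trans h
    have := Nat.eq_one_of_dvd_coprimes hcop hpd hp1
    exact hp.ne_one this

/-- (B) a group with the order type of a non-solvable Frobenius group is not solvable -/
theorem not_isSolvable_of_orderType {C₀ : Subgroup F} (hC₀ : IsFrobeniusComplement C₀)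
    (hns : ¬ Group.IsSolvable F) (e : F ≃ G) (he : ∀ x, orderOf (e x) = orderOf x) :
    ¬ Group.IsSolvable G := by
  obtain ⟨N₀, hN₀n, hnil, hcompl, hcop, hν1, hc1, hcover⟩ := frob_data hC₀
  have hFcard : Nat.card N₀ * Nat.card C₀ = Nat.card F := hcompl.card_mul_card
  have hidx : C₀.index = Nat.card N₀ := hcompl.index_eq_card
  have hGF : Nat.card G = Nat.card F := (Nat.card_congr e).symm
  -- the complement is not solvable
  have hnsC : ¬ Group.IsSolvable C₀ := by
    intro hsC
    apply hns
    have hN₀s : Group.IsSolvable N₀ := inferInstance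
    have hsurj : Function.Surjective ((QuotientGroup.mk' N₀).comp C₀.subtype) := by
      intro y
      obtain ⟨x, rfl⟩ := QuotientGroup.mk'_surjective N₀ y
      obtain ⟨⟨⟨n, hn⟩, ⟨c, hc⟩⟩, hnc⟩ := hcompl.2 x
      refine ⟨⟨c, hc⟩, ?_⟩
      simp only at hnc
      show (QuotientGroup.mk' N₀) c = (QuotientGroup.mk' N₀) x
      rw [← hnc, map_mul]
      have : (QuotientGroup.mk' N₀) n = 1 := (QuotientGroup.eq_one_iff n).mpr hn
      rw [this, one_mul]
    have hQs : Group.IsSolvable (F ⧸ N₀) := Group.isSolvable_of_surjective hsurj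
    refine Group.isSolvable_of_ker_le_range N₀.subtype (QuotientGroup.mk' N₀) ?_
    rw [QuotientGroup.ker_mk', Subgroup.range_subtype]
  obtain ⟨h2, h5, h24⟩ := Cfsg.Agent.Helper73.FrobOT.five_data_of_structure
    (Cfsg.Agent.S3359.result hnsC (Cfsg.Agent.Helper63.FrobOT.exists_frobenius_type_zero hC₀)) card_orderOf_five_SL25
  have h5c : 5 ∣ Nat.card C₀ := by
    by_contra hnd
    rw [Nat.factorization_eq_zero_of_not_dvd hnd] at h5
    omega
  have h5ν : ¬ 5 ∣ Nat.card N₀ := fun h =>
    absurd (Nat.eq_one_of_dvd_coprimes hcop h h5c) (by norm_num)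
  have hνodd : Odd (Nat.card N₀) := by
    rw [← Nat.not_even_iff_odd, even_iff_two_dvd]
    exact fun h => absurd (Nat.eq_one_of_dvd_coprimes hcop h h2) (by norm_num)
  have hcountF := Cfsg.Agent.Helper73.FrobOT.card_orderOf_eq_of_frobenius hC₀ 5 (hidx ▸ h5ν)
  rw [h24, hidx] at hcountF
  have hcountG : Nat.card {x : G // orderOf x = 5} = 24 * Nat.card N₀ := by
    rw [mul_comm, ← hcountF]
    refine (Nat.card_congr (e.subtypeEquiv fun x => ?_)).symm
    rw [he]
  have h5G : (Nat.card G).factorization 5 = 1 := by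
    rw [hGF, ← hFcard, Nat.factorization_mul (by omega) (by omega), Finsupp.add_apply,
      Nat.factorization_eq_zero_of_not_dvd h5ν, h5, zero_add]
  exact Cfsg.Agent.Helper89.FrobOT.not_isSolvable_of_card_orderOf_five h5G (Nat.card N₀) hνodd hcountG

end

end Cfsg.Agent.Helper10.FrobOT
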