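import Mathlib
import Cfsg.Prelude.Def_Transfer
import Cfsg.Prelude.Def_PLocal
import Cfsg.Prelude.Def_TwoFusion
import Cfsg.Agent.Helper64.GT
import Cfsg.Agent.Lib.Nilpotent
import Cfsg.Agent.Lib.ZJ10

/-!
# The Glauberman–Thompson normal `p`-complement theorem relative to a strongly closed subgroup

A port of `Cfsg.Agent.Helper64.GT` (helper64) to functors evaluated on a subgroup `D` of a Sylow
`p`-subgroup `P` that is strongly closed in `P` with respect to `G`:
`N_G(W(D))` has a normal `p`-complement ⟹ `G` has one (`hasNormalPComplement_of_gtFunctorD`).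
-/

set_option autoImplicit false

namespace Cfsg.Agent.Helper10.GTD

open Subgroup
open scoped commutatorElement
open Cfsg.Agent.Helper64

universe u

/-- data for a Glauberman-type functor, relative version -/
structure GTFunctorD (p : ℕ) (W : ∀ (K : Type u) [Group K], Subgroup K → Subgroup K) : Prop where
  le : ∀ (K : Type u) [Group K] [Finite K] (S : Subgroup K), IsPGroup p S → W K S ≤ S
  ne_bot : ∀ (K : Type u) [Group K] [Finite K] (S : Subgroup K), IsPGroup p S → S ≠ ⊥ → W K S ≠ ⊥
  map : ∀ (K K' : Type u) [Group K] [Group K'] [Finite K] [Finite K'] (f : K →* K')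
      (S : Subgroup K), IsPGroup p S → Function.Injective (f.comp S.subtype) →
      W K' (S.map f) = (W K S).map f
  normal : ∀ (K : Type u) [Group K] [Finite K],
      centralizer (Cfsg.pCore p K : Set K) ≤ Cfsg.pCore p K →
      (∀ (V : Subgroup K) [V.Normal], IsPGroup p V → Cfsg.IsPStableOn p V) →
      ∀ (S : Sylow p K) (D : Subgroup K), Cfsg.IsStronglyClosed D (S : Subgroup K) →
        (W K D).Normal

section basic

variable {p : ℕ} {W : ∀ (K : Type u) [Group K], Subgroup K → Subgroup K}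

theorem GTFunctorD.normalizer_le (hW : GTFunctorD p W) (G : Type u) [Group G] [Finite G]
    (S : Subgroup G) (hS : IsPGroup p S) :
    normalizer (S : Set G) ≤ normalizer (W G S : Set G) := by
  intro g hg
  apply mem_normalizer_of_map_conj_eq
  have hinj : Function.Injective ((MulAut.conj g).toMonoidHom.comp S.subtype) :=
    (MulAut.conj g).injective.comp S.subtype_injective
  rw [← hW.map G G (MulAut.conj g).toMonoidHom S hS hinj, map_conj_eq_of_mem_normalizer hg]

theorem GTFunctorD.isPGroup (hW : GTFunctorD p W) (G : Type u) [Group G] [Finite G]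
    {S : Subgroup G} (hS : IsPGroup p S) : IsPGroup p (W G S) := hS.to_le (hW.le G S hS)

/-- strong closure is invariant under conjugation -/
theorem stronglyClosed_conj {G : Type*} [Group G] {D P : Subgroup G}
    (hD : Cfsg.IsStronglyClosed D P) (g : G) :
    Cfsg.IsStronglyClosed (D.map (MulAut.conj g).toMonoidHom) (P.map (MulAut.conj g).toMonoidHom) := by
  refine ⟨Subgroup.map_mono hD.1, ?_⟩
  rintro _ ⟨d, hd, rfl⟩ h hh
  obtain ⟨y, hy, hyx⟩ := hh
  have e1 : (MulAut.conj g).toMonoidHom d = g * d * g⁻¹ := rfl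
  have e2 : (MulAut.conj g).toMonoidHom y = g * y * g⁻¹ := rfl
  rw [e1] at hyx ⊢
  rw [e2] at hyx
  have hy' : y = (g⁻¹ * h * g) * d * (g⁻¹ * h * g)⁻¹ := by
    have : y = g⁻¹ * (g * y * g⁻¹) * g := by group
    rw [this, hyx]; group
  have h1 : (g⁻¹ * h * g) * d * (g⁻¹ * h * g)⁻¹ ∈ D := hD.2 d hd _ (hy' ▸ hy)
  refine ⟨(g⁻¹ * h * g) * d * (g⁻¹ * h * g)⁻¹, h1, ?_⟩
  show g * ((g⁻¹ * h * g) * d * (g⁻¹ * h * g)⁻¹) * g⁻¹ = _
  group

variable [hp : Fact p.Prime]

/-- the hypothesis is invariant under conjugation -/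
theorem GTFunctorD.hyp_conj (hW : GTFunctorD p W) (G : Type u) [Group G] [Finite G]
    (D : Subgroup G) (hDp : IsPGroup p D) (g : G)
    (h : Cfsg.HasNormalPComplement p (normalizer (W G D : Set G))) :
    Cfsg.HasNormalPComplement p
      (normalizer (W G (D.map (MulAut.conj g).toMonoidHom) : Set G)) := by
  have hinj : Function.Injective ((MulAut.conj g).toMonoidHom.comp D.subtype) :=
    (MulAut.conj g).injective.comp D.subtype_injective
  rw [hW.map G G (MulAut.conj g).toMonoidHom D hDp hinj, ← Subgroup.map_equiv_normalizer_eq]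
  exact hasNormalPComplement_map _ _ h

end basic

section main

variable {p : ℕ} [hp : Fact p.Prime] {W : ∀ (K : Type u) [Group K], Subgroup K → Subgroup K}

/-- the induction hypothesis: the theorem holds for groups of smaller order -/
def GTDIH (p : ℕ) [Fact p.Prime] (W : ∀ (K : Type u) [Group K], Subgroup K → Subgroup K)
    (n : ℕ) : Prop :=
  ∀ (G' : Type u) [Group G'] [Finite G'], Nat.card G' < n →
    ∀ (P' : Sylow p G') (D' : Subgroup G'), Cfsg.IsStronglyClosed D' (P' : Subgroup G') →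
      Cfsg.HasNormalPComplement p (normalizer (W G' D' : Set G')) →
      Cfsg.HasNormalPComplement p G'

/-- the hypothesis on `G`, in conjugation invariant form -/
def GTDHyp (p : ℕ) [Fact p.Prime] (W : ∀ (K : Type u) [Group K], Subgroup K → Subgroup K)
    (G : Type u) [Group G] : Prop :=
  ∀ S : Sylow p G, ∃ E : Subgroup G, Cfsg.IsStronglyClosed E (S : Subgroup G) ∧
    Cfsg.HasNormalPComplement p (normalizer (W G E : Set G))

theorem GTFunctorD.hyp_of_one (hW : GTFunctorD p W) (G : Type u) [Group G] [Finite G]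
    (P : Sylow p G) (D : Subgroup G) (hD : Cfsg.IsStronglyClosed D (P : Subgroup G))
    (h : Cfsg.HasNormalPComplement p (normalizer (W G D : Set G))) : GTDHyp p W G := by
  intro S
  obtain ⟨g, hg⟩ := MulAction.exists_smul_eq G P S
  have h1 : (S : Subgroup G) = (P : Subgroup G).map (MulAut.conj g).toMonoidHom := by
    rw [← hg, Sylow.coe_subgroup_smul]; rfl
  refine ⟨D.map (MulAut.conj g).toMonoidHom, ?_, ?_⟩
  · rw [h1]; exact stronglyClosed_conj hD g
  · exact hW.hyp_conj G D (P.2.to_le hD.1) g h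

/-- in a counterexample the strongly closed subgroups are nontrivial -/
theorem GTFunctorD.ne_bot_of_not (hW : GTFunctorD p W) (G : Type u) [Group G] [Finite G]
    (hG : ¬ Cfsg.HasNormalPComplement p G) (E : Subgroup G)
    (h : Cfsg.HasNormalPComplement p (normalizer (W G E : Set G))) : E ≠ ⊥ := by
  intro hE
  apply hG
  have h1 : W G E = ⊥ := by
    rw [eq_bot_iff, hE]
    have := hW.le G (⊥ : Subgroup G) (IsPGroup.of_bot)
    exact this
  have h2 : normalizer (W G E : Set G) = ⊤ := by
    rw [h1]; exact Subgroup.normalizer_eq_top_iff.mpr inferInstance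
  rw [h2] at h
  exact hasNormalPComplement_of_top h

theorem mem_normalizer_of_stronglyClosed {G : Type*} [Group G] {E S : Subgroup G}
    (hE : Cfsg.IsStronglyClosed E S) {x : G} (hx : x ∈ S) : x ∈ normalizer (E : Set G) := by
  rw [mem_normalizer_iff]
  intro h
  constructor
  · intro hh
    exact hE.2 h hh x (S.mul_mem (S.mul_mem hx (hE.1 hh)) (S.inv_mem hx))
  · intro hh
    have h1 := hE.2 _ hh x⁻¹ (by
      have : x⁻¹ * (x * h * x⁻¹) * x⁻¹⁻¹ = x⁻¹ * (x * h * x⁻¹) * x := by group
      rw [this]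
      exact S.mul_mem (S.mul_mem (S.inv_mem hx) (hE.1 hh)) hx)
    have h2 : x⁻¹ * (x * h * x⁻¹) * x⁻¹⁻¹ = h := by group
    rwa [h2] at h1

/-- **Step B**: a nontrivial `p`-subgroup whose normalizer is proper and not `p`-nilpotent can be
replaced by one with a larger `p`-part of the normalizer. -/
theorem GTFunctorD.stepB (hW : GTFunctorD p W) (G : Type u) [Group G] [Finite G]
    (ih : GTDIH p W (Nat.card G)) (hyp : GTDHyp p W G)
    (hG : ¬ Cfsg.HasNormalPComplement p G)
    (Q : Subgroup G) (hQ : IsPGroup p Q) (hQ1 : Q ≠ ⊥)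
    (hQn : ¬ Cfsg.HasNormalPComplement p (normalizer (Q : Set G)))
    (hne : normalizer (Q : Set G) ≠ ⊤) :
    ∃ Q' : Subgroup G, IsPGroup p Q' ∧ Q' ≠ ⊥ ∧
      ¬ Cfsg.HasNormalPComplement p (normalizer (Q' : Set G)) ∧
      (Nat.card (normalizer (Q : Set G))).factorization p <
        (Nat.card (normalizer (Q' : Set G))).factorization p := by
  set N := normalizer (Q : Set G) with hN
  have hcard : Nat.card N < Nat.card G := card_subgroup_lt_of_ne_top hne
  obtain ⟨R'⟩ : Nonempty (Sylow p N) := inferInstance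
  set R : Subgroup G := (R' : Subgroup N).map N.subtype with hR
  have hRp : IsPGroup p R := R'.2.map N.subtype
  have hRN : R ≤ N := Subgroup.map_subtype_le _
  have hQR : Q ≤ R := by
    have hQn' : (Q.subgroupOf N).Normal := by rw [hN]; exact Subgroup.normal_in_normalizer
    have h1 : Q.subgroupOf N ≤ R' :=
      Cfsg.Agent.Lib.normal_pGroup_le_sylow hQn' (hQ.comap_subtype) R'
    have h2 := Subgroup.map_mono (f := N.subtype) h1
    rwa [Subgroup.map_subgroupOf_eq_of_le (by rw [hN]; exact le_normalizer)] at h2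
  obtain ⟨S, hRS⟩ := hRp.exists_le_sylow
  obtain ⟨E, hE, hEn⟩ := hyp S
  have hE1 : E ≠ ⊥ := hW.ne_bot_of_not G hG E hEn
  have hEp : IsPGroup p E := S.2.to_le hE.1
  -- `S ⊓ N = R`
  have hSN : (S : Subgroup G) ⊓ N = R := by
    have h1 : IsPGroup p (((S : Subgroup G) ⊓ N).subgroupOf N) :=
      (S.2.to_le inf_le_left).comap_subtype
    have h2 : (R' : Subgroup N) ≤ ((S : Subgroup G) ⊓ N).subgroupOf N := by
      intro x hx
      rw [Subgroup.mem_subgroupOf]
      exact ⟨hRS ⟨x, hx, rfl⟩, x.2⟩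
    have h3 := R'.is_maximal' h1 h2
    rw [hR, ← h3, Subgroup.map_subgroupOf_eq_of_le inf_le_right]
  set E₁ : Subgroup G := E ⊓ R with hE₁
  have hE₁R : E₁ ≤ R := inf_le_right
  have hE₁N : E₁ ≤ N := hE₁R.trans hRN
  have hE₁p : IsPGroup p E₁ := hRp.to_le hE₁R
  set E₁' : Subgroup N := E₁.subgroupOf N with hE₁'
  have hE₁map : E₁'.map N.subtype = E₁ := Subgroup.map_subgroupOf_eq_of_le hE₁N
  have hE₁'p : IsPGroup p E₁' := hE₁p.comap_subtype
  have hsc : Cfsg.IsStronglyClosed E₁' (R' : Subgroup N) := by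
    have hmemR : ∀ y : N, (y : G) ∈ R → y ∈ (R' : Subgroup N) := by
      intro y hy
      obtain ⟨y', hy', hyy⟩ := hy
      have : y' = y := Subtype.ext hyy
      rwa [← this]
    refine ⟨fun x hx => hmemR x (hE₁R (Subgroup.mem_subgroupOf.mp hx)), ?_⟩
    intro x hx n hn
    rw [Subgroup.mem_subgroupOf] at hx ⊢
    have hnR : ((n * x * n⁻¹ : N) : G) ∈ R := ⟨_, hn, rfl⟩
    refine ⟨?_, hnR⟩
    have := hE.2 (x : G) hx.1 (n : G) (hRS (by simpa using hnR))
    simpa using this
  have hnotN : ¬ Cfsg.HasNormalPComplement p (normalizer (W N E₁' : Set N)) := by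
    intro h
    apply hQn
    exact ih N hcard R' E₁' hsc h
  have hinj : Function.Injective (N.subtype.comp E₁'.subtype) :=
    N.subtype_injective.comp (Subgroup.subtype_injective _)
  have hWE : W G E₁ = (W N E₁').map N.subtype := by
    rw [← hW.map N G N.subtype E₁' hE₁'p hinj, hE₁map]
  have hnot : ¬ Cfsg.HasNormalPComplement p (normalizer (W G E₁ : Set G)) := by
    intro h
    rw [hWE] at h
    exact hnotN (hasNormalPComplement_normalizer_of_subtype N _ h)
  -- `E₁ ≠ ⊥`
  have hE₁1 : E₁ ≠ ⊥ := by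
    have : Group.IsNilpotent (S : Subgroup G) := S.2.isNilpotent
    have hEn' : (E.subgroupOf (S : Subgroup G)).Normal :=
      Cfsg.Agent.Lib.ZJ.normal_subgroupOf_of_stronglyClosed hE
    have hEne : E.subgroupOf (S : Subgroup G) ≠ ⊥ := by
      intro h
      apply hE1
      have := Subgroup.map_subgroupOf_eq_of_le hE.1
      rw [h, Subgroup.map_bot] at this
      exact this.symm
    have h1 := Cfsg.Agent.Lib.normal_inf_center_ne_bot (E.subgroupOf (S : Subgroup G)) hEne
    obtain ⟨z, hz, hz1⟩ := (Subgroup.ne_bot_iff_exists_ne_one (H := _)).mp h1 |>.imp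
      (fun z hz => hz) |> fun ⟨z, hz⟩ => (⟨z.1, z.2, fun h => hz (Subtype.ext h)⟩ :
        ∃ z : (S : Subgroup G), z ∈ E.subgroupOf (S : Subgroup G) ⊓ Subgroup.center (S : Subgroup G) ∧ z ≠ 1)
    have hzE : (z : G) ∈ E := Subgroup.mem_subgroupOf.mp hz.1
    have hzc : ∀ s ∈ (S : Subgroup G), s * (z : G) = (z : G) * s := by
      intro s hs
      have := (Subgroup.mem_center_iff.mp hz.2) ⟨s, hs⟩
      exact congrArg Subtype.val this
    have hzN : (z : G) ∈ N := by
      rw [hN, mem_normalizer_iff]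
      intro q
      constructor
      · intro hq
        have := hzc q (hRS (hQR hq))
        have e : (z : G) * q * (z : G)⁻¹ = q := by rw [← this]; group
        rwa [e]
      · intro hq
        have := hzc _ (hRS (hQR hq))
        have e : (z : G) * q * (z : G)⁻¹ = q := by
          have h2 : (z : G) * q * (z : G)⁻¹ * (z : G) = (z : G) * ((z : G) * q * (z : G)⁻¹) := this
          have h3 : (z : G) * q = (z : G) * ((z : G) * q * (z : G)⁻¹) := by
            rw [← h2]; group
          exact (mul_left_cancel h3).symm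
        rwa [e] at hq
    have hzR : (z : G) ∈ R := by
      rw [← hSN]; exact ⟨z.2, hzN⟩
    intro hbot
    apply hz1
    have : (z : G) ∈ E₁ := ⟨hzE, hzR⟩
    rw [hbot, Subgroup.mem_bot] at this
    exact Subtype.ext this
  have hRS' : R ≠ S := by
    intro h
    apply hnot
    have : E₁ = E := by rw [hE₁, h]; exact inf_eq_left.mpr hE.1
    rw [this]
    exact hEn
  refine ⟨W G E₁, hW.isPGroup G hE₁p, hW.ne_bot G E₁ hE₁p hE₁1, hnot, ?_⟩
  -- the `p`-part grows
  have hcardR : Nat.card R = p ^ (Nat.card N).factorization p := by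
    rw [hR, Subgroup.card_map_of_injective N.subtype_injective, R'.card_eq_multiplicity]
  have hlt : R < S := lt_of_le_of_ne hRS hRS'
  obtain ⟨x, hxS, hxR, hxN⟩ :=
    Cfsg.Agent.Helper78.exists_mem_normalizer_not_mem (S : Subgroup G) S.2 R hlt
  set R₁ := R ⊔ zpowers x with hR₁
  have hR₁S : R₁ ≤ S := sup_le hRS (by rw [Subgroup.zpowers_le]; exact hxS)
  have hR₁p : IsPGroup p R₁ := S.2.to_le hR₁S
  have hRR₁ : R < R₁ := by
    refine lt_of_le_of_ne le_sup_left fun h => hxR ?_
    rw [h]
    exact Subgroup.mem_sup_right (Subgroup.mem_zpowers x)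
  have hR₁NR : R₁ ≤ normalizer (R : Set G) :=
    sup_le le_normalizer (by rw [Subgroup.zpowers_le]; exact hxN)
  have hR₁NE : R₁ ≤ normalizer (E : Set G) := fun y hy =>
    mem_normalizer_of_stronglyClosed hE (hR₁S hy)
  have hR₁N : R₁ ≤ normalizer (W G E₁ : Set G) := by
    refine le_trans ?_ (hW.normalizer_le G E₁ hE₁p)
    intro y hy
    have h1 := mem_normalizer_iff.mp (hR₁NE hy)
    have h2 := mem_normalizer_iff.mp (hR₁NR hy)
    rw [mem_normalizer_iff]
    intro h
    rw [hE₁, Subgroup.mem_inf, Subgroup.mem_inf, h1 h, h2 h]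
  obtain ⟨j, hj⟩ := IsPGroup.iff_card.mp hR₁p
  have hcardlt := Cfsg.Agent.Lib.ZJ.card_lt_of_lt hRR₁
  rw [hcardR, hj] at hcardlt
  have hjlt : (Nat.card N).factorization p < j := (Nat.pow_lt_pow_iff_right hp.out.one_lt).mp hcardlt
  have hdvd : p ^ j ∣ Nat.card (normalizer (W G E₁ : Set G)) := by
    rw [← hj]
    exact Subgroup.card_dvd_of_le hR₁N
  have hjle : j ≤ (Nat.card (normalizer (W G E₁ : Set G))).factorization p :=
    (hp.out.pow_dvd_iff_le_factorization Nat.card_pos.ne').mp hdvd
  exact lt_of_lt_of_le hjlt hjle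

/-- **Lemma A'**: a nontrivial `p`-subgroup normalized by a Sylow `p`-subgroup is normal, or its
normalizer is `p`-nilpotent. -/
theorem GTFunctorD.normalizer_eq_top_of_sylow_le (hW : GTFunctorD p W) (G : Type u) [Group G]
    [Finite G] (ih : GTDIH p W (Nat.card G)) (hyp : GTDHyp p W G)
    (hG : ¬ Cfsg.HasNormalPComplement p G)
    (K : Subgroup G) (hK : IsPGroup p K) (hK1 : K ≠ ⊥)
    (hKn : ¬ Cfsg.HasNormalPComplement p (normalizer (K : Set G)))
    (P : Sylow p G) (hPK : (P : Subgroup G) ≤ normalizer (K : Set G)) :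
    normalizer (K : Set G) = ⊤ := by
  by_contra hne
  obtain ⟨Q', -, -, -, hlt⟩ := hW.stepB G ih hyp hG K hK hK1 hKn hne
  have h1 : (Nat.card G).factorization p ≤ (Nat.card (normalizer (K : Set G))).factorization p := by
    have hd : p ^ (Nat.card G).factorization p ∣ Nat.card (normalizer (K : Set G)) := by
      rw [← P.card_eq_multiplicity]
      exact Subgroup.card_dvd_of_le hPK
    exact (hp.out.pow_dvd_iff_le_factorization Nat.card_pos.ne').mp hd
  have h2 := factorization_card_le (normalizer (Q' : Set G)) p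
  omega

/-- **Lemma A**: in a counterexample of minimal order, `O_p(G) ≠ 1`. -/
theorem GTFunctorD.pCore_ne_bot (hW : GTFunctorD p W) (G : Type u) [Group G] [Finite G]
    (ih : GTDIH p W (Nat.card G)) (hyp : GTDHyp p W G)
    (hG : ¬ Cfsg.HasNormalPComplement p G) : Cfsg.pCore p G ≠ ⊥ := by
  set 𝓗 : Set (Subgroup G) := {Q | IsPGroup p Q ∧ Q ≠ ⊥ ∧
    ¬ Cfsg.HasNormalPComplement p (normalizer (Q : Set G))} with h𝓗
  have hne : 𝓗.Nonempty := by
    by_contra hemp
    apply hG
    rw [Cfsg.Agent.Helper78.hasNormalPComplement_iff_normalizers]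
    intro Q hQ hQ1
    by_contra hQn
    exact hemp ⟨Q, hQ, hQ1, hQn⟩
  obtain ⟨Q₀, ⟨hQ₀p, hQ₀1, hQ₀n⟩, hmax⟩ := Set.exists_max_image 𝓗
    (fun Q => (Nat.card (normalizer (Q : Set G))).factorization p) (Set.toFinite _) hne
  have htop : normalizer (Q₀ : Set G) = ⊤ := by
    by_contra hnt
    obtain ⟨Q', hQ'p, hQ'1, hQ'n, hlt⟩ := hW.stepB G ih hyp hG Q₀ hQ₀p hQ₀1 hQ₀n hnt
    have := hmax Q' ⟨hQ'p, hQ'1, hQ'n⟩
    omega
  have hQ₀normal : Q₀.Normal := Subgroup.normalizer_eq_top_iff.mp htop
  intro hbot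
  apply hQ₀1
  rw [← le_bot_iff, ← hbot]
  exact Cfsg.Agent.Lib.le_pCore hQ₀normal hQ₀p

/-- strong closure passes to the quotient by a normal subgroup contained in `P` -/
theorem stronglyClosed_map_of_ker_le {G H : Type*} [Group G] [Group H] (π : G →* H)
    (hπ : Function.Surjective π) {D P : Subgroup G} (hD : Cfsg.IsStronglyClosed D P)
    (hker : π.ker ≤ P) : Cfsg.IsStronglyClosed (D.map π) (P.map π) := by
  refine ⟨Subgroup.map_mono hD.1, ?_⟩
  rintro _ ⟨d, hd, rfl⟩ h hh
  obtain ⟨g, rfl⟩ := hπ h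
  obtain ⟨y, hy, hyx⟩ := hh
  have h1 : g * d * g⁻¹ ∈ P := by
    have h2 : (g * d * g⁻¹) * y⁻¹ ∈ π.ker := by
      rw [MonoidHom.mem_ker, map_mul, map_inv, hyx]
      simp
    have h3 : g * d * g⁻¹ = ((g * d * g⁻¹) * y⁻¹) * y := by group
    rw [h3]
    exact P.mul_mem (hker h2) hy
  refine ⟨g * d * g⁻¹, hD.2 d hd g h1, ?_⟩
  simp

/-- a strongly closed subgroup contained in a normal `p`-subgroup... is normalized by everything
when it lies in a normal subgroup of `G` contained in `P` -/
theorem normal_of_stronglyClosed_le_normal {G : Type*} [Group G] {D P H : Subgroup G} [hH : H.Normal]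
    (hD : Cfsg.IsStronglyClosed D P) (hDH : D ≤ H) (hHP : H ≤ P) : D.Normal := by
  refine ⟨fun d hd g => ?_⟩
  exact hD.2 d hd g (hHP (hH.conj_mem d (hDH hd) g))

/-- **Step D**: in a counterexample of minimal order, `G / O_p(G)` is `p`-nilpotent. -/
theorem GTFunctorD.quotient_pCore (hW : GTFunctorD p W) (G : Type u) [Group G] [Finite G]
    (ih : GTDIH p W (Nat.card G)) (hyp : GTDHyp p W G)
    (hG : ¬ Cfsg.HasNormalPComplement p G) (H : Subgroup G) [hHn : H.Normal]
    (hH : H = Cfsg.pCore p G) : Cfsg.HasNormalPComplement p (G ⧸ H) := by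
  have hH1 : H ≠ ⊥ := hH ▸ hW.pCore_ne_bot G ih hyp hG
  have hHp : IsPGroup p H := hH ▸ Cfsg.Agent.Lib.isPGroup_pCore p
  obtain ⟨P⟩ : Nonempty (Sylow p G) := inferInstance
  obtain ⟨D, hD, hDn⟩ := hyp P
  have hDp : IsPGroup p D := P.2.to_le hD.1
  have hHP : H ≤ P := hH ▸ Cfsg.Agent.Lib.pCore_le_sylow P
  -- `D` is not contained in `H`
  have hDH : ¬ D ≤ H := by
    intro hle
    apply hG
    have hDnormal : D.Normal := normal_of_stronglyClosed_le_normal hD hle hHP
    have h1 : normalizer (D : Set G) = ⊤ := Subgroup.normalizer_eq_top_iff.mpr hDnormal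
    have h2 : normalizer (W G D : Set G) = ⊤ := by
      rw [eq_top_iff, ← h1]; exact hW.normalizer_le G _ hDp
    rw [h2] at hDn
    exact hasNormalPComplement_of_top hDn
  set π := QuotientGroup.mk' H with hπ
  have hπs : Function.Surjective π := QuotientGroup.mk'_surjective H
  have hker : π.ker = H := QuotientGroup.ker_mk' H
  have hcard : Nat.card (G ⧸ H) < Nat.card G := by
    rw [← Subgroup.index_eq_card, ← Subgroup.card_mul_index H]
    have h1 : 1 < Nat.card H := (Subgroup.one_lt_card_iff_ne_bot H).mpr hH1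
    have h2 : 0 < H.index := Nat.pos_of_ne_zero Subgroup.index_ne_zero_of_finite
    nlinarith
  set Db : Subgroup (G ⧸ H) := D.map π with hDb
  have hDbsc : Cfsg.IsStronglyClosed Db ((P.mapSurjective hπs : Sylow p (G ⧸ H)) : Subgroup (G ⧸ H)) := by
    rw [Sylow.coe_mapSurjective]
    exact stronglyClosed_map_of_ker_le π hπs hD (hker.symm ▸ hHP)
  apply ih (G ⧸ H) hcard (P.mapSurjective hπs) Db hDbsc
  have hDbp : IsPGroup p Db := hDp.map π
  have hDb1 : Db ≠ ⊥ := by
    intro h
    rw [hDb, Subgroup.map_eq_bot_iff, hker] at h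
    exact hDH h
  set Zb := W (G ⧸ H) Db with hZb
  have hZb1 : Zb ≠ ⊥ := hW.ne_bot (G ⧸ H) Db hDbp hDb1
  have hZbp : IsPGroup p Zb := hW.isPGroup (G ⧸ H) hDbp
  set K := Zb.comap π with hK
  have hKp : IsPGroup p K := hZbp.comap_of_ker_isPGroup π (hker.symm ▸ hHp)
  have hHK : H ≤ K := by
    rw [← hker]; exact Subgroup.ker_le_comap π Zb
  have hK1 : K ≠ ⊥ := fun h => hH1 (le_bot_iff.mp (h ▸ hHK))
  have hKmap : K.map π = Zb := Subgroup.map_comap_eq_self_of_surjective hπs Zb
  have hKnn : ¬ K.Normal := by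
    intro hKn
    have h1 : K ≤ H := hH ▸ Cfsg.Agent.Lib.le_pCore hKn hKp
    apply hZb1
    rw [← hKmap, Subgroup.map_eq_bot_iff, hker]
    exact h1
  have hPK : (P : Subgroup G) ≤ normalizer (K : Set G) := by
    intro x hx
    have h0 : π x ∈ normalizer (Db : Set (G ⧸ H)) := by
      have := mem_normalizer_of_stronglyClosed hDbsc
        (x := π x) (by rw [Sylow.coe_mapSurjective]; exact Subgroup.mem_map_of_mem π hx)
      exact this
    have h1 : π x ∈ normalizer (Zb : Set (G ⧸ H)) :=
      hW.normalizer_le (G ⧸ H) Db hDbp h0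
    exact Subgroup.le_normalizer_comap π h1
  have hKnil : Cfsg.HasNormalPComplement p (normalizer (K : Set G)) := by
    by_contra hcon
    have := hW.normalizer_eq_top_of_sylow_le G ih hyp hG K hKp hK1 hcon P hPK
    exact hKnn (Subgroup.normalizer_eq_top_iff.mp this)
  have hnorm : normalizer (Zb : Set (G ⧸ H)) = (normalizer (K : Set G)).map π := by
    rw [hK, ← Subgroup.comap_normalizer_eq_of_surjective Zb hπs,
      Subgroup.map_comap_eq_self_of_surjective hπs]
  rw [hnorm]
  exact hasNormalPComplement_map π _ hKnil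

/-- strong closure passes to the quotient by a normal `p'`-subgroup -/
theorem stronglyClosed_map_of_coprime_ker {G H : Type*} [Group G] [Finite G] [Group H]
    (π : G →* H) (hπ : Function.Surjective π) (hK : (Nat.card π.ker).Coprime p)
    {D P : Subgroup G} (hP : IsPGroup p P) (hD : Cfsg.IsStronglyClosed D P) :
    Cfsg.IsStronglyClosed (D.map π) (P.map π) := by
  refine ⟨Subgroup.map_mono hD.1, ?_⟩
  rintro _ ⟨d, hd, rfl⟩ h hh
  obtain ⟨g, rfl⟩ := hπ h
  obtain ⟨y, hy, hyx⟩ := hh
  set c := g * d * g⁻¹ with hc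
  have hcmem : c ∈ π.ker ⊔ P := by
    have h2 : c * y⁻¹ ∈ π.ker := by
      rw [MonoidHom.mem_ker, map_mul, map_inv, hyx, hc]
      simp
    have h3 : c = (c * y⁻¹) * y := by group
    rw [h3]
    exact Subgroup.mul_mem_sup h2 hy
  have hcp : IsPGroup p (zpowers c) := by
    have h1 : IsPGroup p (zpowers d) := hP.to_le (by rw [Subgroup.zpowers_le]; exact hD.1 hd)
    have h2 := h1.map (MulAut.conj g).toMonoidHom
    rw [MonoidHom.map_zpowers] at h2
    exact h2
  have hnorm : P ≤ normalizer ((π.ker : Subgroup G) : Set G) := by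
    rw [Subgroup.normalizer_eq_top]; exact le_top
  have hinf : π.ker ⊓ P = ⊥ := by
    apply (Subgroup.disjoint_of_coprime_natCard _).eq_bot
    obtain ⟨n, hn⟩ := IsPGroup.iff_card.mp hP
    rw [hn]
    exact Nat.Coprime.pow_right n hK
  have hnd : ¬ p ∣ Nat.card π.ker := by
    rwa [← Nat.Prime.coprime_iff_not_dvd hp.out, Nat.coprime_comm]
  obtain ⟨x, hx, hconj⟩ := Cfsg.Agent.Helper25.exists_conj_mem_of_isPGroup π.ker P (zpowers c)
    hnorm hinf hcp (by rw [Subgroup.zpowers_le]; exact hcmem) hnd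
  have h1 : x⁻¹ * c * x ∈ P := hconj c (Subgroup.mem_zpowers c)
  have h2 : (x⁻¹ * g) * d * (x⁻¹ * g)⁻¹ = x⁻¹ * c * x := by rw [hc]; group
  have h3 : (x⁻¹ * g) * d * (x⁻¹ * g)⁻¹ ∈ D := hD.2 d hd _ (h2 ▸ h1)
  refine ⟨_, h3, ?_⟩
  rw [h2, map_mul, map_mul, map_inv, MonoidHom.mem_ker.mp hx, hc]
  simp

/-- **Step E**: in a counterexample of minimal order, `O_{p'}(G) = 1`. -/
theorem GTFunctorD.pPrimeCore_eq_bot (hW : GTFunctorD p W) (G : Type u) [Group G] [Finite G]
    (ih : GTDIH p W (Nat.card G)) (hyp : GTDHyp p W G)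
    (hG : ¬ Cfsg.HasNormalPComplement p G) : Cfsg.pPrimeCore p G = ⊥ := by
  by_contra hK1
  have hKn : (Cfsg.pPrimeCore p G).Normal := by
    have := Cfsg.Agent.Lib.pPrimeCore_characteristic (G := G) p
    infer_instance
  set K := Cfsg.pPrimeCore p G with hK
  have hKc : (Nat.card K).Coprime p := Cfsg.Agent.Lib.card_pPrimeCore_coprime p
  apply hG
  apply hasNormalPComplement_of_quotient K hKc
  set π := QuotientGroup.mk' K with hπ
  have hπs : Function.Surjective π := QuotientGroup.mk'_surjective K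
  have hker : π.ker = K := QuotientGroup.ker_mk' K
  have hcard : Nat.card (G ⧸ K) < Nat.card G := by
    rw [← Subgroup.index_eq_card, ← Subgroup.card_mul_index K]
    have h1 : 1 < Nat.card K := (Subgroup.one_lt_card_iff_ne_bot K).mpr hK1
    have h2 : 0 < K.index := Nat.pos_of_ne_zero Subgroup.index_ne_zero_of_finite
    nlinarith
  obtain ⟨P⟩ : Nonempty (Sylow p G) := inferInstance
  obtain ⟨D, hD, hDn⟩ := hyp P
  have hDp : IsPGroup p D := P.2.to_le hD.1
  have hDbsc : Cfsg.IsStronglyClosed (D.map π)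
      ((P.mapSurjective hπs : Sylow p (G ⧸ K)) : Subgroup (G ⧸ K)) := by
    rw [Sylow.coe_mapSurjective]
    exact stronglyClosed_map_of_coprime_ker π hπs (hker.symm ▸ hKc) P.2 hD
  apply ih (G ⧸ K) hcard (P.mapSurjective hπs) (D.map π) hDbsc
  have hdisj : D ⊓ π.ker = ⊥ := by
    rw [hker]
    apply (Subgroup.disjoint_of_coprime_natCard _).eq_bot
    obtain ⟨n, hn⟩ := IsPGroup.iff_card.1 hDp
    rw [hn]
    exact (Nat.Coprime.pow_right n hKc).symm
  have hinj : Function.Injective (π.comp D.subtype) := by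
    rw [injective_iff_map_eq_one]
    intro x hx
    have h1 : (x : G) ∈ D ⊓ π.ker := ⟨x.2, hx⟩
    rw [hdisj, Subgroup.mem_bot] at h1
    exact Subtype.ext h1
  rw [hW.map G (G ⧸ K) π D hDp hinj]
  set Z := W G D with hZ
  have hZp : IsPGroup p Z := hW.isPGroup G hDp
  have hnorm : normalizer ((Z.map π : Subgroup (G ⧸ K)) : Set (G ⧸ K)) =
      (normalizer (Z : Set G)).map π := by
    apply le_antisymm
    · intro xb hxb
      obtain ⟨x, rfl⟩ := hπs xb
      obtain ⟨g, hg, hgx⟩ :=
        Cfsg.Agent.Helper54.exists_mem_normalizer_map_eq π (by rw [hker]; exact hKc) Z hZp x hxb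
      exact ⟨g, hg, hgx⟩
    · exact Subgroup.le_normalizer_map π
  rw [hnorm]
  exact hasNormalPComplement_map π _ hDn

/-- proper subgroups containing a Sylow subgroup are `p`-nilpotent -/
theorem GTFunctorD.hasNormalPComplement_of_sylow_le (hW : GTFunctorD p W) (G : Type u) [Group G]
    [Finite G] (ih : GTDIH p W (Nat.card G)) (P : Sylow p G) (D : Subgroup G)
    (hD : Cfsg.IsStronglyClosed D (P : Subgroup G))
    (hDn : Cfsg.HasNormalPComplement p (normalizer (W G D : Set G)))
    (X : Subgroup G) (hPX : (P : Subgroup G) ≤ X) (hX : X ≠ ⊤) :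
    Cfsg.HasNormalPComplement p X := by
  have hcard : Nat.card X < Nat.card G := card_subgroup_lt_of_ne_top hX
  have hDX : D ≤ X := hD.1.trans hPX
  have hDp : IsPGroup p D := P.2.to_le hD.1
  set D' : Subgroup X := D.subgroupOf X with hD'
  have hD'p : IsPGroup p D' := hDp.comap_subtype
  have hD'map : D'.map X.subtype = D := Subgroup.map_subgroupOf_eq_of_le hDX
  have hsc : Cfsg.IsStronglyClosed D' ((P.subtype hPX : Sylow p X) : Subgroup X) := by
    rw [Sylow.coe_subtype]
    refine ⟨fun x hx => ?_, ?_⟩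
    · rw [Subgroup.mem_subgroupOf] at hx ⊢
      exact hD.1 hx
    · intro x hx n hn
      rw [Subgroup.mem_subgroupOf] at hx hn ⊢
      have := hD.2 (x : G) hx (n : G) (by simpa using hn)
      simpa using this
  apply ih X hcard (P.subtype hPX) D' hsc
  apply hasNormalPComplement_normalizer_of_subtype
  have hinj : Function.Injective (X.subtype.comp D'.subtype) :=
    X.subtype_injective.comp (Subgroup.subtype_injective _)
  rw [← hW.map X G X.subtype D' hD'p hinj, hD'map]
  exact hDn

/-- **Step G**: if `C_G(H) ≤ H` for a normal `p`-subgroup `H`, a `p`-nilpotent subgroup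
containing a Sylow `p`-subgroup is that Sylow subgroup. -/
theorem eq_sylow_of_hasNormalPComplement (G : Type u) [Group G] [Finite G]
    (H : Subgroup G) [hHn : H.Normal] (hHp : IsPGroup p H)
    (hc : centralizer (H : Set G) ≤ H) (P : Sylow p G) (hHP : H ≤ P) (X : Subgroup G)
    (hPX : (P : Subgroup G) ≤ X) (hXnil : Cfsg.HasNormalPComplement p X) : X = P := by
  rw [hasNormalPComplement_iff_exists] at hXnil
  obtain ⟨L, hLn, hLc, k, hk⟩ := hXnil
  have hLbot : L = ⊥ := by
    rw [eq_bot_iff]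
    intro l hl
    rw [Subgroup.mem_bot]
    have hdisj : Disjoint L (H.subgroupOf X) := by
      apply Subgroup.disjoint_of_coprime_natCard
      have hHX : IsPGroup p (H.subgroupOf X) := hHp.comap_subtype
      obtain ⟨n, hn⟩ := IsPGroup.iff_card.mp hHX
      rw [hn]
      exact Nat.Coprime.pow_right n hLc
    have hHXn : (H.subgroupOf X).Normal := inferInstance
    have hlc : (l : G) ∈ centralizer (H : Set G) := by
      rw [mem_centralizer_iff]
      intro h hh
      have hhX : h ∈ X := hPX (hHP hh)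
      have h1 : ⁅l, (⟨h, hhX⟩ : X)⁆ ∈ L := by
        have e1 : ⁅l, (⟨h, hhX⟩ : X)⁆ = l * ((⟨h, hhX⟩ : X) * l⁻¹ * (⟨h, hhX⟩ : X)⁻¹) := by
          rw [commutatorElement_def]; group
        rw [e1]
        exact L.mul_mem hl (hLn.conj_mem _ (L.inv_mem hl) _)
      have h2 : ⁅l, (⟨h, hhX⟩ : X)⁆ ∈ H.subgroupOf X := by
        rw [commutatorElement_def]
        have hmem : (⟨h, hhX⟩ : X) ∈ H.subgroupOf X := Subgroup.mem_subgroupOf.mpr hh
        exact (H.subgroupOf X).mul_mem (hHXn.conj_mem _ hmem l) ((H.subgroupOf X).inv_mem hmem)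
      have h3 : ⁅l, (⟨h, hhX⟩ : X)⁆ = 1 := by
        have := hdisj.le_bot ⟨h1, h2⟩
        rwa [Subgroup.mem_bot] at this
      rw [commutatorElement_eq_one_iff_mul_comm] at h3
      have := congrArg Subtype.val h3
      simpa using this.symm
    have hlH : l ∈ H.subgroupOf X := Subgroup.mem_subgroupOf.mpr (hc hlc)
    have := hdisj.le_bot ⟨hl, hlH⟩
    rwa [Subgroup.mem_bot] at this
  rw [hLbot, Subgroup.index_bot] at hk
  have hXp : IsPGroup p X := IsPGroup.of_card hk
  exact P.is_maximal' hXp hPX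

/-- **The Glauberman–Thompson normal `p`-complement theorem, relative to a strongly closed
subgroup** for a functor `W` of ZJ-type, `p` odd: if `D` is strongly closed in the Sylow
`p`-subgroup `P` and `N_G(W(D))` has a normal `p`-complement then so does `G`. -/
theorem hasNormalPComplement_of_gtFunctorD (hp2 : p ≠ 2) (hW : GTFunctorD p W) :
    ∀ (G : Type u) [Group G] [Finite G] (P : Sylow p G) (D : Subgroup G),
      Cfsg.IsStronglyClosed D (P : Subgroup G) →
      Cfsg.HasNormalPComplement p (normalizer (W G D : Set G)) →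
      Cfsg.HasNormalPComplement p G := by
  suffices hmain : ∀ (n : ℕ), GTDIH p W n by
    intro G _ _ P D hD hDn
    exact hmain (Nat.card G + 1) G (Nat.lt_succ_self _) P D hD hDn
  intro n
  induction n using Nat.strong_induction_on with
  | _ n ihn =>
  intro G _ _ hcard P D hD hDn
  have ih : GTDIH p W (Nat.card G) := fun G' _ _ h => ihn (Nat.card G) hcard G' h
  have hyp : GTDHyp p W G := hW.hyp_of_one G P D hD hDn
  by_contra hG
  have hHn : (Cfsg.pCore p G).Normal := by
    have := Cfsg.Agent.Lib.pCore_characteristic (G := G) p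
    infer_instance
  set H := Cfsg.pCore p G with hH
  have hHp : IsPGroup p H := Cfsg.Agent.Lib.isPGroup_pCore p
  have hq := hW.quotient_pCore G ih hyp hG H hH
  have hO := hW.pPrimeCore_eq_bot G ih hyp hG
  have hc := centralizer_le_of_quotient_hasNormalPComplement (p := p) G H hH hO hq
  have hHP : H ≤ P := Cfsg.Agent.Lib.pCore_le_sylow P
  have hmaxG : ∀ X : Subgroup G, (P : Subgroup G) ≤ X → X ≠ ⊤ → X = P := fun X hPX hX =>
    eq_sylow_of_hasNormalPComplement G H hHp hc P hHP X hPX
      (hW.hasNormalPComplement_of_sylow_le G ih P D hD hDn X hPX hX)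
  -- the structure of `G / H`
  have hq' := hq
  rw [hasNormalPComplement_iff_exists] at hq'
  obtain ⟨Nb, hNbn, hNbc, k, hk⟩ := hq'
  set π := QuotientGroup.mk' H with hπ
  have hπs : Function.Surjective π := QuotientGroup.mk'_surjective H
  have hker : π.ker = H := QuotientGroup.ker_mk' H
  have hmaxb : ∀ X : Subgroup (G ⧸ H), ((P.mapSurjective hπs : Sylow p (G ⧸ H)) : Subgroup (G ⧸ H)) ≤ X →
      X ≠ ⊤ → X = (P.mapSurjective hπs : Sylow p (G ⧸ H)) := by
    intro X hPX hX
    rw [Sylow.coe_mapSurjective] at hPX ⊢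
    have h1 : (P : Subgroup G) ≤ X.comap π := by
      rw [← Subgroup.map_le_iff_le_comap]; exact hPX
    have h2 : X.comap π ≠ ⊤ := by
      intro h
      apply hX
      rw [← Subgroup.map_comap_eq_self_of_surjective hπs X, h, Subgroup.map_top_of_surjective π hπs]
    have h3 := hmaxG (X.comap π) h1 h2
    rw [← Subgroup.map_comap_eq_self_of_surjective hπs X, h3]
  have hcomm := commute_of_sylow_maximal (P.mapSurjective hπs) Nb hNbc hmaxb
  set M := Nb.comap π with hM
  have hMn : M.Normal := hNbn.comap π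
  have hMi : M.index = p ^ k := by rw [hM, Subgroup.index_comap_of_surjective Nb hπs, hk]
  have hMp : (H.relIndex M).Coprime p := by
    rw [← hker, Subgroup.relIndex_ker, hM, Subgroup.map_comap_eq_self_of_surjective hπs]
    exact hNbc
  have hMH : ⁅M, M⁆ ≤ H := by
    rw [Subgroup.commutator_le]
    intro x hx y hy
    rw [← hker, MonoidHom.mem_ker, map_commutatorElement, commutatorElement_eq_one_iff_mul_comm]
    exact hcomm (π x) hx (π y) hy
  have hst := isPStableOn_of_series hp2 H M hHp hMH hMp hMi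
  have hWn := hW.normal G hc hst P D hD
  have h2 : normalizer (W G D : Set G) = ⊤ := Subgroup.normalizer_eq_top_iff.mpr hWn
  rw [h2] at hDn
  exact hG (hasNormalPComplement_of_top hDn)

end main

end Cfsg.Agent.Helper10.GTD
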