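import Cfsg.Agent.Helper10.GTD
import Cfsg.Agent.S0622
import Cfsg.Agent.S0651
import Cfsg.Agent.S0652
import Cfsg.Agent.S0655

/-!
# `Z(J_a(D))` and `Ω₁(Z(J_e(D)))` are relative Glauberman–Thompson functors
-/

set_option autoImplicit false

namespace Cfsg.Agent.Helper10.GTD

open Subgroup
open Cfsg.Agent.Lib.ZJ

universe u

/-- ZJ-theorem for a strongly closed subgroup, generic form, with `p`-stability on normal
`p`-subgroups as hypothesis. -/
theorem sInf_maxGood_normal_of_stronglyClosed'
    {good : ∀ (K : Type u) [Group K], Subgroup K → Prop} (hI : Intrinsic good)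
    {G : Type u} [Group G] [Finite G]
    {p : ℕ} [Fact p.Prime] (P : Sylow p G) (D : Subgroup G)
    (hD : Cfsg.IsStronglyClosed D (P : Subgroup G))
    (hrepl : ReplD good ↥(P : Subgroup G) (D.subgroupOf (P : Subgroup G)))
    (hst : ∀ (V : Subgroup G) [V.Normal], IsPGroup p V → Cfsg.IsPStableOn p V)
    (hc : centralizer (Cfsg.pCore p G : Set G) ≤ Cfsg.pCore p G) :
    (sInf (maxGood (good G) D)).Normal := by
  have h := sInf_normal (hyp_goodInto hI P D hD hrepl) hst hc
  rwa [maxGood_goodInto hD] at h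

theorem gtFunctorD_centerThompsonA {p : ℕ} [Fact p.Prime] (hp2 : p ≠ 2) :
    GTFunctorD.{u} p (fun K _ S => Cfsg.centerThompsonAOf S) where
  le := fun _ _ _ S _ => centerThompsonAOf_le S
  ne_bot := fun _ _ _ _ hS hS1 => centerThompsonAOf_ne_bot hS hS1
  map := fun _ _ _ _ _ _ f S _ hinj => centerThompsonAOf_map f S hinj
  normal := by
    intro K _ _ hc hst S D hD
    show (Cfsg.centerThompsonAOf D).Normal
    have hDn : (D.subgroupOf (S : Subgroup K)).Normal := normal_subgroupOf_of_stronglyClosed hD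
    rw [centerThompsonAOf_eq_sInf]
    exact sInf_maxGood_normal_of_stronglyClosed' intrinsic_comm S D hD
      (fun B _ h1 h2 => Cfsg.Agent.S0651.result S.isPGroup' hp2 (D.subgroupOf (S : Subgroup K)) B h1 h2)
      hst hc

theorem omegaOne_centerThompsonOf_eq_sInf {G : Type u} [Group G] [Finite G] {p : ℕ} [Fact p.Prime]
    (D : Subgroup G) (hDp : IsPGroup p D) :
    Cfsg.omegaOne p (Cfsg.centerThompsonOf p D) = sInf (maxGood (goodElem p G) D) := by
  rw [omegaOne_centerThompsonOf_eq_map,
    map_omegaCenterThompson_eq_sInf D (Cfsg.Agent.S0655.result hDp).1]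

theorem gtFunctorD_omegaCenterThompson {p : ℕ} [Fact p.Prime] (hp2 : p ≠ 2) :
    GTFunctorD.{u} p (fun K _ S => Cfsg.omegaOne p (Cfsg.centerThompsonOf p S)) where
  le := by
    intro K _ _ S hS
    show Cfsg.omegaOne p (Cfsg.centerThompsonOf p S) ≤ S
    unfold Cfsg.omegaOne
    rw [Subgroup.closure_le]
    rintro x ⟨hx, -⟩
    have h1 : x ∈ Cfsg.thompsonSubgroupOf p S := hx.1
    unfold Cfsg.thompsonSubgroupOf at h1
    exact Subgroup.map_subtype_le _ h1
  ne_bot := by
    intro K _ _ S hS hS1
    show Cfsg.omegaOne p (Cfsg.centerThompsonOf p S) ≠ ⊥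
    rw [omegaOne_centerThompsonOf_eq_map]
    have : Nontrivial S := (Subgroup.nontrivial_iff_ne_bot S).2 hS1
    have h1 := (Cfsg.Agent.S0622.result (S := ↥S) hS).2.2
    have h2 : Cfsg.omegaCenterThompson p ↥S ≠ ⊥ := by
      intro h
      apply h1.2.1 this
      rw [eq_bot_iff, ← h]
      exact h1.1
    intro h
    apply h2
    rwa [Subgroup.map_eq_bot_iff_of_injective _ S.subtype_injective] at h
  map := by
    intro K K' _ _ _ _ f S hS hinj
    show Cfsg.omegaOne p (Cfsg.centerThompsonOf p (S.map f)) =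
      (Cfsg.omegaOne p (Cfsg.centerThompsonOf p S)).map f
    rw [omegaOne_centerThompsonOf_eq_sInf S hS,
      omegaOne_centerThompsonOf_eq_sInf (S.map f) (hS.map f)]
    have hne : (maxGood (goodElem p K) S).Nonempty := by
      have h1 : (Set.image (fun A : Subgroup ↥S => A.map S.subtype)
          (maxGoodT (goodElem p) ↥S)).Nonempty := (maxGoodT_nonempty (intrinsic_elem p)).image _
      rwa [image_map_subtype_maxGoodT (intrinsic_elem p)] at h1
    exact sInf_maxGood_map_of_injOn f S hinj (intrinsic_elem p) hne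
  normal := by
    intro K _ _ hc hst S D hD
    show (Cfsg.omegaOne p (Cfsg.centerThompsonOf p D)).Normal
    have hDp : IsPGroup p D := S.2.to_le hD.1
    have hDn : (D.subgroupOf (S : Subgroup K)).Normal := normal_subgroupOf_of_stronglyClosed hD
    rw [omegaOne_centerThompsonOf_eq_sInf D hDp]
    exact sInf_maxGood_normal_of_stronglyClosed' (intrinsic_elem p) S D hD
      (fun B _ h1 h2 => Cfsg.Agent.S0652.result S.isPGroup' hp2 (D.subgroupOf (S : Subgroup K)) B h1 h2)
      hst hc

end Cfsg.Agent.Helper10.GTD
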