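import Mathlib

set_option autoImplicit false

namespace Cfsg.Agent.Helper10.GenPR

open Equiv Equiv.Perm MulAction
open scoped Pointwise

variable {α : Type*}

/-- If an element of prime order `l` has a power `γ ^ d`, `0 < d < l`, fixing a set, then it fixes
the set. -/
theorem smul_eq_of_pow_smul_eq {G : Type*} [Group G] [MulAction G α] {l : ℕ} (hl : l.Prime)
    (γ : G) (hγ : γ ^ l = 1) (B : Set α) {d : ℕ} (hd0 : 0 < d) (hdl : d < l)
    (h : γ ^ d • B = B) : γ • B = B := by
  have hcop : Nat.Coprime d l :=
    ((Nat.Prime.coprime_iff_not_dvd hl).2 (Nat.not_dvd_of_pos_of_lt hd0 hdl)).symm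
  obtain ⟨m, -, hm⟩ := Nat.exists_mul_mod_eq_one_of_coprime hcop hl.one_lt
  have hpow : ∀ k : ℕ, (γ ^ d) ^ k • B = B := by
    intro k
    induction k with
    | zero => simp
    | succ k ih => rw [pow_succ, mul_smul, h, ih]
  have h1 := hpow m
  rw [← pow_mul] at h1
  have h2 : γ ^ (d * m) = γ := by
    conv_lhs => rw [← Nat.div_add_mod (d * m) l, hm, pow_add, pow_mul, hγ, one_pow, one_mul, pow_one]
  rwa [h2] at h1

/-- (PR) of #4465. -/
theorem isPreprimitive_of_prime_cycle {α : Type*} [Fintype α] [DecidableEq α] (G : Subgroup (Perm α)) [MulAction.IsPretransitive G α] {l : ℕ} (hl : l.Prime) {c : Perm α} (hc : c ∈ G) (hcc : c.IsCycle) (hcl : c.support.card = l) (hbig : Fintype.card α < 2 * l) : MulAction.IsPreprimitive G α := by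
  have hcard : Nat.card α = Fintype.card α := Nat.card_eq_fintype_card
  have horder : orderOf c = l := by rw [hcc.orderOf, hcl]
  set γ : G := ⟨c, hc⟩ with hγdef
  have hγl : γ ^ l = 1 := by
    apply Subtype.ext
    show c ^ l = 1
    rw [← horder]; exact pow_orderOf_eq_one c
  have hγsmul : ∀ (k : ℕ) (x : α), (γ ^ k) • x = (c ^ k) x := fun k x => rfl
  -- the key: a block meeting the support of `c` is trivial
  have key : ∀ B : Set α, IsBlock G B → ∀ a ∈ B, a ∈ c.support → IsTrivialBlock B := by
    intro B hB a haB hac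
    by_cases hfix : γ • B = B
    · -- `supp c ⊆ B`
      right
      have hpow : ∀ k : ℕ, γ ^ k • B = B := by
        intro k
        induction k with
        | zero => simp
        | succ k ih => rw [pow_succ, mul_smul, hfix, ih]
      have hsub : (c.support : Set α) ⊆ B := by
        intro b hb
        have hsc : c.SameCycle a b := hcc.sameCycle (mem_support.1 hac) (mem_support.1 hb)
        obtain ⟨k, -, hk⟩ := hsc.exists_pow_eq'
        have : (γ ^ k) • a ∈ γ ^ k • B := Set.smul_mem_smul_set haB
        rw [hpow k, hγsmul, hk] at this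
        exact this
      apply hB.eq_univ_of_card_lt
      have h1 : l ≤ B.ncard := by
        rw [← hcl, ← Set.ncard_coe_finset]
        exact Set.ncard_le_ncard hsub (Set.toFinite B)
      rw [hcard]
      omega
    · -- `l` distinct translates
      left
      apply hB.subsingleton_of_card_lt
      rw [hcard]
      have hinj : Function.Injective (fun i : Fin l => γ ^ (i : ℕ) • B) := by
        intro i j hij
        by_contra hne
        apply hfix
        rcases lt_or_gt_of_ne (fun h => hne (Fin.ext h) : (i : ℕ) ≠ (j : ℕ)) with hlt | hlt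
        · -- `γ ^ (j - i) • B = B`
          have h1 : γ ^ ((j : ℕ) - (i : ℕ)) • B = B := by
            have h2 : γ ^ (j : ℕ) = γ ^ (i : ℕ) * γ ^ ((j : ℕ) - (i : ℕ)) := by
              rw [← pow_add]; congr 1; omega
            have h3 : γ ^ (i : ℕ) • B = γ ^ (i : ℕ) • (γ ^ ((j : ℕ) - (i : ℕ)) • B) := by
              rw [← mul_smul, ← h2]; exact hij
            exact (smul_left_cancel _ h3).symm
          exact smul_eq_of_pow_smul_eq hl γ hγl B (by omega) (by have := j.2; omega) h1
        · have h1 : γ ^ ((i : ℕ) - (j : ℕ)) • B = B := by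
            have h2 : γ ^ (i : ℕ) = γ ^ (j : ℕ) * γ ^ ((i : ℕ) - (j : ℕ)) := by
              rw [← pow_add]; congr 1; omega
            have h3 : γ ^ (j : ℕ) • B = γ ^ (j : ℕ) • (γ ^ ((i : ℕ) - (j : ℕ)) • B) := by
              rw [← mul_smul, ← h2]; exact hij.symm
            exact (smul_left_cancel _ h3).symm
          exact smul_eq_of_pow_smul_eq hl γ hγl B (by omega) (by have := i.2; omega) h1
      have hsub : Set.range (fun i : Fin l => γ ^ (i : ℕ) • B) ⊆ orbit G B := by
        rintro _ ⟨i, rfl⟩
        exact ⟨γ ^ (i : ℕ), rfl⟩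
      have h1 : l ≤ (orbit G B).ncard := by
        have h2 : (Set.range (fun i : Fin l => γ ^ (i : ℕ) • B)).ncard = l := by
          rw [← Set.image_univ, Set.ncard_image_of_injective _ hinj, Set.ncard_univ,
            Nat.card_eq_fintype_card, Fintype.card_fin]
        rw [← h2]
        exact Set.ncard_le_ncard hsub (Set.toFinite _)
      omega
  -- a point of the support
  obtain ⟨a, ha⟩ : c.support.Nonempty := by
    rw [← Finset.card_pos, hcl]; exact hl.pos
  refine { isTrivialBlock_of_isBlock := ?_ }
  intro B hB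
  rcases Set.eq_empty_or_nonempty B with rfl | ⟨b, hb⟩
  · left; exact Set.subsingleton_empty
  · obtain ⟨g, hg⟩ := MulAction.exists_smul_eq G b a
    have h1 : IsTrivialBlock (g • B) :=
      key (g • B) (hB.translate g) a (hg ▸ Set.smul_mem_smul_set hb) ha
    exact (IsTrivialBlock.smul_iff g).1 h1

end Cfsg.Agent.Helper10.GenPR
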