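import Cfsg.Agent.Helper8.GlaubDefs

/-!
S4359 (helper8, Glauberman-type lemma), leaf (GA4): generators of the chain,
`U y a m = E P h (a + m - t) (t - m)` (`p`-version of Sims3 T4G = `Helper89.Sims3.tower_G1`).
-/

set_option autoImplicit false

namespace Cfsg.Agent.Helper10.Glaub

open Cfsg.Agent.Helper8.Sims3 Cfsg.Agent.Helper8.Glaub Pointwise

variable {G : Type*} [Group G]

theorem GA4_squeeze [Finite G] {A J C : Subgroup G} (q : ℕ) (hq : q.Prime) (hAJ : A ≤ J)
    (hJC : J ≤ C) (hcard : Nat.card ↥C = q * Nat.card ↥A) (hne : J ≠ A) : J = C := by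
  have hA := Subgroup.card_dvd_of_le hAJ
  have hJ := Subgroup.card_dvd_of_le hJC
  obtain ⟨d, hd⟩ := hA
  have hApos : 0 < Nat.card ↥A := Nat.card_pos
  rw [hcard, hd, mul_comm q] at hJ
  have hdq : d ∣ q := Nat.dvd_of_mul_dvd_mul_left hApos hJ
  rcases (Nat.dvd_prime hq).mp hdq with rfl | rfl
  · exfalso
    apply hne
    exact (Subgroup.eq_of_le_of_card_ge hAJ (by rw [hd, mul_one])).symm
  · apply Subgroup.eq_of_le_of_card_ge hJC
    rw [hcard, hd, mul_comm]

/-- (GA4) generators (`p`-version of Sims3 T4G; no top step here). -/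
theorem ptower_G1 [Finite G] {p : ℕ} (hp : p.Prime) {P : Subgroup G} {h : G} (t : ℕ)
    (ht : 1 ≤ t) (hE : ∀ m, m ≤ t → Nat.card ↥(E P h 0 m) = p ^ (t - m))
    (y0 : G) (hy0 : y0 ≠ 1) (hy0E : y0 ∈ E P h 0 (t - 1))
    (y : ℤ → G) (hy : ∀ k : ℤ, y k = h ^ (k + 1 - t) * y0 * (h ^ (k + 1 - t))⁻¹) :
    ∀ (a : ℤ) (m : ℕ), 1 ≤ m → m ≤ t → U y a m = E P h (a + m - t) (t - m) := by
  -- cardinalities of all `E P h i j`
  have hcE : ∀ (i : ℤ) (j : ℕ), j ≤ t → Nat.card ↥(E P h i j) = p ^ (t - j) := by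
    intro i j h2
    rw [card_E, hE j h2]
  have hbot : ∀ i : ℤ, E P h i t = ⊥ := by
    intro i
    rw [← Subgroup.card_eq_one, hcE i t le_rfl, Nat.sub_self, pow_zero]
  -- the `y k`
  have hyk : ∀ k : ℤ, y k ∈ E P h (k + 1 - t) (t - 1) := by
    intro k
    have h1 := smul_E (P := P) (g := h) (k + 1 - t) 0 (t - 1)
    rw [zero_add] at h1
    rw [← h1, mem_conj_smul, hy k]
    have e : (h ^ (k + 1 - (t : ℤ)))⁻¹ * (h ^ (k + 1 - (t : ℤ)) * y0 * (h ^ (k + 1 - (t : ℤ)))⁻¹) *
        h ^ (k + 1 - (t : ℤ)) = y0 := by group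
    rw [e]
    exact hy0E
  have hyk1 : ∀ k : ℤ, y k ≠ 1 := by
    intro k hk
    apply hy0
    rw [hy k] at hk
    have e : y0 = (h ^ (k + 1 - (t : ℤ)))⁻¹ * (h ^ (k + 1 - (t : ℤ)) * y0 *
        (h ^ (k + 1 - (t : ℤ)))⁻¹) * h ^ (k + 1 - (t : ℤ)) := by group
    rw [e, hk]
    group
  -- the induction
  intro a m hm1
  revert a
  induction m, hm1 using Nat.le_induction with
  | base =>
    intro a hms
    rw [U_one]
    have hle : Subgroup.zpowers (y a) ≤ E P h (a + ((1 : ℕ) : ℤ) - t) (t - 1) := by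
      rw [Subgroup.zpowers_le, Nat.cast_one]
      exact hyk a
    have hcard : Nat.card ↥(E P h (a + ((1 : ℕ) : ℤ) - t) (t - 1)) = p := by
      rw [hcE _ (t - 1) (by omega)]
      have h4 : t - (t - 1) = 1 := by omega
      rw [h4, pow_one]
    apply Subgroup.eq_of_le_of_card_ge hle
    rw [hcard]
    have hdvd : Nat.card ↥(Subgroup.zpowers (y a)) ∣ p := by
      rw [← hcard]
      exact Subgroup.card_dvd_of_le hle
    rcases (Nat.dvd_prime hp).1 hdvd with h1 | h1
    · exfalso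
      rw [Subgroup.card_eq_one, Subgroup.zpowers_eq_bot] at h1
      exact hyk1 a h1
    · exact h1.ge
  | succ m hm1 ih =>
    intro a hms
    rw [U_succ, ih a (by omega)]
    have hy_le : E P h (a + (m : ℤ) + 1 - t) (t - 1) ≤
        E P h (a + ((m + 1 : ℕ) : ℤ) - t) (t - (m + 1)) :=
      E_anti (by push_cast; omega) (by push_cast; omega)
    have hy_mem : y (a + m) ∈ E P h (a + ((m + 1 : ℕ) : ℤ) - t) (t - (m + 1)) :=
      hy_le (hyk (a + m))
    have hA : E P h (a + (m : ℤ) - t) (t - m) ≤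
        E P h (a + (m : ℤ) - t) (t - m) ⊔ Subgroup.zpowers (y (a + m)) := le_sup_left
    have hJ : E P h (a + (m : ℤ) - t) (t - m) ⊔ Subgroup.zpowers (y (a + m)) ≤
        E P h (a + ((m + 1 : ℕ) : ℤ) - t) (t - (m + 1)) := by
      have h1 : E P h (a + (m : ℤ) - t) (t - m) ≤
          E P h (a + ((m + 1 : ℕ) : ℤ) - t) (t - (m + 1)) :=
        E_anti (by push_cast; omega) (by push_cast; omega)
      apply sup_le h1
      rw [Subgroup.zpowers_le]
      exact hy_mem
    apply GA4_squeeze p hp hA hJ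
    · rw [hcE _ (t - (m + 1)) (by omega), hcE _ (t - m) (by omega)]
      have e1 : t - (t - (m + 1)) = m + 1 := by omega
      have e2 : t - (t - m) = m := by omega
      rw [e1, e2, pow_succ, mul_comm]
    · intro heq
      have hmem : y (a + m) ∈ E P h (a + (m : ℤ) - t) (t - m) := by
        rw [← heq]
        exact le_sup_right (α := Subgroup G) (Subgroup.mem_zpowers _)
      have hall : y (a + m) ∈ E P h (a + (m : ℤ) - t) t := by
        rw [mem_E]
        intro k hk1 hk2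
        by_cases hka : k ≤ a
        · exact (mem_E.mp hmem) k hk1 (by omega)
        · exact (mem_E.mp (hyk (a + m))) k (by omega) (by omega)
      rw [hbot, Subgroup.mem_bot] at hall
      exact hyk1 _ hall

end Cfsg.Agent.Helper10.Glaub
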