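import Cfsg.Agent.Helper8.GlaubDefs

/-!
S4359 (helper8, Glauberman-type lemma), leaf (GB1a): `p`-version of `Sims3.tower_inter`.
-/

set_option autoImplicit false

namespace Cfsg.Agent.Helper10.Glaub

open Cfsg.Agent.Helper8.Sims3 Cfsg.Agent.Helper8.Glaub Pointwise

variable {G : Type*} [Group G]

/-- (GB1a) as `Sims3.tower_inter` (in `Sims3Basic`), with `p` in place of `2`. -/
theorem ptower_inter {p t : ℕ} (hp : p.Prime) {y : ℤ → G} (h : PTower p t y) (a : ℤ) (m : ℕ)
    (hm : m + 2 ≤ t) : U y a (m + 1) ⊓ U y (a + 1) (m + 1) = U y (a + 1) m := by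
  have hp0 : 0 < p := hp.pos
  have hV := h.card a (m + 2) hm
  have hA := h.card a (m + 1) (by omega)
  have hB := h.card (a + 1) (m + 1) (by omega)
  have hC := h.card (a + 1) m (by omega)
  have hCle : U y (a + 1) m ≤ U y a (m + 1) ⊓ U y (a + 1) (m + 1) :=
    le_inf (U_mono (by omega) (by push_cast; omega)) (U_mono le_rfl (by push_cast; omega))
  have hA0 : Nat.card ↥(U y a (m + 1)) ≠ 0 := by rw [hA]; positivity
  have hfinA : Finite ↥(U y a (m + 1)) := Nat.finite_of_card_ne_zero hA0
  -- the intersection is a proper subgroup of `A`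
  have hne : U y a (m + 1) ⊓ U y (a + 1) (m + 1) ≠ U y a (m + 1) := by
    intro heq
    have hAB : U y a (m + 1) ≤ U y (a + 1) (m + 1) := by
      rw [← heq]; exact inf_le_right
    have hVB : U y a (m + 2) ≤ U y (a + 1) (m + 1) := by
      rw [show m + 2 = (m + 1) + 1 from rfl, U_succ_left]
      refine sup_le ?_ le_rfl
      rw [Subgroup.zpowers_le]
      exact hAB (mem_U_self y le_rfl (by push_cast; omega))
    have hB0 : Nat.card ↥(U y (a + 1) (m + 1)) ≠ 0 := by rw [hB]; positivity
    have hfinB : Finite ↥(U y (a + 1) (m + 1)) := Nat.finite_of_card_ne_zero hB0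
    have := Nat.card_le_card_of_injective _ (Subgroup.inclusion_injective hVB)
    rw [hV, hB] at this
    have h2 : p ^ (m + 1) < p ^ (m + 2) := Nat.pow_lt_pow_right hp.one_lt (by omega)
    omega
  have hdvd : Nat.card ↥(U y a (m + 1) ⊓ U y (a + 1) (m + 1)) ∣ p ^ (m + 1) := by
    rw [← hA]
    exact Subgroup.card_dvd_of_le inf_le_left
  obtain ⟨k, hk, hkc⟩ := (Nat.dvd_prime_pow hp).1 hdvd
  have hk' : k ≤ m := by
    by_contra hcon
    have hkm : k = m + 1 := by omega
    apply hne
    apply eq_of_le_of_card_le' inf_le_left hA0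
    rw [hA, hkc, hkm]
  symm
  apply eq_of_le_of_card_le' hCle
  · rw [hkc]; positivity
  · rw [hC, hkc]
    exact Nat.pow_le_pow_right hp0 hk'

end Cfsg.Agent.Helper10.Glaub
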