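import Cfsg.Agent.Helper95.Hig.Basic

/-!
helper10, piece (HD4) of helper95's HIG farm (#14680, S3050): block form of
`w_γ = U γ * L γ⁻¹ * U γ` in a characteristic-2 model.
-/

set_option autoImplicit false

namespace Cfsg.Agent.Helper10.Hig

open Cfsg.Agent.Helper40.SL2Hom
open Cfsg.Agent.Helper95.Hig

universe u v w

section hd
variable {K : Type u} [Field K] [CharP K 2] {V : Type v} [AddCommGroup V] [Module (ZG K) V]
  {C : Type w} [AddCommGroup C]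

omit [CharP K 2] in
theorem HD4_actW (m : Model K V C) (c d : C) :
    act (W : SL2 K) (m.φ.symm (c, d)) = m.φ.symm (d, c) := by
  apply m.φ.injective
  rw [m.hW, AddEquiv.apply_symm_apply]

omit [CharP K 2] in
theorem HD4_actU (m : Model K V C) (γ : K) (c d : C) :
    act (U γ) (m.φ.symm (c, d)) = m.φ.symm (c + m.A γ c + m.B γ d, d + m.A γ d) := by
  apply m.φ.injective
  rw [m.hU, AddEquiv.apply_symm_apply]

/-- local copy of (HD2): block form of `L γ = W * U γ * W`. -/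
theorem HD4_hd2 (m : Model K V C) (γ : K) (c d : C) :
    m.φ (act (L γ) (m.φ.symm (c, d))) = (c + m.A γ c, d + m.B γ c + m.A γ d) := by
  rw [L_eq, act_mul, act_mul, HD4_actW, HD4_actU, HD4_actW, AddEquiv.apply_symm_apply]
  refine Prod.ext rfl ?_
  show d + m.A γ d + m.B γ c = d + m.B γ c + m.A γ d
  abel

/-- (HD4) block form of `w_γ = U γ * L γ⁻¹ * U γ`: by (S3R) second formula and `2V = 0`,
`w_γ x = U γ x + L γ⁻¹ x`, hence with `E c := A γ c + A γ⁻¹ c`: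
`w_γ (c, d) = (E c + B γ d, B γ⁻¹ c + E d)`. -/
theorem hd4 (h2 : ∀ c : C, c + c = 0) (hH : IsHig K V) (m : Model K V C) (γ : K) (hγ : γ ≠ 0)
    (c d : C) :
    m.φ (act (U γ * L γ⁻¹ * U γ) (m.φ.symm (c, d))) =
      (m.A γ c + m.A γ⁻¹ c + m.B γ d, m.B γ⁻¹ c + (m.A γ d + m.A γ⁻¹ d)) := by
  have hneg : ∀ x : C, -x = x := fun x => neg_eq_of_add_eq_zero_left (h2 x)
  have h := (s3r hH γ hγ (m.φ.symm (c, d))).2
  have h' : act (U γ * L γ⁻¹ * U γ) (m.φ.symm (c, d)) =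
      -(act (U γ) (m.φ.symm (c, d)) + act (L γ⁻¹) (m.φ.symm (c, d))) :=
    eq_neg_of_add_eq_zero_right h
  rw [h', map_neg, map_add, m.hU, HD4_hd2]
  refine Prod.ext ?_ ?_
  · show -((c + m.A γ c + m.B γ d) + (c + m.A γ⁻¹ c)) = m.A γ c + m.A γ⁻¹ c + m.B γ d
    rw [hneg]
    have : (c + m.A γ c + m.B γ d) + (c + m.A γ⁻¹ c)
        = (c + c) + (m.A γ c + m.A γ⁻¹ c + m.B γ d) := by abel
    rw [this, h2, zero_add]
  · show -((d + m.A γ d) + (d + m.B γ⁻¹ c + m.A γ⁻¹ d))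
        = m.B γ⁻¹ c + (m.A γ d + m.A γ⁻¹ d)
    rw [hneg]
    have : (d + m.A γ d) + (d + m.B γ⁻¹ c + m.A γ⁻¹ d)
        = (d + d) + (m.B γ⁻¹ c + (m.A γ d + m.A γ⁻¹ d)) := by abel
    rw [this, h2, zero_add]

end hd

end Cfsg.Agent.Helper10.Hig
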