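import Cfsg.Agent.Helper95.Hig.Basic

/-!
helper10, piece (ZRL) of helper95's HIG farm (#14680, S3050): block form of `U γ` over `ℤ`
with respect to a `Split`.
-/

set_option autoImplicit false

namespace Cfsg.Agent.Helper10.Hig

open Cfsg.Agent.Helper40.SL2Hom
open Cfsg.Agent.Helper95.Hig

universe u v w

section mod
variable {K : Type u} [Field K] [CharP K 2] {V : Type v} [AddCommGroup V] [Module (ZG K) V]

/-- `U γ` preserves `Fix1`. -/
theorem ZRL_mem (γ : K) (c : Fix1 K V) : act (U γ) (c : V) ∈ Fix1 K V := by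
  rw [mem_Fix1, ← act_mul, U_comm, act_mul, (mem_Fix1 (K := K) (c : V)).1 c.2]

/-- `φ (U γ c) = (U γ c, 0)` for `c ∈ Fix1`. -/
theorem ZRL_phi_fix (s : Split K V) (γ : K) (c : Fix1 K V) :
    s.φ (act (U γ) (c : V)) = (⟨act (U γ) (c : V), ZRL_mem γ c⟩, 0) :=
  s.hfix ⟨act (U γ) (c : V), ZRL_mem γ c⟩

theorem ZRL_Ap (s : Split K V) (γ : K) (c : Fix1 K V) :
    s.Ap γ c = ⟨act (U γ) (c : V), ZRL_mem γ c⟩ := by
  rw [Split.Ap_apply, ZRL_phi_fix]

theorem ZRL_Ap_coe (s : Split K V) (γ : K) (c : Fix1 K V) :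
    ((s.Ap γ c : Fix1 K V) : V) = act (U γ) (c : V) := by
  rw [ZRL_Ap]

theorem ZRL_phi_fix' (s : Split K V) (γ : K) (c : Fix1 K V) :
    s.φ (act (U γ) (c : V)) = (s.Ap γ c, 0) := by
  rw [ZRL_Ap, ZRL_phi_fix]

omit [CharP K 2] in
theorem ZRL_phi_W (s : Split K V) (γ : K) (d : Fix1 K V) :
    s.φ (act (U γ) (act (W : SL2 K) (d : V))) = (s.Bt γ d, s.Dt γ d) := by
  rw [Split.Bt_apply, Split.Dt_apply]

/-- first fact: block form of `U γ`. -/
theorem ZRL_block (s : Split K V) (γ : K) (c d : Fix1 K V) :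
    s.φ (act (U γ) (s.φ.symm (c, d))) = (s.Ap γ c + s.Bt γ d, s.Dt γ d) := by
  rw [s.symm_eq, map_add, map_add, ZRL_phi_fix', ZRL_phi_W]
  refine Prod.ext rfl ?_
  show (0 : Fix1 K V) + s.Dt γ d = s.Dt γ d
  rw [zero_add]

/-- `U γ` in coordinates, as an equation in `V`. -/
theorem ZRL_act (s : Split K V) (γ : K) (c d : Fix1 K V) :
    act (U γ) (s.φ.symm (c, d)) = s.φ.symm (s.Ap γ c + s.Bt γ d, s.Dt γ d) := by
  apply s.φ.injective
  rw [ZRL_block, AddEquiv.apply_symm_apply]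

omit [CharP K 2] in
theorem ZRL_actU1 (s : Split K V) (c d : Fix1 K V) :
    act (U (1 : K)) (s.φ.symm (c, d)) = s.φ.symm (c - d, -d) := by
  apply s.φ.injective
  rw [s.hU1, AddEquiv.apply_symm_apply]

/-- (ZRL) block form of `U γ` over `ℤ`. -/
theorem zrl (s : Split K V) (γ : K) :
    (∀ c d : Fix1 K V, s.φ (act (U γ) (s.φ.symm (c, d))) = (s.Ap γ c + s.Bt γ d, s.Dt γ d)) ∧
    (∀ c : Fix1 K V, ((s.Ap γ c : Fix1 K V) : V) = act (U γ) (c : V)) ∧
    (∀ c : Fix1 K V, s.Bt γ c + s.Bt γ c = s.Dt γ c - s.Ap γ c) ∧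
    (∀ c : Fix1 K V, s.Ap γ (s.Bt γ c) + s.Bt γ (s.Dt γ c) = 0) ∧
    (∀ c : Fix1 K V, s.Ap γ (s.Ap γ c) = c) := by
  refine ⟨ZRL_block s γ, ZRL_Ap_coe s γ, ?_, ?_, ?_⟩
  · intro d
    -- `U 1 (U γ (W d)) = U γ (U 1 (W d))`
    have h1 : act (U (1 : K)) (act (U γ) (s.φ.symm (0, d)))
        = act (U γ) (act (U (1 : K)) (s.φ.symm (0, d))) := by
      rw [← act_mul, ← act_mul, U_comm]
    rw [ZRL_act, ZRL_actU1, ZRL_actU1, ZRL_act] at h1
    have h2 := congrArg Prod.fst (s.φ.symm.injective h1)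
    simp only [map_zero, zero_add, zero_sub, map_neg] at h2
    -- h2 : Bt d - Dt d = -Ap d + -Bt d
    have h3 : s.Bt γ d + s.Bt γ d = (s.Bt γ d - s.Dt γ d) + s.Bt γ d + s.Dt γ d := by abel
    rw [h3, h2]
    abel
  · intro d
    have h1 : act (U γ) (act (U γ) (s.φ.symm (0, d))) = s.φ.symm (0, d) := by
      rw [← act_mul, U_sq, act_one]
    rw [ZRL_act, ZRL_act] at h1
    have h2 := congrArg Prod.fst (s.φ.symm.injective h1)
    simpa only [map_zero, zero_add] using h2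
  · intro c
    apply Subtype.ext
    rw [ZRL_Ap_coe, ZRL_Ap_coe, ← act_mul, U_sq, act_one]

end mod

end Cfsg.Agent.Helper10.Hig
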