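import Cfsg.Agent.Helper30.RelCtlA

/-!
# Lifting control of strong fusion from `G / Q`, `Q` a normal `p`-subgroup centralized by all
`p'`-elements (helper10; generalizes helper30's `reach_of_quotient_pCore_gen` from `Q = O_p(G)`)
-/

set_option autoImplicit false

universe u

open scoped Pointwise

namespace Cfsg.Agent.Helper10.QuotLift

open Cfsg.Agent.Lib Cfsg.Agent.Helper33

variable {p : ℕ} [hp : Fact p.Prime]

/-- Lifting reachability from `G / Q₀`, for a normal `p`-subgroup `Q₀` centralized by all `p'`-elements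
(copy of helper30's `reach_of_quotient_pCore_gen`, which is the case `Q₀ = O_p(G)`). -/
theorem reach_of_quotient_gen
    {G : Type u} [Group G] [Finite G] (S : Sylow p G) (Q₀ : Subgroup G) [hQ₀n : Q₀.Normal]
    (hQ₀p : IsPGroup p Q₀)
    (K : Set G) (Kq : Set (G ⧸ Q₀))
    (hcop : ∀ x : G, (orderOf x).Coprime p →
      x ∈ Subgroup.centralizer ((Q₀ : Subgroup G) : Set G))
    (hquot : ∀ (A' : Set (G ⧸ Q₀)) (g' : G ⧸ Q₀),
      A' ⊆ (((S : Subgroup G).map (QuotientGroup.mk' (Q₀)) :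
        Subgroup (G ⧸ Q₀)) : Set (G ⧸ Q₀)) →
      conjR g' A' ⊆ (((S : Subgroup G).map (QuotientGroup.mk' (Q₀)) :
        Subgroup (G ⧸ Q₀)) : Set (G ⧸ Q₀)) →
      Reach Kq (((S : Subgroup G).map (QuotientGroup.mk' (Q₀)) :
        Subgroup (G ⧸ Q₀)) : Set (G ⧸ Q₀)) A' g')
    (hstep2 : ∀ z' ∈ Kq, ∀ B : Set G, B ⊆ ((S : Subgroup G) : Set G) →
      conjR z' ((QuotientGroup.mk' (Q₀)) '' B) ⊆
        (((S : Subgroup G).map (QuotientGroup.mk' (Q₀)) :
          Subgroup (G ⧸ Q₀)) : Set (G ⧸ Q₀)) →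
      ∃ z, (QuotientGroup.mk' (Q₀)) z = z' ∧
        Reach K ((S : Subgroup G) : Set G) B z)
    (hS : ∀ (B : Set G) (s : G), B ⊆ ((S : Subgroup G) : Set G) → s ∈ (S : Subgroup G) →
      Reach K ((S : Subgroup G) : Set G) B s)
    (T : Subgroup G) (hTS : T ≤ (S : Subgroup G)) (g : G)
    (hgT : conjR g (T : Set G) ⊆ ((S : Subgroup G) : Set G)) :
    Reach K ((S : Subgroup G) : Set G) (T : Set G) g := by
  obtain ⟨Q, hQ⟩ : ∃ Q : Subgroup G, Q = Q₀ := ⟨_, rfl⟩
  have hQn : Q.Normal := hQ ▸ hQ₀n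
  have hQp : IsPGroup p Q := hQ ▸ hQ₀p
  have hQleS : Q ≤ (S : Subgroup G) := hQ ▸ (le_pCore hQ₀n hQ₀p).trans (pCore_le_sylow S)
  obtain ⟨f, hf⟩ : ∃ f : G →* G ⧸ Q₀, f = QuotientGroup.mk' (Q₀) := ⟨_, rfl⟩
  have hfs : Function.Surjective f := hf ▸ QuotientGroup.mk'_surjective _
  have hker : f.ker = Q := by rw [hf, hQ]; exact QuotientGroup.ker_mk' _
  have hfeq : ∀ a b : G, f a = f b → a⁻¹ * b ∈ Q := by
    intro a b hab
    rw [← hker, MonoidHom.mem_ker, map_mul, map_inv, hab, inv_mul_cancel]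
  obtain ⟨Sb, hSb⟩ : ∃ Sb : Subgroup (G ⧸ Q₀), Sb = (S : Subgroup G).map f := ⟨_, rfl⟩
  rw [← hf] at hquot hstep2
  rw [← hSb] at hquot hstep2
  -- Alperin's theorem above `Q`
  obtain ⟨T₁, hT₁⟩ : ∃ T₁ : Subgroup G, T₁ = T ⊔ Q := ⟨_, rfl⟩
  have hT₁S : T₁ ≤ (S : Subgroup G) := hT₁ ▸ sup_le hTS hQleS
  have hgT₁ : conjR g (T₁ : Set G) ⊆ ((S : Subgroup G) : Set G) := by
    rw [← coe_map_conj_inv, hT₁, Subgroup.map_sup]
    have h1 : T.map (MulAut.conj g⁻¹).toMonoidHom ≤ (S : Subgroup G) := by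
      intro y hy
      have : y ∈ ((T.map (MulAut.conj g⁻¹).toMonoidHom : Subgroup G) : Set G) := hy
      rw [coe_map_conj_inv] at this
      exact hgT this
    have h2 : Q.map (MulAut.conj g⁻¹).toMonoidHom ≤ (S : Subgroup G) := by
      rw [← smul_eq_map_conj, Subgroup.Normal.conj_smul_eq_self]
      exact hQleS
    exact_mod_cast sup_le h1 h2
  have hch := fchain_tameAbove S Q T₁ hT₁S (hT₁ ▸ le_sup_right) g hgT₁
  have hstep : ∀ U ∈ tameAbove p (S : Subgroup G) Q, ∀ y ∈ Subgroup.normalizer (U : Set G),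
      ∀ B : Set G, B ⊆ (U : Set G) →
      Reach K ((S : Subgroup G) : Set G) B y := by
    rintro U ⟨hUS, hQU, htame⟩ y hy B hBU
    suffices hRU : Reach K ((S : Subgroup G) : Set G) (U : Set G) y from
      hRU.mono hBU
    have hUb : f '' (U : Set G) ⊆ (Sb : Set (G ⧸ Q₀)) := by
      rintro _ ⟨u, hu, rfl⟩
      rw [hSb]
      exact ⟨u, hUS hu, rfl⟩
    have hyUb : conjR (f y) (f '' (U : Set G)) ⊆ (Sb : Set (G ⧸ Q₀)) := by
      rw [← image_conjR, conjR_coe_eq_of_mem_normalizer hy]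
      exact hUb
    obtain ⟨x', hch', hag⟩ := hquot _ _ hUb hyUb
    obtain ⟨x, hfx, hRx⟩ := hch'.lift_surj f hstep2 (U : Set G) (by exact_mod_cast hUS) rfl
    -- `x` normalizes `U`
    have hxU : ∀ u ∈ U, x⁻¹ * u * x ∈ U := by
      intro u hu
      have h1 : f (x⁻¹ * u * x) = f (y⁻¹ * u * y) := by
        rw [map_mul, map_mul, map_inv, map_mul, map_mul, map_inv, hfx]
        exact hag (f u) ⟨u, hu, rfl⟩
      have h2 := hfeq _ _ h1.symm
      have h3 : y⁻¹ * u * y ∈ U := by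
        have := (Subgroup.mem_normalizer_iff.mp (Subgroup.inv_mem _ hy) u).mp hu
        rwa [inv_inv] at this
      have := U.mul_mem h3 (hQU h2)
      rwa [mul_inv_cancel_left] at this
    have hxN : x ∈ Subgroup.normalizer (U : Set G) := by
      apply mem_normalizer_of_conjR_subset
      rintro _ ⟨u, hu, rfl⟩
      exact hxU u hu
    have hdN : x⁻¹ * y ∈ Subgroup.normalizer (U : Set G) :=
      Subgroup.mul_mem _ (Subgroup.inv_mem _ hxN) hy
    have hdU : ∀ v ∈ U, v⁻¹ * ((x⁻¹ * y)⁻¹ * v * (x⁻¹ * y)) ∈ Q := by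
      intro v hv
      -- write `v = x⁻¹ u x`
      have hu : x * v * x⁻¹ ∈ U := (Subgroup.mem_normalizer_iff.mp hxN v).mp hv
      apply hfeq
      have h1 := hag (f (x * v * x⁻¹)) ⟨_, hu, rfl⟩
      rw [← hfx] at h1
      have e1 : (f x)⁻¹ * f (x * v * x⁻¹) * f x = f v := by
        rw [← map_inv, ← map_mul, ← map_mul]
        congr 1
        group
      have e2 : (f y)⁻¹ * f (x * v * x⁻¹) * f y = f ((x⁻¹ * y)⁻¹ * v * (x⁻¹ * y)) := by
        rw [← map_inv, ← map_mul, ← map_mul]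
        congr 1
        group
      rw [e1, e2] at h1
      exact h1
    obtain ⟨s, hs, hsU⟩ := exists_sylow_conj_of_stab S Q hQp (hQ ▸ hcop) U htame (x⁻¹ * y) hdN hdU
    have hRd : Reach K ((S : Subgroup G) : Set G) (U : Set G)
        (x⁻¹ * y) := by
      apply (hS (U : Set G) s (by exact_mod_cast hUS) hs).congr
      intro u hu
      exact (hsU u hu).symm
    have hxUeq : conjR x (U : Set G) = U := conjR_coe_eq_of_mem_normalizer hxN
    have := hRx.trans (hxUeq.symm ▸ hRd)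
    rwa [mul_inv_cancel_left] at this
  exact ((reach_of_fchain hstep hch).mono (by rw [hT₁]; exact_mod_cast (le_sup_left : T ≤ T ⊔ Q)))

end Cfsg.Agent.Helper10.QuotLift
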