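import Cfsg.Agent.Helper10.RelNPS
import Cfsg.Agent.Helper10.QuotLift

/-!
# Normalizer-`p`-stable groups: control of strong fusion by the preimage of `ZJ(DQ/Q)` (helper10)

`H` a finite group, `p`-stable in the normalizer form (`p` odd), `Q` a normal `p`-subgroup centralized by all
`p'`-elements, `P` a Sylow `p`-subgroup and `D` strongly closed in `P`. Then the normalizer of the
preimage of `ZJ(DQ/Q)` controls strong fusion in `P`.
-/

set_option autoImplicit false

universe u

open scoped Pointwise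

namespace Cfsg.Agent.Helper10.NPSCon

open Subgroup
open Cfsg.Agent.Lib Cfsg.Agent.Lib.ZJ Cfsg.Agent.Helper48 Cfsg.Agent.Helper33 Cfsg.Agent.Helper30.RelCtl

variable {good : ∀ (K : Type u) [Group K], Subgroup K → Prop}

variable {p : ℕ} [hp : Fact p.Prime]

theorem reach_of_cop (hp2 : p ≠ 2) (hI : Intrinsic good)
    (hrepl : ∀ (S : Type u) [Group S] [Finite S], IsPGroup p S → ∀ (D : Subgroup S) [D.Normal],
      ReplD good S D)
    (hnt : ∀ (X : Type u) [Group X] [Finite X] (R : Subgroup X), IsPGroup p R → R ≠ ⊥ →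
      sInf (maxGood (good X) R) ≠ ⊥)
    {H : Type u} [Group H] [Finite H] (hst : Cfsg.IsNormalizerPStable p H) (Q : Subgroup H)
    [hQn : Q.Normal] (hQp : IsPGroup p Q)
    (hcop : ∀ y : H, (orderOf y).Coprime p → y ∈ centralizer (Q : Set H))
    (P : Sylow p H) (D : Subgroup H) (hD : Cfsg.IsStronglyClosed D (P : Subgroup H))
    (T : Subgroup H) (hTP : T ≤ (P : Subgroup H)) (g : H)
    (hgT : conjR g (T : Set H) ⊆ ((P : Subgroup H) : Set H)) :
    Reach ((normalizer (((sInf (maxGood (good (H ⧸ Q)) (D.map (QuotientGroup.mk' Q)))).comap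
      (QuotientGroup.mk' Q) : Subgroup H) : Set H) : Subgroup H) : Set H)
      ((P : Subgroup H) : Set H) (T : Set H) g := by
  set π := QuotientGroup.mk' Q with hπ
  have hπs : Function.Surjective π := QuotientGroup.mk'_surjective Q
  have hker : π.ker = Q := QuotientGroup.ker_mk' Q
  have hstq : Cfsg.IsNormalizerPStable p (H ⧸ Q) :=
    Cfsg.Agent.Helper10.NPSI.nps_quotient_pgroup hp2 hst Q hQp hcop
  have hrel : RelCtl good p (H ⧸ Q) := Cfsg.Agent.Helper10.RelNPS.relCtl_of_nps hp2 hI hrepl hnt _ (H ⧸ Q) rfl hstq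
  set Pb : Sylow p (H ⧸ Q) := P.mapSurjective hπs with hPb
  have hPbcoe : (Pb : Subgroup (H ⧸ Q)) = (P : Subgroup H).map π := Sylow.coe_mapSurjective hπs P
  have hDb : Cfsg.IsStronglyClosed (D.map π) (Pb : Subgroup (H ⧸ Q)) := by
    rw [hPbcoe]
    exact isStronglyClosed_map_of_surjective π hπs P D hD
  set Zb := sInf (maxGood (good (H ⧸ Q)) (D.map π)) with hZb
  have hctl : LCtl (normalizer (Zb : Set (H ⧸ Q))) (Pb : Subgroup (H ⧸ Q)) := hrel Pb (D.map π) hDb
  have hPbN : (Pb : Subgroup (H ⧸ Q)) ≤ normalizer (Zb : Set (H ⧸ Q)) :=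
    le_normalizer_sInf_of_stronglyClosed hI hDb
  set R := Zb.comap π with hR
  have hNR : (normalizer (Zb : Set (H ⧸ Q))).comap π ≤ normalizer (R : Set H) :=
    Subgroup.le_normalizer_comap π
  have hQP : Q ≤ (P : Subgroup H) := (Cfsg.Agent.Lib.le_pCore hQn hQp).trans (Cfsg.Agent.Lib.pCore_le_sylow P)
  have hcomapP : ((P : Subgroup H).map π).comap π = (P : Subgroup H) := by
    rw [Subgroup.comap_map_eq, hker, sup_eq_left.mpr hQP]
  have hPN : (P : Subgroup H) ≤ normalizer (R : Set H) := by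
    intro s hs
    apply hNR
    rw [Subgroup.mem_comap]
    apply hPbN
    rw [hPbcoe]
    exact ⟨s, hs, rfl⟩
  refine Cfsg.Agent.Helper10.QuotLift.reach_of_quotient_gen P Q hQp
    ((normalizer (R : Set H) : Subgroup H) : Set H)
    ((normalizer (Zb : Set (H ⧸ Q)) : Subgroup (H ⧸ Q)) : Set (H ⧸ Q)) hcop ?_ ?_ ?_ T hTP g hgT
  · intro A' g' hA' hgA'
    rw [← hπ, ← hPbcoe] at hA' hgA' ⊢
    exact reach_of_lctl hctl A' g' hA' hgA'
  · intro z' hz' B hB hzB
    rw [← hπ] at hzB ⊢
    obtain ⟨z, rfl⟩ := hπs z'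
    have hzN : z ∈ normalizer (R : Set H) := hNR (by rw [Subgroup.mem_comap]; exact hz')
    refine ⟨z, rfl, Reach.of_rchain (RChain.single hzN ?_)⟩
    intro b hb
    have : π b ∈ (P : Subgroup H).map π := by
      apply hzB
      rw [← image_conjR]
      exact ⟨b, hb, rfl⟩
    rw [← hcomapP]
    exact this
  · intro B s hB hs
    refine Reach.of_rchain (RChain.single (hPN hs) ?_)
    rintro _ ⟨b, hb, rfl⟩
    exact (P : Subgroup H).mul_mem ((P : Subgroup H).mul_mem ((P : Subgroup H).inv_mem hs) (hB hb)) hs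

end Cfsg.Agent.Helper10.NPSCon
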