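import Cfsg.Agent.Helper10.NPSCon1

/-!
# Normalizer-`p`-stable groups: control of `C_G(Q)`-fusion by the preimage of `ZJ(C_P(Q)Q/Q)` (helper10)
-/

set_option autoImplicit false

universe u

open scoped Pointwise

namespace Cfsg.Agent.Helper10.NPSCon

open Subgroup
open Cfsg.Agent.Lib Cfsg.Agent.Lib.ZJ Cfsg.Agent.Helper48 Cfsg.Agent.Helper33 Cfsg.Agent.Helper30.RelCtl

variable {good : ∀ (K : Type u) [Group K], Subgroup K → Prop}

variable {p : ℕ} [hp : Fact p.Prime]

/-- the subgroup `R`: preimage in `G` of `ZJ(DQ/Q)`. -/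
def preZJ (good : ∀ (K : Type u) [Group K], Subgroup K → Prop) {G : Type u} [Group G]
    (Q : Subgroup G) [Q.Normal] (D : Subgroup G) : Subgroup G :=
  (sInf (maxGood (good (G ⧸ Q)) (D.map (QuotientGroup.mk' Q)))).comap (QuotientGroup.mk' Q)

theorem le_preZJ {G : Type u} [Group G] (Q : Subgroup G) [Q.Normal] (D : Subgroup G) :
    Q ≤ preZJ good Q D := by
  intro x hx
  unfold preZJ
  rw [Subgroup.mem_comap]
  have : (QuotientGroup.mk' Q) x = 1 := by
    rw [QuotientGroup.mk'_apply, QuotientGroup.eq_one_iff]; exact hx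
  rw [this]
  exact Subgroup.one_mem _

theorem preZJ_le (hI : Intrinsic good) {G : Type u} [Group G] [Finite G] (Q : Subgroup G) [Q.Normal]
    (D : Subgroup G) : preZJ good Q D ≤ D ⊔ Q := by
  intro x hx
  unfold preZJ at hx
  rw [Subgroup.mem_comap] at hx
  have h1 := (sInf_maxGood_le' hI (D.map (QuotientGroup.mk' Q))) hx
  obtain ⟨d, hd, hdx⟩ := h1
  have h2 : d⁻¹ * x ∈ Q := by
    rw [← QuotientGroup.eq_one_iff, ← QuotientGroup.mk'_apply, map_mul, map_inv, hdx, inv_mul_cancel]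
  have : x = d * (d⁻¹ * x) := by group
  rw [this]
  exact Subgroup.mul_mem_sup hd h2

/-- the normalizer of `D` normalizes the preimage of `ZJ(DQ/Q)`. -/
theorem normalizer_le_normalizer_preZJ (hI : Intrinsic good) {G : Type u} [Group G] (Q : Subgroup G)
    [Q.Normal] (D : Subgroup G) :
    normalizer (D : Set G) ≤ normalizer ((preZJ good Q D : Subgroup G) : Set G) := by
  intro n hn
  unfold preZJ
  apply Subgroup.le_normalizer_comap (QuotientGroup.mk' Q)
  rw [Subgroup.mem_comap]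
  apply normalizer_le_normalizer_sInf_maxGood hI (D.map (QuotientGroup.mk' Q))
  exact (Subgroup.le_normalizer_map (QuotientGroup.mk' Q)) ⟨n, hn, rfl⟩

/-- Elements of `X P` of order prime to `p` lie in `X`, when `X` is normal and `P` is a `p`-group. -/
theorem mem_of_coprime_of_mem_sup {G : Type*} [Group G] (X P : Subgroup G) [hXn : X.Normal]
    (hP : IsPGroup p P) {y : G} (hy : y ∈ X ⊔ P) (hc : (orderOf y).Coprime p) : y ∈ X := by
  have hy' : y ∈ ((X ⊔ P : Subgroup G) : Set G) := hy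
  rw [Subgroup.normal_mul] at hy'
  obtain ⟨x, hx, s, hs, rfl⟩ := hy'
  obtain ⟨k, hk⟩ := hP ⟨s, hs⟩
  have hk' : s ^ p ^ k = 1 := congrArg Subtype.val hk
  have e : (QuotientGroup.mk (x * s) : G ⧸ X) = QuotientGroup.mk s := by
    rw [QuotientGroup.mk_mul, (QuotientGroup.eq_one_iff x).mpr hx, one_mul]
  have h1 : (QuotientGroup.mk (x * s) : G ⧸ X) ^ p ^ k = 1 := by
    rw [e, ← QuotientGroup.mk_pow, hk']; rfl
  have h2 : (QuotientGroup.mk (x * s) : G ⧸ X) ^ orderOf (x * s) = 1 := by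
    rw [← QuotientGroup.mk_pow, pow_orderOf_eq_one]; rfl
  have h3 : (QuotientGroup.mk (x * s) : G ⧸ X) ^ Nat.gcd (p ^ k) (orderOf (x * s)) = 1 := by
    exact pow_gcd_eq_one.2 ⟨h1, h2⟩
  have h4 : Nat.gcd (p ^ k) (orderOf (x * s)) = 1 := (Nat.Coprime.pow_right k hc).symm
  rw [h4, pow_one] at h3
  exact (QuotientGroup.eq_one_iff _).mp h3

end Cfsg.Agent.Helper10.NPSCon
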