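import Cfsg.Agent.Helper10.NPSCon2

/-!
# Normalizer-`p`-stable groups: control of `C_G(Q)`-fusion by the preimage of `ZJ(C_P(Q)Q/Q)`, II (helper10)
-/

set_option autoImplicit false

universe u

open scoped Pointwise

namespace Cfsg.Agent.Helper10.NPSCon

open Subgroup
open Cfsg.Agent.Lib Cfsg.Agent.Lib.ZJ Cfsg.Agent.Helper48 Cfsg.Agent.Helper33 Cfsg.Agent.Helper30.RelCtl

variable {good : ∀ (K : Type u) [Group K], Subgroup K → Prop}

variable {p : ℕ} [hp : Fact p.Prime]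

/-- The preimage of `ZJ(DQ/Q)` computed in a subgroup `H ≥ D, Q` is the same. -/
theorem preZJ_subgroupOf_map (hI : Intrinsic good) {G : Type u} [Group G] [Finite G] (Q : Subgroup G)
    [Q.Normal] (D H : Subgroup G) (hDH : D ≤ H) (hQH : Q ≤ H) :
    (preZJ good (Q.subgroupOf H) (D.subgroupOf H)).map H.subtype = preZJ good Q D := by
  set QH := Q.subgroupOf H with hQHdef
  set DH := D.subgroupOf H with hDHdef
  set π := QuotientGroup.mk' Q with hπ
  set πH := QuotientGroup.mk' QH with hπH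
  let ι : ↥H ⧸ QH →* G ⧸ Q := QuotientGroup.map QH Q H.subtype le_rfl
  have hι : ∀ h : ↥H, ι (πH h) = π (h : G) := fun h => rfl
  have hιinj : Function.Injective ι := by
    rw [injective_iff_map_eq_one]
    intro y hy
    obtain ⟨h, rfl⟩ := QuotientGroup.mk'_surjective QH y
    rw [hι, QuotientGroup.mk'_apply, QuotientGroup.eq_one_iff] at hy
    rw [QuotientGroup.mk'_apply, QuotientGroup.eq_one_iff]
    exact Subgroup.mem_subgroupOf.2 hy
  have hDmap : (DH.map πH).map ι = D.map π := by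
    ext y
    constructor
    · rintro ⟨_, ⟨d, hd, rfl⟩, rfl⟩
      exact ⟨(d : G), Subgroup.mem_subgroupOf.1 hd, (hι d).symm⟩
    · rintro ⟨d, hd, rfl⟩
      exact ⟨πH ⟨d, hDH hd⟩, ⟨⟨d, hDH hd⟩, Subgroup.mem_subgroupOf.2 hd, rfl⟩, hι _⟩
  have hZ : sInf (maxGood (good (G ⧸ Q)) (D.map π)) =
      (sInf (maxGood (good (↥H ⧸ QH)) (DH.map πH))).map ι := by
    rw [← hDmap]
    exact sInf_maxGood_map_of_injOn ι (DH.map πH) (hιinj.comp (Subgroup.subtype_injective _)) hI
      (maxGood_nonempty' hI _)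
  ext x
  unfold preZJ
  constructor
  · rintro ⟨h, hh, rfl⟩
    rw [SetLike.mem_coe, Subgroup.mem_comap] at hh
    rw [Subgroup.mem_comap, ← hπ, hZ]
    exact ⟨πH h, hh, hι h⟩
  · intro hx
    rw [Subgroup.mem_comap, ← hπ, hZ] at hx
    obtain ⟨zb, hzb, hzx⟩ := hx
    obtain ⟨h, rfl⟩ := QuotientGroup.mk'_surjective QH zb
    have h1 : (h : G)⁻¹ * x ∈ Q := by
      rw [← QuotientGroup.eq_one_iff, ← QuotientGroup.mk'_apply, map_mul, map_inv, ← hzx]
      show (π (h : G))⁻¹ * ι (πH h) = 1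
      rw [hι, inv_mul_cancel]
    have hxH : x ∈ H := by
      have : x = (h : G) * ((h : G)⁻¹ * x) := by group
      rw [this]; exact H.mul_mem h.2 (hQH h1)
    refine ⟨⟨x, hxH⟩, ?_, rfl⟩
    rw [SetLike.mem_coe, Subgroup.mem_comap]
    have : πH ⟨x, hxH⟩ = πH h := by
      apply hιinj
      rw [hι, hι]; exact hzx.symm
    rw [← hπH, this]; exact hzb

/-- **Control of `C_G(Q)`-fusion**: `G` normalizer-`p`-stable, `p` odd, `Q` a normal `p`-subgroup, `P` a
Sylow `p`-subgroup. If `c ∈ C_G(Q)` conjugates `A ≤ P` into `P`, then some element of the normalizer of the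
preimage of `ZJ(C_P(Q)Q/Q)` induces the same map on `A`. -/
theorem exists_of_mem_centralizer (hp2 : p ≠ 2) (hI : Intrinsic good)
    (hrepl : ∀ (S : Type u) [Group S] [Finite S], IsPGroup p S → ∀ (D : Subgroup S) [D.Normal],
      ReplD good S D)
    (hnt : ∀ (X : Type u) [Group X] [Finite X] (R : Subgroup X), IsPGroup p R → R ≠ ⊥ →
      sInf (maxGood (good X) R) ≠ ⊥)
    {G : Type u} [Group G] [Finite G] (hst : Cfsg.IsNormalizerPStable p G) (P : Sylow p G)
    (Q : Subgroup G) [hQn : Q.Normal] (hQp : IsPGroup p Q)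
    (A : Subgroup G) (hAP : A ≤ (P : Subgroup G)) (c : G) (hc : c ∈ centralizer (Q : Set G))
    (hcA : conjR c (A : Set G) ⊆ ((P : Subgroup G) : Set G)) :
    ∃ m ∈ normalizer ((preZJ good Q ((P : Subgroup G) ⊓ centralizer (Q : Set G)) : Subgroup G) : Set G),
      ∀ a ∈ A, m⁻¹ * a * m = c⁻¹ * a * c := by
  set X := centralizer (Q : Set G) with hX
  have hXn : X.Normal := Subgroup.normal_centralizer
  set D := (P : Subgroup G) ⊓ X with hD
  set H := X ⊔ (P : Subgroup G) with hH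
  have hXH : X ≤ H := le_sup_left
  have hPH : (P : Subgroup G) ≤ H := le_sup_right
  have hQP : Q ≤ (P : Subgroup G) :=
    (Cfsg.Agent.Lib.le_pCore hQn hQp).trans (Cfsg.Agent.Lib.pCore_le_sylow P)
  have hstH : Cfsg.IsNormalizerPStable p ↥H :=
    Cfsg.Agent.Helper48.isNormalizerPStable_of_injective H.subtype H.subtype_injective hst
  set QH := Q.subgroupOf H with hQH
  have hQHn : QH.Normal := inferInstance
  have hQHp : IsPGroup p QH := hQp.comap_subtype
  have hcopH : ∀ y : ↥H, (orderOf y).Coprime p → y ∈ centralizer (QH : Set ↥H) := by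
    intro y hy
    have h1 : (y : G) ∈ X :=
      mem_of_coprime_of_mem_sup X (P : Subgroup G) P.2 y.2 (by rwa [Subgroup.orderOf_coe])
    rw [Subgroup.mem_centralizer_iff]
    intro q hq
    apply Subtype.ext
    rw [Subgroup.coe_mul, Subgroup.coe_mul]
    exact (Subgroup.mem_centralizer_iff.1 h1) q (Subgroup.mem_subgroupOf.1 hq)
  set PH : Sylow p ↥H := P.subtype hPH with hPHdef
  have hPHcoe : (PH : Subgroup ↥H) = (P : Subgroup G).subgroupOf H := rfl
  set DH := D.subgroupOf H with hDH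
  have hDHsc : Cfsg.IsStronglyClosed DH (PH : Subgroup ↥H) := by
    rw [hPHcoe]
    refine ⟨fun x hx => ?_, fun x hx g hg => ?_⟩
    · rw [Subgroup.mem_subgroupOf] at hx ⊢
      exact hx.1
    · rw [Subgroup.mem_subgroupOf] at hx hg ⊢
      refine ⟨hg, ?_⟩
      have e : ((g * x * g⁻¹ : ↥H) : G) = (g : G) * (x : G) * (g : G)⁻¹ := by simp
      rw [e]
      exact hXn.conj_mem _ hx.2 _
  have hTP : A.subgroupOf H ≤ (PH : Subgroup ↥H) := by
    intro x hx
    rw [hPHcoe, Subgroup.mem_subgroupOf]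
    exact hAP (Subgroup.mem_subgroupOf.1 hx)
  have hgT : conjR (⟨c, hXH hc⟩ : ↥H) ((A.subgroupOf H : Subgroup ↥H) : Set ↥H) ⊆
      ((PH : Subgroup ↥H) : Set ↥H) := by
    rintro _ ⟨t, ht, rfl⟩
    rw [SetLike.mem_coe, hPHcoe, Subgroup.mem_subgroupOf]
    have e : (((⟨c, hXH hc⟩ : ↥H)⁻¹ * t * (⟨c, hXH hc⟩ : ↥H) : ↥H) : G) = c⁻¹ * (t : G) * c := by simp
    rw [e]
    exact hcA ⟨(t : G), Subgroup.mem_subgroupOf.1 ht, rfl⟩
  obtain ⟨g', hch, hag⟩ := reach_of_cop hp2 hI hrepl hnt hstH QH hQHp hcopH PH DH hDHsc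
    (A.subgroupOf H) hTP ⟨c, hXH hc⟩ hgT
  have hg'N := mem_of_rchain hch
  refine ⟨(g' : G), ?_, ?_⟩
  · rw [← preZJ_subgroupOf_map hI Q D H (inf_le_left.trans hPH) (hQP.trans hPH)]
    exact (Subgroup.le_normalizer_map H.subtype) ⟨g', hg'N, rfl⟩
  · intro a ha
    have h1 := hag ⟨a, hPH (hAP ha)⟩ (Subgroup.mem_subgroupOf.2 ha)
    have h2 := congrArg Subtype.val h1
    simpa using h2

end Cfsg.Agent.Helper10.NPSCon
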