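import Cfsg.Agent.Helper10.NPSCon3
import Cfsg.Agent.Helper10.Basic

/-!
# Normalizer-`p`-stable groups have constrained fusion (helper10)

`G` finite, `p`-stable in the normalizer form, `p` odd, `P` a Sylow `p`-subgroup. Then there is `Q ≤ P`
with `N_G(Q)` controlling strong fusion in `P` and `C_P(Q) ≤ Q`.
-/

set_option autoImplicit false

universe u

open scoped Pointwise

namespace Cfsg.Agent.Helper10.NPSCon

open Subgroup
open Cfsg.Agent.Lib Cfsg.Agent.Lib.ZJ Cfsg.Agent.Helper48 Cfsg.Agent.Helper33 Cfsg.Agent.Helper30.RelCtl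

variable {good : ∀ (K : Type u) [Group K], Subgroup K → Prop}

variable {p : ℕ} [hp : Fact p.Prime]

theorem lctl_top {G : Type*} [Group G] (P : Subgroup G) : LCtl (⊤ : Subgroup G) P :=
  fun _ g _ _ => ⟨g, Subgroup.mem_top g, fun _ _ => rfl⟩

/-- if `N_G(Q)` controls strong fusion in `P ≥ Q` then `P` normalizes `Q`. -/
theorem le_normalizer_of_lctl {G : Type*} [Group G] [Finite G] {P Q : Subgroup G} (hQP : Q ≤ P)
    (h : LCtl (normalizer (Q : Set G)) P) : P ≤ normalizer (Q : Set G) := by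
  intro s hs
  apply Cfsg.Agent.Helper10.mem_normalizer_of_finite
  intro a ha
  obtain ⟨x, hx, hxa⟩ := h (Q : Set G) s hQP
    (fun b hb => P.mul_mem (P.mul_mem hs (hQP hb)) (P.inv_mem hs))
  rw [← hxa a ha]
  exact (Subgroup.mem_normalizer_iff.1 hx a).1 ha

theorem exists_centric_lctl (hp2 : p ≠ 2) (hI : Intrinsic good)
    (hrepl : ∀ (S : Type u) [Group S] [Finite S], IsPGroup p S → ∀ (D : Subgroup S) [D.Normal],
      ReplD good S D)
    (hnt : ∀ (X : Type u) [Group X] [Finite X] (R : Subgroup X), IsPGroup p R → R ≠ ⊥ →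
      sInf (maxGood (good X) R) ≠ ⊥) :
    ∀ (n : ℕ) (G : Type u) [Group G] [Finite G], Nat.card G = n →
      Cfsg.IsNormalizerPStable p G → ∀ P : Sylow p G,
        ∃ Q : Subgroup G, Q ≤ (P : Subgroup G) ∧ LCtl (normalizer (Q : Set G)) (P : Subgroup G) ∧
          (P : Subgroup G) ⊓ centralizer (Q : Set G) ≤ Q := by
  intro n
  induction n using Nat.strong_induction_on with
  | _ n ih =>
  intro G _ _ hcard hst P
  -- a subgroup of maximal order whose normalizer controls strong fusion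
  let 𝒬 : Set (Subgroup G) := {Q | Q ≤ (P : Subgroup G) ∧ LCtl (normalizer (Q : Set G)) (P : Subgroup G)}
  have h𝒬fin : 𝒬.Finite := Set.toFinite 𝒬
  have h𝒬ne : h𝒬fin.toFinset.Nonempty := by
    refine ⟨⊥, ?_⟩
    rw [Set.Finite.mem_toFinset]
    refine ⟨bot_le, ?_⟩
    have : normalizer (((⊥ : Subgroup G) : Subgroup G) : Set G) = ⊤ :=
      Subgroup.normalizer_eq_top_iff.mpr inferInstance
    rw [this]
    exact lctl_top _
  obtain ⟨Q, hQmem, hQmax⟩ := Finset.exists_max_image h𝒬fin.toFinset (fun Q => Nat.card Q) h𝒬ne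
  rw [Set.Finite.mem_toFinset] at hQmem
  obtain ⟨hQP, hQctl⟩ := hQmem
  have hQmax' : ∀ Q' : Subgroup G, Q' ≤ (P : Subgroup G) →
      LCtl (normalizer (Q' : Set G)) (P : Subgroup G) → Nat.card Q' ≤ Nat.card Q := by
    intro Q' h1 h2
    exact hQmax Q' (by rw [Set.Finite.mem_toFinset]; exact ⟨h1, h2⟩)
  set N := normalizer (Q : Set G) with hN
  have hPN : (P : Subgroup G) ≤ N := le_normalizer_of_lctl hQP hQctl
  by_cases hNtop : N = ⊤
  swap
  · -- induction in `N`
    have hlt : Nat.card N < n := by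
      rw [← hcard]
      have := card_lt_card_of_lt' (lt_top_iff_ne_top.mpr hNtop)
      rwa [Subgroup.card_top] at this
    have hstN : Cfsg.IsNormalizerPStable p ↥N :=
      Cfsg.Agent.Helper48.isNormalizerPStable_of_injective N.subtype N.subtype_injective hst
    set PN : Sylow p ↥N := P.subtype hPN with hPNdef
    have hPNcoe : (PN : Subgroup ↥N) = (P : Subgroup G).subgroupOf N := rfl
    obtain ⟨Q₁, hQ₁P, hQ₁ctl, hQ₁c⟩ := ih _ hlt ↥N rfl hstN PN
    refine ⟨Q₁.map N.subtype, ?_, ?_, ?_⟩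
    · rintro _ ⟨x, hx, rfl⟩
      have := hQ₁P hx
      rw [hPNcoe, Subgroup.mem_subgroupOf] at this
      exact this
    · intro A g hA hgA
      obtain ⟨x, hxN, hxa⟩ := hQctl A g hA hgA
      obtain ⟨y, hyN, hya⟩ := hQ₁ctl (N.subtype ⁻¹' A) ⟨x, hxN⟩
        (by
          intro a ha
          rw [SetLike.mem_coe, hPNcoe, Subgroup.mem_subgroupOf]
          exact hA ha)
        (by
          intro a ha
          rw [hPNcoe, Subgroup.mem_subgroupOf]
          have e : (((⟨x, hxN⟩ : ↥N) * a * (⟨x, hxN⟩ : ↥N)⁻¹ : ↥N) : G) = x * (a : G) * x⁻¹ := by simp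
          rw [e, hxa (a : G) ha]
          exact hgA (a : G) ha)
      refine ⟨(y : G), (Subgroup.le_normalizer_map N.subtype) ⟨y, hyN, rfl⟩, fun a ha => ?_⟩
      have h1 := hya ⟨a, hPN (hA ha)⟩ ha
      have h2 := congrArg Subtype.val h1
      rw [← hxa a ha]
      simpa using h2
    · intro x hx
      obtain ⟨hxP, hxC⟩ := Subgroup.mem_inf.1 hx
      have hx₁ : (⟨x, hPN hxP⟩ : ↥N) ∈ (PN : Subgroup ↥N) ⊓ centralizer (Q₁ : Set ↥N) := by
        refine Subgroup.mem_inf.2 ⟨?_, ?_⟩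
        · rw [hPNcoe, Subgroup.mem_subgroupOf]
          exact hxP
        · rw [Subgroup.mem_centralizer_iff]
          intro q hq
          apply Subtype.ext
          rw [Subgroup.coe_mul, Subgroup.coe_mul]
          exact (Subgroup.mem_centralizer_iff.1 hxC) (q : G) ⟨q, hq, rfl⟩
      exact ⟨⟨x, hPN hxP⟩, hQ₁c hx₁, rfl⟩
  -- `Q` is normal in `G`
  have hQn : Q.Normal := Subgroup.normalizer_eq_top_iff.mp hNtop
  have hQp : IsPGroup p Q := P.2.to_le hQP
  set X := centralizer (Q : Set G) with hX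
  have hXn : X.Normal := Subgroup.normal_centralizer
  set D := (P : Subgroup G) ⊓ X with hD
  by_cases hDQ : D ≤ Q
  · exact ⟨Q, hQP, hQctl, hDQ⟩
  exfalso
  set R := preZJ good Q D with hR
  have hDP : D ≤ (P : Subgroup G) := inf_le_left
  have hRP : R ≤ (P : Subgroup G) := (preZJ_le hI Q D).trans (sup_le hDP hQP)
  have hQR : Q ≤ R := le_preZJ Q D
  -- `R` is strictly larger than `Q`
  have hQRne : Q ≠ R := by
    intro heq
    set π := QuotientGroup.mk' Q with hπ
    have hker : π.ker = Q := QuotientGroup.ker_mk' Q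
    have hDb1 : D.map π ≠ ⊥ := by
      intro h0
      apply hDQ
      rw [← hker, ← Subgroup.map_eq_bot_iff]
      exact h0
    have hDbp : IsPGroup p ↥(D.map π) := (P.2.to_le hDP).map π
    have hZb := hnt (G ⧸ Q) (D.map π) hDbp hDb1
    apply hZb
    rw [eq_bot_iff]
    intro z hz
    obtain ⟨x, rfl⟩ := QuotientGroup.mk'_surjective Q z
    have hxR : x ∈ R := by
      rw [hR]
      unfold preZJ
      rw [Subgroup.mem_comap]
      exact hz
    rw [← heq] at hxR
    rw [Subgroup.mem_bot, QuotientGroup.mk'_apply, QuotientGroup.eq_one_iff]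
    exact hxR
  have hlt : Nat.card Q < Nat.card R := card_lt_card_of_lt' (lt_of_le_of_ne hQR hQRne)
  -- the normalizer of `R` controls strong fusion
  have hRctl : LCtl (normalizer (R : Set G)) (P : Subgroup G) := by
    intro A g hA hgA
    set B := Subgroup.closure A with hB
    have hBP : B ≤ (P : Subgroup G) := (Subgroup.closure_le _).2 hA
    have hgB : ∀ b ∈ B, g * b * g⁻¹ ∈ (P : Subgroup G) := conj_mem_of_closure hgA
    have hgB' : conjR g⁻¹ (B : Set G) ⊆ ((P : Subgroup G) : Set G) := by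
      rintro _ ⟨b, hb, rfl⟩
      rw [inv_inv]
      exact hgB b hb
    obtain ⟨c, hcX, hn, hcB⟩ := exists_frattini_fusion P X B hBP g⁻¹ hgB'
    obtain ⟨m, hmN, hmb⟩ := exists_of_mem_centralizer hp2 hI hrepl hnt hst P Q hQp B hBP c hcX hcB
    have hnN : c⁻¹ * g⁻¹ ∈ normalizer (R : Set G) := normalizer_le_normalizer_preZJ hI Q D hn
    refine ⟨(m * (c⁻¹ * g⁻¹))⁻¹, Subgroup.inv_mem _ (Subgroup.mul_mem _ hmN hnN), fun a ha => ?_⟩
    have h1 := hmb a (Subgroup.subset_closure ha)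
    have e1 : (m * (c⁻¹ * g⁻¹))⁻¹ * a * (m * (c⁻¹ * g⁻¹))⁻¹⁻¹ =
        (c⁻¹ * g⁻¹)⁻¹ * (m⁻¹ * a * m) * (c⁻¹ * g⁻¹) := by group
    rw [e1, h1]
    group
  have := hQmax' R hRP hRctl
  omega

end Cfsg.Agent.Helper10.NPSCon
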