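import Mathlib
import Cfsg.Prelude.Def_PLocal
import Cfsg.Prelude.Def_ConjugacyFunctors
import Cfsg.Agent.Lib.ZJ4

/-!
# `Z(J(·))` (abelian version of the Thompson subgroup) as an isomorphism-invariant `p`-group functor (helper10)

`zjA Q = Z(J_A(Q))` as a type-level functor, `isCharPFunctor_zjA`, and
`inducedFunctor_zjA : inducedFunctor zjA P = centerThompsonAOf P`.
-/

set_option autoImplicit false

namespace Cfsg.Agent.Helper10.ZJF

open Subgroup

universe u v

/-- the type-level functor `Q ↦ Z(J(Q))`, `J` generated by the abelian subgroups of largest order -/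
def zjA : ∀ (Q : Type u) [Group Q], Subgroup Q :=
  fun Q _ => Cfsg.thompsonSubgroupA Q ⊓ centralizer (Cfsg.thompsonSubgroupA Q : Set Q)

theorem map_centralizer_subtype_inf {G : Type*} [Group G] (P : Subgroup G) (J : Subgroup P) :
    (J ⊓ centralizer (J : Set P)).map P.subtype
      = J.map P.subtype ⊓ centralizer ((J.map P.subtype : Subgroup G) : Set G) := by
  ext x
  constructor
  · rintro ⟨y, hy, rfl⟩
    obtain ⟨hyJ, hyC⟩ := Subgroup.mem_inf.1 hy
    refine Subgroup.mem_inf.2 ⟨Subgroup.mem_map_of_mem _ hyJ, ?_⟩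
    rw [Subgroup.mem_centralizer_iff]
    rintro _ ⟨z, hz, rfl⟩
    have := (Subgroup.mem_centralizer_iff.1 hyC) z hz
    exact congrArg Subtype.val this
  · intro hx
    obtain ⟨⟨y, hyJ, rfl⟩, hC⟩ := Subgroup.mem_inf.1 hx
    refine ⟨y, Subgroup.mem_inf.2 ⟨hyJ, ?_⟩, rfl⟩
    rw [Subgroup.mem_centralizer_iff]
    intro z hz
    apply Subtype.ext
    exact (Subgroup.mem_centralizer_iff.1 hC) _ (Subgroup.mem_map_of_mem _ hz)

theorem inducedFunctor_zjA {G : Type u} [Group G] (P : Subgroup G) :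
    Cfsg.inducedFunctor (G := G) zjA P = Cfsg.centerThompsonAOf P := by
  unfold Cfsg.inducedFunctor zjA Cfsg.centerThompsonAOf Cfsg.thompsonSubgroupAOf
  exact map_centralizer_subtype_inf P _

theorem isMulCommutative_map_equiv {Q : Type u} {R : Type v} [Group Q] [Group R] (φ : Q ≃* R)
    (A : Subgroup Q) : IsMulCommutative (A.map φ.toMonoidHom) ↔ IsMulCommutative A := by
  rw [Cfsg.Agent.Lib.ZJ.isMulCommutative_iff, Cfsg.Agent.Lib.ZJ.isMulCommutative_iff]
  exact Cfsg.Agent.Lib.ZJ.comm_map_iff φ.toMonoidHom φ.injective A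

theorem card_map_equiv {Q : Type u} {R : Type v} [Group Q] [Group R] (φ : Q ≃* R)
    (A : Subgroup Q) : Nat.card (A.map φ.toMonoidHom) = Nat.card A :=
  (Nat.card_congr (φ.subgroupMap A).toEquiv).symm

theorem map_symm_map {Q : Type u} {R : Type v} [Group Q] [Group R] (φ : Q ≃* R)
    (B : Subgroup R) : (B.map φ.symm.toMonoidHom).map φ.toMonoidHom = B := by
  ext x
  constructor
  · rintro ⟨_, ⟨y, hy, rfl⟩, rfl⟩
    simpa using hy
  · intro hx
    exact ⟨φ.symm x, ⟨x, hx, rfl⟩, by simp⟩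

theorem map_mem_maxAbelian {Q : Type u} {R : Type v} [Group Q] [Group R] (φ : Q ≃* R)
    {A : Subgroup Q} (hA : A ∈ Cfsg.maxAbelianSubgroups Q) :
    A.map φ.toMonoidHom ∈ Cfsg.maxAbelianSubgroups R := by
  refine ⟨(isMulCommutative_map_equiv φ A).2 hA.1, ?_⟩
  intro B hB
  have h1 : IsMulCommutative (B.map φ.symm.toMonoidHom) := (isMulCommutative_map_equiv φ.symm B).2 hB
  have h2 := hA.2 _ h1
  rw [card_map_equiv] at h2
  rw [card_map_equiv]
  exact h2

theorem thompsonSubgroupA_map_equiv {Q : Type u} {R : Type v} [Group Q] [Group R] (φ : Q ≃* R) :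
    (Cfsg.thompsonSubgroupA Q).map φ.toMonoidHom = Cfsg.thompsonSubgroupA R := by
  unfold Cfsg.thompsonSubgroupA
  apply le_antisymm
  · rw [Subgroup.map_le_iff_le_comap]
    apply sSup_le
    intro A hA
    rw [← Subgroup.map_le_iff_le_comap]
    exact le_sSup (map_mem_maxAbelian φ hA)
  · apply sSup_le
    intro B hB
    have h1 := map_mem_maxAbelian φ.symm hB
    have h2 : B.map φ.symm.toMonoidHom ≤ sSup (Cfsg.maxAbelianSubgroups Q) := le_sSup h1
    have h3 := Subgroup.map_mono (f := φ.toMonoidHom) h2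
    rw [map_symm_map] at h3
    exact h3

theorem zjA_map_equiv {Q : Type u} {R : Type v} [Group Q] [Group R] (φ : Q ≃* R) :
    (Cfsg.thompsonSubgroupA Q ⊓ centralizer (Cfsg.thompsonSubgroupA Q : Set Q)).map φ.toMonoidHom
      = Cfsg.thompsonSubgroupA R ⊓ centralizer (Cfsg.thompsonSubgroupA R : Set R) := by
  rw [← thompsonSubgroupA_map_equiv φ]
  ext x
  constructor
  · rintro ⟨y, hy, rfl⟩
    obtain ⟨hyJ, hyC⟩ := Subgroup.mem_inf.1 hy
    refine Subgroup.mem_inf.2 ⟨Subgroup.mem_map_of_mem _ hyJ, ?_⟩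
    rw [Subgroup.mem_centralizer_iff]
    rintro _ ⟨z, hz, rfl⟩
    have := (Subgroup.mem_centralizer_iff.1 hyC) z hz
    show φ z * φ y = φ y * φ z
    rw [← map_mul, ← map_mul, this]
  · intro hx
    obtain ⟨⟨y, hyJ, rfl⟩, hC⟩ := Subgroup.mem_inf.1 hx
    refine ⟨y, Subgroup.mem_inf.2 ⟨hyJ, ?_⟩, rfl⟩
    rw [Subgroup.mem_centralizer_iff]
    intro z hz
    apply φ.injective
    have := (Subgroup.mem_centralizer_iff.1 hC) _ (Subgroup.mem_map_of_mem φ.toMonoidHom hz)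
    rw [map_mul, map_mul]
    exact this

theorem thompsonSubgroupA_ne_bot (Q : Type u) [Group Q] [Finite Q] [Nontrivial Q] :
    Cfsg.thompsonSubgroupA Q ≠ ⊥ := by
  obtain ⟨A, hA⟩ : (Cfsg.maxAbelianSubgroups Q).Nonempty := by
    rw [← Cfsg.Agent.Lib.ZJ.maxGoodT_comm]
    exact Cfsg.Agent.Lib.ZJ.maxGoodT_nonempty Cfsg.Agent.Lib.ZJ.intrinsic_comm
  obtain ⟨x, hx⟩ := exists_ne (1 : Q)
  have hz : IsMulCommutative (Subgroup.zpowers x) := inferInstance
  have h1 := hA.2 _ hz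
  have hAne : A ≠ ⊥ := by
    intro h
    rw [h, Subgroup.card_bot] at h1
    have h2 : Subgroup.zpowers x = ⊥ := (Subgroup.card_le_one_iff_eq_bot _).1 h1
    exact hx (Subgroup.zpowers_eq_bot.1 h2)
  intro hJ
  apply hAne
  have : A ≤ Cfsg.thompsonSubgroupA Q := le_sSup hA
  rw [hJ] at this
  exact le_bot_iff.1 this

theorem zjA_ne_bot {p : ℕ} [Fact p.Prime] (Q : Type u) [Group Q] [Finite Q] (hQ : IsPGroup p Q)
    [Nontrivial Q] : zjA Q ≠ ⊥ := by
  have hJ := thompsonSubgroupA_ne_bot Q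
  have : Nontrivial ↥(Cfsg.thompsonSubgroupA Q) := (Subgroup.nontrivial_iff_ne_bot _).mpr hJ
  have hJp : IsPGroup p ↥(Cfsg.thompsonSubgroupA Q) := hQ.to_subgroup _
  have hc := hJp.center_nontrivial
  obtain ⟨z, hz⟩ := exists_ne (1 : Subgroup.center ↥(Cfsg.thompsonSubgroupA Q))
  intro h
  apply hz
  have hmem : ((z : ↥(Cfsg.thompsonSubgroupA Q)) : Q) ∈ zjA Q := by
    refine Subgroup.mem_inf.2 ⟨(z : ↥(Cfsg.thompsonSubgroupA Q)).2, ?_⟩
    rw [Subgroup.mem_centralizer_iff]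
    intro y hy
    have := (Subgroup.mem_center_iff.1 z.2) ⟨y, hy⟩
    exact congrArg Subtype.val this
  rw [h, Subgroup.mem_bot] at hmem
  apply Subtype.ext
  apply Subtype.ext
  exact hmem

theorem isCharPFunctor_zjA (p : ℕ) [Fact p.Prime] : Cfsg.IsCharPFunctor.{u} p zjA := by
  refine ⟨?_, ?_⟩
  · intro Q _ _ hQ hnt
    exact zjA_ne_bot Q hQ
  · intro Q R _ _ _ _ φ
    exact zjA_map_equiv φ

end Cfsg.Agent.Helper10.ZJF
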