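-- helper10: piece (NEGT) of #13715 for helper99 (S2517, O9 farm).
import Mathlib
import Cfsg.Agent.Helper99.O9.Defs

set_option autoImplicit false
set_option linter.unusedSectionVars false
set_option linter.unusedVariables false

namespace Cfsg.Agent.Helper10.O9

open Matrix QuadraticMap Cfsg.Agent.Helper44 Cfsg.Agent.Helper44.QType Cfsg.Agent.Helper99.O9

universe u

variable {F : Type u} [Field F] [Fintype F]

/-- `isoTransport` maps `-1` to `-1` -/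
theorem isoTransport_negOne {ι₁ ι₂ : Type} [Fintype ι₁] [DecidableEq ι₁] [Fintype ι₂] [DecidableEq ι₂]
    (Q₁ : QuadraticForm F (ι₁ → F)) (Q₂ : QuadraticForm F (ι₂ → F))
    (C : (ι₁ → F) ≃ₗ[F] (ι₂ → F)) (hC : ∀ w, Q₂ (C w) = Q₁ w) :
    isoTransport ⇑Q₁ ⇑Q₂ C hC (Cfsg.Agent.Helper99.O9.negOne Q₁) = Cfsg.Agent.Helper99.O9.negOne Q₂ := by
  apply isometryGroup_ext
  intro v
  rw [isoTransport_mulVec]
  have h1 : (((Cfsg.Agent.Helper99.O9.negOne Q₁ : ↥(Cfsg.isometryGroup F ⇑Q₁)).1 : GL ι₁ F) : Matrix ι₁ ι₁ F) = -1 := negOne_coe Q₁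
  have h2 : (((Cfsg.Agent.Helper99.O9.negOne Q₂ : ↥(Cfsg.isometryGroup F ⇑Q₂)).1 : GL ι₂ F) : Matrix ι₂ ι₂ F) = -1 := negOne_coe Q₂
  rw [h1, h2, Matrix.neg_mulVec, Matrix.one_mulVec, Matrix.neg_mulVec, Matrix.one_mulVec, map_neg,
    LinearEquiv.apply_symm_apply]

/-- (NEGT) -/
theorem sim_neg {P P' : OPair F} (h : P.Sim P') : P.neg.Sim P'.neg := by
  rw [OPair.sim_def] at h
  obtain ⟨C, hC, hg⟩ := h
  rw [OPair.sim_def]
  refine ⟨C, hC, ?_⟩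
  rw [OPair.neg_g, OPair.neg_g]
  show isoTransport ⇑P.Q ⇑P'.Q C hC (Cfsg.Agent.Helper99.O9.negOne P.Q * P.g) = Cfsg.Agent.Helper99.O9.negOne P'.Q * P'.g
  rw [map_mul, isoTransport_negOne, hg]

end Cfsg.Agent.Helper10.O9
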