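-- helper10: piece (ORD0) of #13715 for helper99 (S2517, O9 farm).
import Mathlib
import Cfsg.Agent.Helper99.O9.Defs

set_option autoImplicit false
set_option linter.unusedSectionVars false
set_option linter.unusedVariables false

namespace Cfsg.Agent.Helper10.O9

open Matrix QuadraticMap Cfsg.Agent.Helper44 Cfsg.Agent.Helper44.QType Cfsg.Agent.Helper99.O9

universe u

variable {F : Type u} [Field F] [Fintype F]

/-- (ORD0) -/
theorem ord_of_dim_zero {P : OPair F} (h : P.dim = 0) : P.ord = 1 := by
  rw [OPair.dim_def] at h
  have hE : IsEmpty P.ι := Fintype.card_eq_zero_iff.mp h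
  rw [OPair.ord_def, orderOf_eq_one_iff]
  apply Subtype.ext
  apply Units.ext
  exact Subsingleton.elim _ _

end Cfsg.Agent.Helper10.O9
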