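import Cfsg.Agent.Helper78.Olsson.Defs
import Cfsg.Agent.Helper20.OlssonRK1

/-!
# Olsson's theorem, piece (GRAM): `p^d ·` (Gram matrix of the basic set) is integral and symmetric
(helper10 for helper78, S4539)
-/

set_option autoImplicit false
set_option linter.unusedSectionVars false
set_option linter.unusedVariables false

noncomputable section

namespace Cfsg.Agent.Helper10.Olsson

open Cfsg
open scoped ComplexConjugate
open Cfsg.Agent.S4426 (cut)
open Cfsg.Agent.Helper78.Olsson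

variable {H : Type*} [Group H] [Fintype H] {M : Ideal AlgInt} {p : ℕ}

/-- (GRAM) `p^d` times the Gram matrix of the basic set is integral. -/
theorem LatData.exists_gram [Fact p.Prime] (hM : IsPModular p M) {b : Set (IrrCharacter H)}
    (hb : IsPBlock M b) (L : LatData p b) :
    ∃ g : Matrix (Fin 2) (Fin 2) ℤ, g 0 1 = g 1 0 ∧ ∀ i j : Fin 2,
      ((p ^ blockDefect p b : ℕ) : ℂ) * classInner (L.φ i) (L.φ j) = (g i j : ℂ) := by
  classical
  -- the integers `p^d (θ⁰, θ')`, `θ ∈ b`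
  have hex : ∀ θ : IrrCharacter H, ∃ m : IrrCharacter H → ℤ, θ ∈ b → ∀ θ' : IrrCharacter H,
      ((p ^ blockDefect p b : ℕ) : ℂ) * classInner (cut p 1 (θ : H → ℂ)) (θ' : H → ℂ) =
        (m θ' : ℂ) := by
    intro θ
    by_cases hθ : θ ∈ b
    · obtain ⟨m, hm⟩ := Cfsg.Agent.Helper16.exists_int_defect_mul_cut hM hb θ hθ
      exact ⟨m, fun _ => hm⟩
    · exact ⟨fun _ => 0, fun h => absurd h hθ⟩
  choose m hm using hex
  set g : Matrix (Fin 2) (Fin 2) ℤ := fun i j =>
    ∑ θ : IrrCharacter H, ∑ θ' : IrrCharacter H, L.A i θ * L.A j θ' * m θ θ' with hg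
  have hgij : ∀ i j : Fin 2,
      ((p ^ blockDefect p b : ℕ) : ℂ) * classInner (L.φ i) (L.φ j) = (g i j : ℂ) := by
    intro i j
    rw [Cfsg.Agent.Helper20.Olsson.LatData.classInner_phi L i j, Finset.mul_sum, hg]
    simp only
    rw [Int.cast_sum]
    refine Finset.sum_congr rfl fun θ _ => ?_
    rw [Finset.mul_sum, Int.cast_sum]
    refine Finset.sum_congr rfl fun θ' _ => ?_
    by_cases hθ : θ ∈ b
    · rw [Int.cast_mul, Int.cast_mul, ← hm θ hθ θ']
      ring
    · rw [L.hA0 i θ hθ]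
      simp
  refine ⟨g, ?_, hgij⟩
  have h01 := hgij 0 1
  have h10 := hgij 1 0
  have h1 : conj (((p ^ blockDefect p b : ℕ) : ℂ) * classInner (L.φ 1) (L.φ 0)) =
      ((p ^ blockDefect p b : ℕ) : ℂ) * classInner (L.φ 0) (L.φ 1) := by
    rw [map_mul, Cfsg.Agent.Helper79.classInner_conj_symm, map_natCast]
  rw [h10, h01, map_intCast] at h1
  exact_mod_cast h1.symm

end Cfsg.Agent.Helper10.Olsson

end
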