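import Cfsg.Agent.Helper78.Olsson.Defs
import Cfsg.Agent.Helper16.ContribMajor

/-!
# Olsson's theorem, piece (R1): orthogonality relations of the rows (helper10 for helper78, S4539)
-/

set_option autoImplicit false
set_option linter.unusedSectionVars false
set_option linter.unusedVariables false

noncomputable section

namespace Cfsg.Agent.Helper10.Olsson

open Cfsg
open scoped ComplexConjugate
open Cfsg.Agent.S4426 (cut)
open Cfsg.Agent.Helper16 (contribE)
open Cfsg.Agent.Helper78.Olsson

/-- Parseval for the dual basis: `(f_i, f_j) = ∑_θ x_θi x_θj`. -/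
theorem classInner_f_f {H : Type*} [Group H] [Fintype H] {p : ℕ} {b : Set (IrrCharacter H)}
    (D : RedData p b) (i j : Fin 2) :
    classInner (D.f i) (D.f j) = (D.C i j : ℂ) := by
  have hexp := Cfsg.Agent.Helper79.classFunction_expansion (D.hcl j)
  rw [hexp, Cfsg.Agent.Helper79.classInner_sum_right]
  unfold RedData.C cartan
  rw [Int.cast_sum]
  refine Finset.sum_congr rfl fun θ _ => ?_
  rw [Cfsg.Agent.Helper79.classInner_smul_right, D.hinner j θ, D.hinner i θ, map_intCast,
    Int.cast_mul]
  ring

variable {G : Type*} [Group G] [Fintype G] {M : Ideal AlgInt} {p : ℕ}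

/-- (R1) orthogonality relations of the rows. -/
theorem sum_rowE_mul_conj [Fact p.Prime] (x : G) (hx : ∃ k : ℕ, orderOf x = p ^ k)
    (H : Subgroup G) [Fintype H] (hH : H = Subgroup.centralizer ({x} : Set G))
    {b : Set (IrrCharacter H)} (D : RedData p b) (i j : Fin 2) :
    ∑ χ : IrrCharacter G, rowE D x (χ : G → ℂ) i * conj (rowE D x (χ : G → ℂ) j) =
      (D.C i j : ℂ) := by
  subst hH
  have h1 := Cfsg.Agent.Helper16.section_parseval (p := p) x hx (D.f i) (D.hcl j)
  rw [D.hcut i, D.hcut j] at h1
  rw [← classInner_f_f D i j, ← h1]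
  rfl

end Cfsg.Agent.Helper10.Olsson

end
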