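import Mathlib
import Cfsg.Agent.Helper5.OmBN.Defs

/-!
# (CCT) for helper5 (S2549): the conjugation `cc` of the middle plane is block diagonal
-/

set_option autoImplicit false

namespace Cfsg.Agent.Helper10.OmBN

open Matrix Cfsg.Agent.Helper5.OmBN

variable {F : Type*} [Field F] {m : ℕ} {α β : F}

/-- (CCT) the conjugation `cc` is block diagonal -/
theorem cc_mem_Tfull (cc : OG m α β) (hcc : mat cc = c0Mat α) : cc ∈ Tfull m α β := by
  rw [mem_Tfull_iff]
  intro r s hrs
  rw [hcc, c0Mat_apply]
  by_cases hs : s = c2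
  · subst hs
    rw [if_pos rfl]
    have h1 : r ≠ c1 := by
      rintro rfl
      exact hrs (by rw [pos_c1, pos_c2])
    have h2 : r ≠ c2 := by
      rintro rfl
      exact hrs rfl
    rw [if_neg h1, if_neg h2]
  · rw [if_neg hs]
    have h3 : r ≠ s := by
      rintro rfl
      exact hrs rfl
    rw [if_neg h3]

end Cfsg.Agent.Helper10.OmBN
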