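import Mathlib
import Cfsg.Agent.Helper5.OmBN.Defs
import Cfsg.Agent.Helper10.OmBNCCT

/-!
# (BF) for helper5 (S2549): a block upper triangular isometry is in `B` or in `B cc`
-/

set_option autoImplicit false

namespace Cfsg.Agent.Helper10.OmBN

open Matrix Cfsg.Agent.Helper5.OmBN

variable {F : Type*} [Field F] {m : ℕ} {α β : F}

/-- entries below the middle block in the middle columns vanish -/
theorem hi_mid_eq_zero (b : OG m α β) (hb : b ∈ Bfull m α β) (i : Fin m) (s : Fin (2 * m + 2))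
    (hs : pos s = m) : mat b (hi i) s = 0 := by
  apply (mem_Bfull_iff b).1 hb
  rw [hs, pos_hi]
  have := i.2
  omega

/-- (BF) a block upper triangular isometry is in `B` or in `B cc` -/
theorem mem_Bsub_or_mul_mem_Bsub
    (hO2 : ∀ p q r s : F, Nf α β p q = 1 → Nf α β r s = β → Nb α β p q r s = α →
      (r = -β * q ∧ s = p + α * q) ∨ (r = α * p + β * q ∧ s = -p))
    (cc : OG m α β) (hcc : mat cc = c0Mat α) (b : OG m α β) (hb : b ∈ Bfull m α β) :
    b ∈ Bsub m α β ∨ b * cc ∈ Bsub m α β := by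
  have h1 : Nf α β (mat b c1 c1) (mat b c2 c1) = 1 := by
    have h := q_col b (c1 : Fin (2 * m + 2))
    rw [Finset.sum_eq_zero (fun i _ => by rw [hi_mid_eq_zero b hb i c1 pos_c1, mul_zero]),
      zero_add] at h
    rw [h]
    unfold qd
    rw [if_pos rfl]
  have h2 : Nf α β (mat b c1 c2) (mat b c2 c2) = β := by
    have h := q_col b (c2 : Fin (2 * m + 2))
    rw [Finset.sum_eq_zero (fun i _ => by rw [hi_mid_eq_zero b hb i c2 pos_c2, mul_zero]),
      zero_add] at h
    rw [h]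
    unfold qd
    rw [if_neg c1_ne_c2.symm, if_pos rfl]
  have h3 : Nb α β (mat b c1 c1) (mat b c2 c1) (mat b c1 c2) (mat b c2 c2) = α := by
    have h := rel_col b (c1 : Fin (2 * m + 2)) c2
    rw [Finset.sum_eq_zero (fun i _ => by
      rw [hi_mid_eq_zero b hb i c1 pos_c1, hi_mid_eq_zero b hb i c2 pos_c2, mul_zero, zero_mul,
        add_zero]), zero_add] at h
    rw [h]
    unfold Jm
    rw [if_pos rfl, if_neg c1_ne_c2.symm, if_pos rfl]
  rcases hO2 _ _ _ _ h1 h2 h3 with ⟨e1, e2⟩ | ⟨e1, e2⟩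
  · left
    exact ⟨hb, e1, e2⟩
  · right
    have hccB : cc ∈ Bfull m α β := Tfull_le_Bfull (cc_mem_Tfull cc hcc)
    refine ⟨(Bfull m α β).mul_mem hb hccB, ?_, ?_⟩
    · rw [mul_apply_mid b cc hb hccB c1 c2 pos_c1 pos_c2,
        mul_apply_mid b cc hb hccB c2 c1 pos_c2 pos_c1, hcc]
      simp only [c0Mat_apply, if_pos, if_neg c1_ne_c2, if_neg c1_ne_c2.symm]
      rw [e1, e2]
      ring
    · rw [mul_apply_mid b cc hb hccB c2 c2 pos_c2 pos_c2,
        mul_apply_mid b cc hb hccB c1 c1 pos_c1 pos_c1,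
        mul_apply_mid b cc hb hccB c2 c1 pos_c2 pos_c1, hcc]
      simp only [c0Mat_apply, if_pos, if_neg c1_ne_c2, if_neg c1_ne_c2.symm]
      rw [e2]
      ring

end Cfsg.Agent.Helper10.OmBN
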