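import Mathlib
import Cfsg.Agent.Helper5.OmBN.Defs

/-!
# (MXb) for helper5 (S2549): a block monomial element moving every root group out of `B` reverses
the order of the blocks: `B ∩ n B n⁻¹ = T`.
-/

set_option autoImplicit false

namespace Cfsg.Agent.Helper10.OmBN

open Matrix Cfsg Cfsg.Agent.Helper5.OmBN

variable {F : Type*} [Field F] {m : ℕ} {α β : F}

/-- a strictly decreasing sequence of `m` values in `(m, 2 m]` is `2 m, 2 m - 1, …, m + 1` -/
theorem dec_eq_mid (m : ℕ) (f : ℕ → ℕ) (hf : ∀ j, j < m → f j ≤ 2 * m)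
    (hA : ∀ j, j + 1 < m → f (j + 1) < f j) (hB : 1 ≤ m → m < f (m - 1)) :
    ∀ j, j < m → f j = 2 * m - j := by
  have up : ∀ j, j < m → f j + j ≤ 2 * m := by
    intro j
    induction j with
    | zero =>
      intro h0
      have := hf 0 h0
      omega
    | succ j ih =>
      intro hj
      have := ih (by omega)
      have := hA j hj
      omega
  have lo' : ∀ d, d < m → m + 1 + d ≤ f (m - 1 - d) := by
    intro d
    induction d with
    | zero =>
      intro h0
      have := hB (by omega)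
      simp only [Nat.sub_zero, Nat.add_zero]
      omega
    | succ d ih =>
      intro hd
      have h1 := ih (by omega)
      have h2 := hA (m - 1 - (d + 1)) (by omega)
      have e : m - 1 - (d + 1) + 1 = m - 1 - d := by omega
      rw [e] at h2
      omega
  intro j hj
  have h1 := up j hj
  have h2 := lo' (m - 1 - j) (by omega)
  have e : m - 1 - (m - 1 - j) = j := by omega
  rw [e] at h2
  omega

theorem pos_le (r : Fin (2 * m + 2)) : pos r ≤ 2 * m := by
  have := r.2
  unfold pos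
  split_ifs <;> omega

theorem pos_rev_lt_m (r : Fin (2 * m + 2)) : pos (Fin.rev r) < m ↔ m < pos r := by
  have h := pos_rev_lt_iff r (c1 : Fin (2 * m + 2))
  rw [rev_c1, pos_c2, pos_c1] at h
  exact h

theorem m_lt_pos_rev (r : Fin (2 * m + 2)) : m < pos (Fin.rev r) ↔ pos r < m := by
  have h := pos_rev_lt_iff (c1 : Fin (2 * m + 2)) r
  rw [rev_c1, pos_c2, pos_c1] at h
  exact h

theorem mid_of_pos {r : Fin (2 * m + 2)} (hr : pos r = m) : r = c1 ∨ r = c2 :=
  (pos_eq_m_iff r).1 hr

theorem pos_ne_m_of_outer {r : Fin (2 * m + 2)} (h1 : r ≠ c1) (h2 : r ≠ c2) : pos r ≠ m := by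
  intro h
  rcases mid_of_pos h with h | h
  · exact h1 h
  · exact h2 h

theorem perm_apply_inv (π : Equiv.Perm (Fin (2 * m + 2))) (a : Fin (2 * m + 2)) :
    π (π⁻¹ a) = a := by
  simp

/-! ### block monomial elements -/

section mono

variable (n : OG m α β) (π : Equiv.Perm (Fin (2 * m + 2))) (hπ1 : π c1 = c1) (hπ2 : π c2 = c2)
  (hπ : ∀ r s : Fin (2 * m + 2), pos r ≠ pos (π s) → mat n r s = 0)
  (hπ' : ∀ r s : Fin (2 * m + 2), pos r ≠ pos (π⁻¹ s) → mat n⁻¹ r s = 0)

include hπ1 hπ2 in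
theorem pos_perm_eq_m_iff (a : Fin (2 * m + 2)) : pos (π a) = m ↔ pos a = m := by
  constructor
  · intro h
    rcases mid_of_pos h with h | h
    · rw [← hπ1] at h
      rw [π.injective h, pos_c1]
    · rw [← hπ2] at h
      rw [π.injective h, pos_c2]
  · intro h
    rcases mid_of_pos h with h | h
    · rw [h, hπ1, pos_c1]
    · rw [h, hπ2, pos_c2]

include hπ1 hπ2 in
theorem pos_perm_inv_eq_m_iff (a : Fin (2 * m + 2)) : pos (π⁻¹ a) = m ↔ pos a = m := by
  have := pos_perm_eq_m_iff π hπ1 hπ2 (π⁻¹ a)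
  rw [perm_apply_inv] at this
  exact this.symm

include hπ1 hπ2 hπ in
/-- a middle row of a block monomial matrix is supported in the middle columns -/
theorem mono_row_mid (r a : Fin (2 * m + 2)) (hr : pos r = m) (ha : pos a ≠ m) : mat n r a = 0 := by
  apply hπ
  rw [hr]
  intro h
  exact ha ((pos_perm_eq_m_iff π hπ1 hπ2 a).1 h.symm)

include hπ1 hπ2 hπ' in
/-- a middle column of the inverse of a block monomial matrix is supported in the middle rows -/
theorem mono_inv_col_mid (b s : Fin (2 * m + 2)) (hs : pos s = m) (hb : pos b ≠ m) :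
    mat n⁻¹ b s = 0 := by
  apply hπ'
  rw [(pos_perm_inv_eq_m_iff π hπ1 hπ2 s).2 hs]
  exact hb

include hπ1 hπ2 hπ in
theorem mono_mul_apply_mid_row (A : Matrix (Fin (2 * m + 2)) (Fin (2 * m + 2)) F)
    (r s : Fin (2 * m + 2)) (hr : pos r = m) :
    (mat n * A) r s = mat n r c1 * A c1 s + mat n r c2 * A c2 s := by
  rw [Matrix.mul_apply]
  apply Finset.sum_eq_add c1 c2 c1_ne_c2
  · intro k _ hk
    rw [mono_row_mid n π hπ1 hπ2 hπ r k hr (pos_ne_m_of_outer hk.1 hk.2), zero_mul]
  · intro h; exact absurd (Finset.mem_univ _) h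
  · intro h; exact absurd (Finset.mem_univ _) h

include hπ1 hπ2 hπ' in
theorem mul_mono_inv_apply_mid_col (A : Matrix (Fin (2 * m + 2)) (Fin (2 * m + 2)) F)
    (r s : Fin (2 * m + 2)) (hs : pos s = m) :
    (A * mat n⁻¹) r s = A r c1 * mat n⁻¹ c1 s + A r c2 * mat n⁻¹ c2 s := by
  rw [Matrix.mul_apply]
  apply Finset.sum_eq_add c1 c2 c1_ne_c2
  · intro k _ hk
    rw [mono_inv_col_mid n π hπ1 hπ2 hπ' k s hs (pos_ne_m_of_outer hk.1 hk.2), mul_zero]
  · intro h; exact absurd (Finset.mem_univ _) h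
  · intro h; exact absurd (Finset.mem_univ _) h

include hπ1 hπ2 hπ in
/-- the middle block of `n` times the middle block of `n⁻¹` is the identity -/
theorem mono_mid_mul_inv (r s : Fin (2 * m + 2)) (hr : pos r = m) :
    mat n r c1 * mat n⁻¹ c1 s + mat n r c2 * mat n⁻¹ c2 s = if r = s then 1 else 0 := by
  rw [← mono_mul_apply_mid_row n π hπ1 hπ2 hπ (mat n⁻¹) r s hr, mul_inv_mat, Matrix.one_apply]

include hπ1 hπ2 hπ hπ' in
/-- conjugation by a block monomial element: block triangularity -/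
theorem conj_mem_Bfull_of_support (x : OG m α β)
    (hx : ∀ a b : Fin (2 * m + 2), pos (π b) < pos (π a) → mat x a b = 0) :
    n * x * n⁻¹ ∈ Bfull m α β := by
  rw [mem_Bfull_iff]
  intro r s hrs
  rw [mat_mul, mat_mul, Matrix.mul_apply]
  apply Finset.sum_eq_zero
  intro b _
  rw [Matrix.mul_apply, Finset.sum_mul]
  apply Finset.sum_eq_zero
  intro a _
  by_cases h1 : pos r = pos (π a)
  · by_cases h2 : pos b = pos (π⁻¹ s)
    · have h3 : pos (π b) = pos s := by
        have := pos_perm_congr π hπ1 hπ2 b (π⁻¹ s) h2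
        rwa [perm_apply_inv] at this
      rw [hx a b (by rw [h3, ← h1]; exact hrs), mul_zero, zero_mul]
    · rw [hπ' b s h2, mul_zero]
  · rw [hπ r a h1, zero_mul, zero_mul]

include hπ1 hπ2 hπ hπ' in
/-- conjugation by a block monomial element: the middle block, when that of `x` is the identity -/
theorem conj_mid_of_mid_one (x : OG m α β)
    (hx : ∀ r s : Fin (2 * m + 2), pos r = m → pos s = m → mat x r s = if r = s then 1 else 0)
    (r s : Fin (2 * m + 2)) (hr : pos r = m) (hs : pos s = m) :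
    mat (n * x * n⁻¹) r s = if r = s then 1 else 0 := by
  rw [mat_mul, mat_mul, Matrix.mul_assoc, mono_mul_apply_mid_row n π hπ1 hπ2 hπ _ r s hr,
    mul_mono_inv_apply_mid_col n π hπ1 hπ2 hπ' _ c1 s hs,
    mul_mono_inv_apply_mid_col n π hπ1 hπ2 hπ' _ c2 s hs,
    hx c1 c1 pos_c1 pos_c1, hx c1 c2 pos_c1 pos_c2, hx c2 c1 pos_c2 pos_c1, hx c2 c2 pos_c2 pos_c2,
    if_pos rfl, if_pos rfl, if_neg c1_ne_c2, if_neg c1_ne_c2.symm, one_mul, zero_mul, add_zero,
    zero_mul, one_mul, zero_add]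
  exact mono_mid_mul_inv n π hπ1 hπ2 hπ r s hr

include hπ1 hπ2 hπ hπ' in
theorem conj_mem_Bsub_of_support (x : OG m α β)
    (hx : ∀ a b : Fin (2 * m + 2), pos (π b) < pos (π a) → mat x a b = 0)
    (hmid : ∀ r s : Fin (2 * m + 2), pos r = m → pos s = m → mat x r s = if r = s then 1 else 0) :
    n * x * n⁻¹ ∈ Bsub m α β := by
  have e := conj_mid_of_mid_one n π hπ1 hπ2 hπ hπ' x hmid
  refine ⟨conj_mem_Bfull_of_support n π hπ1 hπ2 hπ hπ' x hx, ?_, ?_⟩
  · rw [e c1 c2 pos_c1 pos_c2, e c2 c1 pos_c2 pos_c1, if_neg c1_ne_c2, if_neg c1_ne_c2.symm,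
      mul_zero]
  · rw [e c2 c2 pos_c2 pos_c2, e c1 c1 pos_c1 pos_c1, e c2 c1 pos_c2 pos_c1, if_pos rfl, if_pos rfl,
      if_neg c1_ne_c2.symm, mul_zero, add_zero]

end mono

/-! ### the root groups -/

theorem pos_ib (k : Fin m) (hk : k.val + 1 < m) : pos (ib k) = k.val + 1 := by
  unfold pos
  rw [val_ib, if_pos hk]

theorem pos_rev_ib (k : Fin m) (hk : k.val + 1 < m) : pos (Fin.rev (ib k)) = 2 * m - (k.val + 1) := by
  unfold pos
  rw [val_rev, val_ib]
  split_ifs <;> omega

/-- kind I: the support of a root element -/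
theorem xI_support (π : Equiv.Perm (Fin (2 * m + 2)))
    (hrev : ∀ r, π (Fin.rev r) = Fin.rev (π r)) (k : Fin m) (hk : k.val + 1 < m)
    (x : OG m α β) (t : F) (hx : mat x = xMat (lo k) (ib k) t)
    (hP : pos (π (lo k)) < pos (π (ib k))) :
    (∀ a b : Fin (2 * m + 2), pos (π b) < pos (π a) → mat x a b = 0) ∧
      ∀ r s : Fin (2 * m + 2), pos r = m → pos s = m → mat x r s = if r = s then 1 else 0 := by
  constructor
  · intro a b hlt
    rw [hx, xMat_apply]
    have hab : a ≠ b := by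
      rintro rfl
      exact lt_irrefl _ hlt
    have T2 : ¬ (lo k = a ∧ ib k = b) := by
      rintro ⟨rfl, rfl⟩
      exact absurd hlt (not_lt.2 hP.le)
    have T3 : ¬ (Fin.rev (ib k) = a ∧ Fin.rev (lo k) = b) := by
      rintro ⟨rfl, rfl⟩
      rw [hrev, hrev, pos_rev_lt_iff] at hlt
      exact absurd hlt (not_lt.2 hP.le)
    rw [if_neg hab, if_neg T2, if_neg T3]
    simp
  · intro r s hr hs
    rw [hx, xMat_apply]
    have T2 : ¬ (lo k = r ∧ ib k = s) := by
      rintro ⟨rfl, -⟩
      rw [pos_lo] at hr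
      omega
    have T3 : ¬ (Fin.rev (ib k) = r ∧ Fin.rev (lo k) = s) := by
      rintro ⟨rfl, -⟩
      rw [pos_rev_ib k hk] at hr
      omega
    rw [if_neg T2, if_neg T3]
    simp

/-- kind V: the support of a Siegel element -/
theorem xV_support (π : Equiv.Perm (Fin (2 * m + 2))) (hπ1 : π c1 = c1) (hπ2 : π c2 = c2)
    (hrev : ∀ r, π (Fin.rev r) = Fin.rev (π r)) (k : Fin m)
    (x : OG m α β) (w1 w2 : F) (hx : mat x = sgMat α β (lo k) w1 w2)
    (hP : pos (π (lo k)) < m) :
    (∀ a b : Fin (2 * m + 2), pos (π b) < pos (π a) → mat x a b = 0) ∧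
      ∀ r s : Fin (2 * m + 2), pos r = m → pos s = m → mat x r s = if r = s then 1 else 0 := by
  have hP' : m < pos (Fin.rev (π (lo k))) := (m_lt_pos_rev _).2 hP
  constructor
  · intro a b hlt
    rw [hx, sgMat_apply]
    have hab : a ≠ b := by
      rintro rfl
      exact lt_irrefl _ hlt
    have T1 : ¬ (lo k = a ∧ c1 = b) := by
      rintro ⟨rfl, rfl⟩
      rw [hπ1, pos_c1] at hlt
      omega
    have T2 : ¬ (lo k = a ∧ c2 = b) := by
      rintro ⟨rfl, rfl⟩
      rw [hπ2, pos_c2] at hlt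
      omega
    have T3 : ¬ (c1 = a ∧ Fin.rev (lo k) = b) := by
      rintro ⟨rfl, rfl⟩
      rw [hπ1, pos_c1, hrev] at hlt
      omega
    have T4 : ¬ (c2 = a ∧ Fin.rev (lo k) = b) := by
      rintro ⟨rfl, rfl⟩
      rw [hπ2, pos_c2, hrev] at hlt
      omega
    have T5 : ¬ (lo k = a ∧ Fin.rev (lo k) = b) := by
      rintro ⟨rfl, rfl⟩
      rw [hrev] at hlt
      omega
    rw [if_neg hab, if_neg T1, if_neg T2, if_neg T3, if_neg T4, if_neg T5]
    simp
  · intro r s hr hs
    rw [hx, sgMat_apply]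
    have hlo : pos (lo k) ≠ m := by
      rw [pos_lo]
      exact k.2.ne
    have hhi : pos (Fin.rev (lo k)) ≠ m := by
      rw [rev_lo, pos_hi]
      have := k.2
      omega
    have T1 : ¬ (lo k = r ∧ c1 = s) := by
      rintro ⟨rfl, -⟩
      exact hlo hr
    have T2 : ¬ (lo k = r ∧ c2 = s) := by
      rintro ⟨rfl, -⟩
      exact hlo hr
    have T3 : ¬ (c1 = r ∧ Fin.rev (lo k) = s) := by
      rintro ⟨-, rfl⟩
      exact hhi hs
    have T4 : ¬ (c2 = r ∧ Fin.rev (lo k) = s) := by
      rintro ⟨-, rfl⟩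
      exact hhi hs
    have T5 : ¬ (lo k = r ∧ Fin.rev (lo k) = s) := by
      rintro ⟨rfl, -⟩
      exact hlo hr
    rw [if_neg T1, if_neg T2, if_neg T3, if_neg T4, if_neg T5]
    simp

/-- the permutation of a block monomial element moving every root group out of `B` is the
reversal -/
theorem perm_eq_rev (π : Equiv.Perm (Fin (2 * m + 2)))
    (hrev : ∀ r, π (Fin.rev r) = Fin.rev (π r))
    (hI : ∀ k : Fin m, k.val + 1 < m → pos (π (ib k)) < pos (π (lo k)))
    (hV : ∀ k : Fin m, k.val + 1 = m → m < pos (π (lo k))) :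
    ∀ r : Fin (2 * m + 2), r ≠ c1 → r ≠ c2 → π r = Fin.rev r := by
  set f : ℕ → ℕ := fun j => if hj : j < m then pos (π (lo ⟨j, hj⟩)) else 0 with hf
  have hfval : ∀ i : Fin m, f i.val = pos (π (lo i)) := by
    intro i
    simp only [hf, dif_pos i.2]
  have hall : ∀ j, j < m → f j = 2 * m - j := by
    apply dec_eq_mid m f
    · intro j hj
      rw [hfval ⟨j, hj⟩]
      exact pos_le _
    · intro j hj
      have h1 := hI ⟨j, by omega⟩ hj
      have e : ib (⟨j, by omega⟩ : Fin m) = lo ⟨j + 1, hj⟩ := Fin.ext rfl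
      rw [e, ← hfval, ← hfval] at h1
      exact h1
    · intro h1
      have h2 := hV ⟨m - 1, by omega⟩ (by simp only; omega)
      rw [← hfval] at h2
      exact h2
  have hlo : ∀ i : Fin m, π (lo i) = hi i := by
    intro i
    apply eq_of_pos_eq _ _ _ (hi_ne_c1 i) (hi_ne_c2 i)
    rw [← hfval, hall i.val i.2, pos_hi]
  intro r hr1 hr2
  rcases pos_cases r with ⟨i, rfl⟩ | ⟨i, rfl⟩ | h | h
  · rw [hlo, rev_lo]
  · rw [← rev_lo, hrev, hlo, rev_lo, rev_hi]
  · exact absurd h hr1
  · exact absurd h hr2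

/-- (MXb) a block monomial element moving every root group out of `B` reverses the order of the blocks -/
theorem conj_mem_Bsub_iff_of_not (n : OG m α β) (hn : n ∈ Mono1 m α β)
    (hT : ∀ t ∈ Tsub m α β, n⁻¹ * t * n ∈ Tsub m α β)
    (h : ∀ k : Fin m, ¬ ∀ x ∈ Xset α β k, n * x * n⁻¹ ∈ Bsub m α β) (u : OG m α β)
    (hu : u ∈ Bsub m α β) : n⁻¹ * u * n ∈ Bsub m α β ↔ u ∈ Tsub m α β := by
  obtain ⟨π, hπ1, hπ2, hπ, hπ'⟩ := hn
  have hrev : ∀ r, π (Fin.rev r) = Fin.rev (π r) := mono_perm_rev n π hπ1 hπ2 hπ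
  have houter : ∀ r : Fin (2 * m + 2), r ≠ c1 → r ≠ c2 → π r ≠ c1 ∧ π r ≠ c2 := fun r h1 h2 =>
    ⟨perm_ne_c1 π hπ1 r h1, perm_ne_c2 π hπ2 r h2⟩
  -- the inequalities
  have hI : ∀ k : Fin m, k.val + 1 < m → pos (π (ib k)) < pos (π (lo k)) := by
    intro k hk
    by_contra hcon
    apply h k
    rintro x (⟨-, t, hx⟩ | ⟨hk', -⟩)
    · have hne : pos (π (lo k)) ≠ pos (π (ib k)) := by
        intro e
        have hib1 : ib k ≠ c1 := by
          intro h'
          have := congrArg Fin.val h'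
          rw [val_ib, val_c1] at this
          omega
        have hib2 : ib k ≠ c2 := by
          intro h'
          have := congrArg Fin.val h'
          rw [val_ib, val_c2] at this
          omega
        have h3 := eq_of_pos_eq _ _ e (houter _ hib1 hib2).1 (houter _ hib1 hib2).2
        have h4 := congrArg Fin.val (π.injective h3)
        rw [val_lo, val_ib] at h4
        omega
      obtain ⟨s1, s2⟩ := xI_support π hrev k hk x t hx (lt_of_le_of_ne (not_lt.1 hcon) hne)
      exact conj_mem_Bsub_of_support n π hπ1 hπ2 hπ hπ' x s1 s2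
    · omega
  have hV : ∀ k : Fin m, k.val + 1 = m → m < pos (π (lo k)) := by
    intro k hk
    by_contra hcon
    apply h k
    rintro x (⟨hk', -⟩ | ⟨-, w1, w2, hx⟩)
    · omega
    · have hne : pos (π (lo k)) ≠ m :=
        pos_ne_m_of_outer (houter _ (lo_ne_c1 k) (lo_ne_c2 k)).1 (houter _ (lo_ne_c1 k) (lo_ne_c2 k)).2
      obtain ⟨s1, s2⟩ := xV_support π hπ1 hπ2 hrev k x w1 w2 hx
        (lt_of_le_of_ne (not_lt.1 hcon) hne)
      exact conj_mem_Bsub_of_support n π hπ1 hπ2 hπ hπ' x s1 s2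
  have hπrev := perm_eq_rev π hrev hI hV
  constructor
  · intro hB
    have hBf : ∀ r s : Fin (2 * m + 2), pos s < pos r → mat (n⁻¹ * u * n) r s = 0 :=
      ((mem_Bsub_iff _).1 hB).1
    obtain ⟨huf, huR⟩ := (mem_Bsub_iff u).1 hu
    rw [mem_Tsub_iff]
    refine ⟨?_, huR⟩
    intro r s hrs
    rcases lt_or_gt_of_ne hrs with hlt | hgt
    · -- `pos r < pos s`
      by_cases hrm : pos r = m
      · -- `r` in the middle, `s` outer
        have hs1 : s ≠ c1 := fun e => by rw [e, pos_c1] at hlt; omega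
        have hs2 : s ≠ c2 := fun e => by rw [e, pos_c2] at hlt; omega
        have hb1 : Fin.rev s ≠ c1 := fun e => hs2 (by rw [← Fin.rev_rev s, e, rev_c1])
        have hb2 : Fin.rev s ≠ c2 := fun e => hs1 (by rw [← Fin.rev_rev s, e, rev_c2])
        have hπb : π (Fin.rev s) = s := by rw [hπrev _ hb1 hb2, Fin.rev_rev]
        have hposb : pos (Fin.rev s) < m := (pos_rev_lt_m s).2 (by omega)
        have hnz := mono_apply_ne_zero n π hπ1 hπ2 hπ (Fin.rev s) hb1 hb2
        rw [hπb] at hnz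
        have key : ∀ i : Fin (2 * m + 2), pos i = m →
            mat n⁻¹ i c1 * mat u c1 s + mat n⁻¹ i c2 * mat u c2 s = 0 := by
          intro i hi
          have h1 := hBf i (Fin.rev s) (by rw [hi]; exact hposb)
          rw [mul_assoc, mat_mul,
            inv_mono_mul_apply_mid n π hπ1 hπ2 hπ' _ i _ (mid_of_pos hi), mat_mul,
            mul_mono_apply n π hπ1 hπ2 hπ _ c1 _ hb1 hb2,
            mul_mono_apply n π hπ1 hπ2 hπ _ c2 _ hb1 hb2, hπb] at h1
          have h2 : (mat n⁻¹ i c1 * mat u c1 s + mat n⁻¹ i c2 * mat u c2 s) *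
              mat n s (Fin.rev s) = 0 := by
            rw [← h1]; ring
          rcases mul_eq_zero.1 h2 with h3 | h3
          · exact h3
          · exact absurd h3 hnz
        have k1 := key c1 pos_c1
        have k2 := key c2 pos_c2
        have m1 := mono_mid_mul_inv n π hπ1 hπ2 hπ c1 c1 pos_c1
        have m2 := mono_mid_mul_inv n π hπ1 hπ2 hπ c1 c2 pos_c1
        have m3 := mono_mid_mul_inv n π hπ1 hπ2 hπ c2 c1 pos_c2
        have m4 := mono_mid_mul_inv n π hπ1 hπ2 hπ c2 c2 pos_c2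
        rw [if_pos rfl] at m1 m4
        rw [if_neg c1_ne_c2] at m2
        rw [if_neg c1_ne_c2.symm] at m3
        rcases mid_of_pos hrm with rfl | rfl
        · linear_combination (mat n c1 c1) * k1 + (mat n c1 c2) * k2 - (mat u c1 s) * m1
            - (mat u c2 s) * m2
        · linear_combination (mat n c2 c1) * k1 + (mat n c2 c2) * k2 - (mat u c1 s) * m3
            - (mat u c2 s) * m4
      · -- `r` outer
        have hr1 : r ≠ c1 := fun e => hrm (by rw [e, pos_c1])
        have hr2 : r ≠ c2 := fun e => hrm (by rw [e, pos_c2])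
        have ha1 : Fin.rev r ≠ c1 := fun e => hr2 (by rw [← Fin.rev_rev r, e, rev_c1])
        have ha2 : Fin.rev r ≠ c2 := fun e => hr1 (by rw [← Fin.rev_rev r, e, rev_c2])
        have hπa : π (Fin.rev r) = r := by rw [hπrev _ ha1 ha2, Fin.rev_rev]
        have hinz := mono_inv_apply_ne_zero n π hπ1 hπ2 hπ (Fin.rev r) ha1 ha2
        rw [hπa] at hinz
        by_cases hsm : pos s = m
        · -- `s` in the middle: `pos r < m`
          have hposa : m < pos (Fin.rev r) := (m_lt_pos_rev r).2 (by omega)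
          have key : ∀ j : Fin (2 * m + 2), pos j = m →
              mat u r c1 * mat n c1 j + mat u r c2 * mat n c2 j = 0 := by
            intro j hj
            have h1 := hBf (Fin.rev r) j (by rw [hj]; exact hposa)
            rw [mul_assoc, mat_mul, inv_mono_mul_apply n π hπ' _ _ _ ha1 ha2, hπa, mat_mul,
              mul_mono_apply_mid n π hπ1 hπ2 hπ _ r j (mid_of_pos hj)] at h1
            rcases mul_eq_zero.1 h1 with h3 | h3
            · exact absurd h3 hinz
            · exact h3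
          have k1 := key c1 pos_c1
          have k2 := key c2 pos_c2
          have m1 := mono_mid_mul_inv n π hπ1 hπ2 hπ c1 c1 pos_c1
          have m2 := mono_mid_mul_inv n π hπ1 hπ2 hπ c1 c2 pos_c1
          have m3 := mono_mid_mul_inv n π hπ1 hπ2 hπ c2 c1 pos_c2
          have m4 := mono_mid_mul_inv n π hπ1 hπ2 hπ c2 c2 pos_c2
          rw [if_pos rfl] at m1 m4
          rw [if_neg c1_ne_c2] at m2
          rw [if_neg c1_ne_c2.symm] at m3
          rcases mid_of_pos hsm with rfl | rfl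
          · linear_combination (mat n⁻¹ c1 c1) * k1 + (mat n⁻¹ c2 c1) * k2 - (mat u r c1) * m1
              - (mat u r c2) * m3
          · linear_combination (mat n⁻¹ c1 c2) * k1 + (mat n⁻¹ c2 c2) * k2 - (mat u r c1) * m2
              - (mat u r c2) * m4
        · -- both outer
          have hs1 : s ≠ c1 := fun e => hsm (by rw [e, pos_c1])
          have hs2 : s ≠ c2 := fun e => hsm (by rw [e, pos_c2])
          have hb1 : Fin.rev s ≠ c1 := fun e => hs2 (by rw [← Fin.rev_rev s, e, rev_c1])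
          have hb2 : Fin.rev s ≠ c2 := fun e => hs1 (by rw [← Fin.rev_rev s, e, rev_c2])
          have hπb : π (Fin.rev s) = s := by rw [hπrev _ hb1 hb2, Fin.rev_rev]
          have hnz := mono_apply_ne_zero n π hπ1 hπ2 hπ (Fin.rev s) hb1 hb2
          rw [hπb] at hnz
          have h1 := hBf (Fin.rev r) (Fin.rev s) ((pos_rev_lt_iff s r).2 hlt)
          rw [mul_assoc, mat_mul, inv_mono_mul_apply n π hπ' _ _ _ ha1 ha2, hπa, mat_mul,
            mul_mono_apply n π hπ1 hπ2 hπ _ r _ hb1 hb2, hπb] at h1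
          rcases mul_eq_zero.1 h1 with h3 | h3
          · exact absurd h3 hinz
          · rcases mul_eq_zero.1 h3 with h4 | h4
            · exact h4
            · exact absurd h4 hnz
    · exact huf r s hgt
  · intro hTu
    exact Tsub_le_Bsub (hT u hTu)

end Cfsg.Agent.Helper10.OmBN
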