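import Mathlib
import Cfsg.Agent.Lib.BurnsidePQ
import Cfsg.Agent.Lib.Cores
import Cfsg.Agent.Helper10.MinNormal
import Cfsg.Agent.Helper10.SolvMinNormal

set_option autoImplicit false

namespace Cfsg.Agent.Helper10.Ord4

/-- the derived working hypotheses on a group whose element orders are exactly `1,2,3,4` -/
structure Hyp (G : Type*) [Group G] : Prop where
  pow : ∀ g : G, g ^ 4 = 1 ∨ g ^ 3 = 1
  no6 : ∀ x y : G, Commute x y → x ^ 4 = 1 → y ^ 3 = 1 → x = 1 ∨ y = 1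
  ex2 : ∃ g : G, orderOf g = 2
  ex3 : ∃ g : G, orderOf g = 3
  ex4 : ∃ g : G, orderOf g = 4

variable {G : Type*} [Group G]

theorem hyp_of_range [Finite G]
    (h : Set.range (orderOf : G → ℕ) = {k : ℕ | 1 ≤ k ∧ k ≤ 4}) : Hyp G := by
  have hord : ∀ g : G, 1 ≤ orderOf g ∧ orderOf g ≤ 4 := by
    intro g
    have : orderOf g ∈ Set.range (orderOf : G → ℕ) := ⟨g, rfl⟩
    rw [h] at this
    exact this
  have hex : ∀ k : ℕ, 1 ≤ k → k ≤ 4 → ∃ g : G, orderOf g = k := by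
    intro k h1 h2
    have : k ∈ Set.range (orderOf : G → ℕ) := by rw [h]; exact ⟨h1, h2⟩
    exact this
  have hpow : ∀ g : G, g ^ 4 = 1 ∨ g ^ 3 = 1 := by
    intro g
    obtain ⟨h1, h2⟩ := hord g
    have h3 := pow_orderOf_eq_one g
    interval_cases hk : orderOf g
    · left; rw [pow_one] at h3; rw [h3, one_pow]
    · left; rw [show (4 : ℕ) = 2 * 2 from rfl, pow_mul, h3, one_pow]
    · right; exact h3
    · left; exact h3
  refine ⟨hpow, ?_, hex 2 (by norm_num) (by norm_num), hex 3 (by norm_num) (by norm_num),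
    hex 4 (by norm_num) (by norm_num)⟩
  intro x y hxy hx hy
  by_contra hcon
  push Not at hcon
  obtain ⟨hx1, hy1⟩ := hcon
  have hox : orderOf x ∣ 4 := orderOf_dvd_of_pow_eq_one hx
  have hoy : orderOf y ∣ 3 := orderOf_dvd_of_pow_eq_one hy
  have hoy3 : orderOf y = 3 := by
    rcases (Nat.dvd_prime Nat.prime_three).mp hoy with h1 | h1
    · exact absurd (orderOf_eq_one_iff.mp h1) hy1
    · exact h1
  have hox2 : 2 ≤ orderOf x := by
    have h0 : 0 < orderOf x := Nat.pos_of_dvd_of_pos hox (by norm_num)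
    have h1 : orderOf x ≠ 1 := fun h1 => hx1 (orderOf_eq_one_iff.mp h1)
    omega
  have hcop : (orderOf x).Coprime (orderOf y) := by
    rw [hoy3]
    exact Nat.Coprime.coprime_dvd_left hox (by norm_num)
  have := hxy.orderOf_mul_eq_mul_orderOf_of_coprime hcop
  have h4 := (hord (x * y)).2
  rw [this, hoy3] at h4
  omega


theorem Hyp.pow_four_of_two_pow (H : Hyp G) {g : G} {k : ℕ} (hg : g ^ 2 ^ k = 1) : g ^ 4 = 1 := by
  rcases H.pow g with h | h
  · exact h
  · have h1 : orderOf g ∣ 2 ^ k := orderOf_dvd_of_pow_eq_one hg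
    have h2 : orderOf g ∣ 3 := orderOf_dvd_of_pow_eq_one h
    have h3 : orderOf g ∣ Nat.gcd (2 ^ k) 3 := Nat.dvd_gcd h1 h2
    have h4 : Nat.gcd (2 ^ k) 3 = 1 := Nat.Coprime.pow_left k (by norm_num)
    rw [h4, Nat.dvd_one, orderOf_eq_one_iff] at h3
    rw [h3, one_pow]

theorem Hyp.pow_three_of_three_pow (H : Hyp G) {g : G} {k : ℕ} (hg : g ^ 3 ^ k = 1) :
    g ^ 3 = 1 := by
  rcases H.pow g with h | h
  · have h1 : orderOf g ∣ 3 ^ k := orderOf_dvd_of_pow_eq_one hg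
    have h2 : orderOf g ∣ 4 := orderOf_dvd_of_pow_eq_one h
    have h3 : orderOf g ∣ Nat.gcd (3 ^ k) 4 := Nat.dvd_gcd h1 h2
    have h4 : Nat.gcd (3 ^ k) 4 = 1 := Nat.Coprime.pow_left k (by norm_num)
    rw [h4, Nat.dvd_one, orderOf_eq_one_iff] at h3
    rw [h3, one_pow]
  · exact h

theorem Hyp.pow_four_of_mem (H : Hyp G) {K : Subgroup G} (hK : IsPGroup 2 K) {g : G} (hg : g ∈ K) :
    g ^ 4 = 1 := by
  obtain ⟨k, hk⟩ := hK ⟨g, hg⟩
  have : g ^ 2 ^ k = 1 := by simpa using congrArg Subtype.val hk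
  exact H.pow_four_of_two_pow this

theorem Hyp.pow_three_of_mem (H : Hyp G) {K : Subgroup G} (hK : IsPGroup 3 K) {g : G} (hg : g ∈ K) :
    g ^ 3 = 1 := by
  obtain ⟨k, hk⟩ := hK ⟨g, hg⟩
  have : g ^ 3 ^ k = 1 := by simpa using congrArg Subtype.val hk
  exact H.pow_three_of_three_pow this

/-- an element with both `g^4 = 1` and `g^3 = 1` is trivial -/
theorem eq_one_of_pow_four_of_pow_three {g : G} (h4 : g ^ 4 = 1) (h3 : g ^ 3 = 1) : g = 1 := by
  have : g ^ 4 = g ^ 3 * g := pow_succ g 3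
  rw [h4, h3, one_mul] at this
  exact this.symm

theorem Hyp.prime_dvd [Finite G] (H : Hyp G) {p : ℕ} (hp : p.Prime) (hd : p ∣ Nat.card G) :
    p = 2 ∨ p = 3 := by
  have : Fact p.Prime := ⟨hp⟩
  obtain ⟨g, hg⟩ := exists_prime_orderOf_dvd_card' p hd
  rcases H.pow g with h | h
  · have h1 : p ∣ 4 := hg ▸ orderOf_dvd_of_pow_eq_one h
    left
    have : p ∣ 2 ^ 2 := by simpa using h1
    exact (Nat.prime_dvd_prime_iff_eq hp Nat.prime_two).mp (hp.dvd_of_dvd_pow this)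
  · have h1 : p ∣ 3 := hg ▸ orderOf_dvd_of_pow_eq_one h
    right
    exact (Nat.prime_dvd_prime_iff_eq hp Nat.prime_three).mp h1

theorem Hyp.isSolvable [Finite G] (H : Hyp G) : Group.IsSolvable G :=
  Cfsg.Agent.Lib.isSolvable_of_prime_dvd_card Nat.prime_two Nat.prime_three
    (fun _ hr hd => H.prime_dvd hr hd)

theorem Hyp.pCore_ne_bot [Finite G] (H : Hyp G) :
    Cfsg.pCore 2 G ≠ ⊥ ∨ Cfsg.pCore 3 G ≠ ⊥ := by
  have hsolv := H.isSolvable
  have htop : (⊤ : Subgroup G) ≠ ⊥ := by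
    obtain ⟨g, hg⟩ := H.ex2
    intro h
    have : g ∈ (⊥ : Subgroup G) := h ▸ Subgroup.mem_top g
    rw [Subgroup.mem_bot] at this
    rw [this, orderOf_one] at hg
    omega
  obtain ⟨M, hMn, hMne, -, hmin⟩ := exists_minimal_normal_le (⊤ : Subgroup G) htop
  obtain ⟨p, hp, hexp, d, hd, hcard⟩ := minNormal_elementary_of_solvable M hMne hmin
  have hpd : p ∣ Nat.card G := by
    have h1 : p ∣ Nat.card M := by rw [hcard]; exact dvd_pow_self p hd.ne'
    exact h1.trans (Subgroup.card_subgroup_dvd_card M)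
  have hMp : IsPGroup p M := IsPGroup.of_card hcard
  have hle : M ≤ Cfsg.pCore p G := Cfsg.Agent.Lib.le_pCore hMn hMp
  rcases H.prime_dvd hp hpd with rfl | rfl
  · left; intro h; rw [h, le_bot_iff] at hle; exact hMne hle
  · right; intro h; rw [h, le_bot_iff] at hle; exact hMne hle

end Cfsg.Agent.Helper10.Ord4
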