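import Mathlib
import Cfsg.Agent.Helper10.Ord4Basic
import Cfsg.Agent.Helper48.CoprimeGen
import Cfsg.Agent.Helper10.Card
import Cfsg.Agent.Helper10.Engel

set_option autoImplicit false

namespace Cfsg.Agent.Helper10.Ord4

variable {G : Type*} [Group G] [Finite G]

instance pCore_normal' (p : ℕ) : (Cfsg.pCore p G).Normal :=
  have := Cfsg.Agent.Lib.pCore_characteristic (G := G) p
  inferInstance

theorem Hyp.not_nine_dvd (H : Hyp G) (hF : Cfsg.pCore 2 G ≠ ⊥) : ¬ 9 ∣ Nat.card G := by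
  intro h9
  have : Fact (Nat.Prime 3) := ⟨Nat.prime_three⟩
  obtain ⟨K, hK⟩ := Sylow.exists_subgroup_card_pow_prime 3 (show 3 ^ 2 ∣ Nat.card G by simpa using h9)
  have hKp : IsPGroup 3 K := IsPGroup.of_card hK
  have hcomm : ∀ x ∈ K, ∀ y ∈ K, x * y = y * x := by
    intro x hx y hy
    have hc : IsMulCommutative K := IsPGroup.isMulCommutative_of_card_eq_prime_sq hK
    have := hc.is_comm.comm (⟨x, hx⟩ : K) ⟨y, hy⟩
    exact congrArg Subtype.val this
  have hexp : ∀ a ∈ K, a ^ 3 = 1 := fun a ha => H.pow_three_of_mem hKp ha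
  set F := Cfsg.pCore 2 G with hFdef
  have hFp : IsPGroup 2 F := Cfsg.Agent.Lib.isPGroup_pCore 2
  have hpF : ¬ 3 ∣ Nat.card F := by
    obtain ⟨n, hn⟩ := IsPGroup.iff_card.mp hFp
    rw [hn]
    intro h3
    have := Nat.Prime.dvd_of_dvd_pow Nat.prime_three h3
    omega
  have hKF : K ≤ Subgroup.normalizer (F : Set G) := by
    rw [Subgroup.normalizer_eq_top]; exact le_top
  have hle := Cfsg.Agent.Helper48.le_cgen_of_le_card (p := 3) F K hpF hKF hcomm hexp (by rw [hK])
  apply hF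
  rw [eq_bot_iff]
  refine hle.trans ?_
  unfold Cfsg.Agent.Helper48.cgen
  apply iSup_le
  rintro ⟨a, haK, ha1⟩ x hx
  rw [Subgroup.mem_inf, Subgroup.mem_centralizer_singleton_iff] at hx
  rw [Subgroup.mem_bot]
  have hx4 : x ^ 4 = 1 := H.pow_four_of_mem hFp hx.1
  have hxa : Commute x a := hx.2
  rcases H.no6 x a hxa hx4 (hexp a haK) with h | h
  · exact h
  · exact absurd h ha1

theorem Hyp.sylow_two_index (H : Hyp G) (hF : Cfsg.pCore 2 G ≠ ⊥) (S : Sylow 2 G) :
    (S : Subgroup G).index = 3 := by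
  have h9 := H.not_nine_dvd hF
  have hpos : (S : Subgroup G).index ≠ 0 := Subgroup.index_ne_zero_of_finite
  have hpr : ∀ {d : ℕ}, d.Prime → d ∣ (S : Subgroup G).index → d = 3 := by
    intro d hd hdvd
    rcases H.prime_dvd hd (hdvd.trans (Subgroup.index_dvd_card _)) with rfl | rfl
    · exact absurd hdvd S.not_dvd_index
    · rfl
  have hpow := Nat.eq_prime_pow_of_unique_prime_dvd hpos hpr
  set j := (S : Subgroup G).index.primeFactorsList.length with hj
  have h3 : 3 ∣ (S : Subgroup G).index := by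
    obtain ⟨g, hg⟩ := H.ex3
    have h1 : 3 ∣ Nat.card G := hg ▸ orderOf_dvd_natCard g
    rw [← Subgroup.card_mul_index (S : Subgroup G)] at h1
    rcases (Nat.Prime.dvd_mul Nat.prime_three).mp h1 with h2 | h2
    · exfalso
      obtain ⟨n, hn⟩ := IsPGroup.iff_card.mp S.isPGroup'
      rw [hn] at h2
      have := Nat.Prime.dvd_of_dvd_pow Nat.prime_three h2
      omega
    · exact h2
  have hj1 : j ≠ 0 := by
    intro h0
    rw [h0, pow_zero] at hpow
    rw [hpow] at h3
    omega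
  have hj2 : j < 2 := by
    by_contra hcon
    rw [not_lt] at hcon
    apply h9
    have : 3 ^ 2 ∣ (S : Subgroup G).index := by rw [hpow]; exact pow_dvd_pow 3 hcon
    exact (show (9 : ℕ) = 3 ^ 2 from rfl) ▸ this.trans (Subgroup.index_dvd_card _)
  have : j = 1 := by omega
  rw [hpow, this, pow_one]


/-- the kernel of the action on the cosets of a Sylow `p`-subgroup is `O_p(G)` -/
theorem pCore_eq_ker (p : ℕ) [Fact p.Prime] (S : Sylow p G) :
    Cfsg.pCore p G = (MulAction.toPermHom G (G ⧸ (S : Subgroup G))).ker := by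
  rw [← Subgroup.normalCore_eq_ker]
  apply le_antisymm
  · exact (Subgroup.normal_le_normalCore).mpr (Cfsg.Agent.Lib.pCore_le_sylow S)
  · have hn : ((S : Subgroup G).normalCore).Normal := Subgroup.normalCore_normal _
    exact Cfsg.Agent.Lib.le_pCore hn (S.isPGroup'.to_le (Subgroup.normalCore_le _))

theorem Hyp.pCore_index (H : Hyp G) (hF : Cfsg.pCore 2 G ≠ ⊥) :
    (Cfsg.pCore 2 G).index = 3 ∨
      ((Cfsg.pCore 2 G).index = 6 ∧ Nonempty (G ⧸ Cfsg.pCore 2 G ≃* Equiv.Perm (Fin 3))) := by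
  classical
  have : Fact (Nat.Prime 2) := ⟨Nat.prime_two⟩
  obtain ⟨S⟩ : Nonempty (Sylow 2 G) := inferInstance
  have hS := H.sylow_two_index hF S
  set φ := MulAction.toPermHom G (G ⧸ (S : Subgroup G)) with hφ
  have hker : Cfsg.pCore 2 G = φ.ker := pCore_eq_ker 2 S
  have hcardQ : Nat.card (G ⧸ (S : Subgroup G)) = 3 := hS
  have e : (G ⧸ (S : Subgroup G)) ≃ Fin 3 := Finite.equivFinOfCardEq hcardQ
  have hcardP : Nat.card (Equiv.Perm (G ⧸ (S : Subgroup G))) = 6 := by
    rw [Nat.card_congr (Equiv.permCongr e)]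
    rw [Nat.card_eq_fintype_card, Fintype.card_perm, Fintype.card_fin]
    rfl
  have h1 : (Cfsg.pCore 2 G).index = Nat.card φ.range := by
    rw [hker]; exact Subgroup.index_ker φ
  have h2 : (Cfsg.pCore 2 G).index ∣ 6 := by
    rw [h1, ← hcardP]; exact Subgroup.card_subgroup_dvd_card _
  have h3 : 3 ∣ (Cfsg.pCore 2 G).index := by
    rw [← hS]
    exact Subgroup.index_dvd_of_le (Cfsg.Agent.Lib.pCore_le_sylow S)
  have h4 : (Cfsg.pCore 2 G).index = 3 ∨ (Cfsg.pCore 2 G).index = 6 := by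
    have hle : (Cfsg.pCore 2 G).index ≤ 6 := Nat.le_of_dvd (by norm_num) h2
    have hpos : 0 < (Cfsg.pCore 2 G).index := Nat.pos_of_ne_zero Subgroup.index_ne_zero_of_finite
    interval_cases (Cfsg.pCore 2 G).index <;> omega
  rcases h4 with h4 | h4
  · exact Or.inl h4
  · refine Or.inr ⟨h4, ?_⟩
    have hrange : φ.range = ⊤ := by
      apply Subgroup.eq_top_of_card_eq
      rw [← h1, h4, hcardP]
    have hsurj : Function.Surjective φ := MonoidHom.range_eq_top.mp hrange
    exact ⟨(QuotientGroup.quotientMulEquivOfEq hker).trans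
      ((QuotientGroup.quotientKerEquivOfSurjective φ hsurj).trans (Equiv.permCongrHom e))⟩


section M
variable (H : Hyp G) {t : G} (ht : orderOf t = 3)
include H ht

theorem Hyp.card_M : Nat.card (Subgroup.zpowers t ⊔ Cfsg.pCore 2 G : Subgroup G) =
    3 * Nat.card (Cfsg.pCore 2 G) := by
  have hFp : IsPGroup 2 (Cfsg.pCore 2 G) := Cfsg.Agent.Lib.isPGroup_pCore 2
  have hle : Subgroup.zpowers t ≤ Subgroup.normalizer ((Cfsg.pCore 2 G : Subgroup G) : Set G) := by
    rw [Subgroup.normalizer_eq_top]; exact le_top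
  have h1 := card_sup_mul_card_inf (Subgroup.zpowers t) (Cfsg.pCore 2 G) hle
  have hcz : Nat.card (Subgroup.zpowers t) = 3 := by rw [Nat.card_zpowers, ht]
  have hcop : (Nat.card (Subgroup.zpowers t)).Coprime (Nat.card (Cfsg.pCore 2 G)) := by
    obtain ⟨n, hn⟩ := IsPGroup.iff_card.mp hFp
    rw [hcz, hn]
    exact Nat.Coprime.pow_right n (by norm_num)
  have h2 : Subgroup.zpowers t ⊓ Cfsg.pCore 2 G = ⊥ :=
    (Subgroup.disjoint_of_coprime_natCard hcop).eq_bot
  rw [h2, Subgroup.card_bot, mul_one, hcz] at h1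
  exact h1

theorem Hyp.mem_pCore_of_mem_M {g : G}
    (hg : g ∈ (Subgroup.zpowers t ⊔ Cfsg.pCore 2 G : Subgroup G)) (hg4 : g ^ 4 = 1) :
    g ∈ Cfsg.pCore 2 G := by
  have : Fact (Nat.Prime 2) := ⟨Nat.prime_two⟩
  set F := Cfsg.pCore 2 G with hF
  have hFp : IsPGroup 2 F := Cfsg.Agent.Lib.isPGroup_pCore 2
  have hzp : IsPGroup 2 (Subgroup.zpowers g) := by
    rintro ⟨x, hx⟩
    obtain ⟨k, rfl⟩ := Subgroup.mem_zpowers_iff.mp hx
    refine ⟨2, Subtype.ext ?_⟩
    show (g ^ k) ^ 2 ^ 2 = 1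
    rw [← zpow_natCast, ← zpow_mul, mul_comm, zpow_mul, zpow_natCast]
    norm_num
    rw [hg4, one_zpow]
  have hKp : IsPGroup 2 (F ⊔ Subgroup.zpowers g : Subgroup G) :=
    IsPGroup.to_sup_of_normal_left hFp hzp
  have hKM : F ⊔ Subgroup.zpowers g ≤ Subgroup.zpowers t ⊔ F :=
    sup_le le_sup_right ((Subgroup.zpowers_le).mpr hg)
  obtain ⟨n, hn⟩ := IsPGroup.iff_card.mp hKp
  have h1 : Nat.card (F ⊔ Subgroup.zpowers g : Subgroup G) ∣ 3 * Nat.card F := by
    rw [← H.card_M ht]
    exact Subgroup.card_dvd_of_le hKM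
  have h2 : Nat.card (F ⊔ Subgroup.zpowers g : Subgroup G) ∣ Nat.card F := by
    rw [hn] at h1 ⊢
    exact Nat.Coprime.dvd_of_dvd_mul_left (Nat.Coprime.pow_left n (by norm_num)) h1
  have h3 : F ⊔ Subgroup.zpowers g = F :=
    (Subgroup.eq_of_le_of_card_ge le_sup_left (Nat.le_of_dvd Nat.card_pos h2)).symm
  rw [← h3]
  exact le_sup_right (a := F) (Subgroup.mem_zpowers g)

theorem Hyp.t_not_mem : t ∉ Cfsg.pCore 2 G := by
  intro h
  have hFp : IsPGroup 2 (Cfsg.pCore 2 G) := Cfsg.Agent.Lib.isPGroup_pCore 2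
  have h4 := H.pow_four_of_mem hFp h
  have h3 : t ^ 3 = 1 := ht ▸ pow_orderOf_eq_one t
  have := eq_one_of_pow_four_of_pow_three h4 h3
  rw [this, orderOf_one] at ht
  omega

theorem Hyp.cube_coset (f : G) (hf : f ∈ Cfsg.pCore 2 G) :
    (f * t) ^ 3 = 1 ∧ (f * t⁻¹) ^ 3 = 1 := by
  have hnt := H.t_not_mem ht
  constructor
  · rcases H.pow (f * t) with h | h
    · exfalso
      have hm : f * t ∈ (Subgroup.zpowers t ⊔ Cfsg.pCore 2 G : Subgroup G) :=
        Subgroup.mul_mem _ (le_sup_right (a := Subgroup.zpowers t) hf)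
          (le_sup_left (b := Cfsg.pCore 2 G) (Subgroup.mem_zpowers t))
      have := H.mem_pCore_of_mem_M ht hm h
      exact hnt ((Subgroup.mul_mem_cancel_left _ hf).mp this)
    · exact h
  · rcases H.pow (f * t⁻¹) with h | h
    · exfalso
      have hm : f * t⁻¹ ∈ (Subgroup.zpowers t ⊔ Cfsg.pCore 2 G : Subgroup G) :=
        Subgroup.mul_mem _ (le_sup_right (a := Subgroup.zpowers t) hf)
          (le_sup_left (b := Cfsg.pCore 2 G) (Subgroup.inv_mem _ (Subgroup.mem_zpowers t)))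
      have := H.mem_pCore_of_mem_M ht hm h
      have h2 := (Subgroup.mul_mem_cancel_left _ hf).mp this
      exact hnt (by simpa using Subgroup.inv_mem _ h2)
    · exact h

end M


open scoped commutatorElement in
theorem nilpotencyClass_le_two_of_comm {P : Type*} [Group P] [Group.IsNilpotent P]
    (h : ∀ x y z : P, ⁅⁅x, y⁆, z⁆ = 1) : Group.nilpotencyClass P ≤ 2 := by
  rw [← lowerCentralSeries_eq_bot_iff_nilpotencyClass_le]
  rw [eq_bot_iff]
  show ⁅⁅(⊤ : Subgroup P), ⊤⁆, ⊤⁆ ≤ ⊥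
  rw [Subgroup.commutator_le]
  intro c hc z _
  rw [Subgroup.mem_bot]
  -- c ∈ ⁅⊤, ⊤⁆ is central
  have hcen : ⁅(⊤ : Subgroup P), ⊤⁆ ≤ Subgroup.center P := by
    rw [Subgroup.commutator_le]
    intro x _ y _
    rw [Subgroup.mem_center_iff]
    intro g
    exact ((commutatorElement_eq_one_iff_commute.mp (h x y g)).eq).symm
  have := hcen hc
  rw [Subgroup.mem_center_iff] at this
  exact commutatorElement_eq_one_iff_commute.mpr (this z).symm

open scoped commutatorElement in
theorem Hyp.caseA3 (H : Hyp G) (hidx : (Cfsg.pCore 2 G).index = 3) :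
    IsPGroup 2 ↥(Cfsg.pCore 2 G) ∧ Monoid.exponent ↥(Cfsg.pCore 2 G) = 4 ∧
      Group.nilpotencyClass ↥(Cfsg.pCore 2 G) ≤ 2 ∧ (Cfsg.pCore 2 G).index = 3 := by
  set F := Cfsg.pCore 2 G with hF
  have hFp : IsPGroup 2 F := Cfsg.Agent.Lib.isPGroup_pCore 2
  obtain ⟨t, ht⟩ := H.ex3
  have hM : (Subgroup.zpowers t ⊔ F : Subgroup G) = ⊤ := by
    apply Subgroup.eq_top_of_card_eq
    rw [H.card_M ht, ← hidx, mul_comm, Subgroup.card_mul_index]
  have h4 : ∀ f ∈ F, f ^ 4 = 1 := fun f hf => H.pow_four_of_mem hFp hf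
  refine ⟨hFp, ?_, ?_, hidx⟩
  · obtain ⟨g, hg⟩ := H.ex4
    have hgF : g ∈ F := by
      apply H.mem_pCore_of_mem_M ht
      · rw [hM]; exact Subgroup.mem_top g
      · rw [← hg]; exact pow_orderOf_eq_one g
    apply Nat.dvd_antisymm
    · apply Monoid.exponent_dvd_of_forall_pow_eq_one
      intro x
      exact Subtype.ext (by simpa using h4 x x.2)
    · have := Monoid.order_dvd_exponent (⟨g, hgF⟩ : F)
      rwa [Subgroup.orderOf_mk, hg] at this
  · have c2 := Engel.class_two_of_fpf3 F t h4 (fun f hf => (H.cube_coset ht f hf).1)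
      (fun f hf => (H.cube_coset ht f hf).2)
    have : Group.IsNilpotent F := hFp.isNilpotent
    apply nilpotencyClass_le_two_of_comm
    intro x y z
    apply Subtype.ext
    have := c2 x x.2 y y.2 z z.2
    have e : ((⁅⁅x, y⁆, z⁆ : F) : G) = ⁅⁅(x : G), (y : G)⁆, (z : G)⁆ := by
      simp [commutatorElement_def]
    rw [e, this]; rfl


/-- In a group with a subgroup `M` of index two, elements of cube one lie in `M`. -/
theorem mem_of_cube_of_index_two {M : Subgroup G} (hM : M.index = 2) {x : G} (hx : x ^ 3 = 1) :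
    x ∈ M := by
  have h2 : x ^ 2 ∈ M := Subgroup.sq_mem_of_index_two hM x
  have : x = (x ^ 2)⁻¹ := by
    apply eq_inv_of_mul_eq_one_left
    rw [← pow_succ']; exact hx
  rw [this]; exact M.inv_mem h2

theorem Hyp.caseA6 (H : Hyp G) (hF : Cfsg.pCore 2 G ≠ ⊥) (hidx : (Cfsg.pCore 2 G).index = 6) :
    Cfsg.IsElementaryAbelian 2 (Cfsg.pCore 2 G) := by
  classical
  have : Fact (Nat.Prime 3) := ⟨Nat.prime_three⟩
  set F := Cfsg.pCore 2 G with hFdef
  have hFp : IsPGroup 2 F := Cfsg.Agent.Lib.isPGroup_pCore 2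
  have h4 : ∀ f ∈ F, f ^ 4 = 1 := fun f hf => H.pow_four_of_mem hFp hf
  -- a Sylow 3-subgroup of order 3
  obtain ⟨Q⟩ : Nonempty (Sylow 3 G) := inferInstance
  have h3G : 3 ∣ Nat.card G := by
    obtain ⟨g, hg⟩ := H.ex3
    exact hg ▸ orderOf_dvd_natCard g
  have hQne : (Q : Subgroup G) ≠ ⊥ := Q.ne_bot_of_dvd_card h3G
  have hQcard : Nat.card Q = 3 := by
    obtain ⟨k, hk⟩ := IsPGroup.iff_card.mp Q.isPGroup'
    have hk1 : k ≠ 0 := by
      intro h0
      rw [h0, pow_zero] at hk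
      exact hQne ((Subgroup.card_eq_one).mp hk)
    have hk2 : k < 2 := by
      by_contra hcon
      rw [not_lt] at hcon
      apply H.not_nine_dvd hF
      have h1 : 3 ^ 2 ∣ Nat.card Q := by rw [hk]; exact pow_dvd_pow 3 hcon
      exact (show (9 : ℕ) = 3 ^ 2 from rfl) ▸ h1.trans (Subgroup.card_subgroup_dvd_card _)
    have : k = 1 := by omega
    rw [hk, this, pow_one]
  obtain ⟨t, htQ, ht1⟩ : ∃ t ∈ (Q : Subgroup G), t ≠ 1 := by
    by_contra hcon
    push Not at hcon
    exact hQne ((Subgroup.eq_bot_iff_forall _).mpr hcon)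
  have ht3 : t ^ 3 = 1 := H.pow_three_of_mem Q.isPGroup' htQ
  have ht : orderOf t = 3 := by
    rcases (Nat.dvd_prime Nat.prime_three).mp (orderOf_dvd_of_pow_eq_one ht3) with h | h
    · exact absurd (orderOf_eq_one_iff.mp h) ht1
    · exact h
  have hzQ : Subgroup.zpowers t = (Q : Subgroup G) := by
    apply Subgroup.eq_of_le_of_card_ge ((Subgroup.zpowers_le).mpr htQ)
    rw [Nat.card_zpowers, ht, hQcard]
  set M : Subgroup G := Subgroup.zpowers t ⊔ F with hMdef
  have hMcard : Nat.card M = 3 * Nat.card F := H.card_M ht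
  have hMidx : M.index = 2 := by
    have h1 := Subgroup.card_mul_index M
    have h2 := Subgroup.card_mul_index F
    rw [hidx] at h2
    rw [hMcard, ← h2] at h1
    have hpos : 0 < Nat.card F := Nat.card_pos
    nlinarith
  have hMn : M.Normal := Subgroup.normal_of_index_eq_two hMidx
  have hQM : (Q : Subgroup G) ≤ M := by rw [← hzQ]; exact le_sup_left
  have hfrat := Sylow.normalizer_sup_eq_top' Q hQM
  -- an element of the normalizer outside `M`
  obtain ⟨u, huN, huM⟩ : ∃ u ∈ Subgroup.normalizer ((Q : Subgroup G) : Set G), u ∉ M := by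
    by_contra hcon
    push Not at hcon
    have hle : Subgroup.normalizer ((Q : Subgroup G) : Set G) ≤ M := hcon
    have : (⊤ : Subgroup G) ≤ M := by rw [← hfrat]; exact sup_le hle le_rfl
    have h1 : M.index = 1 := by rw [top_le_iff.mp this]; exact Subgroup.index_top
    omega
  -- elements outside `M` have fourth power one
  have hout : ∀ x : G, x ∉ M → x ^ 4 = 1 := by
    intro x hx
    rcases H.pow x with h | h
    · exact h
    · exact absurd (mem_of_cube_of_index_two hMidx h) hx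
  have hu4 : u ^ 4 = 1 := hout u huM
  have hu1 : u ≠ 1 := fun h => huM (h ▸ M.one_mem)
  -- `u` inverts `t`
  have hconj : u * t * u⁻¹ ∈ Subgroup.zpowers t := by
    rw [hzQ]; exact (Subgroup.mem_normalizer_iff.mp huN t).mp htQ
  have hcases : u * t * u⁻¹ = t ∨ u * t * u⁻¹ = t⁻¹ := by
    rw [mem_zpowers_iff_mem_range_orderOf, ht] at hconj
    simp only [Finset.mem_image, Finset.mem_range] at hconj
    obtain ⟨k, hk, hkeq⟩ := hconj
    interval_cases k
    · exfalso
      rw [pow_zero] at hkeq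
      have : t = 1 := by
        have h1 : u⁻¹ * (u * t * u⁻¹) * u = t := by group
        rw [← h1, ← hkeq]; group
      exact ht1 this
    · left; rw [← hkeq, pow_one]
    · right
      rw [← hkeq]
      apply eq_inv_of_mul_eq_one_left
      rw [← pow_succ]; exact ht3
  have hinv : u * t * u⁻¹ = t⁻¹ := by
    rcases hcases with h | h
    · exfalso
      have hc : Commute u t := by
        have : u * t = t * u := by
          calc u * t = (u * t * u⁻¹) * u := by group
            _ = t * u := by rw [h]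
        exact this
      rcases H.no6 u t hc hu4 ht3 with h1 | h1
      · exact hu1 h1
      · exact ht1 h1
    · exact h
  have huu : u * u = 1 := by
    have hc : Commute (u * u) t := by
      have h1 : (u * u) * t * (u * u)⁻¹ = t := by
        calc (u * u) * t * (u * u)⁻¹ = u * (u * t * u⁻¹) * u⁻¹ := by group
          _ = u * t⁻¹ * u⁻¹ := by rw [hinv]
          _ = (u * t * u⁻¹)⁻¹ := by group
          _ = t := by rw [hinv, inv_inv]
      have : (u * u) * t = t * (u * u) := by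
        calc (u * u) * t = ((u * u) * t * (u * u)⁻¹) * (u * u) := by group
          _ = t * (u * u) := by rw [h1]
      exact this
    have h8 : (u * u) ^ 4 = 1 := by
      rw [← pow_two, ← pow_mul, show 2 * 4 = 4 * 2 from rfl, pow_mul, hu4, one_pow]
    rcases H.no6 (u * u) t hc h8 ht3 with h1 | h1
    · exact h1
    · exact absurd h1 ht1
  have hut : u * t = t⁻¹ * u := by
    calc u * t = (u * t * u⁻¹) * u := by group
      _ = t⁻¹ * u := by rw [hinv]
  have hut' : u * t⁻¹ = t * u := by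
    have : u * t⁻¹ * u⁻¹ = t := by
      calc u * t⁻¹ * u⁻¹ = (u * t * u⁻¹)⁻¹ := by group
        _ = t := by rw [hinv, inv_inv]
    calc u * t⁻¹ = (u * t⁻¹ * u⁻¹) * u := by group
      _ = t * u := by rw [this]
  have htu : (t * u) * (t * u) = 1 := by
    calc (t * u) * (t * u) = t * (u * t) * u := by group
      _ = t * (t⁻¹ * u) * u := by rw [hut]
      _ = u * u := by group
      _ = 1 := huu
  have htu' : (t⁻¹ * u) * (t⁻¹ * u) = 1 := by
    calc (t⁻¹ * u) * (t⁻¹ * u) = t⁻¹ * (u * t⁻¹) * u := by group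
      _ = t⁻¹ * (t * u) * u := by rw [hut']
      _ = u * u := by group
      _ = 1 := huu
  have htM : t ∈ M := le_sup_left (b := F) (Subgroup.mem_zpowers t)
  have hFM : F ≤ M := le_sup_right
  have hnotM : ∀ f ∈ F, ∀ v : G, v ∉ M → f * v ∉ M := by
    intro f hf v hv h
    exact hv ((Subgroup.mul_mem_cancel_left _ (hFM hf)).mp h)
  have hv1 : t * u ∉ M := fun h => huM ((Subgroup.mul_mem_cancel_left _ htM).mp h)
  have hv2 : t⁻¹ * u ∉ M := fun h => huM ((Subgroup.mul_mem_cancel_left _ (M.inv_mem htM)).mp h)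
  have hexp := Engel.exp_two_of_S3 F t u h4 (fun f hf => (H.cube_coset ht f hf).1)
    (fun f hf => (H.cube_coset ht f hf).2) huu htu htu'
    (fun f hf => hout _ (hnotM f hf u huM)) (fun f hf => hout _ (hnotM f hf _ hv1))
    (fun f hf => hout _ (hnotM f hf _ hv2))
  refine ⟨⟨⟨?_⟩⟩, hexp⟩
  rintro ⟨a, ha⟩ ⟨b, hb⟩
  apply Subtype.ext
  show a * b = b * a
  have ha2 : a * a = 1 := by rw [← pow_two]; exact hexp a ha
  have hb2 : b * b = 1 := by rw [← pow_two]; exact hexp b hb
  have hab2 : (a * b) * (a * b) = 1 := by rw [← pow_two]; exact hexp _ (F.mul_mem ha hb)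
  calc a * b = a * ((a * b) * (a * b)) * b := by rw [hab2, mul_one]
    _ = (a * a) * b * a * (b * b) := by group
    _ = b * a := by rw [ha2, hb2, one_mul, mul_one]

end Cfsg.Agent.Helper10.Ord4
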