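import Mathlib
import Cfsg.Agent.Helper10.Ord4Basic
import Cfsg.Agent.Helper10.Card
import Cfsg.Agent.Helper79.InvSylow
import Cfsg.Agent.Helper5.Q8Recog

set_option autoImplicit false

namespace Cfsg.Agent.Helper10.Ord4

/-- A finite group of exponent dividing four with a unique involution and an element of order
four has order `4` (and is cyclic) or order `8`. -/
theorem card_four_or_eight {P : Type*} [Group P] [Finite P] (h4 : ∀ g : P, g ^ 4 = 1) (x : P)
    (hx : orderOf x = 4) (huniq : ∀ a : P, a * a = 1 → a = 1 ∨ a = x ^ 2) :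
    (Nat.card P = 4 ∧ IsCyclic P) ∨ Nat.card P = 8 := by
  set z := x ^ 2 with hz
  have hx4 : x ^ 4 = 1 := h4 x
  have hz1 : z ≠ 1 := by
    intro h
    have : orderOf x ∣ 2 := orderOf_dvd_of_pow_eq_one h
    rw [hx] at this
    omega
  have hzx : Commute z x := (Commute.refl x).pow_left 2
  have hzinv : x⁻¹ * x⁻¹ = z⁻¹ := by rw [hz, pow_two, mul_inv_rev]
  have hzz : z * z = 1 := by rw [hz, ← pow_add]; exact hx4
  have hzinv' : z⁻¹ = z := inv_eq_of_mul_eq_one_left hzz
  -- squares of the other elements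
  have hsq : ∀ g : P, g ≠ 1 → g ≠ z → g * g = z := by
    intro g hg1 hgz
    have h1 : (g * g) * (g * g) = 1 := by
      have := h4 g
      rw [show (4 : ℕ) = 2 + 2 from rfl, pow_add, pow_two] at this
      exact this
    rcases huniq _ h1 with h | h
    · rcases huniq g h with h' | h'
      · exact absurd h' hg1
      · exact absurd h' hgz
    · exact h
  set H := Subgroup.zpowers x with hH
  have hHcard : Nat.card H = 4 := by rw [Nat.card_zpowers, hx]
  have hxH : x ∈ H := Subgroup.mem_zpowers x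
  have hzH : z ∈ H := H.pow_mem hxH 2
  -- centralizer of x is H
  have hcent : ∀ c : P, Commute c x → c ∈ H := by
    intro c hc
    by_cases hc1 : c = 1
    · rw [hc1]; exact H.one_mem
    by_cases hcz : c = z
    · rw [hcz]; exact hzH
    have hcc := hsq c hc1 hcz
    have h1 : (c * x⁻¹) * (c * x⁻¹) = 1 := by
      have hcx : Commute c x⁻¹ := hc.inv_right
      calc (c * x⁻¹) * (c * x⁻¹) = c * (x⁻¹ * c) * x⁻¹ := by group
        _ = c * (c * x⁻¹) * x⁻¹ := by rw [hcx.eq]
        _ = (c * c) * (x⁻¹ * x⁻¹) := by group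
        _ = 1 := by rw [hcc, hzinv, mul_inv_cancel]
    rcases huniq _ h1 with h | h
    · have : c = x := by
        have := mul_inv_eq_one.mp h
        exact this
      rw [this]; exact hxH
    · have : c = z * x := by
        rw [← h]; group
      rw [this]; exact H.mul_mem hzH hxH
  -- non-commuting elements invert x
  have hinv : ∀ g : P, ¬ Commute g x → g * x * g⁻¹ = x⁻¹ := by
    intro g hg
    have hg1 : g ≠ 1 := fun h => hg (h ▸ Commute.one_left x)
    have hgz : g ≠ z := fun h => hg (h ▸ hzx)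
    have hgg := hsq g hg1 hgz
    have hgx1 : g * x ≠ 1 := by
      intro h
      apply hg
      have : g = x⁻¹ := eq_inv_of_mul_eq_one_left h
      rw [this]; exact (Commute.refl x).inv_left
    have hgxz : g * x ≠ z := by
      intro h
      apply hg
      have : g = x := by
        have h1 : g = z * x⁻¹ := by rw [← h]; group
        rw [h1, hz, pow_two]; group
      rw [this]
    have h2 := hsq _ hgx1 hgxz
    -- g x g x = z = g g, so x g x = g
    have h3 : x * g * x = g := by
      have : g * (x * g * x) = g * g := by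
        rw [hgg, ← h2]; group
      exact mul_left_cancel this
    calc g * x * g⁻¹ = x⁻¹ * (x * g * x) * g⁻¹ := by group
      _ = x⁻¹ * g * g⁻¹ := by rw [h3]
      _ = x⁻¹ := by group
  by_cases htop : H = ⊤
  · left
    have hcard : Nat.card P = 4 := by
      rw [← hHcard, htop, Subgroup.card_top]
    refine ⟨hcard, ?_⟩
    exact isCyclic_of_orderOf_eq_card x (by rw [hx, hcard])
  · right
    obtain ⟨a, ha⟩ : ∃ a : P, a ∉ H := by
      by_contra hcon
      push Not at hcon
      exact htop (eq_top_iff.mpr fun g _ => hcon g)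
    have hax : ¬ Commute a x := fun h => ha (hcent a h)
    have hidx : H.index = 2 := by
      rw [Subgroup.index_eq_two_iff]
      refine ⟨a, fun b => ?_⟩
      by_cases hb : b ∈ H
      · right
        exact ⟨hb, fun h => ha ((Subgroup.mul_mem_cancel_left _ hb).mp h)⟩
      · left
        refine ⟨?_, hb⟩
        have hbx : ¬ Commute b x := fun h => hb (hcent b h)
        apply hcent
        have h1 : (b * a) * x * (b * a)⁻¹ = x := by
          calc (b * a) * x * (b * a)⁻¹ = b * (a * x * a⁻¹) * b⁻¹ := by group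
            _ = b * x⁻¹ * b⁻¹ := by rw [hinv a hax]
            _ = (b * x * b⁻¹)⁻¹ := by group
            _ = x := by rw [hinv b hbx, inv_inv]
        have : (b * a) * x = x * (b * a) := by
          calc (b * a) * x = ((b * a) * x * (b * a)⁻¹) * (b * a) := by group
            _ = x * (b * a) := by rw [h1]
        exact this
    rw [← Subgroup.card_mul_index H, hHcard, hidx]


variable {G : Type*} [Group G] [Finite G]

instance pCore_normal'' (p : ℕ) : (Cfsg.pCore p G).Normal :=
  have := Cfsg.Agent.Lib.pCore_characteristic (G := G) p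
  inferInstance

theorem Hyp.exists_invol (H : Hyp G) : ∃ z : G, z * z = 1 ∧ z ≠ 1 := by
  obtain ⟨z, hz⟩ := H.ex2
  refine ⟨z, ?_, ?_⟩
  · rw [← pow_two, ← hz]; exact pow_orderOf_eq_one z
  · intro h; rw [h, orderOf_one] at hz; omega

section B
variable (H : Hyp G) (hF : Cfsg.pCore 3 G ≠ ⊥)
include H hF

theorem Hyp.inverts {s : G} (hs : s * s = 1) (hs1 : s ≠ 1) :
    ∀ f ∈ Cfsg.pCore 3 G, s * f * s⁻¹ = f⁻¹ := by
  have hFp : IsPGroup 3 (Cfsg.pCore 3 G) := Cfsg.Agent.Lib.isPGroup_pCore 3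
  have hn : (Cfsg.pCore 3 G).Normal := inferInstance
  apply Cfsg.Agent.Helper79.inverts_of_fpf hs (fun k hk => hn.conj_mem k hk s)
  intro k hk hfix
  have hc : Commute s k := by
    have : s * k = k * s := by
      calc s * k = (s * k * s⁻¹) * s := by group
        _ = k * s := by rw [hfix]
    exact this
  have hs4 : s ^ 4 = 1 := by
    have : s ^ 4 = (s * s) ^ 2 := by rw [← pow_two, ← pow_mul]
    rw [this, hs, one_pow]
  rcases H.no6 s k hc hs4 (H.pow_three_of_mem hFp hk) with h | h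
  · exact absurd h hs1
  · exact h

theorem Hyp.pCore_three_comm : ∀ a ∈ Cfsg.pCore 3 G, ∀ b ∈ Cfsg.pCore 3 G, a * b = b * a := by
  obtain ⟨z, hz, hz1⟩ := H.exists_invol
  exact Cfsg.Agent.Helper79.commute_of_inverts (H.inverts hF hz hz1)

theorem Hyp.centralizer_le : Subgroup.centralizer ((Cfsg.pCore 3 G : Subgroup G) : Set G) ≤
    Cfsg.pCore 3 G := by
  have hFp : IsPGroup 3 (Cfsg.pCore 3 G) := Cfsg.Agent.Lib.isPGroup_pCore 3
  set C := Subgroup.centralizer ((Cfsg.pCore 3 G : Subgroup G) : Set G) with hC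
  have hCn : C.Normal := Subgroup.normal_centralizer
  obtain ⟨f, hfF, hf1⟩ : ∃ f ∈ Cfsg.pCore 3 G, f ≠ 1 := by
    by_contra hcon
    push Not at hcon
    exact hF ((Subgroup.eq_bot_iff_forall _).mpr hcon)
  have hf3 : f ^ 3 = 1 := H.pow_three_of_mem hFp hfF
  have hc3 : ∀ c ∈ C, c ^ 3 = 1 := by
    intro c hc
    rcases H.pow c with h | h
    · have hcf : Commute c f := (Subgroup.mem_centralizer_iff.mp hc f hfF).symm
      rcases H.no6 c f hcf h hf3 with h1 | h1
      · rw [h1, one_pow]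
      · exact absurd h1 hf1
    · exact h
  have hCp : IsPGroup 3 C := by
    intro c
    refine ⟨1, Subtype.ext ?_⟩
    simpa using hc3 c c.2
  exact Cfsg.Agent.Lib.le_pCore hCn hCp

theorem Hyp.mem_pCore_three {x : G} (hx : x ^ 3 = 1) : x ∈ Cfsg.pCore 3 G := by
  set F := Cfsg.pCore 3 G with hFdef
  have hFp : IsPGroup 3 F := Cfsg.Agent.Lib.isPGroup_pCore 3
  have hn : F.Normal := inferInstance
  obtain ⟨z, hz, hz1⟩ := H.exists_invol
  have hinv := H.inverts hF hz hz1
  have hzinv : z⁻¹ = z := inv_eq_of_mul_eq_one_left hz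
  have hinv' : ∀ f ∈ F, z⁻¹ * f * z = f⁻¹ := by
    intro f hf
    have := hinv f hf
    rw [hzinv] at this ⊢
    exact this
  -- k = [z, x] centralizes F
  set k := z * x * z⁻¹ * x⁻¹ with hk
  have hkC : k ∈ Subgroup.centralizer (F : Set G) := by
    rw [Subgroup.mem_centralizer_iff]
    intro f hf
    have hf1 : x⁻¹ * f * x ∈ F := by
      have := hn.conj_mem f hf x⁻¹
      simpa using this
    have h1 : k * f * k⁻¹ = f := by
      calc k * f * k⁻¹ = z * (x * (z⁻¹ * (x⁻¹ * f * x) * z) * x⁻¹) * z⁻¹ := by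
            rw [hk]; group
        _ = z * (x * (x⁻¹ * f * x)⁻¹ * x⁻¹) * z⁻¹ := by rw [hinv' _ hf1]
        _ = z * f⁻¹ * z⁻¹ := by group
        _ = f := by rw [hinv _ (F.inv_mem hf), inv_inv]
    calc f * k = (k * f * k⁻¹) * k := by rw [h1]
      _ = k * f := by group
  have hkF : k ∈ F := H.centralizer_le hF hkC
  -- X = F ⊔ ⟨x⟩
  set X : Subgroup G := F ⊔ Subgroup.zpowers x with hX
  have hzp : IsPGroup 3 (Subgroup.zpowers x) := by
    rintro ⟨y, hy⟩
    obtain ⟨j, rfl⟩ := Subgroup.mem_zpowers_iff.mp hy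
    refine ⟨1, Subtype.ext ?_⟩
    show (x ^ j) ^ 3 ^ 1 = 1
    rw [pow_one, ← zpow_natCast, ← zpow_mul, mul_comm, zpow_mul, zpow_natCast, hx, one_zpow]
  have hXp : IsPGroup 3 X := IsPGroup.to_sup_of_normal_left hFp hzp
  have hxX : x ∈ X := le_sup_right (a := F) (Subgroup.mem_zpowers x)
  have hFX : F ≤ X := le_sup_left
  have hzX : ∀ y ∈ X, z * y * z⁻¹ ∈ X := by
    have hmap : X.map (MulAut.conj z).toMonoidHom ≤ X := by
      rw [hX, Subgroup.map_sup]
      apply sup_le
      · rintro _ ⟨f, hf, rfl⟩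
        exact hFX (hn.conj_mem f hf z)
      · rw [MonoidHom.map_zpowers, Subgroup.zpowers_le]
        have : (MulAut.conj z).toMonoidHom x = k * x := by
          simp [hk, MulAut.conj_apply]
        rw [this]
        exact X.mul_mem (hFX hkF) hxX
    intro y hy
    exact hmap ⟨y, hy, by simp [MulAut.conj_apply]⟩
  have hfix : ∀ y ∈ X, z * y * z⁻¹ = y → y = 1 := by
    intro y hy hfixy
    have hc : Commute z y := by
      have : z * y = y * z := by
        calc z * y = (z * y * z⁻¹) * z := by group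
          _ = y * z := by rw [hfixy]
      exact this
    have hz4 : z ^ 4 = 1 := by
      have : z ^ 4 = (z * z) ^ 2 := by rw [← pow_two, ← pow_mul]
      rw [this, hz, one_pow]
    rcases H.no6 z y hc hz4 (H.pow_three_of_mem hXp hy) with h | h
    · exact absurd h hz1
    · exact h
  have hXinv := Cfsg.Agent.Helper79.inverts_of_fpf hz hzX hfix
  have hXcomm := Cfsg.Agent.Helper79.commute_of_inverts hXinv
  apply H.centralizer_le hF
  rw [Subgroup.mem_centralizer_iff]
  intro f hf
  exact hXcomm f (hFX hf) x hxX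


theorem Hyp.caseB : Cfsg.IsElementaryAbelian 3 (Cfsg.pCore 3 G) ∧
    ((IsCyclic (G ⧸ Cfsg.pCore 3 G) ∧ (Cfsg.pCore 3 G).index = 4) ∨
      Nonempty (G ⧸ Cfsg.pCore 3 G ≃* QuaternionGroup 2)) := by
  classical
  have : Fact (Nat.Prime 2) := ⟨Nat.prime_two⟩
  have : Fact (Nat.Prime 3) := ⟨Nat.prime_three⟩
  set F := Cfsg.pCore 3 G with hFdef
  have hFp : IsPGroup 3 F := Cfsg.Agent.Lib.isPGroup_pCore 3
  have hn : F.Normal := inferInstance
  have h3 : ∀ a ∈ F, a ^ 3 = 1 := fun a ha => H.pow_three_of_mem hFp ha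
  have hcomm := H.pCore_three_comm hF
  refine ⟨⟨⟨⟨fun a b => Subtype.ext (hcomm a a.2 b b.2)⟩⟩, h3⟩, ?_⟩
  -- Sylow 2-subgroup containing an element of order 4
  obtain ⟨g, hg⟩ := H.ex4
  have hg4 : g ^ 4 = 1 := hg ▸ pow_orderOf_eq_one g
  have hzp : IsPGroup 2 (Subgroup.zpowers g) := by
    rintro ⟨y, hy⟩
    obtain ⟨j, rfl⟩ := Subgroup.mem_zpowers_iff.mp hy
    refine ⟨2, Subtype.ext ?_⟩
    show (g ^ j) ^ 2 ^ 2 = 1
    rw [← zpow_natCast, ← zpow_mul, mul_comm, zpow_mul, zpow_natCast]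
    norm_num
    rw [hg4, one_zpow]
  obtain ⟨S, hgS⟩ := hzp.exists_le_sylow
  have hgS' : g ∈ (S : Subgroup G) := hgS (Subgroup.mem_zpowers g)
  -- F is the Sylow 3-subgroup
  obtain ⟨Q⟩ : Nonempty (Sylow 3 G) := inferInstance
  have hQF : (Q : Subgroup G) ≤ F := fun x hx =>
    H.mem_pCore_three hF (H.pow_three_of_mem Q.isPGroup' hx)
  have hFQ : F = (Q : Subgroup G) := Q.is_maximal' hFp hQF
  have hFidx : ¬ 3 ∣ F.index := by rw [hFQ]; exact Q.not_dvd_index
  -- S ∩ F = 1
  have hcop : (Nat.card (S : Subgroup G)).Coprime (Nat.card F) := by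
    obtain ⟨a, ha⟩ := IsPGroup.iff_card.mp S.isPGroup'
    obtain ⟨b, hb⟩ := IsPGroup.iff_card.mp hFp
    rw [ha, hb]
    exact Nat.Coprime.pow a b (by norm_num)
  have hSF : (S : Subgroup G) ⊓ F = ⊥ := (Subgroup.disjoint_of_coprime_natCard hcop).eq_bot
  have hle : (S : Subgroup G) ≤ Subgroup.normalizer ((F : Subgroup G) : Set G) := by
    rw [Subgroup.normalizer_eq_top]; exact le_top
  have hcard1 := card_sup_mul_card_inf (S : Subgroup G) F hle
  rw [hSF, Subgroup.card_bot, mul_one] at hcard1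
  have htop : (S : Subgroup G) ⊔ F = ⊤ := by
    rw [← Subgroup.index_eq_one, Nat.eq_one_iff_not_exists_prime_dvd]
    intro p hp hdvd
    rcases H.prime_dvd hp (hdvd.trans (Subgroup.index_dvd_card _)) with rfl | rfl
    · exact S.not_dvd_index (hdvd.trans (Subgroup.index_dvd_of_le le_sup_left))
    · exact hFidx (hdvd.trans (Subgroup.index_dvd_of_le le_sup_right))
  have hidx : F.index = Nat.card (S : Subgroup G) := by
    have h1 := Subgroup.card_mul_index F
    rw [← Subgroup.card_top (G := G), ← htop, hcard1] at h1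
    have hpos : 0 < Nat.card F := Nat.card_pos
    nlinarith
  -- the isomorphism S ≃* G ⧸ F
  set ψ : (S : Subgroup G) →* G ⧸ F := (QuotientGroup.mk' F).comp (S : Subgroup G).subtype with hψ
  have hψinj : Function.Injective ψ := by
    rw [injective_iff_map_eq_one]
    intro s hs
    have hsF : (s : G) ∈ F := by
      have : (QuotientGroup.mk' F) (s : G) = 1 := hs
      rwa [QuotientGroup.mk'_apply, QuotientGroup.eq_one_iff] at this
    have : (s : G) ∈ (S : Subgroup G) ⊓ F := ⟨s.2, hsF⟩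
    rw [hSF, Subgroup.mem_bot] at this
    exact Subtype.ext this
  have hψbij : Function.Bijective ψ := by
    rw [Nat.bijective_iff_injective_and_card]
    refine ⟨hψinj, ?_⟩
    rw [← hidx]; rfl
  let e : (S : Subgroup G) ≃* G ⧸ F := MulEquiv.ofBijective ψ hψbij
  -- structure of S
  have h4 : ∀ a : (S : Subgroup G), a ^ 4 = 1 := fun a =>
    Subtype.ext (by simpa using H.pow_four_of_mem S.isPGroup' a.2)
  set x : (S : Subgroup G) := ⟨g, hgS'⟩ with hx
  have hxo : orderOf x = 4 := by rw [hx, Subgroup.orderOf_mk, hg]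
  have hz2 : (g ^ 2) * (g ^ 2) = 1 := by rw [← pow_add]; exact hg4
  have hz1 : g ^ 2 ≠ 1 := by
    intro h
    have : orderOf g ∣ 2 := orderOf_dvd_of_pow_eq_one h
    rw [hg] at this; omega
  have hinvz := H.inverts hF hz2 hz1
  have huniq : ∀ a : (S : Subgroup G), a * a = 1 → a = 1 ∨ a = x ^ 2 := by
    intro a ha
    by_cases ha1 : a = 1
    · exact Or.inl ha1
    right
    have ha' : (a : G) * (a : G) = 1 := by simpa using congrArg Subtype.val ha
    have ha1' : (a : G) ≠ 1 := fun h => ha1 (Subtype.ext h)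
    have hinva := H.inverts hF ha' ha1'
    have hcen : (a : G) * g ^ 2 ∈ Subgroup.centralizer ((F : Subgroup G) : Set G) := by
      rw [Subgroup.mem_centralizer_iff]
      intro f hf
      have h1 : ((a : G) * g ^ 2) * f * ((a : G) * g ^ 2)⁻¹ = f := by
        calc ((a : G) * g ^ 2) * f * ((a : G) * g ^ 2)⁻¹
            = (a : G) * (g ^ 2 * f * (g ^ 2)⁻¹) * (a : G)⁻¹ := by group
          _ = (a : G) * f⁻¹ * (a : G)⁻¹ := by rw [hinvz f hf]
          _ = f := by rw [hinva _ (F.inv_mem hf), inv_inv]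
      calc f * ((a : G) * g ^ 2) = (((a : G) * g ^ 2) * f * ((a : G) * g ^ 2)⁻¹) * ((a : G) * g ^ 2) := by
            rw [h1]
        _ = ((a : G) * g ^ 2) * f := by group
    have hmemF := H.centralizer_le hF hcen
    have hmemS : (a : G) * g ^ 2 ∈ (S : Subgroup G) :=
      Subgroup.mul_mem _ a.2 (Subgroup.pow_mem _ hgS' 2)
    have h1 : (a : G) * g ^ 2 ∈ (S : Subgroup G) ⊓ F := ⟨hmemS, hmemF⟩
    rw [hSF, Subgroup.mem_bot] at h1
    apply Subtype.ext
    have h2 : (a : G) = (g ^ 2)⁻¹ := eq_inv_of_mul_eq_one_left h1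
    have h3 : (g ^ 2)⁻¹ = g ^ 2 := inv_eq_of_mul_eq_one_left hz2
    rw [h2, h3]
    simp [hx]
  rcases card_four_or_eight h4 x hxo huniq with ⟨hc4, hcyc⟩ | hc8
  · left
    refine ⟨?_, by rw [hidx]; exact hc4⟩
    exact isCyclic_of_surjective e.toMonoidHom e.surjective
  · right
    have huniq' : ∀ a : (S : Subgroup G), a ^ 2 = 1 → a = 1 ∨ a = x ^ 2 := by
      intro a ha
      exact huniq a (by rw [← pow_two]; exact ha)
    obtain ⟨e8⟩ := Cfsg.Agent.Helper5.quaternion_of_unique_involution hc8 (x ^ 2) huniq' h4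
    exact ⟨e.symm.trans e8⟩

end B

end Cfsg.Agent.Helper10.Ord4
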