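import Mathlib
import Cfsg.Agent.Helper17.SylowKit
import Cfsg.Agent.Helper20.Fpf
import Cfsg.Agent.Helper31.Fpf7920
import Cfsg.Agent.Helper9.FratIdx

set_option autoImplicit false

namespace Cfsg.Agent.Helper10.Ord7920

open Subgroup Cfsg.Agent.Helper17 Cfsg.Agent.Helper20.Fpf Cfsg.Agent.Helper31.Fpf7920
  Cfsg.Agent.Helper9.FratIdx

universe u

variable {G : Type u} [Group G] [Finite G]

/-- If `K` has prime order `p` and there is no element of order `p * s`, then `s` does not divide
`|C_G(K)|`. -/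
theorem not_dvd_card_centralizer {p s : ℕ} [Fact p.Prime] [Fact s.Prime] (hps : p ≠ s)
    (hno : ∀ g : G, orderOf g ≠ p * s) (K : Subgroup G) (hK : Nat.card K = p) :
    ¬ s ∣ Nat.card (centralizer (K : Set G)) := by
  intro hs
  obtain ⟨z, hz⟩ := exists_prime_orderOf_dvd_card' s hs
  obtain ⟨x, hx⟩ := exists_prime_orderOf_dvd_card' (G := K) p (hK ▸ dvd_rfl)
  have hcomm : Commute (x : G) (z : G) := (Subgroup.mem_centralizer_iff.1 z.2 x x.2)
  have hxo : orderOf (x : G) = p := by rw [Subgroup.orderOf_coe]; exact hx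
  have hzo : orderOf (z : G) = s := by rw [Subgroup.orderOf_coe]; exact hz
  have hp : p.Prime := Fact.out
  have hsp : s.Prime := Fact.out
  have hcop : Nat.Coprime (orderOf (x : G)) (orderOf (z : G)) := by
    rw [hxo, hzo]; exact (Nat.coprime_primes hp hsp).2 hps
  have := hcomm.orderOf_mul_eq_mul_orderOf_of_coprime hcop
  rw [hxo, hzo] at this
  exact hno _ this

omit [Finite G] in
/-- `|H.subgroupOf K| = |H ⊓ K|`. -/
theorem card_subgroupOf_eq (H K : Subgroup G) :
    Nat.card (H.subgroupOf K) = Nat.card (H ⊓ K : Subgroup G) := by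
  rw [← Subgroup.inf_subgroupOf_right H K]
  exact Nat.card_congr (Subgroup.subgroupOfEquivOfLe (inf_le_right : H ⊓ K ≤ K)).toEquiv

local instance fact_prime_5 : Fact (Nat.Prime 5) := ⟨by norm_num⟩
local instance fact_prime_11 : Fact (Nat.Prime 11) := ⟨by norm_num⟩

theorem card_sylow5 (hG : Nat.card G = 7920) (P : Sylow 5 G) : Nat.card (P : Subgroup G) = 5 := by
  have := card_sylow_subgroup_of_card_eq (p := 5) (k := 1) (m := 1584) (by rw [hG]; norm_num) (by norm_num) P
  simpa using this

/-- `|N_G(P)| = 20` for a Sylow 5-subgroup. -/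
theorem card_normalizer_sylow5 (hG : Nat.card G = 7920) (h10 : ∀ g : G, orderOf g ≠ 10)
    (h15 : ∀ g : G, orderOf g ≠ 15) (h55 : ∀ g : G, orderOf g ≠ 55) (P : Sylow 5 G) :
    Nat.card (normalizer ((P : Subgroup G) : Set G)) = 20 := by
  have hP5 := card_sylow5 hG P
  have hc2 : ¬ 2 ∣ Nat.card (centralizer ((P : Subgroup G) : Set G)) :=
    not_dvd_card_centralizer (p := 5) (s := 2) (by norm_num) h10 _ hP5
  have hc3 : ¬ 3 ∣ Nat.card (centralizer ((P : Subgroup G) : Set G)) :=
    not_dvd_card_centralizer (p := 5) (s := 3) (by norm_num) h15 _ hP5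
  have hc11 : ¬ 11 ∣ Nat.card (centralizer ((P : Subgroup G) : Set G)) :=
    not_dvd_card_centralizer (p := 5) (s := 11) (by norm_num) h55 _ hP5
  have hcd : Nat.card (centralizer ((P : Subgroup G) : Set G)) ∣ 7920 :=
    hG ▸ Subgroup.card_subgroup_dvd_card _
  obtain ⟨hf4, h5f⟩ := relIndex_dvd_of_card_sylow_prime P hP5
  have hcf := card_centralizer_mul_relIndex (P : Subgroup G)
  have hn := card_normalizer_mul_card_sylow P
  have hmod := card_sylow_modEq_one 5 G
  rw [hG] at hn
  set c := Nat.card (centralizer ((P : Subgroup G) : Set G)) with hc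
  set f := (centralizer ((P : Subgroup G) : Set G)).relIndex (normalizer ((P : Subgroup G) : Set G))
    with hf
  set n5 := Nat.card (Sylow 5 G) with hn5
  -- `c = 5`
  have h5c : 5 ∣ c := by
    have hdvd : 5 * f ∣ c * f := hcf ▸ h5f
    have hf0 : 0 < f := by
      rcases Nat.eq_zero_or_pos f with h | h
      · rw [h] at hf4; simp at hf4
      · exact h
    exact Nat.dvd_of_mul_dvd_mul_right hf0 hdvd
  have hcop : Nat.Coprime c 1584 := by
    have h2 : Nat.Coprime c 2 := ((Nat.Prime.coprime_iff_not_dvd Nat.prime_two).2 hc2).symm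
    have h3 : Nat.Coprime c 3 := ((Nat.Prime.coprime_iff_not_dvd Nat.prime_three).2 hc3).symm
    have h11 : Nat.Coprime c 11 :=
      ((Nat.Prime.coprime_iff_not_dvd (by norm_num : Nat.Prime 11)).2 hc11).symm
    have : (1584 : ℕ) = 2 ^ 4 * (3 ^ 2 * 11) := by norm_num
    rw [this]
    exact (h2.pow_right 4).mul_right ((h3.pow_right 2).mul_right h11)
  have hc5 : c ∣ 5 := hcop.dvd_of_dvd_mul_left (by norm_num at hcd ⊢; exact hcd)
  have hceq : c = 5 := Nat.dvd_antisymm hc5 h5c
  have hf_le : f ≤ 4 := Nat.le_of_dvd (by norm_num) hf4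
  have hmod' : n5 % 5 = 1 := hmod
  rw [← hcf, hceq] at hn ⊢
  interval_cases f
  · omega
  · omega
  · omega
  · omega
  · rfl


/-- No normal subgroup of order 11. -/
theorem no_normal_11 (hG : Nat.card G = 7920) (h15 : ∀ g : G, orderOf g ≠ 15)
    (h55 : ∀ g : G, orderOf g ≠ 55) (K : Subgroup G) [hKn : K.Normal] (hK : Nat.card K = 11) :
    False := by
  have : Fact (Nat.card K).Prime := ⟨hK.symm ▸ (by norm_num : Nat.Prime 11)⟩
  have hcyc : IsCyclic K := isCyclic_of_prime_card (p := Nat.card K) rfl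
  have hidx : (centralizer (K : Set G)).index ∣ 10 := by
    have h := relIndex_centralizer_normalizer_dvd_card_mulAut K
    rw [Subgroup.normalizer_eq_top_iff.2 hKn, Subgroup.relIndex_top_right, IsCyclic.card_mulAut,
      hK] at h
    have ht : Nat.totient 11 = 10 := Nat.totient_prime (by norm_num)
    rwa [ht] at h
  have hc5 : ¬ 5 ∣ Nat.card (centralizer (K : Set G)) :=
    not_dvd_card_centralizer (p := 11) (s := 5) (by norm_num) h55 K hK
  have hmul := Subgroup.card_mul_index (centralizer (K : Set G))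
  rw [hG] at hmul
  have h5i : 5 ∣ (centralizer (K : Set G)).index := by
    have h5 : 5 ∣ Nat.card (centralizer (K : Set G)) * (centralizer (K : Set G)).index := by
      rw [hmul]; norm_num
    rcases (Nat.Prime.dvd_mul (by norm_num : Nat.Prime 5)).1 h5 with h | h
    · exact absurd h hc5
    · exact h
  have h15' : ∀ g : G, orderOf g ≠ 5 * 3 := h15
  generalize hi : (centralizer (K : Set G)).index = i at hidx hmul h5i
  generalize hc : Nat.card (centralizer (K : Set G)) = c at hmul hc5
  have hile : i ≤ 10 := Nat.le_of_dvd (by norm_num) hidx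
  have hcases : i = 5 ∨ i = 10 := by
    interval_cases i <;> omega
  rcases hcases with h | h
  · have hcc : c = 3 ^ 2 * 176 := by rw [h] at hmul; omega
    have := frat_pow_dvd (centralizer (K : Set G)) (q := 5) (r := 3) (by norm_num) h15' 1
      (by rw [hi, h]; norm_num) 2 176 (hc.trans hcc) (by norm_num)
    norm_num at this
  · have hcc : c = 3 ^ 2 * 88 := by rw [h] at hmul; omega
    have := frat_pow_dvd (centralizer (K : Set G)) (q := 5) (r := 3) (by norm_num) h15' 1
      (by rw [hi, h]; norm_num) 2 88 (hc.trans hcc) (by norm_num)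
    norm_num at this


/-- Case `5 ∣ |N|`. -/
theorem card_eq_3960_of_five_dvd (hG : Nat.card G = 7920) (h10 : ∀ g : G, orderOf g ≠ 10)
    (h15 : ∀ g : G, orderOf g ≠ 15) (h55 : ∀ g : G, orderOf g ≠ 55) (N : Subgroup G)
    [hN : N.Normal] (htop : N ≠ ⊤) (h5 : 5 ∣ Nat.card N) : Nat.card N = 3960 := by
  obtain ⟨P⟩ : Nonempty (Sylow 5 G) := inferInstance
  have hP5 := card_sylow5 hG P
  have hPN : (P : Subgroup G) ≤ N := sylow_le_normal N P (hP5.symm ▸ h5)
  have hfr := frattini_index N P hPN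
  rw [card_normalizer_sylow5 hG h10 h15 h55 P] at hfr
  have hmul := Subgroup.card_mul_index N
  rw [hG] at hmul
  have hi1 : N.index ≠ 1 := fun h => htop (Subgroup.index_eq_one.1 h)
  have h5k : 5 ∣ Nat.card (normalizer ((P : Subgroup G) : Set G) ⊓ N : Subgroup G) := by
    have hle : (P : Subgroup G) ≤ normalizer ((P : Subgroup G) : Set G) ⊓ N :=
      le_inf Subgroup.le_normalizer hPN
    have := Subgroup.card_dvd_of_le hle
    rwa [hP5] at this
  generalize hk : Nat.card (normalizer ((P : Subgroup G) : Set G) ⊓ N : Subgroup G) = k at hfr h5k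
  generalize hi : N.index = i at hfr hmul hi1
  generalize hn : Nat.card N = n at hmul
  obtain ⟨k', rfl⟩ := h5k
  have hik : i * k' = 4 := by nlinarith
  have hi4 : i ∣ 4 := Dvd.intro _ hik
  have hile : i ≤ 4 := Nat.le_of_dvd (by norm_num) hi4
  have hcases : i = 2 ∨ i = 4 := by
    interval_cases i <;> omega
  rcases hcases with h | h
  · rw [h] at hmul; omega
  · exfalso
    rw [h] at hmul hik
    have hk1 : k' = 1 := by omega
    have hn1980 : n = 1980 := by omega
    subst hk1
    -- the Sylow 5-subgroup of `N`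
    have hno : ∀ g : N, orderOf g ≠ 5 * 2 := fun g hg => h10 (g : G) (by
      rw [Subgroup.orderOf_coe]; exact hg)
    have hP'card : Nat.card ((P.subtype hPN : Sylow 5 N) : Subgroup N) = 5 := by
      rw [Sylow.coe_subtype, card_subgroupOf_eq, inf_of_le_left hPN, hP5]
    have hab : ∀ a ∈ ((P.subtype hPN : Sylow 5 N) : Subgroup N),
        ∀ b ∈ ((P.subtype hPN : Sylow 5 N) : Subgroup N), a * b = b * a := by
      have : Fact (Nat.card ((P.subtype hPN : Sylow 5 N) : Subgroup N)).Prime :=
        ⟨hP'card.symm ▸ (by norm_num : Nat.Prime 5)⟩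
      have hcyc : IsCyclic ((P.subtype hPN : Sylow 5 N) : Subgroup N) :=
        isCyclic_of_prime_card (p := Nat.card ((P.subtype hPN : Sylow 5 N) : Subgroup N)) rfl
      intro a ha b hb
      let _ := hcyc.commGroup
      have := mul_comm (⟨a, ha⟩ : ((P.subtype hPN : Sylow 5 N) : Subgroup N)) ⟨b, hb⟩
      exact congrArg Subtype.val this
    have hself : Nat.card (normalizer (((P.subtype hPN : Sylow 5 N) : Subgroup N) : Set N)) =
        Nat.card ((P.subtype hPN : Sylow 5 N) : Subgroup N) := by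
      rw [hP'card, Sylow.coe_subtype, ← Subgroup.subgroupOf_normalizer_eq hPN, card_subgroupOf_eq,
        hk]
    have := burnside_fpf (N := N) (p := 5) (r := 2) (by norm_num) hno (P.subtype hPN) hab hself
      2 495 (by rw [hn, hn1980]; norm_num) (by norm_num)
    rw [hP'card] at this
    norm_num at this


theorem exists_split {n r : ℕ} (hr : r.Prime) (hn : n ≠ 0) (hrn : r ∣ n) :
    ∃ a m, 1 ≤ a ∧ n = r ^ a * m ∧ ¬ r ∣ m := by
  obtain ⟨a, m, hm, hnm⟩ := Nat.exists_eq_pow_mul_and_not_dvd hn r hr.ne_one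
  refine ⟨a, m, ?_, hnm, hm⟩
  rcases Nat.eq_zero_or_pos a with h | h
  · subst h; rw [pow_zero, one_mul] at hnm; subst hnm; exact absurd hrn hm
  · exact h

omit [Finite G] in
theorem exists_orderOf_eq_of_dvd [Finite G] {g : G} {d : ℕ} (hd : d ∣ orderOf g) :
    ∃ x : G, orderOf x = d := by
  have hpos : 0 < orderOf g := orderOf_pos g
  have hd0 : 0 < d := Nat.pos_of_dvd_of_pos hd hpos
  refine ⟨g ^ (orderOf g / d), ?_⟩
  rw [orderOf_pow_of_dvd (Nat.div_pos (Nat.le_of_dvd hpos hd) hd0).ne' (Nat.div_dvd_of_dvd hd),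
    Nat.div_div_self hd hpos.ne']

/-- Case `5 ∤ |N|`. -/
theorem false_of_not_five_dvd (hG : Nat.card G = 7920) (h10 : ∀ g : G, orderOf g ≠ 10)
    (h15 : ∀ g : G, orderOf g ≠ 15) (h55 : ∀ g : G, orderOf g ≠ 55) (N : Subgroup G)
    [hN : N.Normal] (hbot : N ≠ ⊥) (h5 : ¬ 5 ∣ Nat.card N)
    (h495 : ∀ (H : Type u) [Group H] [Finite H], Nat.card H = 495 →
      (∃ g : H, orderOf g = 15) ∨ (∃ g : H, orderOf g = 55)) : False := by
  have hmul := Subgroup.card_mul_index N
  rw [hG] at hmul
  have h5i : 5 ^ 1 ∣ N.index := by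
    rw [pow_one]
    have : 5 ∣ Nat.card N * N.index := by rw [hmul]; norm_num
    exact ((Nat.Prime.dvd_mul (by norm_num)).1 this).resolve_left h5
  have hnd : Nat.card N ∣ 7920 := Dvd.intro _ hmul
  have hn0 : Nat.card N ≠ 0 := Nat.card_pos.ne'
  have h15' : ∀ g : G, orderOf g ≠ 5 * 3 := h15
  have h10' : ∀ g : G, orderOf g ≠ 5 * 2 := h10
  have h3 : ¬ 3 ∣ Nat.card N := by
    intro h3
    obtain ⟨a, m, ha, hnm, hm⟩ := exists_split Nat.prime_three hn0 h3
    have hfr := frat_pow_dvd N (q := 5) (r := 3) (by norm_num) h15' 1 h5i a m hnm hm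
    have ha2 : a ≤ 2 := by
      by_contra hlt
      push Not at hlt
      have : 3 ^ 3 ∣ 7920 := (pow_dvd_pow 3 hlt).trans ((Dvd.intro _ hnm.symm).trans hnd)
      norm_num at this
    interval_cases a <;> norm_num at hfr
  have h2 : 2 ∣ Nat.card N → 16 ∣ Nat.card N := by
    intro h2
    obtain ⟨a, m, ha, hnm, hm⟩ := exists_split Nat.prime_two hn0 h2
    have hfr := frat_pow_dvd N (q := 5) (r := 2) (by norm_num) h10' 1 h5i a m hnm hm
    have ha4 : a ≤ 4 := by
      by_contra hlt
      push Not at hlt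
      have : 2 ^ 5 ∣ 7920 := (pow_dvd_pow 2 hlt).trans ((Dvd.intro _ hnm.symm).trans hnd)
      norm_num at this
    interval_cases a
    · norm_num at hfr
    · norm_num at hfr
    · norm_num at hfr
    · rw [hnm]; exact Dvd.intro _ rfl
  have hcop : Nat.Coprime (Nat.card N) 45 := by
    have c3 : Nat.Coprime (Nat.card N) 3 :=
      ((Nat.Prime.coprime_iff_not_dvd Nat.prime_three).2 h3).symm
    have c5 : Nat.Coprime (Nat.card N) 5 :=
      ((Nat.Prime.coprime_iff_not_dvd (by norm_num)).2 h5).symm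
    have : (45 : ℕ) = 3 ^ 2 * 5 := by norm_num
    rw [this]; exact (c3.pow_right 2).mul_right c5
  have h176 : Nat.card N ∣ 176 := hcop.dvd_of_dvd_mul_left (by norm_num; exact hnd)
  have hn1 : Nat.card N ≠ 1 := fun h => hbot (Subgroup.card_eq_one.1 h)
  have hcases : Nat.card N = 11 ∨ Nat.card N = 16 ∨ Nat.card N = 176 := by
    generalize Nat.card N = n at h176 hn1 h2
    have hle : n ≤ 176 := Nat.le_of_dvd (by norm_num) h176
    interval_cases n <;> omega
  rcases hcases with hn | hn | hn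
  · exact no_normal_11 hG h15 h55 N hn
  · have hq : Nat.card (G ⧸ N) = 495 := by
      rw [← Subgroup.index_eq_card]; rw [hn] at hmul; omega
    rcases h495 _ hq with ⟨gb, hgb⟩ | ⟨gb, hgb⟩
    · obtain ⟨g, rfl⟩ := QuotientGroup.mk_surjective gb
      have hd : 15 ∣ orderOf g := hgb ▸ orderOf_map_dvd (QuotientGroup.mk' N) g
      obtain ⟨x, hx⟩ := exists_orderOf_eq_of_dvd hd
      exact h15 x hx
    · obtain ⟨g, rfl⟩ := QuotientGroup.mk_surjective gb
      have hd : 55 ∣ orderOf g := hgb ▸ orderOf_map_dvd (QuotientGroup.mk' N) g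
      obtain ⟨x, hx⟩ := exists_orderOf_eq_of_dvd hd
      exact h55 x hx
  · obtain ⟨Q⟩ : Nonempty (Sylow 11 N) := inferInstance
    have hQcard : Nat.card (Q : Subgroup N) = 11 := by
      have := card_sylow_subgroup_of_card_eq (p := 11) (k := 1) (m := 16)
        (by rw [hn]; norm_num) (by norm_num) Q
      simpa using this
    have hdvd : Nat.card (Sylow 11 N) ∣ 16 :=
      card_sylow_dvd_of_card_eq (p := 11) (k := 1) (m := 16) (by rw [hn]; norm_num) (by norm_num)
    have hmod : Nat.card (Sylow 11 N) % 11 = 1 := card_sylow_modEq_one 11 N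
    have h1 : Nat.card (Sylow 11 N) = 1 := by
      generalize Nat.card (Sylow 11 N) = k at hdvd hmod
      have : k ≤ 16 := Nat.le_of_dvd (by norm_num) hdvd
      interval_cases k <;> omega
    have : Subsingleton (Sylow 11 N) := (Nat.card_eq_one_iff_unique.mp h1).1
    have hQn : (Q : Subgroup N).Normal := Sylow.normal_of_subsingleton Q
    have hQc : (Q : Subgroup N).Characteristic := Sylow.characteristic_of_normal Q hQn
    have hRn : ((Q : Subgroup N).map N.subtype).Normal :=
      ConjAct.normal_of_characteristic_of_normal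
    have hRcard : Nat.card ((Q : Subgroup N).map N.subtype) = 11 := by
      rw [Subgroup.card_map_of_injective N.subtype_injective]; exact hQcard
    exact no_normal_11 hG h15 h55 _ hRcard

/-- (S-5) of #4202, with (S-495) as a hypothesis. -/
theorem index_two_of_5_isolated_of
    (h495 : ∀ (H : Type u) [Group H] [Finite H], Nat.card H = 495 →
      (∃ g : H, orderOf g = 15) ∨ (∃ g : H, orderOf g = 55))
    (hG : Nat.card G = 7920) (h10 : ∀ g : G, orderOf g ≠ 10)
    (h15 : ∀ g : G, orderOf g ≠ 15) (h55 : ∀ g : G, orderOf g ≠ 55) (N : Subgroup G)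
    (hN : N.Normal) (hbot : N ≠ ⊥) (htop : N ≠ ⊤) : Nat.card N = 3960 := by
  by_cases h5 : 5 ∣ Nat.card N
  · exact card_eq_3960_of_five_dvd hG h10 h15 h55 N htop h5
  · exact (false_of_not_five_dvd hG h10 h15 h55 N hbot h5 h495).elim

end Cfsg.Agent.Helper10.Ord7920
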