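import Mathlib
import Cfsg.Agent.Helper10.Ord7920S5
import Cfsg.Agent.Helper58.Ord495

set_option autoImplicit false

namespace Cfsg.Agent.Helper10.Ord7920

/-- (S-5) of #4202: in a group of order 7920 with no elements of order 10, 15, 55, every proper
nontrivial normal subgroup has order 3960. -/
theorem index_two_of_5_isolated {G : Type*} [Group G] [Finite G] (hG : Nat.card G = 7920) (h10 : ∀ g : G, orderOf g ≠ 10) (h15 : ∀ g : G, orderOf g ≠ 15) (h55 : ∀ g : G, orderOf g ≠ 55) (N : Subgroup G) (hN : N.Normal) (hbot : N ≠ ⊥) (htop : N ≠ ⊤) : Nat.card N = 3960 :=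
  index_two_of_5_isolated_of (fun _ _ _ h => Cfsg.Agent.Helper58.Ord495.exists_15_or_55 h)
    hG h10 h15 h55 N hN hbot htop

end Cfsg.Agent.Helper10.Ord7920
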