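import Mathlib
import Cfsg.Agent.Helper9.SupersolvableHall
import Cfsg.Agent.Helper10.OrderType

/-!
# Supersolvable groups satisfy `TowerCount` (helper10)
-/

set_option autoImplicit false

namespace Cfsg.Agent.Helper10.OrderType

universe u

/-- a finite supersolvable group has a Sylow tower by decreasing primes, so for every `t` its
`t`-large elements form the normal Hall subgroup for the primes `≥ t` -/
theorem towerCount_of_isSupersolvable : ∀ (n : ℕ) (X : Type u) [Group X] [Finite X],
    Nat.card X = n → Cfsg.IsSupersolvable X → TowerCount X := by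
  intro n
  induction n using Nat.strong_induction_on with
  | _ n ih =>
  intro X _ _ hn hX
  by_cases h1 : n = 1
  · intro t
    have hsmall : ∀ q, q.Prime → q ∣ Nat.card X → q < t := by
      intro q hq hqd
      rw [hn, h1] at hqd
      exact absurd (Nat.dvd_one.mp hqd) hq.ne_one
    exact ⟨1, Nat.card X, (one_mul _).symm,
      fun q hq hqd => absurd (Nat.dvd_one.mp hqd) hq.ne_one, hsmall, card_isLarge_eq_one hsmall⟩
  have hpos : 0 < n := hn ▸ Nat.card_pos
  obtain ⟨p, hp, hpd, hmax⟩ := exists_largest_prime h1 hpos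
  have : Fact p.Prime := ⟨hp⟩
  rw [← hn] at hpd hmax
  obtain ⟨P, hPn, hPp, hPi⟩ := Cfsg.Agent.Helper9.exists_normal_sylow_of_largest_prime hX p hp hmax
  have hcardQ : Nat.card X = Nat.card (X ⧸ P) * Nat.card P :=
    Subgroup.card_eq_card_quotient_mul_card_subgroup P
  have hP1 : 1 < Nat.card P := by
    by_contra hle
    have h2 : Nat.card P = 1 := by
      have : 0 < Nat.card P := Nat.card_pos
      omega
    have h3 : P.index = Nat.card X := by
      rw [← Subgroup.card_mul_index P, h2, one_mul]
    exact hPi (h3 ▸ hpd)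
  have hlt : Nat.card (X ⧸ P) < n := by
    rw [← hn, hcardQ]
    exact (Nat.lt_mul_iff_one_lt_right Nat.card_pos).mpr hP1
  have hTQ : TowerCount (X ⧸ P) :=
    ih _ hlt (X ⧸ P) rfl (Cfsg.Agent.Helper9.isSupersolvable_quotient P hX)
  exact towerCount_of_quotient hp hmax P hPp hTQ

end Cfsg.Agent.Helper10.OrderType
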