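import Mathlib

set_option autoImplicit false

namespace Cfsg.Agent.Helper10

open Subgroup
open Pointwise

variable {G : Type*} [Group G]

/-- If the product set `HK` is a subgroup then `HK = KH`. -/
theorem mul_comm_of_coe_eq_mul {S H K : Subgroup G} (h : (S : Set G) = (H : Set G) * (K : Set G)) :
    (H : Set G) * (K : Set G) = (K : Set G) * (H : Set G) := by
  ext g
  constructor
  · intro hg
    have hgS : g ∈ S := by rw [← SetLike.mem_coe, h]; exact hg
    have hgi : g⁻¹ ∈ (S : Set G) := S.inv_mem hgS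
    rw [h] at hgi
    obtain ⟨a, ha, b, hb, hab⟩ := Set.mem_mul.mp hgi
    have : g = b⁻¹ * a⁻¹ := by rw [← mul_inv_rev, hab, inv_inv]
    rw [this]
    exact Set.mul_mem_mul (K.inv_mem hb) (H.inv_mem ha)
  · intro hg
    obtain ⟨b, hb, a, ha, rfl⟩ := Set.mem_mul.mp hg
    have h1 : a⁻¹ * b⁻¹ ∈ (S : Set G) := by
      rw [h]; exact Set.mul_mem_mul (H.inv_mem ha) (K.inv_mem hb)
    have h2 : (a⁻¹ * b⁻¹)⁻¹ ∈ (S : Set G) := S.inv_mem h1
    rw [mul_inv_rev, inv_inv, inv_inv, h] at h2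
    exact h2

/-- If `HK ⊆ KH` then `HK` is (the carrier of) a subgroup. -/
theorem exists_subgroup_of_mul_subset {H K : Subgroup G}
    (h : (H : Set G) * (K : Set G) ⊆ (K : Set G) * (H : Set G)) :
    ∃ S : Subgroup G, (S : Set G) = (H : Set G) * (K : Set G) := by
  -- first: K H ⊆ H K
  have h' : (K : Set G) * (H : Set G) ⊆ (H : Set G) * (K : Set G) := by
    intro g hg
    obtain ⟨b, hb, a, ha, rfl⟩ := Set.mem_mul.mp hg
    have h1 : a⁻¹ * b⁻¹ ∈ (K : Set G) * (H : Set G) :=
      h (Set.mul_mem_mul (H.inv_mem ha) (K.inv_mem hb))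
    obtain ⟨k, hk, x, hx, hkx⟩ := Set.mem_mul.mp h1
    have : b * a = x⁻¹ * k⁻¹ := by
      rw [← mul_inv_rev, hkx, mul_inv_rev, inv_inv, inv_inv]
    rw [this]
    exact Set.mul_mem_mul (H.inv_mem hx) (K.inv_mem hk)
  refine ⟨{ carrier := (H : Set G) * (K : Set G)
            mul_mem' := ?_
            one_mem' := ⟨1, H.one_mem, 1, K.one_mem, one_mul 1⟩
            inv_mem' := ?_ }, rfl⟩
  · intro x y hx hy
    obtain ⟨a, ha, b, hb, rfl⟩ := Set.mem_mul.mp hx
    obtain ⟨a', ha', b', hb', rfl⟩ := Set.mem_mul.mp hy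
    obtain ⟨a'', ha'', b'', hb'', h2⟩ := Set.mem_mul.mp (h' (Set.mul_mem_mul hb ha'))
    have : a * b * (a' * b') = (a * a'') * (b'' * b') := by
      calc a * b * (a' * b') = a * (b * a') * b' := by group
        _ = a * (a'' * b'') * b' := by rw [h2]
        _ = (a * a'') * (b'' * b') := by group
    rw [this]
    exact Set.mul_mem_mul (H.mul_mem ha ha'') (K.mul_mem hb'' hb')
  · intro x hx
    obtain ⟨a, ha, b, hb, rfl⟩ := Set.mem_mul.mp hx
    rw [mul_inv_rev]
    exact h' (Set.mul_mem_mul (K.inv_mem hb) (H.inv_mem ha))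

/-- If `X` and `Y` both permute with `Z`, then so does `X ⊔ Y` (one inclusion). -/
theorem sup_mul_subset {X Y Z : Subgroup G}
    (hX : (X : Set G) * (Z : Set G) ⊆ (Z : Set G) * (X : Set G))
    (hY : (Y : Set G) * (Z : Set G) ⊆ (Z : Set G) * (Y : Set G)) :
    ((X ⊔ Y : Subgroup G) : Set G) * (Z : Set G) ⊆ (Z : Set G) * ((X ⊔ Y : Subgroup G) : Set G) := by
  set W := X ⊔ Y with hW
  -- T = Z * W is stable under left multiplication by elements of W
  have key : ∀ w ∈ W, (∀ t ∈ (Z : Set G) * (W : Set G), w * t ∈ (Z : Set G) * (W : Set G)) ∧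
      (∀ t ∈ (Z : Set G) * (W : Set G), w⁻¹ * t ∈ (Z : Set G) * (W : Set G)) := by
    have base : ∀ U : Subgroup G, U ≤ W → (U : Set G) * (Z : Set G) ⊆ (Z : Set G) * (U : Set G) →
        ∀ u ∈ U, ∀ t ∈ (Z : Set G) * (W : Set G), u * t ∈ (Z : Set G) * (W : Set G) := by
      intro U hUW hU u hu t ht
      obtain ⟨z, hz, w, hw, rfl⟩ := Set.mem_mul.mp ht
      obtain ⟨z', hz', u', hu', h'⟩ := Set.mem_mul.mp (hU (Set.mul_mem_mul hu hz))
      have : u * (z * w) = z' * (u' * w) := by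
        rw [← mul_assoc, ← h', mul_assoc]
      rw [this]
      exact Set.mul_mem_mul hz' (W.mul_mem (hUW hu') hw)
    intro w hw
    rw [hW, Subgroup.sup_eq_closure] at hw
    induction hw using Subgroup.closure_induction with
    | mem x hx =>
      rcases hx with hx | hx
      · exact ⟨base X le_sup_left hX x hx, base X le_sup_left hX x⁻¹ (X.inv_mem hx)⟩
      · exact ⟨base Y le_sup_right hY x hx, base Y le_sup_right hY x⁻¹ (Y.inv_mem hx)⟩
    | one => exact ⟨fun t ht => by simpa using ht, fun t ht => by simpa using ht⟩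
    | mul x y _ _ ihx ihy =>
      constructor
      · intro t ht
        rw [mul_assoc]
        exact ihx.1 _ (ihy.1 t ht)
      · intro t ht
        rw [mul_inv_rev, mul_assoc]
        exact ihy.2 _ (ihx.2 t ht)
    | inv x _ ih =>
      refine ⟨ih.2, ?_⟩
      intro t ht
      rw [inv_inv]
      exact ih.1 t ht
  intro g hg
  obtain ⟨w, hw, z, hz, rfl⟩ := Set.mem_mul.mp hg
  exact (key w hw).1 z (by simpa using Set.mul_mem_mul hz W.one_mem)

/-- If `X Z` and `Y Z` are subgroups then `(X ⊔ Y) Z` is a subgroup. -/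
theorem exists_subgroup_sup_mul {X Y Z SX SY : Subgroup G}
    (hX : (SX : Set G) = (X : Set G) * (Z : Set G))
    (hY : (SY : Set G) = (Y : Set G) * (Z : Set G)) :
    ∃ S : Subgroup G, (S : Set G) = ((X ⊔ Y : Subgroup G) : Set G) * (Z : Set G) :=
  exists_subgroup_of_mul_subset
    (sup_mul_subset (le_of_eq (mul_comm_of_coe_eq_mul hX)) (le_of_eq (mul_comm_of_coe_eq_mul hY)))

end Cfsg.Agent.Helper10
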