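import Mathlib
import Cfsg.Agent.Helper77.PrimeDegDefs
import Cfsg.Agent.Helper80.Pullback

/-!
# (IP-B) of helper77 #5490: `AllPrimeDeg` passes to quotients (inflation keeps degrees)
-/

set_option autoImplicit false

namespace Cfsg.Agent.Helper10.PrimeDeg

open Cfsg Cfsg.Agent.Helper77.PrimeDeg

universe u

/-- inflation from `G ⧸ N` to `G` keeps the degree -/
theorem charDegree_inflate {G : Type u} [Group G] [Finite G] (N : Subgroup G) [N.Normal]
    (ψ : IrrCharacter (G ⧸ N)) :
    charDegree ((Helper80.irrQuotientEquiv N ψ).1 : G → ℂ) = charDegree (ψ : G ⧸ N → ℂ) := by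
  unfold charDegree
  rw [Helper80.irrQuotientEquiv_apply]
  rfl

theorem primeDeg_quotient {G : Type u} [Group G] [Finite G] (N : Subgroup G) [N.Normal]
    (h : AllPrimeDeg G) : AllPrimeDeg (G ⧸ N) := by
  intro ψ hψ
  rw [← charDegree_inflate N ψ] at hψ ⊢
  exact h _ hψ

end Cfsg.Agent.Helper10.PrimeDeg
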