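import Mathlib

set_option autoImplicit false

namespace Cfsg.Agent.Helper10

open Subgroup

/-- A nontrivial normal subgroup of a faithful primitive group is transitive. -/
theorem pretransitive_of_normal_of_faithful {G : Type*} [Group G] {Ω : Type*} [MulAction G Ω]
    [FaithfulSMul G Ω] (hprim : MulAction.IsPreprimitive G Ω) (M : Subgroup G) [M.Normal]
    (hM : M ≠ ⊥) : MulAction.IsPretransitive M Ω := by
  apply MulAction.IsQuasiPreprimitive.isPretransitive_of_normal (G := G)
  intro huniv
  apply hM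
  rw [eq_bot_iff]
  intro m hm
  rw [Subgroup.mem_bot]
  apply FaithfulSMul.eq_of_smul_eq_smul (α := Ω)
  intro ω
  have : ω ∈ MulAction.fixedPoints M Ω := by rw [huniv]; trivial
  rw [one_smul]
  exact this ⟨m, hm⟩

/-- In a faithful action, an abelian transitive subgroup acts regularly. -/
theorem stabilizer_eq_bot_of_abelian_transitive {G : Type*} [Group G] {Ω : Type*} [MulAction G Ω]
    [FaithfulSMul G Ω] (M : Subgroup G) (hab : ∀ x ∈ M, ∀ y ∈ M, x * y = y * x)
    [MulAction.IsPretransitive M Ω] (ω : Ω) : MulAction.stabilizer M ω = ⊥ := by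
  rw [eq_bot_iff]
  intro m hm
  rw [Subgroup.mem_bot]
  rw [MulAction.mem_stabilizer_iff] at hm
  apply Subtype.ext
  rw [Subgroup.coe_one]
  apply FaithfulSMul.eq_of_smul_eq_smul (α := Ω)
  intro ω'
  obtain ⟨n, rfl⟩ := MulAction.exists_smul_eq M ω ω'
  rw [one_smul]
  change (m : G) • ((n : G) • ω) = (n : G) • ω
  rw [← mul_smul, hab m m.2 n n.2, mul_smul]
  congr 1

end Cfsg.Agent.Helper10
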