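import Mathlib
import Cfsg.Agent.Helper68.PronBU1.Defs

/-!
helper10, leaf (FA) of helper68's PRONBU1 farm (#15487, S2225/S2226 block BU1).
-/

set_option autoImplicit false

namespace Cfsg.Agent.Helper10.PronBU1

open Matrix Cfsg.Agent.Helper99.Pron Cfsg.Agent.Helper68.PronBU1

variable {F : Type*} [Field F]

/-- (FA) on `Lam2 F` the map `l ↦ l^(q-1)` takes the values `±1` only.
ROUTE: `y = l^(q-1)` has `y^(q+1) = l^(q²-1) = 1` and `y^(2^k) = 1`; `q + 1 = 2 * odd`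
(`q % 4 = 1`), so `orderOf y ∣ gcd (2^k) (q+1) ∣ 2`, `y² = 1`, `(y-1)(y+1) = 0` in the field `F`. -/
theorem lam2_pow_pm (q : ℕ) (hq : q % 4 = 1) (hP : ∀ l : Fˣ, l ^ (q ^ 2 - 1) = 1)
    (l : Fˣ) (hl : l ∈ Lam2 F) : l ^ (q - 1) = 1 ∨ l ^ (q - 1) = -1 := by
  obtain ⟨k, hk⟩ := mem_Lam2.1 hl
  have hq1 : 1 ≤ q := by omega
  -- `y ^ (q + 1) = 1`
  have h1 : (l ^ (q - 1)) ^ (q + 1) = 1 := by
    rw [← pow_mul]
    have e : (q - 1) * (q + 1) = q ^ 2 - 1 := by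
      obtain ⟨r, rfl⟩ : ∃ r, q = r + 1 := ⟨q - 1, by omega⟩
      have : (r + 1) ^ 2 = r * (r + 1 + 1) + 1 := by ring
      rw [this]
      simp
    rw [e]
    exact hP l
  -- `y ^ (2 ^ k) = 1`
  have h2 : (l ^ (q - 1)) ^ (2 ^ k) = 1 := by
    rw [← pow_mul, mul_comm, pow_mul, hk, one_pow]
  generalize l ^ (q - 1) = y at h1 h2
  have hd1 : orderOf y ∣ q + 1 := orderOf_dvd_of_pow_eq_one h1
  have hd2 : orderOf y ∣ 2 ^ k := orderOf_dvd_of_pow_eq_one h2
  obtain ⟨j, -, hj⟩ := (Nat.dvd_prime_pow Nat.prime_two).1 hd2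
  have hj1 : j ≤ 1 := by
    by_contra hcon
    have hj2 : 2 ≤ j := by omega
    have h4 : 4 ∣ q + 1 := by
      have : (2 : ℕ) ^ 2 ∣ 2 ^ j := pow_dvd_pow 2 hj2
      rw [hj] at hd1
      exact dvd_trans (by norm_num at this ⊢; exact this) hd1
    omega
  have hy2 : y ^ 2 = 1 := by
    apply orderOf_dvd_iff_pow_eq_one.1
    rw [hj]
    exact pow_dvd_pow 2 hj1 |>.trans (by norm_num)
  -- in the field
  have hF : (y : F) * (y : F) = 1 := by
    have := congrArg (fun u : Fˣ => (u : F)) hy2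
    simpa [pow_two] using this
  rcases mul_self_eq_one_iff.1 hF with h | h
  · left
    exact Units.ext (by rw [h, Units.val_one])
  · right
    exact Units.ext (by rw [h, Units.val_neg, Units.val_one])

end Cfsg.Agent.Helper10.PronBU1
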