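import Mathlib
import Cfsg.Agent.Helper68.PronBU1.Defs

/-!
helper10, leaf (FO) of helper68's PRONBU1 farm (#15487, S2225/S2226 block BU1).
-/

set_option autoImplicit false

namespace Cfsg.Agent.Helper10.PronBU1

open Matrix Cfsg.Agent.Helper99.Pron Cfsg.Agent.Helper68.PronBU1

variable {F : Type*} [Field F]

/-- (FO) `Fˣ` is cyclic of order `q² - 1`, so it has elements of every order dividing `q² - 1`.
ROUTE: `IsCyclic.card_orderOf_eq_totient` (+ `Nat.totient_pos`) with `Fintype.card_units`, or a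
generator `g` (`IsCyclic.exists_generator`, `orderOf_eq_card_of_forall_mem_zpowers`) and
`orderOf_pow`. -/
theorem exists_orderOf [Fintype F] (q : ℕ) (hF : Fintype.card F = q ^ 2) (n : ℕ)
    (hn : n ∣ q ^ 2 - 1) : ∃ x : Fˣ, orderOf x = n := by
  classical
  obtain ⟨g, hg⟩ := IsCyclic.exists_ofOrder_eq_natCard (α := Fˣ)
  have hcard : Nat.card Fˣ = q ^ 2 - 1 := by
    rw [Nat.card_eq_fintype_card, Fintype.card_units, hF]
  rw [hcard] at hg
  have hpos : 0 < q ^ 2 - 1 := by
    have h2 : 1 < Fintype.card F := Fintype.one_lt_card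
    omega
  obtain ⟨k, hk⟩ := hn
  have hk0 : k ≠ 0 := by
    rintro rfl
    rw [mul_zero] at hk
    omega
  have hn0 : n ≠ 0 := by
    rintro rfl
    rw [zero_mul] at hk
    omega
  refine ⟨g ^ k, ?_⟩
  rw [orderOf_pow_of_dvd hk0 (by rw [hg, hk]; exact dvd_mul_left k n), hg, hk]
  exact Nat.mul_div_cancel n (Nat.pos_of_ne_zero hk0)

end Cfsg.Agent.Helper10.PronBU1
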