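import Mathlib
import Cfsg.Agent.Helper99.Pron.Defs

/-!
helper10, piece (GIDX) of helper99's block I farm (#15213, S2225/S2226).
-/

set_option autoImplicit false

namespace Cfsg.Agent.Helper10.Pron

open Matrix
open Cfsg.Agent.Helper99.Pron

variable {F : Type*} [Field F] {ι : Type*} [Fintype ι] [DecidableEq ι]

/-- (GIDX) the block diagonal part of a subgroup of `Wr P` has index at most two: two elements of
`Y` outside `Bs P` are both of the form `ad ..`, and `ad_mul_ad` makes their product a `bd`. -/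
theorem GIDX (P : Subgroup (GL ι F)) (Y : Subgroup (GL (ι ⊕ ι) F)) (hY : Y ≤ Wr P) :
    Idx2 Y (Y ⊓ Bs P) := by
  refine ⟨inf_le_left, ?_⟩
  intro g hg k hk hgn hkn
  obtain ⟨a, ha, b, hb, hgab⟩ := mem_Wr.1 (hY hg)
  obtain ⟨a', ha', b', hb', hkab⟩ := mem_Wr.1 (hY hk)
  rcases hgab with rfl | rfl
  · exact absurd (Subgroup.mem_inf.2 ⟨hg, mem_Bs.2 ⟨a, ha, b, hb, rfl⟩⟩) hgn
  rcases hkab with rfl | rfl
  · exact absurd (Subgroup.mem_inf.2 ⟨hk, mem_Bs.2 ⟨a', ha', b', hb', rfl⟩⟩) hkn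
  refine Subgroup.mem_inf.2 ⟨Y.mul_mem hg hk, ?_⟩
  rw [ad_mul_ad]
  exact mem_Bs.2 ⟨a * b', P.mul_mem ha hb', b * a', P.mul_mem hb ha', rfl⟩

end Cfsg.Agent.Helper10.Pron
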