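import Mathlib
import Cfsg.Agent.Helper99.Pron.Defs

/-!
helper10, piece (WPROJ) of helper99's block I farm (#15213, S2225/S2226).
-/

set_option autoImplicit false

namespace Cfsg.Agent.Helper10.Pron

open Matrix
open Cfsg.Agent.Helper99.Pron

section idx
variable {G : Type*} [Group G] {W T : Subgroup G}

/-- a subgroup of index at most two is normal -/
theorem WPROJ_conj_mem (h : Idx2 W T) {g w : G} (hg : g ∈ T) (hw : w ∈ W) : w * g * w⁻¹ ∈ T := by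
  by_cases hwT : w ∈ T
  · exact T.mul_mem (T.mul_mem hwT hg) (T.inv_mem hwT)
  · have h1 : w * g ∉ T := by
      intro hh
      apply hwT
      have := T.mul_mem hh (T.inv_mem hg)
      rwa [mul_inv_cancel_right] at this
    have h2 : w⁻¹ ∉ T := fun hh => hwT (by simpa using T.inv_mem hh)
    exact h.2 (w * g) (W.mul_mem hw (h.1 hg)) w⁻¹ (W.inv_mem hw) h1 h2

/-- local copy of (IX2): `g * (w g w⁻¹) ∈ T` for `g w ∈ W` -/
theorem WPROJ_mul_conj_mem (h : Idx2 W T) {g w : G} (hg : g ∈ W) (hw : w ∈ W) :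
    g * (w * g * w⁻¹) ∈ T := by
  by_cases hgT : g ∈ T
  · exact T.mul_mem hgT (WPROJ_conj_mem h hgT hw)
  · have h1 : w * g * w⁻¹ ∉ T := by
      intro hh
      apply hgT
      have := WPROJ_conj_mem h hh (W.inv_mem hw)
      have e : w⁻¹ * (w * g * w⁻¹) * w⁻¹⁻¹ = g := by group
      rwa [e] at this
    exact h.2 g hg (w * g * w⁻¹) (W.mul_mem (W.mul_mem hw hg) (W.inv_mem hw)) hgT h1

end idx

variable {F : Type*} [Field F] {ι : Type*} [Fintype ι] [DecidableEq ι]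

/-- (WPROJ) an index-two subgroup `T` of `Wr P` containing `ad a₀ b₀` projects onto `P` in both
coordinates: `bd a (b₀ a b₀⁻¹) = g * (τ g τ⁻¹)` with `g = bd a 1`, `τ = ad a₀ b₀` (IX2);
symmetrically `bd (a₀ b a₀⁻¹) b`. (`a₀ b₀ ∈ P` because `T ≤ Wr P`: `ad_injective`, `bd_ne_ad`.) -/
theorem WPROJ [Nonempty ι] (P : Subgroup (GL ι F)) (T : Subgroup (GL (ι ⊕ ι) F))
    (hT : Idx2 (Wr P) T) (hτ : ∃ a₀ b₀ : GL ι F, ad a₀ b₀ ∈ T) :
    (∀ a ∈ P, ∃ b : GL ι F, bd a b ∈ T) ∧ (∀ b ∈ P, ∃ a : GL ι F, bd a b ∈ T) := by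
  obtain ⟨a₀, b₀, hτT⟩ := hτ
  have hτW : ad a₀ b₀ ∈ Wr P := hT.1 hτT
  constructor
  · intro a ha
    refine ⟨b₀ * a * b₀⁻¹, ?_⟩
    have hg : bd a (1 : GL ι F) ∈ Wr P := bd_mem_Wr ha P.one_mem
    have := WPROJ_mul_conj_mem hT hg hτW
    rw [ad_inv, ad_mul_bd, ad_mul_ad, bd_mul_bd] at this
    have e1 : a * (a₀ * 1 * a₀⁻¹) = a := by group
    have e2 : (1 : GL ι F) * (b₀ * a * b₀⁻¹) = b₀ * a * b₀⁻¹ := one_mul _
    rwa [e1, e2] at this
  · intro b hb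
    refine ⟨a₀ * b * a₀⁻¹, ?_⟩
    have hg : bd (1 : GL ι F) b ∈ Wr P := bd_mem_Wr P.one_mem hb
    have := WPROJ_mul_conj_mem hT hg hτW
    rw [ad_inv, ad_mul_bd, ad_mul_ad, bd_mul_bd] at this
    have e1 : (1 : GL ι F) * (a₀ * b * a₀⁻¹) = a₀ * b * a₀⁻¹ := one_mul _
    have e2 : b * (b₀ * 1 * b₀⁻¹) = b := by group
    rwa [e1, e2] at this

end Cfsg.Agent.Helper10.Pron
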