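import Cfsg.Agent.Helper5.PsuE2.Defs

/-!
helper10, piece (L3) of helper5's PsuE2 farm (#15283, S2089 block I-even-2): lifts of torus elements
commute with lifts of long root elements.
-/

set_option autoImplicit false

namespace Cfsg.Agent.Helper10.PsuE2

open Matrix
open scoped commutatorElement
open Cfsg.Agent.Helper43.PsuM.Ev
open Cfsg.Agent.Helper96.StLift
open Cfsg.Agent.Helper5.PsuE2

universe u

section group

variable {K : Type u} [Field K] {σ : K →+* K} {m : ℕ} {Γ : Type u} [Group Γ] [Finite Γ]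
  (τ : Γ →* SUe m σ) (hτ : Function.Surjective τ)

/-- if `g y g⁻¹ = a y` with `a` central then `g^k y g^-k = a^k y` -/
theorem L3_pow_conj {X : Type*} [Group X] {g y a : X} (ha : ∀ x : X, x * a = a * x)
    (h : g * y * g⁻¹ = a * y) (k : ℕ) : g ^ k * y * (g ^ k)⁻¹ = a ^ k * y := by
  induction k with
  | zero => simp
  | succ k ih =>
    have hak : ∀ x : X, x * a ^ k = a ^ k * x := by
      intro x
      exact ((Commute.pow_right (ha x) k : Commute x (a ^ k))).eq
    calc g ^ (k + 1) * y * (g ^ (k + 1))⁻¹ = g * (g ^ k * y * (g ^ k)⁻¹) * g⁻¹ := by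
          rw [pow_succ']; group
      _ = g * (a ^ k * y) * g⁻¹ := by rw [ih]
      _ = (g * a ^ k) * y * g⁻¹ := by group
      _ = (a ^ k * g) * y * g⁻¹ := by rw [hak g]
      _ = a ^ k * (g * y * g⁻¹) := by group
      _ = a ^ k * (a * y) := by rw [h]
      _ = a ^ (k + 1) * y := by rw [pow_succ]; group

/-- (L3) `n := Nat.card (Tsub m σ)` is odd (`R.T_odd`) and `(τ g) ^ n = 1`.  `a := ⁅g, y⁆ ∈ ker τ` (`R.T_z`) is
central, so `g y g⁻¹ = a y`, hence `g^k y g^-k = a^k y`; `g ^ n ∈ ker τ` is central: `a ^ n = 1`; `a ^ 2 = 1`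
(`E.card_ker`): `a = 1`. -/
theorem torus_z (E : Ext2 τ hτ) (F : F4Facts σ) (R : RootFacts σ m) (hm : 4 ≤ m) :
    ∀ (g y : Γ) (i : Fin m), τ g ∈ Tsub m σ → τ y = zE σ i 1 → Commute g y := by
  intro g y i hg hy
  -- the commutator lies in the kernel
  have hak : g * y * g⁻¹ * y⁻¹ ∈ τ.ker := by
    rw [MonoidHom.mem_ker, map_mul, map_mul, map_mul, map_inv, map_inv, hy]
    have := (R.T_z _ hg i).eq
    rw [this, mul_inv_cancel_right, mul_inv_cancel]
  have hac : ∀ x : Γ, x * (g * y * g⁻¹ * y⁻¹) = (g * y * g⁻¹ * y⁻¹) * x := by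
    intro x
    exact Subgroup.mem_center_iff.1 (E.central hak) x
  generalize hadef : g * y * g⁻¹ * y⁻¹ = a at hak hac
  have hconj : g * y * g⁻¹ = a * y := by
    rw [← hadef]; group
  -- `g ^ n` is in the kernel, hence central
  have hgn : g ^ Nat.card (Tsub m σ) ∈ τ.ker := by
    rw [MonoidHom.mem_ker, map_pow]
    have := pow_card_eq_one' (G := Tsub m σ) (x := ⟨τ g, hg⟩)
    exact congrArg Subtype.val this
  have hgnc := Subgroup.mem_center_iff.1 (E.central hgn)
  have han : a ^ Nat.card (Tsub m σ) = 1 := by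
    have h1 := L3_pow_conj hac hconj (Nat.card (Tsub m σ))
    have h2 : g ^ Nat.card (Tsub m σ) * y * (g ^ Nat.card (Tsub m σ))⁻¹ = y := by
      rw [← hgnc y, mul_inv_cancel_right]
    rw [h2] at h1
    exact (mul_eq_right.1 h1.symm)
  have ha2 : a ^ 2 = 1 := by
    have := pow_card_eq_one' (G := τ.ker) (x := ⟨a, hak⟩)
    rw [E.card_ker] at this
    exact congrArg Subtype.val this
  have ha1 : a = 1 := by
    have h1 : orderOf a ∣ Nat.card (Tsub m σ) := orderOf_dvd_of_pow_eq_one han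
    have h2 : orderOf a ∣ 2 := orderOf_dvd_of_pow_eq_one ha2
    have h3 : orderOf a ∣ 1 := by
      have := Nat.dvd_gcd h1 h2
      rwa [Nat.Coprime.gcd_eq_one R.T_odd] at this
    exact orderOf_eq_one_iff.1 (Nat.dvd_one.1 h3)
  show g * y = y * g
  have : g * y * g⁻¹ = y := by rw [hconj, ha1, one_mul]
  calc g * y = (g * y * g⁻¹) * g := by group
    _ = y * g := by rw [this]

end group

end Cfsg.Agent.Helper10.PsuE2
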