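import Cfsg.Agent.Helper5.PsuE2.Defs
import Cfsg.Agent.Helper61.PsuM_AQ
import Cfsg.Agent.Helper33.PsuM_AI
import Cfsg.Agent.Helper33.PsuM_AT
import Cfsg.Agent.Helper55.PsuM_AROOTa
import Cfsg.Agent.Helper55.PsuM_ANORM

/-!
helper10, piece (RA1) of helper5's PsuE2 farm (#15283, S2089 block I-even-2): membership and
normalisation facts of `RootFacts`.
-/

set_option autoImplicit false

namespace Cfsg.Agent.Helper10.PsuE2

open Matrix
open scoped commutatorElement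
open Cfsg.Agent.Helper43.PsuM.Ev
open Cfsg.Agent.Helper96.StLift
open Cfsg.Agent.Helper5.PsuE2

universe u

section matrix

variable {K : Type u} [Field K] [Fintype K] {σ : K →+* K} {m : ℕ}

theorem z_mem (hK : Fintype.card K = 2 ^ 2) (hσq : ∀ x, σ x = x ^ 2) (i : Fin m) :
    zE σ i 1 ∈ Qsub m σ := by
  have F := f4Facts hK hσq
  rw [Cfsg.Agent.Helper61.PsuM.mem_Qsub_iff]
  refine ⟨Matrix.single i i 1, Cfsg.Agent.Helper55.PsuM.single_mem_SkewH i ?_, rfl⟩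
  rw [map_one]
  exact F.two 1

theorem c_mem (hK : Fintype.card K = 2 ^ 2) (hσq : ∀ x, σ x = x ^ 2) (i j : Fin m) (hij : i ≠ j)
    (u : K) : cE σ i j u ∈ Qsub m σ := by
  have F := f4Facts hK hσq
  rw [Cfsg.Agent.Helper61.PsuM.mem_Qsub_iff]
  exact ⟨_, Cfsg.Agent.Helper55.PsuM.single_sub_mem_SkewH F.invol hij u, rfl⟩

theorem RA1_xE_mem_Ssub (i j : Fin m) (t : K) : xE σ i j t ∈ Ssub m σ := by
  unfold xE
  split_ifs with h
  · exact Subgroup.subset_closure ⟨_, rfl⟩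
  · exact Subgroup.one_mem _

theorem x_norm (hK : Fintype.card K = 2 ^ 2) (hσq : ∀ x, σ x = x ^ 2) (i j : Fin m) (t : K) :
    ∀ y ∈ Qsub m σ, xE σ i j t * y * (xE σ i j t)⁻¹ ∈ Qsub m σ := by
  have F := f4Facts hK hσq
  intro y hy
  exact Cfsg.Agent.Helper55.PsuM.Ssub_normalizes_Qsub F.invol _ y (RA1_xE_mem_Ssub i j t) hy

theorem T_norm (hK : Fintype.card K = 2 ^ 2) (hσq : ∀ x, σ x = x ^ 2) :
    ∀ h ∈ Tsub m σ, ∀ y ∈ Qsub m σ, h * y * h⁻¹ ∈ Qsub m σ := by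
  have F := f4Facts hK hσq
  intro h hh y hy
  exact Cfsg.Agent.Helper55.PsuM.Tsub_normalizes_Qsub F.invol h y hh hy

theorem Q_comm : ∀ x ∈ Qsub m σ, ∀ y ∈ Qsub m σ, Commute x y :=
  fun x hx y hy => Cfsg.Agent.Helper61.PsuM.Qsub_comm x y hx hy

theorem T_odd (hK : Fintype.card K = 2 ^ 2) (hσq : ∀ x, σ x = x ^ 2) :
    (Nat.card (Tsub m σ)).Coprime 2 := by
  have F := f4Facts hK hσq
  have : Fact (Nat.Prime 2) := ⟨Nat.prime_two⟩
  have : CharP K 2 := by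
    apply CharTwo.of_one_ne_zero_of_two_eq_zero one_ne_zero
    have := F.two 1
    rw [← this]
    norm_num
  exact Cfsg.Agent.Helper33.PsuM.card_Tsub_coprime F.invol 2

end matrix

end Cfsg.Agent.Helper10.PsuE2
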