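import Cfsg.Agent.Helper5.PsuE2.Defs
import Cfsg.Agent.Helper61.PsuM_AQ
import Cfsg.Agent.Helper33.PsuM_AI
import Cfsg.Agent.Helper55.PsuM_AROOTa

/-!
helper10, piece (RA2) of helper5's PsuE2 farm (#15283, S2089 block I-even-2): generation and
parametrisation facts of `RootFacts`.
-/

set_option autoImplicit false

namespace Cfsg.Agent.Helper10.PsuE2

open Matrix
open scoped commutatorElement
open Cfsg.Agent.Helper43.PsuM.Ev
open Cfsg.Agent.Helper96.StLift
open Cfsg.Agent.Helper5.PsuE2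

universe u

section matrix

variable {K : Type u} [Field K] [Fintype K] {σ : K →+* K} {m : ℕ}

theorem z_zero (i : Fin m) : zE σ i 0 = 1 := by
  unfold zE
  rw [Matrix.single_zero]
  exact Cfsg.Agent.Helper61.PsuM.qE_zero

theorem Q_le (hK : Fintype.card K = 2 ^ 2) (hσq : ∀ x, σ x = x ^ 2) :
    Qsub m σ ≤ Subgroup.closure (Set.range (fun i : Fin m => zE σ i 1) ∪
      {g | ∃ i j : Fin m, i ≠ j ∧ ∃ u : K, g = cE σ i j u}) := by
  have F := f4Facts hK hσq
  refine le_trans (Cfsg.Agent.Helper55.PsuM.Qsub_le_closure F.invol) ?_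
  rw [Subgroup.closure_le]
  rintro g (⟨i, c, hc, rfl⟩ | hg)
  · rcases F.skew c hc with rfl | rfl
    · rw [z_zero]
      exact Subgroup.one_mem _
    · exact Subgroup.subset_closure (Or.inl ⟨i, rfl⟩)
  · exact Subgroup.subset_closure (Or.inr hg)

theorem c_add (hK : Fintype.card K = 2 ^ 2) (hσq : ∀ x, σ x = x ^ 2) (i j : Fin m) (hij : i ≠ j)
    (u u' : K) : cE σ i j (u + u') = cE σ i j u * cE σ i j u' :=
  Cfsg.Agent.Helper55.PsuM.cE_add (f4Facts hK hσq).invol hij u u'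

theorem c_symm (hK : Fintype.card K = 2 ^ 2) (hσq : ∀ x, σ x = x ^ 2) (i j : Fin m) (hij : i ≠ j)
    (u : K) : cE σ j i u = cE σ i j (σ u) := by
  have F := f4Facts hK hσq
  rw [Cfsg.Agent.Helper55.PsuM.cE_symm F.invol hij u]
  congr 1
  exact neg_eq_of_add_eq_zero_left (F.two (σ u))

theorem x_add (hK : Fintype.card K = 2 ^ 2) (hσq : ∀ x, σ x = x ^ 2) (i j : Fin m) (t t' : K) :
    xE σ i j (t + t') = xE σ i j t * xE σ i j t' :=
  Cfsg.Agent.Helper33.PsuM.xE_add (f4Facts hK hσq).invol i j t t'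

theorem x_zero (hK : Fintype.card K = 2 ^ 2) (hσq : ∀ x, σ x = x ^ 2) (i j : Fin m) :
    xE σ i j 0 = 1 := by
  have h := x_add hK hσq i j 0 0
  rw [add_zero] at h
  exact (mul_eq_left.1 h.symm)

end matrix

end Cfsg.Agent.Helper10.PsuE2
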