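-- helper10: piece (NRM) of #14581 for helper43 (S2089 block R, round 2): conj_mem_of_closure.
import Cfsg.Agent.Helper43.PsuM.RDefs

set_option autoImplicit false

namespace Cfsg.Agent.Helper10.PsuM

open scoped commutatorElement

open Cfsg.Agent.Helper43.PsuM

universe u

section central

variable {Γ G : Type u} [Group Γ] [Group G] [Finite Γ] (τ : Γ →* G) (hτ : Function.Surjective τ)
  (hc : τ.ker ≤ Subgroup.center Γ)

include hτ hc

/-- (NRM) the elements above a subgroup generated by a set normalise `C` as soon as one lift of each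
generator does. -/
theorem conj_mem_of_closure (C : Subgroup Γ) (S : Set G)
    (hS : ∀ s ∈ S, ∃ g : Γ, τ g = s ∧ ∀ c ∈ C, g * c * g⁻¹ ∈ C) :
    ∀ g : Γ, τ g ∈ Subgroup.closure S → ∀ c ∈ C, g * c * g⁻¹ ∈ C := by
  classical
  -- the submonoid of elements conjugating `C` into itself
  let Nm : Submonoid Γ :=
    { carrier := {g | ∀ c ∈ C, g * c * g⁻¹ ∈ C}
      mul_mem' := by
        intro a b ha hb c hcC
        have h1 := ha _ (hb c hcC)
        have e : a * b * c * (a * b)⁻¹ = a * (b * c * b⁻¹) * a⁻¹ := by group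
        rw [e]; exact h1
      one_mem' := by
        intro c hcC
        simpa using hcC }
  have hinv : ∀ g ∈ Nm, g⁻¹ ∈ Nm := by
    intro g hg
    have h1 : g * g ^ (orderOf g - 1) = 1 := by
      rw [← pow_succ', Nat.sub_add_cancel (orderOf_pos g), pow_orderOf_eq_one]
    rw [inv_eq_of_mul_eq_one_right h1]
    exact Nm.pow_mem hg _
  -- every element of the closure has a lift in `Nm`
  have key : ∀ x ∈ Subgroup.closure S, ∃ g ∈ Nm, τ g = x := by
    intro x hx
    induction hx using Subgroup.closure_induction with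
    | mem s hs =>
      obtain ⟨g, hg, hgC⟩ := hS s hs
      exact ⟨g, hgC, hg⟩
    | one => exact ⟨1, Nm.one_mem, map_one τ⟩
    | mul a b _ _ iha ihb =>
      obtain ⟨g, hg, rfl⟩ := iha
      obtain ⟨g', hg', rfl⟩ := ihb
      exact ⟨g * g', Nm.mul_mem hg hg', map_mul τ g g'⟩
    | inv a _ iha =>
      obtain ⟨g, hg, rfl⟩ := iha
      exact ⟨g⁻¹, hinv g hg, map_inv τ g⟩
  intro g hg c hcC
  obtain ⟨g', hg', hgg⟩ := key _ hg
  have ha : g'⁻¹ * g ∈ τ.ker := by
    rw [MonoidHom.mem_ker, map_mul, map_inv, hgg, inv_mul_cancel]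
  have hz := Subgroup.mem_center_iff.mp (hc ha) c
  -- hz : c * (g'⁻¹ * g) = g'⁻¹ * g * c
  have e : g * c * g⁻¹ = g' * c * g'⁻¹ := by
    have e1 : g * c * g⁻¹ = g' * ((g'⁻¹ * g) * c) * (g'⁻¹ * g)⁻¹ * g'⁻¹ := by group
    rw [e1, ← hz]
    group
  rw [e]
  exact hg' c hcC

end central

end Cfsg.Agent.Helper10.PsuM
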