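-- helper10: piece (C2) `card_of_central_abelian` of the S5289 swarm #14084 (architect helper77).
import Mathlib
import Cfsg.Agent.Helper77.Res.Defs
import Cfsg.Agent.S0120
import Cfsg.Agent.Helper73.BlkACT
import Cfsg.Agent.Helper30.BlkCHAIN

set_option autoImplicit false

universe u

namespace Cfsg.Agent.Helper10.Res

open Subgroup Cfsg.Agent.Helper77.Res

variable {Ω : Type u} [Group Ω] {p : ℕ} [hp : Fact p.Prime]

/-- conjugation by a normalizing element, as an automorphism of `P` -/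
def C2_conjAut (P : Subgroup Ω) (g : Ω) (hg : g ∈ Subgroup.normalizer (P : Set Ω)) : MulAut ↥P where
  toFun x := ⟨g * x * g⁻¹, (Subgroup.mem_normalizer_iff.mp hg x).1 x.2⟩
  invFun x := ⟨g⁻¹ * x * g, by
    apply (Subgroup.mem_normalizer_iff.mp hg (g⁻¹ * x * g)).2
    have e : g * (g⁻¹ * (x : Ω) * g) * g⁻¹ = x := by group
    rw [e]; exact x.2⟩
  left_inv x := by
    apply Subtype.ext
    show g⁻¹ * (g * (x : Ω) * g⁻¹) * g = x
    group
  right_inv x := by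
    apply Subtype.ext
    show g * (g⁻¹ * (x : Ω) * g) * g⁻¹ = x
    group
  map_mul' x y := by
    apply Subtype.ext
    show g * ((x : Ω) * (y : Ω)) * g⁻¹ = (g * (x : Ω) * g⁻¹) * (g * (y : Ω) * g⁻¹)
    group

theorem C2_conjAut_apply (P : Subgroup Ω) (g : Ω) (hg : g ∈ Subgroup.normalizer (P : Set Ω)) (x : P) :
    ((C2_conjAut P g hg x : P) : Ω) = g * x * g⁻¹ := rfl

section localcfg
variable {T P : Subgroup Ω} {A : Subgroup (MulAut ↥P)} {B : Subgroup (MulAut ↥T)}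

/-- `Ω₁(P)` of exponent `p` is invariant under `Aut(P)` -/
theorem C2_R_inv (hRexp : ∀ r ∈ Cfsg.omegaOne p P, r ^ p = 1) (α : MulAut ↥P) (x : P)
    (hx : (x : Ω) ∈ Cfsg.omegaOne p P) : ((α x : P) : Ω) ∈ Cfsg.omegaOne p P := by
  have h1 : x ^ p = 1 := by
    apply Subtype.ext
    rw [Subgroup.coe_pow, Subgroup.coe_one]
    exact hRexp _ hx
  have h2 : (α x) ^ p = 1 := by rw [← map_pow, h1, map_one]
  apply Subgroup.subset_closure
  refine ⟨(α x).2, ?_⟩
  have := congrArg (fun y : P => (y : Ω)) h2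
  simpa using this

/-- elements of `P` of order dividing `p` lie in `Ω₁(P)` -/
theorem C2_mem_R {x : Ω} (hx : x ∈ P) (hxp : x ^ p = 1) : x ∈ Cfsg.omegaOne p P :=
  Subgroup.subset_closure ⟨hx, hxp⟩

theorem C2_R_le : Cfsg.omegaOne p P ≤ P := by
  unfold Cfsg.omegaOne
  rw [Subgroup.closure_le]
  intro x hx
  exact hx.1

/-- `A` acts faithfully on `Ω₁(P)` when `P` is abelian and radical -/
theorem C2_faithful (hp2 : p ≠ 2) [Finite ↥P] (hP : IsPGroup p ↥P) (hrad : Rad p P A)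
    (hRexp : ∀ r ∈ Cfsg.omegaOne p P, r ^ p = 1)
    (hab : ∀ x ∈ P, ∀ y ∈ P, x * y = y * x) (α : MulAut ↥P) (hα : α ∈ A)
    (hfix : ∀ x : P, (x : Ω) ∈ Cfsg.omegaOne p P → α x = x) : α = 1 := by
  classical
  have hpp : p.Prime := hp.out
  let N : Subgroup (MulAut ↥P) :=
    { carrier := {β | β ∈ A ∧ ∀ x : P, (x : Ω) ∈ Cfsg.omegaOne p P → β x = x}
      mul_mem' := by
        intro a b ha hb
        refine ⟨A.mul_mem ha.1 hb.1, fun x hx => ?_⟩
        rw [MulAut.mul_apply, hb.2 x hx, ha.2 x hx]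
      one_mem' := ⟨A.one_mem, fun x _ => rfl⟩
      inv_mem' := by
        intro a ha
        refine ⟨A.inv_mem ha.1, fun x hx => ?_⟩
        have h1 := ha.2 x hx
        rw [MulAut.inv_apply]
        exact (MulEquiv.symm_apply_eq a).2 h1.symm }
  have hNA : N ≤ A := fun β hβ => hβ.1
  have hfin : Finite (MulAut ↥P) :=
    Finite.of_injective (fun β : MulAut ↥P => (β : P → P)) DFunLike.coe_injective
  have hNp : IsPGroup p N := by
    intro g
    obtain ⟨β, hβ⟩ := g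
    have hn0 : orderOf β ≠ 0 := (orderOf_pos β).ne'
    obtain ⟨e, n', hn', hen⟩ := Nat.exists_eq_pow_mul_and_not_dvd hn0 p hpp.ne_one
    have hγN : β ^ (p ^ e) ∈ N := N.pow_mem hβ _
    have hγ1 : (β ^ (p ^ e)) ^ n' = 1 := by
      rw [← pow_mul, ← hen, pow_orderOf_eq_one]
    have hcop : Nat.Coprime (orderOf (β ^ (p ^ e))) p := by
      have h1 : orderOf (β ^ (p ^ e)) ∣ n' := orderOf_dvd_of_pow_eq_one hγ1
      have h2 : Nat.Coprime n' p := ((Nat.Prime.coprime_iff_not_dvd hpp).2 hn').symm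
      exact Nat.Coprime.coprime_dvd_left h1 h2
    have h3 : β ^ (p ^ e) = 1 := by
      apply Cfsg.Agent.S0120.result hp2 hP _ hcop
      intro x hx
      apply hγN.2 x
      apply C2_mem_R x.2
      have := congrArg (fun y : P => (y : Ω)) hx
      simpa using this
    refine ⟨e, ?_⟩
    apply Subtype.ext
    rw [Subgroup.coe_pow]
    exact h3
  have hNn : ∀ γ ∈ A, ∀ β ∈ N, γ * β * γ⁻¹ ∈ N := by
    intro γ hγ β hβ
    refine ⟨A.mul_mem (A.mul_mem hγ hβ.1) (A.inv_mem hγ), fun x hx => ?_⟩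
    rw [MulAut.mul_apply, MulAut.mul_apply]
    have h1 : ((γ⁻¹ x : P) : Ω) ∈ Cfsg.omegaOne p P := C2_R_inv hRexp γ⁻¹ x hx
    rw [hβ.2 _ h1, MulAut.inv_apply, MulEquiv.apply_symm_apply]
  obtain ⟨g, hg, hconj⟩ := hrad N hNA hNp hNn α ⟨hα, hfix⟩
  apply MulEquiv.ext
  intro x
  apply Subtype.ext
  rw [hconj x, hab g hg x x.2, mul_assoc, mul_inv_cancel, mul_one]
  rfl

/-- every element of `T` acts on `Ω₁(P) ≅ C_p²` as a transvection or trivially: `[R, t, t] = 1` -/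
theorem C2_transv (hc : Cfg p T P A B) (hRexp : ∀ r ∈ Cfsg.omegaOne p P, r ^ p = 1)
    (hRcard : Nat.card (Cfsg.omegaOne p P) = p ^ 2) (t : Ω) (ht : t ∈ T) (r : Ω)
    (hr : r ∈ Cfsg.omegaOne p P) :
    t⁻¹ * (r⁻¹ * (t⁻¹ * r * t)) * t = r⁻¹ * (t⁻¹ * r * t) := by
  classical
  have hfT : Finite ↥T := hc.fin
  have hRT : Cfsg.omegaOne p P ≤ T := C2_R_le.trans hc.le
  let E : Subgroup ↥T := (Cfsg.omegaOne p P).subgroupOf T
  have hEn : E.Normal := by
    refine ⟨fun n hn g => ?_⟩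
    rw [Subgroup.mem_subgroupOf] at hn ⊢
    have hnP : (n : Ω) ∈ P := C2_R_le hn
    have h1 : (g : Ω) * (n : Ω) * (g : Ω)⁻¹ ∈ P :=
      (Subgroup.mem_normalizer_iff.mp (hc.norm g.2) _).1 hnP
    have h2 : ((g : Ω) * (n : Ω) * (g : Ω)⁻¹) ^ p = 1 := by
      rw [conj_pow, hRexp _ hn, mul_one, mul_inv_cancel]
    have := C2_mem_R h1 h2
    simpa using this
  have hEcard : Nat.card E = p ^ 2 := by
    rw [← hRcard]
    exact Nat.card_congr (Subgroup.subgroupOfEquivOfLe hRT).toEquiv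
  have hEexp : ∀ e ∈ E, e ^ p = 1 := by
    intro e he
    rw [Subgroup.mem_subgroupOf] at he
    apply Subtype.ext
    rw [Subgroup.coe_pow, Subgroup.coe_one]
    exact hRexp _ he
  have hact := Cfsg.Agent.Helper73.Blk.transvAct hc.pgrp E hEcard hEexp ⟨t, ht⟩
  by_cases hfix : t⁻¹ * r * t = r
  · rw [hfix, inv_mul_cancel, mul_one, inv_mul_cancel]
  · have hrE : (⟨r, hRT hr⟩ : T) ∈ E := by
      rw [Subgroup.mem_subgroupOf]; exact hr
    have hne : (⟨t, ht⟩ : T)⁻¹ * ⟨r, hRT hr⟩ * ⟨t, ht⟩ ≠ ⟨r, hRT hr⟩ := by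
      intro h
      apply hfix
      have := congrArg (fun y : T => (y : Ω)) h
      simpa using this
    obtain ⟨h1, -, -⟩ := hact ⟨r, hRT hr⟩ hrE hne
    have := congrArg (fun y : T => (y : Ω)) h1
    simpa using this

/-- `p`-th powers in an abelian group, conjugated -/
theorem C2_comm_pow (hab : ∀ x ∈ P, ∀ y ∈ P, x * y = y * x) (hTP : T ≤ Subgroup.normalizer (P : Set Ω))
    (t : Ω) (ht : t ∈ T) (x : Ω) (hx : x ∈ P) (n : ℕ) :
    (x⁻¹ * (t⁻¹ * x * t)) ^ n = (x ^ n)⁻¹ * (t⁻¹ * x ^ n * t) := by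
  have h1 : t⁻¹ * x * t ∈ P := by
    have := (Subgroup.mem_normalizer_iff.mp (hTP (T.inv_mem ht)) x).1 hx
    simpa using this
  have hcomm : Commute x⁻¹ (t⁻¹ * x * t) := hab _ (P.inv_mem hx) _ h1
  rw [hcomm.mul_pow, inv_pow]
  congr 1
  have e : t⁻¹ * x * t = t⁻¹ * x * t⁻¹⁻¹ := by rw [inv_inv]
  rw [e, conj_pow, inv_inv]

/-- (C2) `P` abelian with `R = Ω₁(P) ≅ C_p²`, `A` not `p`-closed ⇒ `|P| = p²`. -/
theorem card_of_central_abelian (h5 : 5 ≤ p) (hc : Cfg p T P A B) (hrad : Rad p P A) (hnpc : ¬ PClosed T P A)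
    (hRexp : ∀ r ∈ Cfsg.omegaOne p P, r ^ p = 1) (hRcard : Nat.card (Cfsg.omegaOne p P) = p ^ 2)
    (hline : ∀ L : Subgroup Ω, L ≤ Cfsg.omegaOne p P → Nat.card L = p →
      (∀ α ∈ A, ∀ x : P, (x : Ω) ∈ L → ((α x : P) : Ω) ∈ L) → PClosed T P A)
    (hab : ∀ x ∈ P, ∀ y ∈ P, x * y = y * x) : Nat.card P = p ^ 2 := by
  classical
  have hpp : p.Prime := hp.out
  have hp2 : p ≠ 2 := by omega
  have hfT : Finite ↥T := hc.fin
  have hfP : Finite ↥P := Finite.of_injective (Subgroup.inclusion hc.le) (Subgroup.inclusion_injective hc.le)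
  have hPp : IsPGroup p ↥P := hc.pgrp.to_le hc.le
  have hRP : Cfsg.omegaOne p P ≤ P := C2_R_le
  have hfR : Finite ↥(Cfsg.omegaOne p P) :=
    Finite.of_injective (Subgroup.inclusion hRP) (Subgroup.inclusion_injective hRP)
  have hfaith := C2_faithful (A := A) hp2 hPp hrad hRexp hab
  -- conjugation by elements of `T`
  have hnorm : ∀ g ∈ T, g ∈ Subgroup.normalizer (P : Set Ω) := fun g hg => hc.norm hg
  have hconjA : ∀ g (hg : g ∈ T), C2_conjAut P g (hnorm g hg) ∈ A := fun g hg =>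
    hc.conj_mem _ ⟨g, hg, fun x => rfl⟩
  -- an element of `T` centralizing `R` lies in `P`
  have hcentR : ∀ g ∈ T, (∀ r ∈ Cfsg.omegaOne p P, g⁻¹ * r * g = r) → g ∈ P := by
    intro g hg hgr
    have hg' : g⁻¹ ∈ T := T.inv_mem hg
    have h1 : C2_conjAut P g⁻¹ (hnorm _ hg') = 1 := by
      apply hfaith _ (hconjA _ hg')
      intro x hx
      apply Subtype.ext
      rw [C2_conjAut_apply, inv_inv]
      exact hgr _ hx
    have h2 : g⁻¹ ∈ P := by
      apply hc.cent _ hg'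
      intro x hx
      have h3 := congrArg (fun f : MulAut ↥P => ((f ⟨x, hx⟩ : P) : Ω)) h1
      simp only [C2_conjAut_apply, MulAut.one_apply, inv_inv] at h3
      calc g⁻¹ * x = (g⁻¹ * x * g) * g⁻¹ := by group
        _ = x * g⁻¹ := by rw [h3]
    have := P.inv_mem h2
    simpa using this
  -- pick `t ∈ T ∖ P`
  obtain ⟨t, ht, htP⟩ := SetLike.exists_of_lt (lt_of_le_of_ne hc.le hc.ne)
  have htr := C2_transv hc hRexp hRcard t ht
  -- `t` moves some `r₀ ∈ R`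
  have hmove : ∃ r₀ ∈ Cfsg.omegaOne p P, t⁻¹ * r₀ * t ≠ r₀ := by
    by_contra hcon
    apply htP
    apply hcentR t ht
    intro r hr
    by_contra hne
    exact hcon ⟨r, hr, hne⟩
  obtain ⟨r₀, hr₀, hr₀t⟩ := hmove
  -- conjugates stay in `P`, `R`
  have hconjP : ∀ x ∈ P, t⁻¹ * x * t ∈ P := by
    intro x hx
    have := (Subgroup.mem_normalizer_iff.mp (hnorm _ (T.inv_mem ht)) x).1 hx
    simpa using this
  have hconjR : ∀ r ∈ Cfsg.omegaOne p P, t⁻¹ * r * t ∈ Cfsg.omegaOne p P := by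
    intro r hr
    apply C2_mem_R (hconjP r (hRP hr))
    have e : t⁻¹ * r * t = t⁻¹ * r * t⁻¹⁻¹ := by rw [inv_inv]
    rw [e, conj_pow, hRexp r hr, mul_one, mul_inv_cancel]
  -- `t ^ p ∈ P`
  have htp : t ^ p ∈ P := by
    apply hcentR _ (T.pow_mem ht p)
    intro r hr
    have hy : r⁻¹ * (t⁻¹ * r * t) ∈ Cfsg.omegaOne p P :=
      (Cfsg.omegaOne p P).mul_mem ((Cfsg.omegaOne p P).inv_mem hr) (hconjR r hr)
    have h1 := Cfsg.Agent.Helper30.Blk.chain_conj t r (r⁻¹ * (t⁻¹ * r * t)) 1 1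
      (by group) (by rw [mul_one]; exact htr r hr) (by simp) (by simp) (by simp) (by simp) (by simp) p
    rw [h1, hRexp _ hy, one_pow, one_pow, mul_one, mul_one, mul_one]
  -- the subgroup of `p`-th powers lying in `R`
  let Pw : Subgroup Ω :=
    { carrier := {r | r ∈ Cfsg.omegaOne p P ∧ ∃ x ∈ P, x ^ p = r}
      mul_mem' := by
        rintro a b ⟨ha, x, hx, rfl⟩ ⟨hb, y, hy, rfl⟩
        refine ⟨(Cfsg.omegaOne p P).mul_mem ha hb, x * y, P.mul_mem hx hy, ?_⟩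
        exact (show Commute x y from hab x hx y hy).mul_pow p
      one_mem' := ⟨(Cfsg.omegaOne p P).one_mem, 1, P.one_mem, one_pow p⟩
      inv_mem' := by
        rintro a ⟨ha, x, hx, rfl⟩
        exact ⟨(Cfsg.omegaOne p P).inv_mem ha, x⁻¹, P.inv_mem hx, inv_pow x p⟩ }
  have hPwR : Pw ≤ Cfsg.omegaOne p P := fun r hr => hr.1
  have hPwinv : ∀ α ∈ A, ∀ x : P, (x : Ω) ∈ Pw → ((α x : P) : Ω) ∈ Pw := by
    intro α _ x hx
    obtain ⟨hxR, d, hd, hdx⟩ := hx
    refine ⟨C2_R_inv hRexp α x hxR, ((α ⟨d, hd⟩ : P) : Ω), (α ⟨d, hd⟩).2, ?_⟩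
    have h1 : x = (⟨d, hd⟩ : P) ^ p := by
      apply Subtype.ext
      rw [Subgroup.coe_pow]
      exact hdx.symm
    rw [h1, map_pow, Subgroup.coe_pow]
  have hPwcard : Nat.card Pw ∣ p ^ 2 := by
    rw [← hRcard]
    exact Subgroup.card_dvd_of_le hPwR
  obtain ⟨j, hj2, hj⟩ := (Nat.dvd_prime_pow hpp).1 hPwcard
  have hj01 : j = 0 ∨ j = 1 ∨ j = 2 := by omega
  rcases hj01 with rfl | rfl | rfl
  · -- `Pw = ⊥`: `P = R`
    rw [pow_zero] at hj
    have hPwbot : Pw = ⊥ := Subgroup.card_eq_one.mp hj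
    have hkey : ∀ k : ℕ, ∀ x ∈ P, x ^ (p ^ k) = 1 → x ^ p = 1 := by
      intro k
      induction k with
      | zero =>
        intro x _ hx
        rw [pow_zero, pow_one] at hx
        rw [hx, one_pow]
      | succ k ih =>
        intro x hx hxk
        have h1 : (x ^ p) ^ (p ^ k) = 1 := by
          rw [← pow_mul, ← pow_succ']
          exact hxk
        have h2 := ih (x ^ p) (P.pow_mem hx p) h1
        have h3 : x ^ p ∈ Pw := ⟨C2_mem_R (P.pow_mem hx p) h2, x, hx, rfl⟩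
        rw [hPwbot, Subgroup.mem_bot] at h3
        exact h3
    have hPR : P ≤ Cfsg.omegaOne p P := by
      intro x hx
      obtain ⟨k, hk⟩ := hPp ⟨x, hx⟩
      have hk' : x ^ (p ^ k) = 1 := by
        have := congrArg (fun y : P => (y : Ω)) hk
        simpa using this
      exact C2_mem_R hx (hkey k x hx hk')
    have hPeq : P = Cfsg.omegaOne p P := le_antisymm hPR hRP
    have h1 : Nat.card ↥P = Nat.card ↥(Cfsg.omegaOne p P) :=
      congrArg (fun H : Subgroup Ω => Nat.card ↥H) hPeq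
    rw [h1, hRcard]
  · -- `|Pw| = p`: the line case
    rw [pow_one] at hj
    exact absurd (hline Pw hPwR hj hPwinv) hnpc
  · -- `Pw = R`
    exfalso
    have hPweq : Pw = Cfsg.omegaOne p P := by
      apply Subgroup.eq_of_le_of_card_ge hPwR
      rw [hj, hRcard]
    have hr₀Pw : r₀ ∈ Pw := by rw [hPweq]; exact hr₀
    obtain ⟨-, x, hx, hxr⟩ := hr₀Pw
    -- the chain `x, y, r, s`
    set y := x⁻¹ * (t⁻¹ * x * t) with hy
    set r := y⁻¹ * (t⁻¹ * y * t) with hr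
    set s := r⁻¹ * (t⁻¹ * r * t) with hs
    have hyP : y ∈ P := P.mul_mem (P.inv_mem hx) (hconjP x hx)
    have hrP : r ∈ P := P.mul_mem (P.inv_mem hyP) (hconjP y hyP)
    have hsP : s ∈ P := P.mul_mem (P.inv_mem hrP) (hconjP r hrP)
    have hyp : y ^ p = r₀⁻¹ * (t⁻¹ * r₀ * t) := by
      rw [hy, C2_comm_pow hab hc.norm t ht x hx p, hxr]
    have hyp1 : y ^ p ≠ 1 := by
      rw [hyp]
      intro h
      apply hr₀t
      have : t⁻¹ * r₀ * t = r₀ * (r₀⁻¹ * (t⁻¹ * r₀ * t)) := by group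
      rw [this, h, mul_one]
    have hrp : r ^ p = 1 := by
      rw [hr, C2_comm_pow hab hc.norm t ht y hyP p, hyp, htr r₀ hr₀, inv_mul_cancel]
    have hrR : r ∈ Cfsg.omegaOne p P := C2_mem_R hrP hrp
    have hsR : s ∈ Cfsg.omegaOne p P :=
      (Cfsg.omegaOne p P).mul_mem ((Cfsg.omegaOne p P).inv_mem hrR) (hconjR r hrR)
    have hsfix : t⁻¹ * s * t = s := htr r hrR
    have hsp : s ^ p = 1 := hRexp s hsR
    have h1 := Cfsg.Agent.Helper30.Blk.chain_conj t x y r s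
      (by rw [hy]; group) (by rw [hr]; group) (by rw [hs]; group) hsfix
      (hab y hyP r hrP) (hab y hyP s hsP) (hab r hrP s hsP) p
    have hc2 : p ∣ p.choose 2 := Nat.Prime.dvd_choose_self hpp (by norm_num) (by omega)
    have hc3 : p ∣ p.choose 3 := Nat.Prime.dvd_choose_self hpp (by norm_num) (by omega)
    obtain ⟨a2, ha2⟩ := hc2
    obtain ⟨a3, ha3⟩ := hc3
    rw [ha2, ha3, pow_mul r, pow_mul s, hrp, hsp, one_pow, one_pow, mul_one, mul_one] at h1
    have h2 : (t ^ p)⁻¹ * x * t ^ p = x := by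
      rw [mul_assoc, hab x hx _ htp, ← mul_assoc, inv_mul_cancel, one_mul]
    rw [h2] at h1
    apply hyp1
    have h3 : x * 1 = x * y ^ p := by rw [mul_one]; exact h1
    exact (mul_left_cancel h3).symm

end localcfg

end Cfsg.Agent.Helper10.Res
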