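import Mathlib
import Cfsg.Prelude.Def_LocalEven
import Cfsg.Agent.S1969
import Cfsg.Agent.Helper37.InvolvesQuotient
import Cfsg.Agent.Helper10.QdNoControl

/-!
# `Qd(p)`-free iff `Z(J)` controls strong fusion in all sections, modulo the `Qd(p)`-free ZJ-theorem (helper10)

`qd_free_iff_of_zj` takes the statement of S0664 (Glauberman's ZJ-theorem, `Qd(p)`-free form), for all finite
groups of the universe, as a hypothesis.
-/

set_option autoImplicit false

namespace Cfsg.Agent.Helper10.S2794Core

open Subgroup Cfsg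

universe u

/-- a group with an injective hom into `G` and a surjective hom onto `Q` gives a section of `G` -/
theorem involves_of_inj_surj {A : Type*} [Group A] {G : Type*} [Group G] {Q : Type*} [Group Q]
    (j : A →* G) (hj : Function.Injective j) (π : A →* Q) (hπ : Function.Surjective π) :
    Cfsg.Involves Q G := by
  let e : A ≃* j.range := MonoidHom.ofInjective hj
  let f : j.range →* Q := π.comp e.symm.toMonoidHom
  have hf : Function.Surjective f := by
    intro q
    obtain ⟨a, rfl⟩ := hπ q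
    exact ⟨e a, by simp [f]⟩
  have hker : ((f.ker).map j.range.subtype).subgroupOf j.range = f.ker := by
    rw [Subgroup.subgroupOf]
    exact Subgroup.comap_map_eq_self_of_injective (Subgroup.subtype_injective _) _
  have hn : (((f.ker).map j.range.subtype).subgroupOf j.range).Normal := by
    rw [hker]; infer_instance
  refine ⟨j.range, (f.ker).map j.range.subtype, hn, ⟨?_⟩⟩
  exact (QuotientGroup.quotientMulEquivOfEq hker).trans (QuotientGroup.quotientKerEquivOfSurjective f hf)

theorem involves_of_involves_subgroup' {G : Type*} [Group G] (M : Subgroup G) {Q : Type*} [Group Q]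
    (h : Cfsg.Involves Q ↥M) : Cfsg.Involves Q G := by
  obtain ⟨K', R', hn, ⟨e⟩⟩ := h
  have := hn
  refine involves_of_inj_surj (M.subtype.comp K'.subtype)
    (M.subtype_injective.comp K'.subtype_injective)
    (e.toMonoidHom.comp (QuotientGroup.mk' (R'.subgroupOf K'))) ?_
  exact e.surjective.comp (QuotientGroup.mk'_surjective _)

theorem qd_free_iff_of_zj {G : Type u} [Group G] [Finite G] {p : ℕ} [Fact p.Prime]
    (hzj : ∀ (X : Type u) [Group X] [Finite X],
      (¬ ∃ (K R : Subgroup X) (_ : (R.subgroupOf K).Normal), Nonempty ((K ⧸ R.subgroupOf K) ≃* ↥(Cfsg.qd p))) →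
      Subgroup.centralizer (Cfsg.pCore p X : Set X) ≤ Cfsg.pCore p X →
      ∀ S : Sylow p X, (Cfsg.centerThompsonAOf ((S : Subgroup X))).Normal) :
    ¬ Cfsg.Involves ↥(Cfsg.qd p) G ↔
      ∀ (K R : Subgroup G) [hR : (R.subgroupOf K).Normal], ∀ T : Sylow p (K ⧸ R.subgroupOf K),
        Cfsg.ControlsStrongFusion p (Cfsg.centerThompsonAOf (T : Subgroup (K ⧸ R.subgroupOf K))) := by
  constructor
  · intro hfree
    have hloc : ∀ (K R : Subgroup G) [hR : (R.subgroupOf K).Normal],
        Subgroup.centralizer ((Cfsg.pCore p (↥K ⧸ R.subgroupOf K) : Subgroup (↥K ⧸ R.subgroupOf K)) :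
          Set (↥K ⧸ R.subgroupOf K)) ≤ Cfsg.pCore p (↥K ⧸ R.subgroupOf K) →
        ∀ T : Sylow p (↥K ⧸ R.subgroupOf K),
          (Cfsg.inducedFunctor (G := (↥K ⧸ R.subgroupOf K)) Cfsg.Agent.Helper10.ZJF.zjA
            ((T : Subgroup (↥K ⧸ R.subgroupOf K)))).Normal := by
      intro K R hR hcon T
      rw [Cfsg.Agent.Helper10.ZJF.inducedFunctor_zjA]
      refine hzj (↥K ⧸ R.subgroupOf K) ?_ hcon T
      rintro ⟨K', R', hR', ⟨e'⟩⟩
      apply hfree
      apply involves_of_involves_subgroup' K
      exact Cfsg.Agent.Helper37.involves_of_involves_quotient (R.subgroupOf K) ⟨K', R', hR', ⟨e'⟩⟩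
    intro K R hR T
    have h := Cfsg.Agent.S1969.result Cfsg.Agent.Helper10.ZJF.zjA
      (Cfsg.Agent.Helper10.ZJF.isCharPFunctor_zjA p) hloc K R T
    rw [Cfsg.Agent.Helper10.ZJF.inducedFunctor_zjA] at h
    exact h
  · intro h hinv
    obtain ⟨K, R, hR, ⟨e⟩⟩ := hinv
    obtain ⟨T, hT⟩ := Cfsg.Agent.Helper10.QdNC.exists_sylow_not_controls e
    exact hT (@h K R hR T)

end Cfsg.Agent.Helper10.S2794Core
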