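-- helper10: piece (CE) of #13417 for helper25 (S4472): the canonical extension over a normal Hall
-- subgroup has all its values in `ℚ(ζ_{|H|})`.
import Mathlib
import Cfsg.Agent.S0867
import Cfsg.Agent.Helper82.CanonicalGalois
import Cfsg.Agent.Helper80.CharLevel
import Cfsg.Agent.Helper80.Degree
import Cfsg.Agent.Helper74.CharBasic
import Cfsg.Agent.Helper25.PSolvLin.PowFix
import Cfsg.Agent.Helper25.PSolvLin.Defs

set_option autoImplicit false

namespace Cfsg.Agent.Helper10.S4472CE

open Cfsg Cfsg.Agent.Helper25.PSolvLin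

universe u

/-- **(CE)** `H ⊴ X` a normal Hall subgroup, `θ ∈ Irr(H)` invariant in `X`: `θ` has an extension to `X`
all of whose values lie in `ℚ(ζ_{|H|})`. -/
theorem exists_rat_ext {X : Type u} [Group X] [Finite X] (H : Subgroup X) [hH : H.Normal]
    (hcop : Nat.Coprime H.index (Nat.card H)) {θ : H → ℂ} (hθ : IsIrrCharacter H θ)
    (hinv : ∀ (x : X) (h : H), θ ⟨x * h * x⁻¹, hH.conj_mem (h : X) h.2 x⟩ = θ h) :
    ∃ θh : X → ℂ, IsIrrCharacter X θh ∧ (∀ h : H, θh h = θ h) ∧
      ∀ x : X, θh x ∈ cycField (Nat.card H) := by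
  classical
  have hθc : IsCharacter H θ := Helper74.isCharacter_of_isIrr hθ
  have hd : θ 1 = (charDegree θ : ℂ) := (Helper80.IsCharacter.charDegree_cast hθc).symm
  have hdd : charDegree θ ∣ Nat.card H := Helper80.IsIrrCharacter.charDegree_dvd_card hθ
  have hdet : detOrder θ ∣ Nat.card H := Helper82.detOrder_dvd_card hθc
  have hcop' : Nat.Coprime H.index (detOrder θ * charDegree θ) :=
    Nat.Coprime.mul_right (hcop.coprime_dvd_right hdet) (hcop.coprime_dvd_right hdd)
  obtain ⟨θh, ⟨hirr, hext, hdeteq⟩, -⟩ :=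
    Cfsg.Agent.S0867.result H θ hθ hinv (charDegree θ) hd hcop'
  have hθhc : IsCharacter X θh := Helper74.isCharacter_of_isIrr hirr
  have hcopdet : Nat.Coprime H.index (detOrder θh) := by
    rw [hdeteq]
    exact hcop.coprime_dvd_right hdet
  refine ⟨θh, hirr, hext, ?_⟩
  have hmn : Nat.card H ∣ Nat.card X := Subgroup.card_subgroup_dvd_card H
  exact mem_adjoin_of_powFix (Nat.card X) (Nat.card H) Nat.card_pos hmn
    (fun x => pow_card_eq_one') hθhc
    (fun k hk hk1 x =>
      Helper82.canonical_ext_pow_eq H hθ hinv hcop hirr hext hcopdet k hk hk1 x)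

end Cfsg.Agent.Helper10.S4472CE
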