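import Mathlib
import Cfsg.Agent.Helper62.S6.Defs
import Cfsg.Agent.Helper48.CoprimeGen

/-!
# S3333 piece (R1): a `3'`-subgroup normalized by `S` is trivial
-/

set_option autoImplicit false
open Cfsg

namespace Cfsg.Agent.Helper10.S6

open Cfsg.Agent.Helper62.S6 Cfsg.Agent.Helper62.D8

universe u
variable {G : Type u} [Group G] [Finite G]
variable {S : Subgroup G} {x y t f : G}

/-- (R1) a `3'`-subgroup normalized by `S` is trivial. -/
theorem three_prime_eq_bot (h : Cfg S x y t f) (K : Subgroup G)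
    (hSK : S ≤ Subgroup.normalizer (K : Set G)) (h3 : ¬ 3 ∣ Nat.card K) : K = ⊥ := by
  have : Fact (Nat.Prime 3) := ⟨Nat.prime_three⟩
  have hc : Commute x y := h.nd.comm
  have hexp : ∀ s ∈ S, s ^ 3 = 1 := by
    intro s hs
    obtain ⟨i, k, rfl⟩ := h.nd.memT s hs
    rw [(hc.pow_pow i k).mul_pow, ← pow_mul, ← pow_mul, mul_comm i 3, mul_comm k 3, pow_mul,
      pow_mul, h.nd.x3, h.nd.y3, one_pow, one_pow, one_mul]
  have hEA : Cfsg.Agent.Helper48.IsEA2 3 S := ⟨h.nd.commT, hexp, by rw [h.card]; norm_num⟩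
  have hle := Cfsg.Agent.Helper48.le_cgen K S h3 hSK hEA
  -- `S ∩ K = 1`
  have hSK1 : ∀ g ∈ S, g ∈ K → g = 1 := by
    intro g hgS hgK
    have h1 : orderOf g ∣ 3 := orderOf_dvd_of_pow_eq_one (hexp g hgS)
    have h2 : orderOf g ∣ Nat.card K := Subgroup.orderOf_dvd_natCard K hgK
    have h4 : orderOf g = 1 := by
      rcases (Nat.dvd_prime Nat.prime_three).mp h1 with h5 | h5
      · exact h5
      · exact absurd (h5 ▸ h2) h3
    exact orderOf_eq_one_iff.mp h4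
  rw [eq_bot_iff]
  refine hle.trans ?_
  unfold Cfsg.Agent.Helper48.cgen
  apply iSup_le
  rintro ⟨a, haS, ha1⟩ g hg
  obtain ⟨hgK, hgC⟩ := Subgroup.mem_inf.mp hg
  have hgN : g ∈ Subgroup.normalizer (S : Set G) := h.loc a haS ha1 hgC
  rw [Subgroup.mem_bot]
  apply hSK1 g _ hgK
  rw [← h.cent, Subgroup.mem_centralizer_iff]
  intro s hs
  -- `[g, s] ∈ S ∩ K`
  have hsS : s ∈ S := hs
  have h1 : g * s * g⁻¹ * s⁻¹ ∈ S :=
    S.mul_mem ((Subgroup.mem_normalizer_iff.mp hgN s).mp hsS) (S.inv_mem hsS)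
  have h2 : g * s * g⁻¹ * s⁻¹ ∈ K := by
    have h5 : s * g⁻¹ * s⁻¹ ∈ K :=
      (Subgroup.mem_normalizer_iff.mp (hSK hsS) g⁻¹).mp (K.inv_mem hgK)
    have e : g * s * g⁻¹ * s⁻¹ = g * (s * g⁻¹ * s⁻¹) := by group
    rw [e]
    exact K.mul_mem hgK h5
  have h6 := hSK1 _ h1 h2
  have e : g * s = (g * s * g⁻¹ * s⁻¹) * (s * g) := by group
  rw [e, h6, one_mul]

end Cfsg.Agent.Helper10.S6
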