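import Mathlib
import Cfsg.Agent.Helper62.S6.Defs

/-!
# S3333 piece (R2b): `v` and `f v f⁻¹` generate `S`
-/

set_option autoImplicit false
open Cfsg

namespace Cfsg.Agent.Helper10.S6

open Cfsg.Agent.Helper62.S6 Cfsg.Agent.Helper62.D8

universe u
variable {G : Type u} [Group G] [Finite G]
variable {S : Subgroup G} {x y t f : G}

private theorem R2b_mod (i k : ℕ) (h : ¬ (3 ∣ i ∧ 3 ∣ k)) :
    (i * i + 2 * k * (2 * k)) % 3 ≠ 0 ∧ (k * k + i * i) % 3 ≠ 0 := by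
  have e1 : (i * i + 2 * k * (2 * k)) % 3 = ((i % 3) * (i % 3) + 2 * (k % 3) * (2 * (k % 3))) % 3 := by
    simp [Nat.add_mod, Nat.mul_mod]
  have e2 : (k * k + i * i) % 3 = ((k % 3) * (k % 3) + (i % 3) * (i % 3)) % 3 := by
    simp [Nat.add_mod, Nat.mul_mod]
  rw [e1, e2]
  have hi : i % 3 < 3 := Nat.mod_lt _ (by norm_num)
  have hk : k % 3 < 3 := Nat.mod_lt _ (by norm_num)
  have h' : ¬ (i % 3 = 0 ∧ k % 3 = 0) := by
    rintro ⟨a, b⟩
    exact h ⟨Nat.dvd_of_mod_eq_zero a, Nat.dvd_of_mod_eq_zero b⟩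
  generalize i % 3 = a at *
  generalize k % 3 = b at *
  interval_cases a <;> interval_cases b <;> simp_all

private theorem R2b_mem_of_pow {K : Subgroup G} {z : G} (hz : z ^ 3 = 1) (d : ℕ)
    (hd : d % 3 ≠ 0) (hK : z ^ d ∈ K) : z ∈ K := by
  rw [pow_eq_pow_mod d hz] at hK
  have hlt : d % 3 < 3 := Nat.mod_lt _ (by norm_num)
  have h12 : d % 3 = 1 ∨ d % 3 = 2 := by omega
  rcases h12 with h1 | h2
  · rw [h1, pow_one] at hK
    exact hK
  · rw [h2] at hK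
    have h4 := K.pow_mem hK 2
    rw [← pow_mul, pow_eq_pow_mod (2 * 2) hz] at h4
    simpa using h4

/-- (R2b) irreducibility: `v` and `f v f⁻¹` generate `S`. -/
theorem le_of_mem_of_conj_mem (h : Cfg S x y t f) (K : Subgroup G) (v : G) (hvS : v ∈ S)
    (hv1 : v ≠ 1) (hvK : v ∈ K) (hfK : f * v * f⁻¹ ∈ K) : S ≤ K := by
  have hc : Commute x y := h.nd.comm
  have hx3 := h.nd.x3
  have hy3 := h.nd.y3
  obtain ⟨i, k, rfl⟩ := h.nd.memT v hvS
  have hmul : ∀ a b c d : ℕ, x ^ a * y ^ b * (x ^ c * y ^ d) = x ^ (a + c) * y ^ (b + d) := by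
    intro a b c d
    rw [pow_add, pow_add]
    have e := (hc.pow_pow c b).eq
    calc x ^ a * y ^ b * (x ^ c * y ^ d) = x ^ a * (y ^ b * x ^ c) * y ^ d := by group
      _ = x ^ a * (x ^ c * y ^ b) * y ^ d := by rw [e]
      _ = x ^ a * x ^ c * (y ^ b * y ^ d) := by group
  have hpow : ∀ a b n : ℕ, (x ^ a * y ^ b) ^ n = x ^ (a * n) * y ^ (b * n) := by
    intro a b n
    rw [(hc.pow_pow a b).mul_pow, ← pow_mul, ← pow_mul]
  have hxinv : x⁻¹ = x ^ 2 := by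
    apply inv_eq_of_mul_eq_one_right
    rw [← pow_succ', hx3]
  have hw : f * (x ^ i * y ^ k) * f⁻¹ = x ^ (2 * k) * y ^ i := by
    have e1 : f * (x ^ i * y ^ k) * f⁻¹ = (f * x * f⁻¹) ^ i * (f * y * f⁻¹) ^ k := by
      rw [conj_pow, conj_pow]
      group
    rw [e1, h.nd.fx, h.nd.fy, hxinv, ← pow_mul, (hc.pow_pow (2 * k) i).eq]
  rw [hw] at hfK
  have hnd : ¬ (3 ∣ i ∧ 3 ∣ k) := by
    rintro ⟨⟨a, rfl⟩, ⟨b, rfl⟩⟩
    apply hv1
    rw [pow_mul, pow_mul, hx3, hy3, one_pow, one_pow, one_mul]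
  obtain ⟨hd1, hd2⟩ := R2b_mod i k hnd
  -- `x ∈ K`
  have hxK : x ∈ K := by
    have h1 := K.mul_mem (K.pow_mem hvK i) (K.pow_mem hfK (2 * k))
    rw [hpow, hpow, hmul] at h1
    have e : k * i + i * (2 * k) = 3 * (i * k) := by ring
    rw [e, pow_mul, hy3, one_pow, mul_one] at h1
    exact R2b_mem_of_pow hx3 _ hd1 h1
  have hyK : y ∈ K := by
    have h1 := K.mul_mem (K.pow_mem hvK k) (K.pow_mem hfK i)
    rw [hpow, hpow, hmul] at h1
    have e : i * k + 2 * k * i = 3 * (i * k) := by ring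
    rw [e, pow_mul, hx3, one_pow, one_mul] at h1
    exact R2b_mem_of_pow hy3 _ hd2 h1
  intro s hs
  obtain ⟨a, b, rfl⟩ := h.nd.memT s hs
  exact K.mul_mem (K.pow_mem hxK a) (K.pow_mem hyK b)

end Cfsg.Agent.Helper10.S6
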