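import Mathlib
import Cfsg.Agent.Helper62.S6.Defs

/-!
# S3333 piece (R4c), core: an `L`-normal subgroup `K ≤ L` meeting `S` properly and nontrivially
forces `S ⊴ G`.  The pieces (R1), (R2a), (R2b), (R3) enter as hypotheses.
-/

set_option autoImplicit false
open Cfsg

namespace Cfsg.Agent.Helper10.S6

open Cfsg.Agent.Helper62.S6 Cfsg.Agent.Helper62.D8

universe u
variable {G : Type u} [Group G]
variable {S : Subgroup G} {x y t f : G}

/-- a subgroup all of whose elements conjugate `H` into itself normalizes `H` -/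
theorem le_normalizer_of_conj_mem {H L : Subgroup G}
    (hL : ∀ l ∈ L, ∀ g ∈ H, l * g * l⁻¹ ∈ H) : L ≤ Subgroup.normalizer (H : Set G) := by
  intro l hl
  rw [Subgroup.mem_normalizer_iff]
  intro g
  constructor
  · exact hL l hl g
  · intro hg
    have h1 := hL l⁻¹ (L.inv_mem hl) _ hg
    have e : l⁻¹ * (l * g * l⁻¹) * l⁻¹⁻¹ = g := by group
    rwa [e] at h1

theorem conj_mem_of_le_normalizer {H L : Subgroup G} (hL : L ≤ Subgroup.normalizer (H : Set G))
    {l g : G} (hl : l ∈ L) (hg : g ∈ H) : l * g * l⁻¹ ∈ H :=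
  (Subgroup.mem_normalizer_iff.mp (hL hl) g).mp hg

/-- a `3`-element of `N_G(S)` lies in the Sylow subgroup `S` -/
theorem mem_of_mem_normalizer_of_orderOf_dvd (h : Cfg S x y t f) {g : G}
    (hgN : g ∈ Subgroup.normalizer (S : Set G)) (hg : orderOf g ∣ 9) : g ∈ S := by
  obtain ⟨P, hP⟩ := h.syl
  have : Fact (Nat.Prime 3) := ⟨Nat.prime_three⟩
  have h9 : (9 : ℕ) = 3 ^ 2 := by norm_num
  rw [h9] at hg
  obtain ⟨j, -, hj⟩ := (Nat.dvd_prime_pow Nat.prime_three).mp hg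
  have hZ : IsPGroup 3 (Subgroup.zpowers g) := by
    apply IsPGroup.of_card (n := j)
    rw [Nat.card_zpowers, hj]
  have hS : IsPGroup 3 (P : Subgroup G) := P.isPGroup'
  have hZN : Subgroup.zpowers g ≤ Subgroup.normalizer ((P : Subgroup G) : Set G) := by
    rw [Subgroup.zpowers_le, ← hP]
    exact hgN
  have hQ := IsPGroup.to_sup_of_normal_right' hZ hS hZN
  have hQP := P.is_maximal' hQ le_sup_right
  rw [hP, ← hQP]
  exact (le_sup_left : Subgroup.zpowers g ≤ _) (Subgroup.mem_zpowers g)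

/-- (R4c), with the other pieces as hypotheses -/
theorem normal_of_inf_order_three_core (h : Cfg S x y t f)
    (hR1 : ∀ K : Subgroup G, S ≤ Subgroup.normalizer (K : Set G) → ¬ 3 ∣ Nat.card K → K = ⊥)
    (hR2a : ∀ M : Subgroup G, S ≤ M → ∀ K : Subgroup G, K ≤ M →
      M ≤ Subgroup.normalizer (K : Set G) → 3 ∣ Nat.card K → ∃ v ∈ K, v ∈ S ∧ v ≠ 1)
    (hR2b : ∀ (K : Subgroup G) (v : G), v ∈ S → v ≠ 1 → v ∈ K → f * v * f⁻¹ ∈ K → S ≤ K)
    (hR3 : ∀ (K : Subgroup G), K.Normal → S ≤ K → ∀ g : G,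
      ∃ k ∈ K, ∃ n ∈ Subgroup.normalizer (S : Set G), g = k * n)
    (K : Subgroup G)
    (hKL : K ≤ Subgroup.normalClosure (S : Set G))
    (hLK : Subgroup.normalClosure (S : Set G) ≤ Subgroup.normalizer (K : Set G))
    (v : G) (hvK : v ∈ K) (hvS : v ∈ S) (hv1 : v ≠ 1) (hSK : ¬ S ≤ K) : S.Normal := by
  -- (R2)
  have hR2 : ∀ M : Subgroup G, M.Normal → M ≠ ⊥ → S ≤ M := by
    intro M hMn hM
    have hnorm : Subgroup.normalizer (M : Set G) = ⊤ := Subgroup.normalizer_eq_top_iff.mpr hMn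
    have h3 : 3 ∣ Nat.card M := by
      by_contra h3
      exact hM (hR1 M (by rw [hnorm]; exact le_top) h3)
    obtain ⟨w, hwM, hwS, hw1⟩ := hR2a ⊤ le_top M le_top (by rw [hnorm]) h3
    exact hR2b M w hwS hw1 hwM (hMn.conj_mem w hwM f)
  set L := Subgroup.normalClosure (S : Set G) with hL
  have hSL : S ≤ L := Subgroup.le_normalClosure
  have hLn : L.Normal := Subgroup.normalClosure_normal
  have hfN : f ∈ Subgroup.normalizer (S : Set G) := h.nd.fN
  have hfN' : f⁻¹ ∈ Subgroup.normalizer (S : Set G) := Subgroup.inv_mem _ hfN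
  have hNS : ∀ {n s : G}, n ∈ Subgroup.normalizer (S : Set G) → s ∈ S → n * s * n⁻¹ ∈ S :=
    fun {n s} hn hs => (Subgroup.mem_normalizer_iff.mp hn s).mp hs
  -- the conjugate `K2 = f K f⁻¹`
  let K2 : Subgroup G := K.map (MulAut.conj f).toMonoidHom
  have mem_K2 : ∀ g, g ∈ K2 ↔ f⁻¹ * g * f ∈ K := by
    intro g
    constructor
    · rintro ⟨k, hk, rfl⟩
      have e : f⁻¹ * ((MulAut.conj f).toMonoidHom k) * f = k := by
        simp only [MulEquiv.coe_toMonoidHom, MulAut.conj_apply]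
        group
      rw [e]
      exact hk
    · intro hg
      refine ⟨f⁻¹ * g * f, hg, ?_⟩
      simp only [MulEquiv.coe_toMonoidHom, MulAut.conj_apply]
      group
  have hK2L : K2 ≤ L := by
    intro g hg
    have h1 : f⁻¹ * g * f ∈ L := hKL ((mem_K2 g).mp hg)
    have h2 := hLn.conj_mem _ h1 f
    have e : f * (f⁻¹ * g * f) * f⁻¹ = g := by group
    rwa [e] at h2
  have hLK2 : L ≤ Subgroup.normalizer (K2 : Set G) := by
    apply le_normalizer_of_conj_mem
    intro l hl g hg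
    rw [mem_K2] at hg ⊢
    have hl' : f⁻¹ * l * f ∈ L := by
      have := hLn.conj_mem l hl f⁻¹
      simpa using this
    have h1 := conj_mem_of_le_normalizer hLK hl' hg
    have e : f⁻¹ * l * f * (f⁻¹ * g * f) * (f⁻¹ * l * f)⁻¹ = f⁻¹ * (l * g * l⁻¹) * f := by group
    rwa [e] at h1
  -- `D = K ∩ K2` is trivial
  have hDS : ∀ w ∈ K ⊓ K2, w ∈ S → w = 1 := by
    intro w hw hwS
    by_contra hw1
    apply hSK
    have haK : f⁻¹ * w * f ∈ K := (mem_K2 w).mp hw.2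
    have haS : f⁻¹ * w * f ∈ S := by
      have := hNS hfN' hwS
      simpa using this
    have ha1 : f⁻¹ * w * f ≠ 1 := by
      intro hc
      apply hw1
      have e : w = f * (f⁻¹ * w * f) * f⁻¹ := by group
      rw [e, hc]
      group
    refine hR2b K (f⁻¹ * w * f) haS ha1 haK ?_
    have e : f * (f⁻¹ * w * f) * f⁻¹ = w := by group
    rw [e]
    exact hw.1
  have hDL : K ⊓ K2 ≤ L := inf_le_left.trans hKL
  have hLD : L ≤ Subgroup.normalizer ((K ⊓ K2 : Subgroup G) : Set G) := by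
    apply le_normalizer_of_conj_mem
    intro l hl g hg
    exact ⟨conj_mem_of_le_normalizer hLK hl hg.1, conj_mem_of_le_normalizer hLK2 hl hg.2⟩
  have hD3 : ¬ 3 ∣ Nat.card (K ⊓ K2 : Subgroup G) := by
    intro h3
    obtain ⟨w, hwD, hwS, hw1⟩ := hR2a L hSL (K ⊓ K2) hDL hLD h3
    exact hw1 (hDS w hwD hwS)
  have hD : K ⊓ K2 = ⊥ := hR1 (K ⊓ K2) (hSL.trans hLD) hD3
  -- `K2` centralizes `v`
  have hcomm : ∀ k ∈ K2, v * k = k * v := by
    intro k hk
    have hkL : k ∈ L := hK2L hk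
    have hvL : v ∈ L := hKL hvK
    have h1 : k * v * k⁻¹ * v⁻¹ ∈ K :=
      K.mul_mem (conj_mem_of_le_normalizer hLK hkL hvK) (K.inv_mem hvK)
    have h2 : k * v * k⁻¹ * v⁻¹ ∈ K2 := by
      have h3 : v * k⁻¹ * v⁻¹ ∈ K2 := conj_mem_of_le_normalizer hLK2 hvL (K2.inv_mem hk)
      have e : k * v * k⁻¹ * v⁻¹ = k * (v * k⁻¹ * v⁻¹) := by group
      rw [e]
      exact K2.mul_mem hk h3
    have h4 : k * v * k⁻¹ * v⁻¹ ∈ (K ⊓ K2 : Subgroup G) := ⟨h1, h2⟩
    rw [hD, Subgroup.mem_bot] at h4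
    have e : k * v = (k * v * k⁻¹ * v⁻¹) * (v * k) := by group
    rw [e, h4, one_mul]
  have hK2N : K2 ≤ Subgroup.normalizer (S : Set G) := by
    intro k hk
    apply h.loc v hvS hv1
    rw [Subgroup.mem_centralizer_iff]
    intro w hw
    rw [Set.mem_singleton_iff] at hw
    subst hw
    exact hcomm k hk
  -- `L` normalizes `A2 = K2 ∩ S`
  have hLA : ∀ l ∈ L, ∀ a ∈ K2 ⊓ S, l * a * l⁻¹ ∈ (K2 ⊓ S : Subgroup G) := by
    intro l hl a ha
    have h1 : l * a * l⁻¹ ∈ K2 := conj_mem_of_le_normalizer hLK2 hl ha.1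
    refine ⟨h1, mem_of_mem_normalizer_of_orderOf_dvd h (hK2N h1) ?_⟩
    have e : l * a * l⁻¹ = MulAut.conj l a := by simp [MulAut.conj_apply]
    rw [e, MulEquiv.orderOf_eq, ← h.card]
    exact Subgroup.orderOf_dvd_natCard S ha.2
  -- all `G`-conjugates of `A2` lie in `S`
  have hGA : ∀ g : G, ∀ a ∈ K2 ⊓ S, g * a * g⁻¹ ∈ S := by
    intro g a ha
    obtain ⟨k, hk, n, hn, hg⟩ := hR3 L hLn hSL g⁻¹
    have hg' : g = n⁻¹ * k⁻¹ := by
      have : g = (g⁻¹)⁻¹ := by group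
      rw [this, hg]
      group
    have h1 := hLA k⁻¹ (L.inv_mem hk) a ha
    have h2 := hNS (Subgroup.inv_mem _ hn) h1.2
    have e : g * a * g⁻¹ = n⁻¹ * (k⁻¹ * a * k⁻¹⁻¹) * n⁻¹⁻¹ := by
      rw [hg']
      group
    rw [e]
    exact h2
  -- the normal closure of `A2`
  have hv2K2 : f * v * f⁻¹ ∈ K2 := by
    rw [mem_K2]
    have e : f⁻¹ * (f * v * f⁻¹) * f = v := by group
    rw [e]
    exact hvK
  have hv2S : f * v * f⁻¹ ∈ S := hNS hfN hvS
  have hv21 : f * v * f⁻¹ ≠ 1 := by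
    intro hc
    apply hv1
    have e : v = f⁻¹ * (f * v * f⁻¹) * f := by group
    rw [e, hc]
    group
  have hMS : Subgroup.normalClosure (((K2 ⊓ S : Subgroup G)) : Set G) ≤ S := by
    unfold Subgroup.normalClosure
    rw [Subgroup.closure_le]
    intro g hg
    rw [Group.mem_conjugatesOfSet_iff] at hg
    obtain ⟨a, ha, hag⟩ := hg
    rw [isConj_iff] at hag
    obtain ⟨c, rfl⟩ := hag
    exact hGA c a ha
  have hMne : Subgroup.normalClosure (((K2 ⊓ S : Subgroup G)) : Set G) ≠ ⊥ := by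
    intro hc
    have : f * v * f⁻¹ ∈ Subgroup.normalClosure (((K2 ⊓ S : Subgroup G)) : Set G) :=
      Subgroup.subset_normalClosure ⟨hv2K2, hv2S⟩
    rw [hc, Subgroup.mem_bot] at this
    exact hv21 this
  have hSM := hR2 _ Subgroup.normalClosure_normal hMne
  have hEq : S = Subgroup.normalClosure (((K2 ⊓ S : Subgroup G)) : Set G) := le_antisymm hSM hMS
  rw [hEq]
  exact Subgroup.normalClosure_normal

end Cfsg.Agent.Helper10.S6
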