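import Mathlib
import Cfsg.Agent.Helper62.S6.Defs
import Cfsg.Agent.Helper10.S6R4cCore
import Cfsg.Agent.Helper10.S6R1
import Cfsg.Agent.Helper10.S6R2b
import Cfsg.Agent.Helper65.S6R2a
import Cfsg.Agent.Helper65.S6R3

/-!
# S3333 piece (R4c): an `L`-normal subgroup `K ≤ L` meeting `S` in a subgroup of order 3 forces
`S ⊴ G` (verbatim skeleton statement)
-/

set_option autoImplicit false
open Cfsg

namespace Cfsg.Agent.Helper10.S6

open Cfsg.Agent.Helper62.S6 Cfsg.Agent.Helper62.D8

universe u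
variable {G : Type u} [Group G] [Finite G]
variable {S : Subgroup G} {x y t f : G}

/-- (R4c) an `L`-normal subgroup `K ≤ L` meeting `S` in a subgroup of order 3 forces `S ⊴ G`. -/
theorem normal_of_inf_order_three (h : Cfg S x y t f) (K : Subgroup G)
    (hKL : K ≤ Subgroup.normalClosure (S : Set G))
    (hLK : Subgroup.normalClosure (S : Set G) ≤ Subgroup.normalizer (K : Set G))
    (v : G) (hvK : v ∈ K) (hvS : v ∈ S) (hv1 : v ≠ 1) (hSK : ¬ S ≤ K) : S.Normal :=
  normal_of_inf_order_three_core h (three_prime_eq_bot h)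
    (Cfsg.Agent.Helper65.S6.exists_mem_inf h) (le_of_mem_of_conj_mem h)
    (fun K hK hSK' g => @Cfsg.Agent.Helper65.S6.frattini8 _ _ _ _ _ _ _ _ h K hK hSK' g)
    K hKL hLK v hvK hvS hv1 hSK

end Cfsg.Agent.Helper10.S6
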