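-- helper10: assembly (OF) of the SCG farm #14142 for helper54 (S3921): a p'-element normalizing `Q` centralizes it.
import Mathlib
import Cfsg.Agent.Helper54.SCG.Defs
import Cfsg.Agent.Helper24.SCG_OA
import Cfsg.Agent.Helper29.SCG_OC

set_option autoImplicit false

namespace Cfsg.Agent.Helper10.SCG

open Cfsg.Agent.Helper54.SCG

/-- conjugation by a normalizing element, as an automorphism of `Q` -/
def OF_conjAut {G : Type*} [Group G] (Q : Subgroup G) (g : G)
    (hg : g ∈ Subgroup.normalizer (Q : Set G)) : MulAut ↥Q where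
  toFun x := ⟨g * x * g⁻¹, (Subgroup.mem_normalizer_iff.mp hg x).1 x.2⟩
  invFun x := ⟨g⁻¹ * x * g, by
    apply (Subgroup.mem_normalizer_iff.mp hg (g⁻¹ * x * g)).2
    have e : g * (g⁻¹ * (x : G) * g) * g⁻¹ = x := by group
    rw [e]; exact x.2⟩
  left_inv x := by
    apply Subtype.ext
    show g⁻¹ * (g * (x : G) * g⁻¹) * g = x
    group
  right_inv x := by
    apply Subtype.ext
    show g * (g⁻¹ * (x : G) * g) * g⁻¹ = x
    group
  map_mul' x y := by
    apply Subtype.ext
    show g * ((x : G) * (y : G)) * g⁻¹ = (g * (x : G) * g⁻¹) * (g * (y : G) * g⁻¹)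
    group

theorem OF_conjAut_apply {G : Type*} [Group G] (Q : Subgroup G) (g : G)
    (hg : g ∈ Subgroup.normalizer (Q : Set G)) (x : Q) :
    ((OF_conjAut Q g hg x : Q) : G) = g * x * g⁻¹ := rfl

theorem OF_conjAut_pow {G : Type*} [Group G] (Q : Subgroup G) (g : G)
    (hg : g ∈ Subgroup.normalizer (Q : Set G)) (n : ℕ) (x : Q) :
    (((OF_conjAut Q g hg ^ n) x : Q) : G) = g ^ n * x * (g ^ n)⁻¹ := by
  induction n generalizing x with
  | zero => simp
  | succ n ih =>
    rw [pow_succ', MulAut.mul_apply, OF_conjAut_apply, ih, pow_succ']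
    group

/-- (OF) ASSEMBLY from (OA) (OC): conjugation by g is an automorphism of Q whose order divides orderOf g. -/
theorem OF_centralizes {G : Type*} [Group G] [Finite G] (p : ℕ) [Fact p.Prime]
    (hodd : Odd (Nat.card G)) (hp : (Nat.card G).minFac = p) (Q : Subgroup G)
    (hQ : Nat.card ↥Q ∣ p ^ 3) (hQ3 : Nat.card ↥Q = p ^ 3 → ¬ IsMulCommutative ↥Q) (g : G)
    (hg : g ∈ Subgroup.normalizer (Q : Set G)) (hgp : Nat.Coprime (orderOf g) p) :
    g ∈ Subgroup.centralizer (Q : Set G) := by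
  have hpp : p.Prime := Fact.out
  have hn1 : Nat.card G ≠ 1 := by
    intro h
    rw [h, Nat.minFac_one] at hp
    exact hpp.ne_one hp.symm
  set φ : MulAut ↥Q := OF_conjAut Q g hg with hφ
  have h1 : φ ^ orderOf g = 1 := by
    apply MulEquiv.ext
    intro x
    apply Subtype.ext
    rw [hφ, OF_conjAut_pow, pow_orderOf_eq_one]
    simp
  have hdvd : orderOf φ ∣ Nat.card G := (orderOf_dvd_of_pow_eq_one h1).trans (orderOf_dvd_natCard g)
  have hc1 : Nat.Coprime (orderOf φ) ((p - 1) * (p + 1)) :=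
    Nat.Coprime.coprime_dvd_left hdvd (Cfsg.Agent.Helper29.SCG.OC_coprime _ p hodd hp hn1)
  have hc2 : Nat.Coprime (orderOf φ) p :=
    Nat.Coprime.coprime_dvd_left (orderOf_dvd_of_pow_eq_one h1) hgp
  have hc : Nat.Coprime (orderOf φ) (p * (p - 1) * (p + 1)) := by
    rw [mul_assoc]
    exact Nat.Coprime.mul_right hc2 hc1
  have hφ1 : φ = 1 := Cfsg.Agent.Helper24.SCG.OA_aut_eq_one p hQ hQ3 φ hc
  rw [Subgroup.mem_centralizer_iff]
  intro x hx
  have h2 := congrArg (fun ψ : MulAut ↥Q => ((ψ ⟨x, hx⟩ : Q) : G)) hφ1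
  simp only [hφ, OF_conjAut_apply, MulAut.one_apply] at h2
  -- h2 : g * x * g⁻¹ = x
  calc x * g = (g * x * g⁻¹) * g := by rw [h2]
    _ = g * x := by group

end Cfsg.Agent.Helper10.SCG
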