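-- helper10: assembly (OD) of the SCG farm #14142 for helper54 (S3921), core with (NC), (OP) as hypotheses:
-- a simple non-abelian group with SC has even order.
import Mathlib
import Cfsg.Agent.Helper54.SCG.Defs
import Cfsg.Agent.Helper10.SCG_OF
import Cfsg.Agent.S0071

set_option autoImplicit false

namespace Cfsg.Agent.Helper10.SCG

open Cfsg.Agent.Helper54.SCG

/-- (OD) from (NC), (OP) as hypotheses -/
theorem OD_of {G : Type*} [Group G] [Finite G] [IsSimpleGroup G]
    (hna : ¬ IsMulCommutative G) (hsc : SC G)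
    (hNC : ∀ (p : ℕ) [Fact p.Prime], (Nat.card G).minFac = p → ∀ P : Sylow p G,
      ¬ IsCyclic ↥(P : Subgroup G))
    (hOP : ∀ (p : ℕ) [Fact p.Prime], p ≠ 2 → ∀ P : Sylow p G, SC ↥(P : Subgroup G) →
      ¬ IsCyclic ↥(P : Subgroup G) →
      Nat.card ↥(P : Subgroup G) ∣ p ^ 3 ∧
        (Nat.card ↥(P : Subgroup G) = p ^ 3 → ¬ IsMulCommutative ↥(P : Subgroup G))) :
    2 ∣ Nat.card G := by
  classical
  by_contra h2
  have hodd : Odd (Nat.card G) := by
    rw [Nat.odd_iff]
    omega
  have hn1 : Nat.card G ≠ 1 := by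
    have : 1 < Nat.card G := Finite.one_lt_card_iff_nontrivial.mpr inferInstance
    omega
  obtain ⟨p, hp⟩ : ∃ p, (Nat.card G).minFac = p := ⟨_, rfl⟩
  have hpp : p.Prime := by rw [← hp]; exact Nat.minFac_prime hn1
  have hfact : Fact p.Prime := ⟨hpp⟩
  have hp2 : p ≠ 2 := by
    intro h
    apply h2
    rw [← h, ← hp]
    exact Nat.minFac_dvd _
  let P : Sylow p G := default
  have hnc := hNC p hp P
  have hscP : SC ↥(P : Subgroup G) := sc_subgroup hsc _
  obtain ⟨hcard, hcard3⟩ := hOP p hp2 P hscP hnc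
  -- Frobenius' criterion
  have hfrob : ∃ N : Subgroup G, N.Normal ∧ N.IsComplement' (P : Subgroup G) := by
    rw [Cfsg.Agent.S0071.result P]
    intro Q hQP g hg hgp
    have hQd : Nat.card ↥Q ∣ Nat.card ↥(P : Subgroup G) := Subgroup.card_dvd_of_le hQP
    apply OF_centralizes p hodd hp Q (hQd.trans hcard) _ g hg hgp
    intro hQ3
    have hP3 : Nat.card ↥(P : Subgroup G) = p ^ 3 := by
      apply Nat.dvd_antisymm hcard
      rw [← hQ3]
      exact hQd
    have hQeq : Q = (P : Subgroup G) := by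
      apply Subgroup.eq_of_le_of_card_ge hQP
      rw [hP3, hQ3]
    subst hQeq
    exact hcard3 hP3
  obtain ⟨N, hNn, hNc⟩ := hfrob
  rcases hNn.eq_bot_or_eq_top with rfl | rfl
  · -- `N = ⊥`: `G` is a `p`-group
    have hPtop : (P : Subgroup G) = ⊤ := Subgroup.isComplement'_bot_left.mp hNc
    have hG : IsPGroup p G := by
      have h := P.isPGroup'
      rw [hPtop] at h
      exact h.of_equiv Subgroup.topEquiv
    have hZ : Nontrivial ↥(Subgroup.center G) := hG.center_nontrivial
    have hZtop : Subgroup.center G = ⊤ := by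
      rcases (inferInstance : (Subgroup.center G).Normal).eq_bot_or_eq_top with h | h
      · exact absurd h ((Subgroup.nontrivial_iff_ne_bot _).mp hZ)
      · exact h
    apply hna
    refine ⟨⟨fun a b => ?_⟩⟩
    have hb : b ∈ Subgroup.center G := by rw [hZtop]; exact Subgroup.mem_top b
    exact (Subgroup.mem_center_iff.mp hb a)
  · -- `N = ⊤`: `P = ⊥` is cyclic
    have hPbot : (P : Subgroup G) = ⊥ := Subgroup.isComplement'_top_left.mp hNc
    apply hnc
    rw [hPbot]
    infer_instance

end Cfsg.Agent.Helper10.SCG
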