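-- helper10: assembly (OD) of the SCG farm #14142 for helper54 (S3921): a simple non-abelian group with SC has even order.
import Mathlib
import Cfsg.Agent.Helper54.SCG.Defs
import Cfsg.Agent.Helper10.SCG_ODCore
import Cfsg.Agent.Helper63.SCG_NC
import Cfsg.Agent.Helper24.SCG_OP

set_option autoImplicit false

namespace Cfsg.Agent.Helper10.SCG

open Cfsg.Agent.Helper54.SCG

/-- (OD) ASSEMBLY from (NC) (OP) (OF), `sc_subgroup`, `Cfsg.Agent.S0071.result`. -/
theorem OD_even_card {G : Type*} [Group G] [Finite G] [IsSimpleGroup G]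
    (hna : ¬ IsMulCommutative G) (hsc : SC G) : 2 ∣ Nat.card G :=
  OD_of hna hsc
    (fun p _ hp P => Cfsg.Agent.Helper63.SCG.NC_not_cyclic_sylow hna p hp P)
    (fun p _ hp2 P hscP hnc => Cfsg.Agent.Helper24.SCG.OP_card_dvd_cube p hp2 P.isPGroup' hscP hnc)

end Cfsg.Agent.Helper10.SCG
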