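import Mathlib

set_option autoImplicit false

namespace Cfsg.Agent.Helper10.SSX1a

open Multiplicative

section general

variable {R : Type*} [CommRing R]

/-- The automorphism `(a, b) ↦ (c b, a)` of `R × R`, written multiplicatively. -/
def swapScale (c : Rˣ) : MulAut (Multiplicative R × Multiplicative R) where
  toFun y := (ofAdd ((c : R) * toAdd y.2), y.1)
  invFun y := (y.2, ofAdd (((c⁻¹ : Rˣ) : R) * toAdd y.1))
  left_inv y := by
    refine Prod.ext rfl ?_
    show ofAdd (((c⁻¹ : Rˣ) : R) * ((c : R) * toAdd y.2)) = y.2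
    rw [← mul_assoc, Units.inv_mul, one_mul]; rfl
  right_inv y := by
    refine Prod.ext ?_ rfl
    show ofAdd ((c : R) * (((c⁻¹ : Rˣ) : R) * toAdd y.1)) = y.1
    rw [← mul_assoc, Units.mul_inv, one_mul]; rfl
  map_mul' x y := by
    refine Prod.ext ?_ rfl
    show ofAdd ((c : R) * (toAdd x.2 + toAdd y.2)) = ofAdd ((c : R) * toAdd x.2) * ofAdd ((c : R) * toAdd y.2)
    rw [mul_add, ofAdd_add]

theorem swapScale_apply (c : Rˣ) (y : Multiplicative R × Multiplicative R) :
    swapScale c y = (ofAdd ((c : R) * toAdd y.2), y.1) := rfl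

theorem swapScale_pow (c : Rˣ) (k : ℕ) (y : Multiplicative R × Multiplicative R) :
    (swapScale c ^ (2 * k)) y =
      (ofAdd (((c ^ k : Rˣ) : R) * toAdd y.1), ofAdd (((c ^ k : Rˣ) : R) * toAdd y.2)) := by
  induction k generalizing y with
  | zero => simp
  | succ k ih =>
    have h2 : 2 * (k + 1) = 2 * k + 1 + 1 := by ring
    rw [h2, pow_succ, pow_succ, MulAut.mul_apply, MulAut.mul_apply, ih, swapScale_apply,
      swapScale_apply]
    refine Prod.ext ?_ ?_
    · show ofAdd (((c ^ k : Rˣ) : R) * ((c : R) * toAdd y.1)) = ofAdd (((c ^ (k + 1) : Rˣ) : R) * toAdd y.1)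
      rw [pow_succ, Units.val_mul, mul_assoc]
    · show ofAdd (((c ^ k : Rˣ) : R) * ((c : R) * toAdd y.2)) = ofAdd (((c ^ (k + 1) : Rˣ) : R) * toAdd y.2)
      rw [pow_succ, Units.val_mul, mul_assoc]

theorem swapScale_pow_eq_one (c : Rˣ) (k : ℕ) (hc : c ^ k = 1) : swapScale c ^ (2 * k) = 1 := by
  ext y
  · rw [swapScale_pow, hc]; simp
  · rw [swapScale_pow, hc]; simp

/-- The automorphism `(a, b) ↦ (b, -a - b)` of order dividing 3. -/
def rot3 : MulAut (Multiplicative R × Multiplicative R) where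
  toFun y := (y.2, y.1⁻¹ * y.2⁻¹)
  invFun y := (y.1⁻¹ * y.2⁻¹, y.1)
  left_inv y := by
    refine Prod.ext ?_ rfl
    show y.2⁻¹ * (y.1⁻¹ * y.2⁻¹)⁻¹ = y.1
    rw [mul_inv, inv_inv, inv_inv, mul_comm y.1, inv_mul_cancel_left]
  right_inv y := by
    refine Prod.ext rfl ?_
    show (y.1⁻¹ * y.2⁻¹)⁻¹ * y.1⁻¹ = y.2
    rw [mul_inv, inv_inv, inv_inv, mul_comm y.1, mul_assoc, mul_inv_cancel, mul_one]
  map_mul' x y := by
    refine Prod.ext rfl ?_
    show (x.1 * y.1)⁻¹ * (x.2 * y.2)⁻¹ = x.1⁻¹ * x.2⁻¹ * (y.1⁻¹ * y.2⁻¹)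
    rw [mul_inv, mul_inv, mul_mul_mul_comm]

theorem rot3_apply (y : Multiplicative R × Multiplicative R) :
    (rot3 : MulAut (Multiplicative R × Multiplicative R)) y = (y.2, y.1⁻¹ * y.2⁻¹) := rfl

theorem rot3_pow_three : (rot3 : MulAut (Multiplicative R × Multiplicative R)) ^ 3 = 1 := by
  ext y
  · rw [pow_succ, pow_succ, pow_one, MulAut.mul_apply, MulAut.mul_apply, rot3_apply, rot3_apply,
      rot3_apply]
    show (y.2⁻¹ * (y.1⁻¹ * y.2⁻¹)⁻¹) = y.1
    rw [mul_inv, inv_inv, inv_inv, mul_comm y.1, inv_mul_cancel_left]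
  · rw [pow_succ, pow_succ, pow_one, MulAut.mul_apply, MulAut.mul_apply, rot3_apply, rot3_apply,
      rot3_apply]
    show (y.1⁻¹ * y.2⁻¹)⁻¹ * (y.2⁻¹ * (y.1⁻¹ * y.2⁻¹)⁻¹)⁻¹ = y.2
    simp only [mul_inv, inv_inv]
    rw [mul_comm y.1⁻¹ y.2⁻¹, mul_inv_cancel_left, mul_comm y.1 y.2, mul_assoc, mul_inv_cancel,
      mul_one]

end general


section zmod

variable (p n : ℕ) [hp : Fact p.Prime]

/-- An element of `ZMod (p ^ n)` whose reduction mod `p` is nonzero is a unit. -/
theorem isUnit_of_castHom_ne_zero (hn : 0 < n) (r : ZMod (p ^ n))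
    (h : ZMod.castHom (dvd_pow_self p hn.ne') (ZMod p) r ≠ 0) : IsUnit r := by
  have : NeZero (p ^ n) := ⟨pow_ne_zero _ hp.out.ne_zero⟩
  have hr : r = ((r.val : ℕ) : ZMod (p ^ n)) := (ZMod.natCast_zmod_val r).symm
  rw [hr, ZMod.isUnit_iff_coprime]
  apply Nat.Coprime.pow_right
  rw [Nat.coprime_comm]
  refine (Nat.Prime.coprime_iff_not_dvd hp.out).2 ?_
  intro hdvd
  apply h
  rw [hr, map_natCast]
  exact (ZMod.natCast_eq_zero_iff _ _).2 hdvd

/-- A unit of `ZMod (p ^ n)` of order dividing `p - 1` whose reduction mod `p` is a non-square. -/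
theorem exists_teichmuller_nonsquare (hn : 0 < n) (hp2 : p ≠ 2) :
    ∃ c : (ZMod (p ^ n))ˣ, c ^ (p - 1) = 1 ∧
      ¬ IsSquare (ZMod.castHom (dvd_pow_self p hn.ne') (ZMod p) (c : ZMod (p ^ n))) := by
  obtain ⟨c₀, hc₀⟩ : ∃ a : ZMod p, ¬ IsSquare a :=
    FiniteField.exists_nonsquare (by rw [ZMod.ringChar_zmod_n]; exact hp2)
  obtain ⟨c₁, hc₁⟩ := ZMod.ringHom_surjective (ZMod.castHom (dvd_pow_self p hn.ne') (ZMod p)) c₀
  have hc₀0 : c₀ ≠ 0 := by
    rintro rfl
    exact hc₀ ⟨0, by simp⟩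
  have hu : IsUnit c₁ := isUnit_of_castHom_ne_zero p n hn c₁ (by rw [hc₁]; exact hc₀0)
  refine ⟨hu.unit ^ (p ^ (n - 1)), ?_, ?_⟩
  · rw [← pow_mul, ← Nat.totient_prime_pow hp.out hn]
    exact ZMod.pow_totient _
  · rw [Units.val_pow_eq_pow_val, IsUnit.unit_spec, map_pow, hc₁, ZMod.pow_card_pow]
    exact hc₀

end zmod

/-- (X1a) of #4432. -/
theorem exists_irreducible_aut (p n : ℕ) [Fact p.Prime] (hn : 0 < n) :
    ∃ M : MulAut (Multiplicative (ZMod (p ^ n)) × Multiplicative (ZMod (p ^ n))), (orderOf M).Coprime p ∧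
      ∀ y : Multiplicative (ZMod (p ^ n)) × Multiplicative (ZMod (p ^ n)), orderOf y = p → M y ∉ Subgroup.zpowers y := by
  have hp : p.Prime := Fact.out
  by_cases hp2 : p = 2
  · subst hp2
    refine ⟨rot3, ?_, ?_⟩
    · have h3 : orderOf (rot3 : MulAut (Multiplicative (ZMod (2 ^ n)) × Multiplicative (ZMod (2 ^ n)))) ∣ 3 :=
        orderOf_dvd_of_pow_eq_one rot3_pow_three
      exact Nat.Coprime.coprime_dvd_left h3 (by norm_num)
    · intro y hy hmem
      have hy1 : y ≠ 1 := by
        rintro rfl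
        rw [orderOf_one] at hy
        omega
      have hy2 : y ^ 2 = 1 := by
        have := pow_orderOf_eq_one y
        rwa [hy] at this
      obtain ⟨k, hk⟩ := Subgroup.mem_zpowers_iff.1 hmem
      -- `y ^ k` is `1` or `y`
      have hcases : y ^ k = 1 ∨ y ^ k = y := by
        rcases Int.even_or_odd' k with ⟨m, rfl | rfl⟩
        · left
          rw [zpow_mul, zpow_ofNat, hy2, one_zpow]
        · right
          rw [zpow_add, zpow_mul, zpow_ofNat, hy2, one_zpow, one_mul, zpow_one]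
      rcases hcases with h | h
      · rw [h] at hk
        have : y = 1 := by
          have := congrArg (rot3 : MulAut _).symm hk
          simpa using this.symm
        exact hy1 this
      · rw [h] at hk
        -- `y = (u, v)`, `rot3 y = (v, u⁻¹ v⁻¹) = (u, v)`
        have h1 : y.1 = y.2 := (congrArg Prod.fst hk)
        have h2 : y.2 = y.1⁻¹ * y.2⁻¹ := (congrArg Prod.snd hk)
        have hu2 : y.1 ^ 2 = 1 := by
          have := congrArg Prod.fst hy2
          simpa using this
        have hu1 : y.1 = 1 := by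
          rw [← h1] at h2
          have h3 : y.1 * y.1 * y.1 = 1 := by
            nth_rewrite 3 [h2]
            rw [mul_assoc, mul_inv_cancel_left, mul_inv_cancel]
          rw [← pow_two, hu2, one_mul] at h3
          exact h3
        apply hy1
        refine Prod.ext hu1 ?_
        rw [← h1]; exact hu1
  · obtain ⟨c, hc1, hcns⟩ := exists_teichmuller_nonsquare p n hn hp2
    refine ⟨swapScale c, ?_, ?_⟩
    · have hdvd : orderOf (swapScale c) ∣ 2 * (p - 1) :=
        orderOf_dvd_of_pow_eq_one (swapScale_pow_eq_one c (p - 1) hc1)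
      refine Nat.Coprime.coprime_dvd_left hdvd ?_
      apply Nat.Coprime.mul_left
      · exact (Nat.coprime_primes Nat.prime_two hp).2 (Ne.symm hp2)
      · rw [Nat.coprime_comm]
        refine (Nat.Prime.coprime_iff_not_dvd hp).2 ?_
        have h2 : 2 ≤ p := hp.two_le
        exact Nat.not_dvd_of_pos_of_lt (by omega) (by omega)
    · intro y hy hmem
      have hy1 : y ≠ 1 := by
        rintro rfl
        rw [orderOf_one] at hy
        exact hp.one_lt.ne hy
      obtain ⟨k, hk⟩ := Subgroup.mem_zpowers_iff.1 hmem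
      rw [swapScale_apply] at hk
      -- additive coordinates
      have h1 : (c : ZMod (p ^ n)) * toAdd y.2 = (k : ZMod (p ^ n)) * toAdd y.1 := by
        have := congrArg Prod.fst hk
        have h' : (y ^ k).1 = y.1 ^ k := by simp
        rw [h'] at this
        have h'' := congrArg toAdd this
        rw [toAdd_zpow, zsmul_eq_mul] at h''
        exact h''.symm
      have h2 : toAdd y.1 = (k : ZMod (p ^ n)) * toAdd y.2 := by
        have := congrArg Prod.snd hk
        have h' : (y ^ k).2 = y.2 ^ k := by simp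
        rw [h'] at this
        have h'' := congrArg toAdd this
        rw [toAdd_zpow, zsmul_eq_mul] at h''
        exact h''.symm
      have h3 : ((c : ZMod (p ^ n)) - (k : ZMod (p ^ n)) ^ 2) * toAdd y.2 = 0 := by
        rw [sub_mul, h1, h2]; ring
      by_cases hv : toAdd y.2 = 0
      · apply hy1
        have hu : toAdd y.1 = 0 := by rw [h2, hv, mul_zero]
        refine Prod.ext ?_ ?_
        · exact toAdd.injective hu
        · exact toAdd.injective hv
      · apply hcns
        by_contra hns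
        have hne : ZMod.castHom (dvd_pow_self p hn.ne') (ZMod p)
            ((c : ZMod (p ^ n)) - (k : ZMod (p ^ n)) ^ 2) ≠ 0 := by
          intro h0
          apply hns
          rw [map_sub, map_pow, sub_eq_zero] at h0
          exact ⟨_, h0.trans (pow_two _)⟩
        have hunit := isUnit_of_castHom_ne_zero p n hn _ hne
        exact hv (hunit.mul_right_eq_zero.1 h3)

end Cfsg.Agent.Helper10.SSX1a
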