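import Mathlib
import Cfsg.Agent.Helper84.SU3P.Defs
import Cfsg.Agent.Helper53.SU3P_BAS

/-!
S2289 (helper84), piece (IB): `π` is injective on `B̃ = Ũ H̃`.
-/

set_option autoImplicit false

namespace Cfsg.Agent.Helper10.SU3P

open Matrix Polynomial Cfsg.Agent.Helper84.RU3 Cfsg.Agent.Helper96.SLPres
  Cfsg.Agent.Helper96.StemSLTwo Cfsg.Agent.Helper96.StPres Cfsg.Agent.Helper84.SU3P

variable {K : Type*} [Field K] (bar : K →+* K) (hb : ∀ x, bar (bar x) = x)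
  {K₀ : Type*} [Field K₀] (ι : K₀ →+* K) {D : Type*} [Group D]
include hb

/-- the torus as a homomorphism `Kˣ →* SUJ` -/
def hEhom : Kˣ →* SUJ bar where
  toFun l := hE bar hb l l.ne_zero
  map_one' := by
    apply ext_mt
    rw [mt_hE, mt_one]
    exact (Cfsg.Agent.Helper53.SU3P.basic_identities bar hb).2.2.2.1
  map_mul' l l' := by
    apply ext_mt
    rw [mt_mul, mt_hE, mt_hE, mt_hE]
    exact ((Cfsg.Agent.Helper53.SU3P.basic_identities bar hb).2.2.1 l l' l.ne_zero l'.ne_zero).symm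

/-- integer powers of a torus element -/
theorem mt_zpow_hM' (H : SUJ bar) (l : K) (hl : l ≠ 0) (hH : mt bar H = hM bar l) (i : ℤ) :
    mt bar (H ^ i) = hM bar (l ^ i) := by
  have e : H = hEhom bar hb (Units.mk0 l hl) := by
    apply ext_mt
    rw [hH]
    rfl
  rw [e, ← map_zpow]
  show hM bar ((Units.mk0 l hl ^ i : Kˣ) : K) = _
  rw [Units.val_zpow_eq_zpow_val, Units.val_mk0]

/-- (IB) `π` is injective on `B̃ = Ũ H̃` -/
theorem inj_Bt (π : D →* SUJ bar) (U' : Subgroup D) (h : D) {ζ : K} (hζ : ζ ≠ 0) (n : ℕ)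
    (hhn : h ^ n = 1) (hζn : ∀ i : ℤ, ζ ^ i = 1 → (n : ℤ) ∣ i)
    (hπh : mt bar (π h) = hM bar ζ)
    (hπU : ∀ x ∈ U', ∃ a b : K, mt bar (π x) = uM bar a b)
    (hU : ∀ x ∈ U', π x = 1 → x = 1)
    (hnorm : ∀ x ∈ U', h * x * h⁻¹ ∈ U' ∧ h⁻¹ * x * h ∈ U') :
    ∀ b ∈ U' ⊔ Subgroup.zpowers h, π b = 1 → b = 1 := by
  intro b hbm hπb
  have hLE : Subgroup.zpowers h ≤ Subgroup.normalizer (U' : Set D) := by
    rw [Subgroup.zpowers_le]
    rw [Subgroup.mem_normalizer_iff]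
    intro x
    constructor
    · intro hx
      exact (hnorm x hx).1
    · intro hx
      have := (hnorm _ hx).2
      have e : h⁻¹ * (h * x * h⁻¹) * h = x := by group
      rwa [e] at this
  have hbm' : b ∈ (↑(U' ⊔ Subgroup.zpowers h) : Set D) := hbm
  rw [Subgroup.coe_mul_of_right_le_normalizer_left U' _ hLE] at hbm'
  obtain ⟨x, hx, y, hy, rfl⟩ := hbm'
  obtain ⟨i, rfl⟩ := Subgroup.mem_zpowers_iff.1 hy
  obtain ⟨a, c, hxm⟩ := hπU x hx
  have h1 : mt bar (π (x * h ^ i)) = uM bar a c * hM bar (ζ ^ i) := by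
    rw [map_mul, mt_mul, hxm, map_zpow, mt_zpow_hM' bar hb (π h) ζ hζ hπh i]
  have h2 : (uM bar a c * hM bar (ζ ^ i)) 0 0 = 1 := by
    rw [← h1, hπb, mt_one]
    simp
  have h3 : ζ ^ i = 1 := by
    simpa [uM, hM, Matrix.mul_apply, Fin.sum_univ_three] using h2
  obtain ⟨k, rfl⟩ := hζn i h3
  have h4 : h ^ ((n : ℤ) * k) = 1 := by
    rw [_root_.zpow_mul, zpow_natCast, hhn, _root_.one_zpow]
  change π (x * h ^ ((n : ℤ) * k)) = 1 at hπb
  change x * h ^ ((n : ℤ) * k) = 1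
  rw [h4, mul_one] at hπb ⊢
  exact hU x hx hπb

end Cfsg.Agent.Helper10.SU3P
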