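import Mathlib
import Cfsg.Agent.Helper84.SU3P.Defs

/-!
S2289 (helper84), piece (UT): `π` maps `B̃ = Ũ H̃` to upper triangular matrices.
-/

set_option autoImplicit false

namespace Cfsg.Agent.Helper10.SU3P

open Matrix Polynomial Cfsg.Agent.Helper84.RU3 Cfsg.Agent.Helper96.SLPres
  Cfsg.Agent.Helper96.StemSLTwo Cfsg.Agent.Helper96.StPres Cfsg.Agent.Helper84.SU3P

variable {K : Type*} [Field K] (bar : K →+* K) (hb : ∀ x, bar (bar x) = x)
  {K₀ : Type*} [Field K₀] (ι : K₀ →+* K) {D : Type*} [Group D]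

/-- being upper triangular -/
def IsUpper (M : Matrix (Fin 3) (Fin 3) K) : Prop := M 1 0 = 0 ∧ M 2 0 = 0 ∧ M 2 1 = 0

theorem isUpper_one : IsUpper (1 : Matrix (Fin 3) (Fin 3) K) := by
  refine ⟨?_, ?_, ?_⟩ <;> simp

theorem IsUpper.mul {M N : Matrix (Fin 3) (Fin 3) K} (hM : IsUpper M) (hN : IsUpper N) :
    IsUpper (M * N) := by
  obtain ⟨m1, m2, m3⟩ := hM
  obtain ⟨n1, n2, n3⟩ := hN
  refine ⟨?_, ?_, ?_⟩ <;>
    simp [Matrix.mul_apply, Fin.sum_univ_three, m1, m2, m3, n1, n2, n3]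

theorem isUpper_uM (a b : K) : IsUpper (uM bar a b) := by
  refine ⟨?_, ?_, ?_⟩ <;> simp [uM]

theorem isUpper_hM (l : K) : IsUpper (hM bar l) := by
  refine ⟨?_, ?_, ?_⟩ <;> simp [hM]

include hb

/-- (UT) `π` maps `B̃` to upper triangular matrices -/
theorem upper_Bt (π : D →* SUJ bar) (U' H' : Subgroup D)
    (hπU : ∀ x ∈ U', ∃ a b : K, mt bar (π x) = uM bar a b)
    (hπH : ∀ h' ∈ H', ∃ l : K, l ≠ 0 ∧ mt bar (π h') = hM bar l) :
    ∀ b ∈ U' ⊔ H', mt bar (π b) 1 0 = 0 ∧ mt bar (π b) 2 0 = 0 ∧ mt bar (π b) 2 1 = 0 := by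
  have _ := hb
  have key : ∀ x ∈ (U' : Set D) ∪ H', IsUpper (mt bar (π x)) := by
    rintro x (hx | hx)
    · obtain ⟨a, b, e⟩ := hπU x hx
      rw [e]
      exact isUpper_uM bar a b
    · obtain ⟨l, _, e⟩ := hπH x hx
      rw [e]
      exact isUpper_hM bar l
  intro b hbm
  rw [Subgroup.sup_eq_closure] at hbm
  show IsUpper (mt bar (π b))
  induction hbm using Subgroup.closure_induction'' with
  | mem x hx => exact key x hx
  | inv_mem x hx =>
    apply key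
    rcases hx with hx | hx
    · exact Or.inl (inv_mem hx)
    · exact Or.inr (inv_mem hx)
  | one =>
    rw [map_one, mt_one]
    exact isUpper_one
  | mul x y _ _ hx hy =>
    rw [map_mul, mt_mul]
    exact hx.mul hy

end Cfsg.Agent.Helper10.SU3P
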