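import Mathlib
import Cfsg.Agent.Helper1.ShultDefs
import Cfsg.Agent.Helper1.CoprimeSylow
import Cfsg.Agent.Helper29.WardT1B
import Cfsg.Agent.Helper80.CEW34
import Cfsg.Agent.Helper10.BG16ND

set_option autoImplicit false

/-!
# Shult's theorem for `S₃` (S4305), piece (K) of helper1's #4604: the faithful core (helper10)

`M` solvable of order prime to 6, `⟨σ,τ⟩`-invariant without fixed points, `M'` nilpotent, faithful
and irreducible (with `⟨σ,τ⟩`) on the elementary abelian `r`-group `V`: then `M` is abelian, given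
Lemmas A and B.
-/

namespace Cfsg.Agent.Helper10.Shult

open Subgroup Cfsg.Agent.Helper1.Shult
open scoped Pointwise

universe u

section general

variable {H : Type*} [Group H]

theorem inv_iff_closure_le {σ τ : H} {X : Subgroup H} :
    Inv σ τ X ↔ closure ({σ, τ} : Set H) ≤ normalizer (X : Set H) := by
  constructor
  · intro h
    rw [closure_le]
    rintro x (rfl | rfl)
    · exact h.1
    · exact h.2
  · intro h
    exact ⟨h (subset_closure (by simp)), h (subset_closure (by simp))⟩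

/-- `⟨σ, τ⟩` has order 6. -/
theorem card_closure_eq_six [Finite H] {σ τ : H} (h : S3Pair σ τ) :
    Nat.card (closure ({σ, τ} : Set H)) = 6 := by
  have hτN : zpowers τ ≤ normalizer ((zpowers σ : Subgroup H) : Set H) := by
    rw [zpowers_le]
    apply mem_normalizer_fintype
    intro n hn
    obtain ⟨k, rfl⟩ := mem_zpowers_iff.1 hn
    have e : τ * σ ^ k * τ⁻¹ = (σ⁻¹) ^ k := by
      rw [← h.rel, conj_zpow]
    rw [SetLike.mem_coe, e]
    exact zpow_mem (inv_mem (mem_zpowers σ)) k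
  have hcl : closure ({σ, τ} : Set H) = zpowers τ ⊔ zpowers σ := by
    rw [sup_comm, zpowers_eq_closure, zpowers_eq_closure, ← Subgroup.closure_union]
    rfl
  have hset := coe_mul_of_left_le_normalizer_right (zpowers τ) (zpowers σ) hτN
  have hle : Nat.card (closure ({σ, τ} : Set H)) ≤ 6 := by
    rw [hcl]
    have h1 : Nat.card (zpowers τ ⊔ zpowers σ : Subgroup H) =
        Nat.card (((zpowers τ : Subgroup H) : Set H) * ((zpowers σ : Subgroup H) : Set H) : Set H) := by
      rw [← hset]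
      rfl
    rw [h1]
    refine Set.natCard_mul_le.trans ?_
    have e2 : Nat.card ((zpowers τ : Subgroup H) : Set H) = 2 := by
      rw [← h.oτ]
      exact Nat.card_zpowers τ
    have e3 : Nat.card ((zpowers σ : Subgroup H) : Set H) = 3 := by
      rw [← h.oσ]
      exact Nat.card_zpowers σ
    rw [e2, e3]
  have h2 : 2 ∣ Nat.card (closure ({σ, τ} : Set H)) := by
    rw [← h.oτ]
    exact orderOf_dvd_natCard _ (subset_closure (by simp))
  have h3 : 3 ∣ Nat.card (closure ({σ, τ} : Set H)) := by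
    rw [← h.oσ]
    exact orderOf_dvd_natCard _ (subset_closure (by simp))
  have h6 : 6 ∣ Nat.card (closure ({σ, τ} : Set H)) :=
    Nat.Coprime.mul_dvd_of_dvd_of_dvd (by norm_num : Nat.Coprime 2 3) h2 h3
  have hpos : 0 < Nat.card (closure ({σ, τ} : Set H)) := Nat.card_pos
  obtain ⟨c, hc⟩ := h6
  omega

/-- a `p`-subgroup of `M` above a Sylow `p`-subgroup of `M` equals it. -/
theorem eq_of_sylow_le {p : ℕ} [Fact p.Prime] {M : Subgroup H} (P : Sylow p M) {Q : Subgroup H}
    (hQM : Q ≤ M) (hQ : IsPGroup p Q) (hPQ : (P : Subgroup M).map M.subtype ≤ Q) :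
    Q = (P : Subgroup M).map M.subtype := by
  have h1 : IsPGroup p (Q.subgroupOf M) := hQ.comap_subtype
  have h2 : (P : Subgroup M) ≤ Q.subgroupOf M := by
    intro x hx
    rw [mem_subgroupOf]
    exact hPQ ⟨x, hx, rfl⟩
  have h3 := P.is_maximal' h1 h2
  rw [← h3, map_subgroupOf_eq_of_le hQM]

/-- a `p`-subgroup of `M` normalizing a Sylow `p`-subgroup of `M` lies in it. -/
theorem le_sylow_of_le_normalizer {p : ℕ} [Fact p.Prime] {M : Subgroup H} (P : Sylow p M)
    {R : Subgroup H} (hRM : R ≤ M) (hR : IsPGroup p R)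
    (hRP : R ≤ normalizer (((P : Subgroup M).map M.subtype : Subgroup H) : Set H)) :
    R ≤ (P : Subgroup M).map M.subtype := by
  have hP0 : IsPGroup p ((P : Subgroup M).map M.subtype) := P.isPGroup'.map _
  have hsup : IsPGroup p ((P : Subgroup M).map M.subtype ⊔ R : Subgroup H) :=
    IsPGroup.to_sup_of_normal_left' hP0 hR hRP
  have := eq_of_sylow_le P (sup_le (map_subtype_le _) hRM) hsup le_sup_left
  calc R ≤ (P : Subgroup M).map M.subtype ⊔ R := le_sup_right
    _ = _ := this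

/-- a normal `p`-subgroup of `M` lies in every Sylow `p`-subgroup of `M`. -/
theorem le_sylow_of_normal {p : ℕ} [Fact p.Prime] {M : Subgroup H} (P : Sylow p M)
    {R : Subgroup H} (hRM : R ≤ M) (hR : IsPGroup p R) (hMR : M ≤ normalizer (R : Set H)) :
    R ≤ (P : Subgroup M).map M.subtype := by
  have hP0 : IsPGroup p ((P : Subgroup M).map M.subtype) := P.isPGroup'.map _
  have hsup : IsPGroup p ((P : Subgroup M).map M.subtype ⊔ R : Subgroup H) :=
    IsPGroup.to_sup_of_normal_right' hP0 hR ((map_subtype_le _).trans hMR)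
  have := eq_of_sylow_le P (sup_le (map_subtype_le _) hRM) hsup le_sup_left
  calc R ≤ (P : Subgroup M).map M.subtype ⊔ R := le_sup_right
    _ = _ := this

theorem mem_normalizer_inf_centralizer {g : H} {V R : Subgroup H}
    (hV : g ∈ normalizer (V : Set H)) (hR : g ∈ normalizer (R : Set H)) :
    g ∈ normalizer ((V ⊓ centralizer (R : Set H) : Subgroup H) : Set H) := by
  rw [mem_normalizer_iff] at hV hR ⊢
  intro x
  rw [mem_inf, mem_inf, ← hV x, mem_centralizer_iff, mem_centralizer_iff]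
  constructor
  · rintro ⟨hx, hc⟩
    refine ⟨hx, fun y hy => ?_⟩
    have hy' : g⁻¹ * y * g ∈ R := by
      rw [hR]
      simpa [mul_assoc] using hy
    have h1 := hc _ hy'
    calc y * (g * x * g⁻¹) = g * ((g⁻¹ * y * g) * x) * g⁻¹ := by group
      _ = g * (x * (g⁻¹ * y * g)) * g⁻¹ := by rw [h1]
      _ = g * x * g⁻¹ * y := by group
  · rintro ⟨hx, hc⟩
    refine ⟨hx, fun y hy => ?_⟩
    have hy' : g * y * g⁻¹ ∈ R := (hR y).1 hy
    have h1 := hc _ hy'
    have h2 : g * (y * x) * g⁻¹ = g * (x * y) * g⁻¹ := by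
      calc g * (y * x) * g⁻¹ = (g * y * g⁻¹) * (g * x * g⁻¹) := by group
        _ = (g * x * g⁻¹) * (g * y * g⁻¹) := h1
        _ = g * (x * y) * g⁻¹ := by group
    exact mul_left_cancel (mul_right_cancel h2)

theorem normalizer_le_normalizer_commutator (M : Subgroup H) :
    normalizer (M : Set H) ≤ normalizer ((⁅M, M⁆ : Subgroup H) : Set H) := by
  intro g hg
  rw [mem_normalizer_iff_map_conj_eq] at hg ⊢
  rw [map_commutator, hg]

/-- in a nilpotent subgroup `F`, a `q`-element lies in `O_q(F)`. -/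
theorem mem_pCore_map_of_pow [Finite H] {F : Subgroup H} (hF : Group.IsNilpotent F) (q : ℕ)
    [Fact q.Prime] {x : H} (hx : x ∈ F) {j : ℕ} (hj : x ^ q ^ j = 1) :
    x ∈ (Cfsg.pCore q ↥F).map F.subtype := by
  have h1 := Cfsg.Agent.Helper10.BG16ND.mem_pCore_of_pow hF q (⟨x, hx⟩ : F)
    ⟨j, Subtype.ext (by simpa using hj)⟩
  exact ⟨⟨x, hx⟩, h1, rfl⟩

/-- a finite group all of whose Sylow subgroups are normal and abelian is abelian. -/
theorem comm_of_sylow {K : Type*} [Group K] [Finite K]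
    (h : ∀ (p : ℕ) [Fact p.Prime] (P : Sylow p K),
      (P : Subgroup K).Normal ∧ ∀ a ∈ P, ∀ b ∈ P, a * b = b * a) :
    ∀ a b : K, a * b = b * a := by
  have h3 : ∀ (p : ℕ) (hp : Fact p.Prime) (P : Sylow p K), (P : Subgroup K).Normal :=
    fun p hp P => (h p P).1
  obtain ⟨e⟩ := ((Group.isNilpotent_of_finite_tfae (G := K)).out 3 4).mp h3
  intro a b
  have h1 : e.symm a * e.symm b = e.symm b * e.symm a := by
    funext p P
    apply Subtype.ext
    have : Fact (p : ℕ).Prime := ⟨Nat.prime_of_mem_primeFactors p.2⟩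
    exact (h p P).2 _ (e.symm a p P).2 _ (e.symm b p P).2
  have h2 := congrArg e h1
  simpa using h2

end general


/-- the hypotheses of the faithful core, bundled (with `V ≠ ⊥`). -/
structure KCtx (H : Type u) [Group H] (r : ℕ) (σ τ : H) (M V : Subgroup H) : Prop where
  hS : S3Pair σ τ
  hr2 : r ≠ 2
  hr3 : r ≠ 3
  hcop : (Nat.card M).Coprime 6
  hVea : IsEA r V
  hVr : IsPGroup r V
  hMinv : Inv σ τ M
  hVinv : Inv σ τ V
  hMV : M ≤ normalizer (V : Set H)
  hfaith : M ⊓ centralizer (V : Set H) = ⊥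
  hfixV : Fix σ τ V = ⊥
  hfixM : Fix σ τ M = ⊥
  hirr : ∀ U : Subgroup H, U ≤ V → M ≤ normalizer (U : Set H) → Inv σ τ U → U = ⊥ ∨ U = V
  hV1 : V ≠ ⊥

section core

variable {H : Type u} [Group H] [Finite H] {r : ℕ} [Fact r.Prime] {σ τ : H} {M V : Subgroup H}

omit [Finite H] [Fact (Nat.Prime r)] in
theorem KCtx.ne_of_dvd (c : KCtx H r σ τ M V) {q : ℕ} (hd : q ∣ Nat.card M) (hq1 : q ≠ 1) :
    q ≠ 2 ∧ q ≠ 3 := by
  constructor
  · rintro rfl
    have := Nat.dvd_gcd hd (by norm_num : 2 ∣ 6)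
    rw [c.hcop] at this
    omega
  · rintro rfl
    have := Nat.dvd_gcd hd (by norm_num : 3 ∣ 6)
    rw [c.hcop] at this
    omega

omit [Finite H] [Fact (Nat.Prime r)] in
theorem KCtx.fix_eq_bot (c : KCtx H r σ τ M V) {X : Subgroup H} (hXM : X ≤ M) :
    Fix σ τ X = ⊥ := by
  rw [eq_bot_iff, ← c.hfixM]
  exact inf_le_inf_right _ hXM

/-- (K1) an invariant normal `r`-subgroup of `M` is trivial. -/
theorem KCtx.rsub_eq_bot (c : KCtx H r σ τ M V) {R : Subgroup H} (hRM : R ≤ M)
    (hR : IsPGroup r R) (hMR : M ≤ normalizer (R : Set H)) (hRinv : Inv σ τ R) : R = ⊥ := by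
  have hU : V ⊓ centralizer (R : Set H) ≠ ⊥ :=
    Cfsg.Agent.Helper29.WardT1.inf_centralizer_ne_bot hR c.hVr c.hV1 (hRM.trans c.hMV)
  rcases c.hirr _ inf_le_left
      (fun m hm => mem_normalizer_inf_centralizer (c.hMV hm) (hMR hm))
      ⟨mem_normalizer_inf_centralizer c.hVinv.1 hRinv.1,
        mem_normalizer_inf_centralizer c.hVinv.2 hRinv.2⟩ with h | h
  · exact absurd h hU
  · have hVC : V ≤ centralizer (R : Set H) := inf_eq_left.1 h
    have hRC : R ≤ centralizer (V : Set H) := by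
      intro x hx
      rw [mem_centralizer_iff]
      intro v hv
      exact ((mem_centralizer_iff.1 (hVC hv)) x hx).symm
    rw [eq_bot_iff, ← c.hfaith]
    exact le_inf hRM hRC

/-- Lemma A applied inside `M`: an invariant `q`-subgroup (`q ≠ r`) is abelian. -/
theorem KCtx.abel_of_lemmaA (hA : LemmaAStmt.{u}) (c : KCtx H r σ τ M V) {q : ℕ} [Fact q.Prime]
    (hq2 : q ≠ 2) (hq3 : q ≠ 3) (hqr : q ≠ r) {X : Subgroup H} (hXM : X ≤ M)
    (hX : IsPGroup q X) (hXinv : Inv σ τ X) : ∀ a ∈ X, ∀ b ∈ X, a * b = b * a := by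
  have hfixX : Fix σ τ X ≤ centralizer (V : Set H) := by
    rw [c.fix_eq_bot hXM]
    exact bot_le
  have h1 := hA H q r σ τ X V c.hS hq2 hq3 c.hr2 c.hr3 hqr hX c.hVea c.hVr hXinv c.hVinv
    (hXM.trans c.hMV) c.hfixV hfixX
  have h2 : ⁅X, X⁆ = ⊥ := by
    rw [eq_bot_iff, ← c.hfaith]
    exact le_inf ((commutator_le_self X).trans hXM) h1
  rw [commutator_eq_bot_iff_le_centralizer] at h2
  intro a ha b hb
  exact mem_centralizer_iff.1 (h2 hb) a ha

/-- Lemma B applied inside `M`. -/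
theorem KCtx.cent_of_lemmaB (hB : LemmaBStmt.{u}) (c : KCtx H r σ τ M V) {p q : ℕ}
    [Fact p.Prime] [Fact q.Prime] (hp2 : p ≠ 2) (hp3 : p ≠ 3) (hq2 : q ≠ 2) (hq3 : q ≠ 3)
    (hpq : p ≠ q) (hqr : q ≠ r) {P Q : Subgroup H} (hPM : P ≤ M) (hQM : Q ≤ M)
    (hP : IsPGroup p P) (hQ : IsPGroup q Q) (hQab : ∀ x ∈ Q, ∀ y ∈ Q, x * y = y * x)
    (hPinv : Inv σ τ P) (hQinv : Inv σ τ Q) (hPQ : P ≤ normalizer (Q : Set H)) :
    P ≤ centralizer (Q : Set H) := by
  have hQf : Q ⊓ centralizer (V : Set H) = ⊥ := by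
    rw [eq_bot_iff, ← c.hfaith]
    exact inf_le_inf_right _ hQM
  exact hB H p q r σ τ P Q V c.hS hp2 hp3 hq2 hq3 c.hr2 c.hr3 hpq hqr hP hQ hQab c.hVea c.hVr
    hPinv hQinv c.hVinv hPQ (hPM.trans c.hMV) (hQM.trans c.hMV) hQf c.hfixV (c.fix_eq_bot hQM)
    (c.fix_eq_bot hPM)

end core


section main

variable {H : Type u} [Group H] [Finite H] {r : ℕ} [Fact r.Prime] {σ τ : H} {M V : Subgroup H}

/-- `O_q(M')` as a subgroup of `H`. -/
def Tq (M : Subgroup H) (q : ℕ) : Subgroup H :=
  (Cfsg.pCore q ↥⁅M, M⁆).map (⁅M, M⁆).subtype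

omit [Finite H] in
theorem Tq_le (M : Subgroup H) (q : ℕ) : Tq M q ≤ ⁅M, M⁆ := map_subtype_le _

omit [Finite H] in
theorem Tq_le' (M : Subgroup H) (q : ℕ) : Tq M q ≤ M := (Tq_le M q).trans (commutator_le_self M)

omit [Finite H] in
theorem Tq_isPGroup (M : Subgroup H) (q : ℕ) : IsPGroup q (Tq M q) :=
  (Cfsg.Agent.Lib.isPGroup_pCore q).map _

omit [Finite H] in
theorem Tq_norm (M : Subgroup H) (q : ℕ) :
    normalizer (M : Set H) ≤ normalizer ((Tq M q : Subgroup H) : Set H) :=
  (normalizer_le_normalizer_commutator M).trans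
    (Cfsg.Agent.Helper10.BG16ND.normalizer_le_normalizer_map_of_char _ _
      (Cfsg.Agent.Lib.pCore_characteristic q))

omit [Finite H] in
theorem Tq_inv (hM : Inv σ τ M) (q : ℕ) : Inv σ τ (Tq M q) :=
  ⟨Tq_norm M q hM.1, Tq_norm M q hM.2⟩

theorem mem_Tq (hnil : Group.IsNilpotent ↥⁅M, M⁆) (q : ℕ) [Fact q.Prime] {x : H}
    (hx : x ∈ ⁅M, M⁆) {j : ℕ} (hj : x ^ q ^ j = 1) : x ∈ Tq M q :=
  mem_pCore_map_of_pow hnil q hx hj

/-- an invariant Sylow subgroup of `M` is normal in `M`. -/
theorem KCtx.sylow_normal (hA : LemmaAStmt.{u}) (hB : LemmaBStmt.{u}) (c : KCtx H r σ τ M V)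
    (hnil : Group.IsNilpotent ↥⁅M, M⁆) {p : ℕ} [Fact p.Prime] (hp2 : p ≠ 2) (hp3 : p ≠ 3)
    (P : Sylow p M) (hPinv : Inv σ τ ((P : Subgroup M).map M.subtype)) :
    M ≤ normalizer (((P : Subgroup M).map M.subtype : Subgroup H) : Set H) := by
  have hP0M : (P : Subgroup M).map M.subtype ≤ M := map_subtype_le _
  have hP0 : IsPGroup p ((P : Subgroup M).map M.subtype) := P.isPGroup'.map _
  have hTr : Tq M r = ⊥ := c.rsub_eq_bot (Tq_le' M r) (Tq_isPGroup M r)
    (le_normalizer.trans (Tq_norm M r)) (Tq_inv c.hMinv r)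
  have hFN : ⁅M, M⁆ ≤ normalizer (((P : Subgroup M).map M.subtype : Subgroup H) : Set H) := by
    intro g hg
    have h1 := Cfsg.Agent.Helper80.mem_closure_primePow (G := ↥⁅M, M⁆) 1 ⟨g, hg⟩
      (Nat.coprime_one_right _)
    have h2 : closure {h : ↥⁅M, M⁆ | ∃ q k : ℕ, q.Prime ∧ q ≠ 1 ∧ orderOf h = q ^ k} ≤
        (normalizer (((P : Subgroup M).map M.subtype : Subgroup H) : Set H)).subgroupOf
          ⁅M, M⁆ := by
      rw [closure_le]
      rintro ⟨x, hxF⟩ ⟨q, k, hq, -, hord⟩
      rw [SetLike.mem_coe, mem_subgroupOf]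
      show x ∈ normalizer (((P : Subgroup M).map M.subtype : Subgroup H) : Set H)
      rw [Subgroup.orderOf_mk] at hord
      have hxM : x ∈ M := commutator_le_self M hxF
      by_cases hx1 : x = 1
      · rw [hx1]
        exact one_mem _
      have hk : k ≠ 0 := by
        rintro rfl
        rw [pow_zero, orderOf_eq_one_iff] at hord
        exact hx1 hord
      have hqd : q ∣ Nat.card M := by
        have h3 : q ∣ orderOf x := by
          rw [hord]
          exact dvd_pow_self q hk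
        exact h3.trans (orderOf_dvd_natCard M hxM)
      obtain ⟨hq2, hq3⟩ := c.ne_of_dvd hqd hq.ne_one
      have : Fact q.Prime := ⟨hq⟩
      have hxT : x ∈ Tq M q := mem_Tq hnil q hxF (by rw [← hord]; exact pow_orderOf_eq_one x)
      by_cases hqr : q = r
      · subst hqr
        rw [hTr, mem_bot] at hxT
        exact absurd hxT hx1
      by_cases hqp : q = p
      · subst hqp
        exact le_normalizer (le_sylow_of_normal P (Tq_le' M q) (Tq_isPGroup M q)
          (le_normalizer.trans (Tq_norm M q)) hxT)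
      · have hTab := c.abel_of_lemmaA hA hq2 hq3 hqr (Tq_le' M q) (Tq_isPGroup M q)
          (Tq_inv c.hMinv q)
        have hcen := c.cent_of_lemmaB hB hp2 hp3 hq2 hq3 (Ne.symm hqp) hqr hP0M (Tq_le' M q) hP0
          (Tq_isPGroup M q) hTab hPinv (Tq_inv c.hMinv q)
          (hP0M.trans (le_normalizer.trans (Tq_norm M q)))
        apply centralizer_le_normalizer
        rw [mem_centralizer_iff]
        intro y hy
        exact (mem_centralizer_iff.1 (hcen hy) x hxT).symm
    exact mem_subgroupOf.1 (h2 h1)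
  intro m hm
  apply mem_normalizer_fintype
  intro n hn
  rw [SetLike.mem_coe] at hn ⊢
  have hRp : IsPGroup p (((P : Subgroup M).map M.subtype).map (MulAut.conj m).toMonoidHom) :=
    hP0.map _
  have hRM : ((P : Subgroup M).map M.subtype).map (MulAut.conj m).toMonoidHom ≤ M := by
    rintro _ ⟨y, hy, rfl⟩
    exact M.mul_mem (M.mul_mem hm (hP0M hy)) (M.inv_mem hm)
  have hRN : ((P : Subgroup M).map M.subtype).map (MulAut.conj m).toMonoidHom ≤
      normalizer (((P : Subgroup M).map M.subtype : Subgroup H) : Set H) := by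
    rintro _ ⟨y, hy, rfl⟩
    show m * y * m⁻¹ ∈ _
    have e : m * y * m⁻¹ = (m * y * m⁻¹ * y⁻¹) * y := by group
    rw [e]
    exact mul_mem (hFN (commutator_mem_commutator hm (hP0M hy))) (le_normalizer hy)
  exact le_sylow_of_le_normalizer P hRM hRp hRN ⟨n, hn, rfl⟩

end main

/-- **(K)** the faithful core from Lemmas A and B. -/
theorem faithfulCore (hA : LemmaAStmt.{u}) (hB : LemmaBStmt.{u}) : FaithfulCoreStmt.{u} := by
  intro H _ _ r _ σ τ M V k hS hr2 hr3 hMsolv hMcop hVea hVr hMinv hVinv hMV hfaith hfixV hfixM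
    hirr hnil
  by_cases hV1 : V = ⊥
  · have hcen : centralizer ((⊥ : Subgroup H) : Set H) = ⊤ := by
      rw [centralizer_eq_top_iff_subset]
      intro x hx
      rw [coe_bot, Set.mem_singleton_iff] at hx
      rw [hx]
      exact one_mem _
    have hM : M = ⊥ := by
      rw [← hfaith, hV1, hcen, inf_top_eq]
    rw [hM]
    exact commutator_bot_left ⊥
  have c : KCtx H r σ τ M V :=
    ⟨hS, hr2, hr3, hMcop, hVea, hVr, hMinv, hVinv, hMV, hfaith, hfixV, hfixM, hirr, hV1⟩
  have hnil' : Group.IsNilpotent ↥⁅M, M⁆ := isNilpotent_of_lowerCentralSeries_eq_bot hnil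
  have hcopA : (Nat.card (closure ({σ, τ} : Set H))).Coprime (Nat.card M) := by
    rw [card_closure_eq_six hS]
    exact hMcop.symm
  have key : ∀ (p : ℕ) [Fact p.Prime] (P : Sylow p M),
      (P : Subgroup M).Normal ∧ ∀ a ∈ P, ∀ b ∈ P, a * b = b * a := by
    intro p _ P
    by_cases hpd : p ∣ Nat.card M
    · obtain ⟨hp2, hp3⟩ := c.ne_of_dvd hpd (Fact.out : p.Prime).ne_one
      obtain ⟨P', hP'⟩ := Cfsg.Agent.Helper1.exists_invariant_sylow (closure ({σ, τ} : Set H)) M
        (inv_iff_closure_le.1 hMinv) hcopA (Or.inr hMsolv) p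
      have hP'inv : Inv σ τ ((P' : Subgroup M).map M.subtype) := inv_iff_closure_le.2 hP'
      have hN := c.sylow_normal hA hB hnil' hp2 hp3 P' hP'inv
      have hP'n : (P' : Subgroup M).Normal := by
        refine ⟨fun n hn m => ?_⟩
        have h1 : (m : H) * (n : H) * (m : H)⁻¹ ∈ (P' : Subgroup M).map M.subtype :=
          (mem_normalizer_iff.1 (hN m.2) (n : H)).1 ⟨n, hn, rfl⟩
        obtain ⟨y, hy, hye⟩ := h1
        have hym : y = m * n * m⁻¹ := Subtype.ext (by simpa using hye)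
        rw [← hym]
        exact hy
      have hPP' : P = P' := by
        have := Sylow.unique_of_normal P' hP'n
        exact Subsingleton.elim _ _
      subst hPP'
      refine ⟨hP'n, ?_⟩
      have hab : ∀ a ∈ (P : Subgroup M).map M.subtype, ∀ b ∈ (P : Subgroup M).map M.subtype,
          a * b = b * a := by
        by_cases hpr : p = r
        · subst hpr
          have hbot := c.rsub_eq_bot (map_subtype_le _) (P.isPGroup'.map _) hN hP'inv
          intro a ha b hb
          rw [hbot, mem_bot] at ha hb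
          rw [ha, hb]
        · exact c.abel_of_lemmaA hA hp2 hp3 hpr (map_subtype_le _) (P.isPGroup'.map _) hP'inv
      intro a ha b hb
      exact Subtype.ext (hab a ⟨a, ha, rfl⟩ b ⟨b, hb, rfl⟩)
    · have hPbot : (P : Subgroup M) = ⊥ := by
        obtain ⟨n, hn⟩ := IsPGroup.iff_card.mp P.isPGroup'
        have hdvd : p ^ n ∣ Nat.card M := by
          rw [← hn]
          exact card_subgroup_dvd_card _
        have hn0 : n = 0 := by
          by_contra h0
          exact hpd ((dvd_pow_self p h0).trans hdvd)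
        rw [hn0, pow_zero] at hn
        exact Subgroup.card_eq_one.mp hn
      constructor
      · rw [hPbot]
        infer_instance
      · intro a ha b hb
        have ha' : a ∈ (P : Subgroup M) := ha
        have hb' : b ∈ (P : Subgroup M) := hb
        rw [hPbot, mem_bot] at ha' hb'
        rw [ha', hb']
  have hcomm := comm_of_sylow key
  rw [commutator_eq_bot_iff_le_centralizer]
  intro a ha
  rw [mem_centralizer_iff]
  intro b hb
  exact congrArg Subtype.val (hcomm ⟨b, hb⟩ ⟨a, ha⟩)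

end Cfsg.Agent.Helper10.Shult
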