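import Cfsg.Agent.Helper8.Sims3Defs

/-!
S3385 + S3685 (helper8), leaf (T3a): each step of the chain `E P g 0 j` has index at most 2.
Also a small API for `E` and conjugates, shared with (T3b).
-/

set_option autoImplicit false

namespace Cfsg.Agent.Helper10.Sims3

open Cfsg.Agent.Helper8.Sims3 Pointwise

variable {G : Type*} [Group G]

theorem T3_mem_conj_smul {H : Subgroup G} {a x : G} :
    x ∈ MulAut.conj a • H ↔ a⁻¹ * x * a ∈ H := by
  rw [Subgroup.mem_pointwise_smul_iff_inv_smul_mem, ← map_inv, MulAut.smul_def,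
    MulAut.conj_apply, inv_inv]

theorem T3_card_conj_smul (a : G) (H : Subgroup G) :
    Nat.card ↥(MulAut.conj a • H) = Nat.card ↥H :=
  Nat.card_congr (Subgroup.equivSMul (MulAut.conj a) H).toEquiv.symm

theorem T3_E_mono {P : Subgroup G} {g : G} {i i' : ℤ} {m m' : ℕ} (h1 : i ≤ i')
    (h2 : i' + m' ≤ i + m) : E P g i m ≤ E P g i' m' := by
  intro x hx
  rw [mem_E] at hx ⊢
  intro k hk1 hk2
  exact hx k (by omega) (by omega)

theorem T3_conj_E (P : Subgroup G) (g : G) (a i : ℤ) (m : ℕ) :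
    MulAut.conj (g ^ a) • E P g i m = E P g (i + a) m := by
  ext x
  rw [T3_mem_conj_smul, mem_E, mem_E]
  constructor
  · intro h k hk1 hk2
    have h1 := h (k - a) (by omega) (by omega)
    rw [T3_mem_conj_smul] at h1 ⊢
    have e : g ^ k = g ^ a * g ^ (k - a) := by
      rw [← zpow_add]
      congr 1
      ring
    rw [e]
    convert h1 using 1
    group
  · intro h k hk1 hk2
    have h1 := h (k + a) (by omega) (by omega)
    rw [T3_mem_conj_smul] at h1 ⊢
    have e : g ^ (k + a) = g ^ a * g ^ k := by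
      rw [← zpow_add]
      congr 1
      ring
    rw [e] at h1
    convert h1 using 1
    group

theorem T3_conj_E_one (P : Subgroup G) (g : G) (i : ℤ) (m : ℕ) :
    MulAut.conj g • E P g i m = E P g (i + 1) m := by
  have := T3_conj_E P g 1 i m
  rwa [zpow_one] at this

theorem T3_E_zero (P : Subgroup G) (g : G) (i : ℤ) : E P g i 0 = MulAut.conj (g ^ i) • P := by
  ext x
  rw [mem_E]
  constructor
  · intro h
    exact h i le_rfl (by simp)
  · intro h k hk1 hk2
    have : k = i := by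
      have : (i : ℤ) + ((0 : ℕ) : ℤ) = i := by simp
      omega
    rw [this]
    exact h

theorem T3_E_zero_zero (P : Subgroup G) (g : G) : E P g 0 0 = P := by
  rw [T3_E_zero, zpow_zero, map_one, one_smul]

theorem T3_E_succ_inf (P : Subgroup G) (g : G) (i : ℤ) (m : ℕ) :
    E P g i (m + 1) = E P g i m ⊓ E P g (i + 1) m := by
  ext x
  rw [Subgroup.mem_inf, mem_E, mem_E, mem_E]
  constructor
  · intro h
    refine ⟨fun k hk1 hk2 => h k hk1 ?_, fun k hk1 hk2 => h k ?_ ?_⟩
    · push_cast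
      omega
    · omega
    · push_cast
      omega
  · rintro ⟨h1, h2⟩ k hk1 hk2
    push_cast at hk2
    by_cases hk : k ≤ i + m
    · exact h1 k hk1 hk
    · exact h2 k (by omega) (by omega)

theorem T3_E_succ_inf' (P : Subgroup G) (g : G) (i : ℤ) (m : ℕ) :
    E P g i (m + 1) = E P g (i + m) 1 ⊓ E P g i m := by
  ext x
  rw [Subgroup.mem_inf, mem_E, mem_E, mem_E]
  constructor
  · intro h
    refine ⟨fun k hk1 hk2 => h k ?_ ?_, fun k hk1 hk2 => h k hk1 ?_⟩
    · omega
    · push_cast at hk2 ⊢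
      omega
    · push_cast
      omega
  · rintro ⟨h1, h2⟩ k hk1 hk2
    push_cast at hk2
    by_cases hk : k ≤ i + m
    · exact h2 k hk1 hk
    · exact h1 k (by omega) (by push_cast; omega)

theorem T3_E_zero_one (P : Subgroup G) (g : G) : E P g 0 1 = P ⊓ MulAut.conj g • P := by
  rw [T3_E_succ_inf, T3_E_zero_zero, T3_E_zero, zero_add, zpow_one]

theorem T3_card_eq_mul_relIndex {H K : Subgroup G} (h : H ≤ K) :
    Nat.card ↥K = Nat.card ↥H * H.relIndex K := by
  rw [← Subgroup.relIndex_bot_left, ← Subgroup.relIndex_bot_left,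
    Subgroup.relIndex_mul_relIndex _ _ _ bot_le h]

/-- `P_i ⊓ P_(i+1)` is a `2`-group -/
theorem T3_isPGroup_E_one {P : Subgroup G} {g : G}
    (h2 : IsPGroup 2 ↥(P ⊓ MulAut.conj g • P)) (i : ℤ) : IsPGroup 2 ↥(E P g i 1) := by
  have e : E P g i 1 = MulAut.conj (g ^ i) • (P ⊓ MulAut.conj g • P) := by
    rw [← T3_E_zero_one, T3_conj_E, zero_add]
  rw [e]
  exact h2.of_equiv (Subgroup.equivSMul (MulAut.conj (g ^ i)) _)

/-- `P_i ⊓ P_(i+1)` has index `3` in `P_i` -/
theorem T3_relIndex_E_one {P : Subgroup G} {g : G} (h : Setup P g) (i : ℤ) :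
    (E P g i 1).relIndex (E P g i 0) = 3 := by
  have e1 : E P g i 1 = MulAut.conj (g ^ i) • (P ⊓ MulAut.conj g • P) := by
    rw [← T3_E_zero_one, T3_conj_E, zero_add]
  have e0 : E P g i 0 = MulAut.conj (g ^ i) • P := T3_E_zero P g i
  rw [e1, e0, Subgroup.relIndex_pointwise_smul]
  exact h.idx

/-- (T3a) each step of the chain has index at most 2. -/
theorem E_step [Finite G] {P : Subgroup G} {g : G} (h : Setup P g)
    (h2 : IsPGroup 2 ↥(P ⊓ MulAut.conj g • P)) (j : ℕ) (hj : 1 ≤ j) :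
    Nat.card ↥(E P g 0 j) ≤ 2 * Nat.card ↥(E P g 0 (j + 1)) := by
  have hsucc : E P g 0 (j + 1) = E P g (0 + j) 1 ⊓ E P g 0 j := T3_E_succ_inf' P g 0 j
  rw [zero_add] at hsucc
  have hDle : E P g 0 j ≤ E P g j 0 := T3_E_mono (by omega) (by push_cast; omega)
  have hrel : (E P g j 1).relIndex (E P g j 0) = 3 := T3_relIndex_E_one h j
  have h1 : (E P g j 1).relIndex (E P g 0 j) ≤ 3 := by
    have := Subgroup.relIndex_le_of_le_right (H := E P g j 1) hDle (by rw [hrel]; norm_num)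
    rwa [hrel] at this
  have hD2 : IsPGroup 2 ↥(E P g 0 j) := by
    have hle : E P g 0 j ≤ E P g ((j : ℤ) - 1) 1 := T3_E_mono (by omega) (by push_cast; omega)
    exact (T3_isPGroup_E_one h2 ((j : ℤ) - 1)).to_le hle
  obtain ⟨n, hn⟩ := hD2.exists_card_eq
  have h3 : (E P g j 1).relIndex (E P g 0 j) ∣ 2 ^ n := by
    rw [← hn]
    exact Subgroup.relIndex_dvd_card _ _
  obtain ⟨k, hk, hk2⟩ := (Nat.dvd_prime_pow Nat.prime_two).1 h3
  have h4 : (E P g j 1).relIndex (E P g 0 j) ≤ 2 := by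
    rw [hk2] at h1 ⊢
    have : k ≤ 1 := by
      by_contra hcon
      have : 2 ≤ k := by omega
      have := Nat.pow_le_pow_right (show 0 < 2 by norm_num) this
      omega
    calc 2 ^ k ≤ 2 ^ 1 := Nat.pow_le_pow_right (by norm_num) this
      _ = 2 := by norm_num
  rw [T3_card_eq_mul_relIndex (inf_le_right : E P g j 1 ⊓ E P g 0 j ≤ E P g 0 j),
    Subgroup.inf_relIndex_right, hsucc]
  calc Nat.card ↥(E P g j 1 ⊓ E P g 0 j) * (E P g j 1).relIndex (E P g 0 j)
      ≤ Nat.card ↥(E P g j 1 ⊓ E P g 0 j) * 2 := Nat.mul_le_mul_left _ h4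
    _ = 2 * Nat.card ↥(E P g j 1 ⊓ E P g 0 j) := by ring

end Cfsg.Agent.Helper10.Sims3
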