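import Cfsg.Agent.Helper8.Sims3Defs
import Cfsg.Agent.Helper10.Sims3_T3a

/-!
S3385 + S3685 (helper8), leaf (T3b): the first time the chain `E P g 0 j` stabilizes it has
reached the trivial group.
-/

set_option autoImplicit false

namespace Cfsg.Agent.Helper10.Sims3

open Cfsg.Agent.Helper8.Sims3 Pointwise

variable {G : Type*} [Group G]

/-- a subgroup of index at most two is normalized -/
theorem T3b_le_normalizer [Finite G] {H K : Subgroup G} (hHK : H ≤ K)
    (hc : Nat.card ↥K ≤ 2 * Nat.card ↥H) : K ≤ Subgroup.normalizer (H : Set G) := by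
  rw [← Subgroup.normal_subgroupOf_iff_le_normalizer hHK]
  have h1 := T3_card_eq_mul_relIndex hHK
  have hpos : 0 < Nat.card ↥H := Nat.card_pos
  have hposK : 0 < Nat.card ↥K := Nat.card_pos
  have h2 : H.relIndex K ≤ 2 := by
    by_contra hcon
    have h3 : 3 ≤ H.relIndex K := by omega
    have := Nat.mul_le_mul_left (Nat.card ↥H) h3
    omega
  have h3 : H.relIndex K ≠ 0 := by
    intro h0
    rw [h0, mul_zero] at h1
    omega
  rcases (by omega : H.relIndex K = 1 ∨ H.relIndex K = 2) with h | h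
  · have : H.subgroupOf K = ⊤ := Subgroup.index_eq_one.1 h
    rw [this]
    infer_instance
  · exact Subgroup.normal_of_index_eq_two h

/-- two distinct subgroups of the same prime index generate -/
theorem T3b_sup_eq [Finite G] {H H' K : Subgroup G} {p : ℕ} (hp : p.Prime) (hHK : H ≤ K)
    (hH'K : H' ≤ K) (hne : H ≠ H') (hcard : Nat.card ↥H' = Nat.card ↥H)
    (hK : Nat.card ↥K = p * Nat.card ↥H) : H ⊔ H' = K := by
  have hle : H ⊔ H' ≤ K := sup_le hHK hH'K
  have hpos : 0 < Nat.card ↥H := Nat.card_pos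
  obtain ⟨c, hc⟩ := Subgroup.card_dvd_of_le (le_sup_left : H ≤ H ⊔ H')
  obtain ⟨d, hd⟩ := Subgroup.card_dvd_of_le hle
  have hcd : p = c * d := by
    have : Nat.card ↥H * p = Nat.card ↥H * (c * d) := by
      rw [mul_comm, ← hK, hd, hc, mul_assoc]
    exact Nat.eq_of_mul_eq_mul_left hpos this
  have hc1 : c ≠ 1 := by
    intro h1
    rw [h1, mul_one] at hc
    have e : H = H ⊔ H' := Subgroup.eq_of_le_of_card_ge le_sup_left (by rw [hc])
    have hle' : H' ≤ H := by
      rw [e]
      exact le_sup_right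
    exact hne (Subgroup.eq_of_le_of_card_ge hle' (by rw [hcard])).symm
  have hcp : c = p := by
    rcases (Nat.dvd_prime hp).1 ⟨d, hcd⟩ with h | h
    · exact absurd h hc1
    · exact h
  apply Subgroup.eq_of_le_of_card_ge hle
  rw [hK, hc, hcp, mul_comm]

/-- a proper subgroup of index at most two has index two -/
theorem T3b_card_eq_two_mul [Finite G] {H K : Subgroup G} (hHK : H ≤ K) (hne : H ≠ K)
    (hc : Nat.card ↥K ≤ 2 * Nat.card ↥H) : Nat.card ↥K = 2 * Nat.card ↥H := by
  have h1 := T3_card_eq_mul_relIndex hHK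
  have hpos : 0 < Nat.card ↥H := Nat.card_pos
  have hposK : 0 < Nat.card ↥K := Nat.card_pos
  have h2 : H.relIndex K ≤ 2 := by
    by_contra hcon
    have h3 : 3 ≤ H.relIndex K := by omega
    have := Nat.mul_le_mul_left (Nat.card ↥H) h3
    omega
  have h3 : H.relIndex K ≠ 0 := by
    intro h0
    rw [h0, mul_zero] at h1
    omega
  have h4 : H.relIndex K ≠ 1 := by
    intro h0
    rw [h0, mul_one] at h1
    exact hne (Subgroup.eq_of_le_of_card_ge hHK (by rw [h1]))
  have h5 : H.relIndex K = 2 := by omega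
  rw [h1, h5, mul_comm]

/-- conjugating a subgroup of `M` by an element of `M` -/
theorem T3b_conj_le {M K : Subgroup G} {a : G} (ha : a ∈ M) (hK : K ≤ M) :
    MulAut.conj a • K ≤ M := by
  intro x hx
  rw [T3_mem_conj_smul] at hx
  have h1 : a * (a⁻¹ * x * a) * a⁻¹ ∈ M := M.mul_mem (M.mul_mem ha (hK hx)) (M.inv_mem ha)
  have e : a * (a⁻¹ * x * a) * a⁻¹ = x := by group
  rwa [e] at h1

/-- (T3b) the first time the chain stabilizes it has reached the trivial group. -/
theorem E_stable [Finite G] {P : Subgroup G} {g : G} (h : Setup P g)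
    (h2 : IsPGroup 2 ↥(P ⊓ MulAut.conj g • P))
    (hne : MulAut.conj g • (P ⊓ MulAut.conj g • P) ≠ P ⊓ MulAut.conj g • P)
    (hstep : ∀ j, 1 ≤ j → Nat.card ↥(E P g 0 j) ≤ 2 * Nat.card ↥(E P g 0 (j + 1)))
    (j : ℕ) (hj : 1 ≤ j) (hstab : E P g 0 (j + 1) = E P g 0 j)
    (hmin : ∀ i, 1 ≤ i → i < j → E P g 0 (i + 1) ≠ E P g 0 i) :
    E P g 0 j = ⊥ := by
  have _ := h2
  -- basic facts on `D i = E P g 0 i` and `F i = E P g 1 i`
  have hconj : ∀ i : ℕ, MulAut.conj g • E P g 0 i = E P g 1 i := by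
    intro i
    rw [T3_conj_E_one, zero_add]
  have hcardF : ∀ i : ℕ, Nat.card ↥(E P g 1 i) = Nat.card ↥(E P g 0 i) := by
    intro i
    rw [← hconj, T3_card_conj_smul]
  have hsucc : ∀ i : ℕ, E P g 0 (i + 1) = E P g 0 i ⊓ E P g 1 i := by
    intro i
    rw [T3_E_succ_inf, zero_add]
  have hDD : ∀ i : ℕ, E P g 0 (i + 1) ≤ E P g 0 i := fun i =>
    T3_E_mono le_rfl (by push_cast; omega)
  have hDF : ∀ i : ℕ, E P g 0 (i + 1) ≤ E P g 1 i := fun i =>
    T3_E_mono (by omega) (by push_cast; omega)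
  have hFF : ∀ i : ℕ, E P g 1 (i + 1) ≤ E P g 1 i := fun i =>
    T3_E_mono le_rfl (by push_cast; omega)
  have hstabF : ∀ i : ℕ, E P g 0 (i + 1) = E P g 0 i → E P g 0 i = E P g 1 i := by
    intro i hi
    have hle : E P g 0 i ≤ E P g 1 i := by
      rw [← hi]
      exact hDF i
    exact Subgroup.eq_of_le_of_card_ge hle (by rw [hcardF])
  have hFstab : ∀ i : ℕ, E P g 0 i = E P g 1 i → E P g 0 (i + 1) = E P g 0 i := by
    intro i hi
    rw [hsucc, ← hi, inf_idem]
  have hB : E P g 0 1 = P ⊓ MulAut.conj g • P := T3_E_zero_one P g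
  -- `j ≥ 2`
  have hj2 : 2 ≤ j := by
    by_contra hcon
    have hj1 : j = 1 := by omega
    subst hj1
    have h1 := hstabF 1 hstab
    rw [← hconj 1, hB] at h1
    exact hne h1.symm
  -- `g` normalizes `R = E P g 0 j`
  have hRF : E P g 0 j = E P g 1 j := hstabF j hstab
  have hgR : MulAut.conj g • E P g 0 j = E P g 0 j := by
    rw [hconj, ← hRF]
  set M : Subgroup G := Subgroup.normalizer (E P g 0 j : Set G) with hM
  have hgM : g ∈ M := by
    rw [hM, Subgroup.mem_normalizer_iff'']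
    intro x
    constructor
    · intro hx
      rw [← hgR] at hx
      exact T3_mem_conj_smul.1 hx
    · intro hx
      have := T3_mem_conj_smul.2 hx
      rwa [hgR] at this
  have hgM' : g⁻¹ ∈ M := M.inv_mem hgM
  have hback : ∀ i : ℕ, E P g 1 i ≤ M → E P g 0 i ≤ M := by
    intro i hi
    have e : E P g 0 i = MulAut.conj g⁻¹ • E P g 1 i := by
      rw [← hconj i, map_inv, inv_smul_smul]
    rw [e]
    exact T3b_conj_le hgM' hi
  have hforw : ∀ i : ℕ, E P g 0 i ≤ M → E P g 1 i ≤ M := by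
    intro i hi
    rw [← hconj i]
    exact T3b_conj_le hgM hi
  -- one step down
  have hdown : ∀ i : ℕ, 1 ≤ i → i + 1 ≤ j → E P g 0 (i + 1) ≤ M → E P g 0 i ≤ M := by
    intro i hi1 hij hi
    apply hback
    have hne1 : E P g 0 (i + 1) ≠ E P g 0 i := hmin i hi1 (by omega)
    have hc2 : Nat.card ↥(E P g 0 i) = 2 * Nat.card ↥(E P g 0 (i + 1)) :=
      T3b_card_eq_two_mul (hDD i) hne1 (hstep i hi1)
    rcases Nat.lt_or_ge (i + 1) j with hlt | hge
    · -- two distinct subgroups of index two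
      have hne2 : E P g 0 (i + 1) ≠ E P g 1 (i + 1) := by
        intro hcon
        exact hmin (i + 1) (by omega) hlt (hFstab (i + 1) hcon)
      have hsup : E P g 0 (i + 1) ⊔ E P g 1 (i + 1) = E P g 1 i :=
        T3b_sup_eq Nat.prime_two (hDF i) (hFF i) hne2 (hcardF (i + 1))
          (by rw [hcardF, hc2])
      rw [← hsup]
      exact sup_le hi (hforw (i + 1) hi)
    · -- `i + 1 = j`
      have hij' : i + 1 = j := by omega
      have hle : E P g 0 j ≤ E P g 1 i := by
        rw [← hij']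
        exact hDF i
      apply T3b_le_normalizer hle
      rw [hcardF, hc2, hij']
  have hall : ∀ k : ℕ, k + 1 ≤ j → E P g 0 (j - k) ≤ M := by
    intro k
    induction k with
    | zero =>
      intro _
      exact Subgroup.le_normalizer
    | succ k ih =>
      intro hk
      have h1 := ih (by omega)
      have e : j - k = (j - (k + 1)) + 1 := by omega
      rw [e] at h1
      exact hdown (j - (k + 1)) (by omega) (by omega) h1
  have hD1 : E P g 0 1 ≤ M := by
    have := hall (j - 1) (by omega)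
    have e : j - (j - 1) = 1 := by omega
    rwa [e] at this
  -- `P_1 ≤ M`
  have hF0 : E P g 1 0 ≤ M := by
    have hne3 : E P g 0 1 ≠ E P g 1 1 := by
      intro hcon
      rw [← hconj 1, hB] at hcon
      exact hne hcon.symm
    have hcP : Nat.card ↥(E P g 1 0) = 3 * Nat.card ↥(E P g 0 1) := by
      rw [hcardF, T3_E_zero_zero, hB,
        T3_card_eq_mul_relIndex (inf_le_left : P ⊓ MulAut.conj g • P ≤ P), h.idx, mul_comm]
    have hsup : E P g 0 1 ⊔ E P g 1 1 = E P g 1 0 :=
      T3b_sup_eq Nat.prime_three (hDF 0) (hFF 0) hne3 (hcardF 1) hcP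
    rw [← hsup]
    exact sup_le hD1 (hforw 1 hD1)
  have hPM : P ≤ M := by
    have := hback 0 hF0
    rwa [T3_E_zero_zero] at this
  -- `g ∉ P`
  have hgP : g ∉ P := by
    intro hg
    have h1 : MulAut.conj g • P = P := Subgroup.conj_smul_eq_self_of_mem hg
    have h3 := h.idx
    rw [h1, inf_idem, Subgroup.relIndex_self] at h3
    omega
  have hMtop : M = ⊤ := by
    apply h.coatom.2
    exact lt_of_le_of_ne hPM (fun hcon => hgP (by rw [hcon]; exact hgM))
  have hnormal : (E P g 0 j).Normal := Subgroup.normalizer_eq_top_iff.1 hMtop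
  apply h.core _ hnormal
  have : E P g 0 j ≤ E P g 0 0 := T3_E_mono le_rfl (by push_cast; omega)
  rwa [T3_E_zero_zero] at this

end Cfsg.Agent.Helper10.Sims3
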