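import Mathlib
import Cfsg.Agent.Helper13.Sp4O.Defs

/-!
# S2281 (n = 2, q odd) piece (BRAID)
-/

set_option autoImplicit false

namespace Cfsg.Agent.Helper10.Sp4O

open Matrix Cfsg.Agent.Helper13.Sp4O

variable {F : Type*} [Field F]

/-- (BRAID) -/
theorem braid_XZ :
    MeS (1 : F) 0 0 * MfS 0 1 0 * MeS 1 0 0 = MfS 0 1 0 * MeS 1 0 0 * MfS 0 1 0 := by
  apply Subtype.ext
  simp only [Submonoid.coe_mul, coe_MeS, coe_MfS]
  apply mat_ext4 <;>
  · simp only [← Matrix.mulVec_mulVec, Me_mulVec, Mf_mulVec]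
    apply vec_ext <;> simp

end Cfsg.Agent.Helper10.Sp4O
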