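import Mathlib
import Cfsg.Agent.Helper13.Sp4O.Defs

/-!
# S2281 (n = 2, q odd) piece (GCONJ)
-/

set_option autoImplicit false

namespace Cfsg.Agent.Helper10.Sp4O

open Matrix Cfsg.Agent.Helper13.Sp4O

variable {F : Type*} [Field F]

/-- (GCONJ) -/
theorem gS_conj_uS (θ : F) (hθ : θ ≠ 0) (h2 : (2 : F) ≠ 0) :
    gS θ * uS θ * (gS θ)⁻¹ = MeS 1 0 0 * uS θ := by
  rw [mul_inv_eq_iff_eq_mul]
  apply Subtype.ext
  simp only [uS, gS, Submonoid.coe_mul, coe_MeS, coe_UWS]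
  apply mat_ext4 <;>
  · simp only [← Matrix.mulVec_mulVec, Me_mulVec, UW_mulVec]
    apply vec_ext <;> simp [B_apply] <;> field_simp <;> ring

end Cfsg.Agent.Helper10.Sp4O
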