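import Mathlib
import Cfsg.Agent.Helper13.Sp4O.Defs

/-!
# S2281 (n = 2, q odd) piece (SCONJ)
-/

set_option autoImplicit false

namespace Cfsg.Agent.Helper10.Sp4O

open Matrix Cfsg.Agent.Helper13.Sp4O

variable {F : Type*} [Field F]

/-- the Weyl element on a general vector -/
theorem sW_mulVec_gen (x : V4 F) :
    (sW : M4 F) *ᵥ x = x (Sum.inr 0) • f1 + x (Sum.inr 1) • e2 + (- x (Sum.inl 0)) • e1
      + x (Sum.inl 1) • f2 := by
  apply vec_ext <;> simp [sW, Matrix.mulVec, dotProduct, Fintype.sum_sum_type]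

/-- (SCONJ) -/
theorem sS_conj_uS (θ : F) : sS * uS θ * sS⁻¹ = UWS (θ / 2) * MfS 0 (-1) 0 := by
  rw [mul_inv_eq_iff_eq_mul]
  apply Subtype.ext
  simp only [uS, Submonoid.coe_mul, coe_MeS, coe_MfS, coe_UWS, coe_sS]
  apply mat_ext4 <;>
  · simp only [← Matrix.mulVec_mulVec, Me_mulVec, Mf_mulVec, UW_mulVec, sW_mulVec_gen]
    apply vec_ext <;> simp <;> simp [B_apply]

end Cfsg.Agent.Helper10.Sp4O
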