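import Mathlib
import Cfsg.Prelude.Def_Classical
import Cfsg.Agent.S0246

/-!
# S3439, piece (PEX): elements of orders 5, 9, 12 in `PSp_4(3)` (helper10 for helper14)

The matrix facts are checked over `ZMod 3` by `decide` and transported along the ring isomorphism
`ZMod 3 ≃+* F`.
-/

set_option autoImplicit false

namespace Cfsg.Agent.Helper10.Spec4

open Matrix

/-- `g12` over `ZMod 3` -/
def g12z : Matrix (Fin 2 ⊕ Fin 2) (Fin 2 ⊕ Fin 2) (ZMod 3) :=
  Matrix.fromBlocks !![0,0;0,1] !![-1,0;0,1] !![1,0;0,0] !![0,0;0,1]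

/-- `g9` over `ZMod 3` -/
def g9z : Matrix (Fin 2 ⊕ Fin 2) (Fin 2 ⊕ Fin 2) (ZMod 3) :=
  Matrix.fromBlocks !![1,-1;0,0] !![0,0;1,1] !![0,0;-1,0] !![0,-1;0,0]

/-- `g5` over `ZMod 3` -/
def g5z : Matrix (Fin 2 ⊕ Fin 2) (Fin 2 ⊕ Fin 2) (ZMod 3) :=
  Matrix.fromBlocks !![0,1;0,1] !![0,0;-1,0] !![-1,1;1,0] !![0,1;0,0]

set_option maxRecDepth 100000 in
theorem g12z_mem : g12z * Matrix.J (Fin 2) (ZMod 3) * g12zᵀ = Matrix.J (Fin 2) (ZMod 3) := by
  decide

set_option maxRecDepth 100000 in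
theorem g9z_mem : g9z * Matrix.J (Fin 2) (ZMod 3) * g9zᵀ = Matrix.J (Fin 2) (ZMod 3) := by
  decide

set_option maxRecDepth 100000 in
theorem g5z_mem : g5z * Matrix.J (Fin 2) (ZMod 3) * g5zᵀ = Matrix.J (Fin 2) (ZMod 3) := by
  decide

set_option maxRecDepth 100000 in
theorem g12z_pow : g12z ^ 12 = 1 ∧ (g12z ^ 6 ≠ 1 ∧ g12z ^ 6 ≠ -1) ∧
    (g12z ^ 4 ≠ 1 ∧ g12z ^ 4 ≠ -1) := by
  decide

set_option maxRecDepth 100000 in
theorem g9z_pow : (g9z ^ 9 = 1 ∨ g9z ^ 9 = -1) ∧ (g9z ^ 3 ≠ 1 ∧ g9z ^ 3 ≠ -1) := by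
  decide

set_option maxRecDepth 100000 in
theorem g5z_pow : (g5z ^ 5 = 1 ∨ g5z ^ 5 = -1) ∧ (g5z ^ 1 ≠ 1 ∧ g5z ^ 1 ≠ -1) := by
  decide


section transport

variable {F : Type*} [Field F]

/-- transport of a symplectic matrix along a ring hom -/
theorem map_mem_symplecticGroup (φ : ZMod 3 →+* F)
    {A : Matrix (Fin 2 ⊕ Fin 2) (Fin 2 ⊕ Fin 2) (ZMod 3)}
    (hA : A * Matrix.J (Fin 2) (ZMod 3) * Aᵀ = Matrix.J (Fin 2) (ZMod 3)) :
    φ.mapMatrix A ∈ Matrix.symplecticGroup (Fin 2) F := by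
  rw [SymplecticGroup.mem_iff]
  have hJ : Matrix.J (Fin 2) F = φ.mapMatrix (Matrix.J (Fin 2) (ZMod 3)) := by
    rw [RingHom.mapMatrix_apply, Matrix.J, Matrix.J, Matrix.fromBlocks_map]
    congr 1
    · simp
    · simp [Matrix.map_neg, Matrix.map_one]
    · simp [Matrix.map_one]
    · simp
  have hT : (φ.mapMatrix A)ᵀ = φ.mapMatrix Aᵀ := by
    rw [RingHom.mapMatrix_apply, RingHom.mapMatrix_apply, Matrix.transpose_map]
  rw [hJ, hT, ← map_mul, ← map_mul, hA]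

/-- the transported element of `Sp_4(F)` -/
def spOf (φ : ZMod 3 →+* F) (A : Matrix (Fin 2 ⊕ Fin 2) (Fin 2 ⊕ Fin 2) (ZMod 3))
    (hA : A * Matrix.J (Fin 2) (ZMod 3) * Aᵀ = Matrix.J (Fin 2) (ZMod 3)) :
    Matrix.symplecticGroup (Fin 2) F :=
  ⟨φ.mapMatrix A, map_mem_symplecticGroup φ hA⟩

theorem mk_spOf_pow_eq_one_iff (φ : ZMod 3 →+* F) (hφ : Function.Injective φ)
    (A : Matrix (Fin 2 ⊕ Fin 2) (Fin 2 ⊕ Fin 2) (ZMod 3))
    (hA : A * Matrix.J (Fin 2) (ZMod 3) * Aᵀ = Matrix.J (Fin 2) (ZMod 3)) (k : ℕ) :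
    ((QuotientGroup.mk (spOf φ A hA) : Cfsg.PSp 2 F)) ^ k = 1 ↔ (A ^ k = 1 ∨ A ^ k = -1) := by
  have hinj : Function.Injective (φ.mapMatrix (m := Fin 2 ⊕ Fin 2)) := by
    intro X Y hXY
    rw [RingHom.mapMatrix_apply, RingHom.mapMatrix_apply] at hXY
    exact Matrix.map_injective hφ hXY
  rw [← QuotientGroup.mk_pow, QuotientGroup.eq_one_iff,
    Cfsg.Agent.S0246.mem_center_iff (by norm_num : 1 ≤ 2)]
  have hcoe : (((spOf φ A hA) ^ k : Matrix.symplecticGroup (Fin 2) F) :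
      Matrix (Fin 2 ⊕ Fin 2) (Fin 2 ⊕ Fin 2) F) = φ.mapMatrix (A ^ k) := by
    rw [SubmonoidClass.coe_pow, map_pow]
    rfl
  constructor
  · rintro (h | h)
    · left
      apply hinj
      rw [← hcoe, h, map_one]
      rfl
    · right
      apply hinj
      rw [← hcoe, h, map_neg, map_one]
      rfl
  · rintro (h | h)
    · left
      apply Subtype.ext
      rw [hcoe, h, map_one]
      rfl
    · right
      apply Subtype.ext
      rw [hcoe, h, map_neg, map_one]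
      rfl

end transport

/-- (PEX) elements of orders 5, 9, 12 in `PSp_4(3)`. -/
theorem exists_orderOf_psp {F : Type*} [Field F] [Fintype F] (hF : Fintype.card F = 3) :
    (∃ g : Cfsg.PSp 2 F, orderOf g = 5) ∧ (∃ g : Cfsg.PSp 2 F, orderOf g = 9) ∧
      ∃ g : Cfsg.PSp 2 F, orderOf g = 12 := by
  set e : ZMod 3 ≃+* F := ZMod.ringEquivOfPrime F Nat.prime_three hF with he
  set φ : ZMod 3 →+* F := (e : ZMod 3 →+* F) with hφdef
  have hφ : Function.Injective φ := e.injective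
  refine ⟨⟨QuotientGroup.mk (spOf φ g5z g5z_mem), ?_⟩, ⟨QuotientGroup.mk (spOf φ g9z g9z_mem), ?_⟩,
    ⟨QuotientGroup.mk (spOf φ g12z g12z_mem), ?_⟩⟩
  · apply orderOf_eq_of_pow_and_pow_div_prime (by norm_num)
    · rw [mk_spOf_pow_eq_one_iff φ hφ]
      exact g5z_pow.1
    · intro p hp hd
      have hp5 : p = 5 := (Nat.prime_dvd_prime_iff_eq hp (by norm_num)).1 hd
      subst hp5
      rw [show 5 / 5 = 1 from rfl]
      intro h
      rw [mk_spOf_pow_eq_one_iff φ hφ] at h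
      rcases h with h | h
      · exact g5z_pow.2.1 h
      · exact g5z_pow.2.2 h
  · apply orderOf_eq_of_pow_and_pow_div_prime (by norm_num)
    · rw [mk_spOf_pow_eq_one_iff φ hφ]
      exact g9z_pow.1
    · intro p hp hd
      have hp3 : p = 3 := by
        have h9 : (9 : ℕ) = 3 ^ 2 := by norm_num
        rw [h9] at hd
        exact (Nat.prime_dvd_prime_iff_eq hp Nat.prime_three).1 (hp.dvd_of_dvd_pow hd)
      subst hp3
      rw [show 9 / 3 = 3 from rfl]
      intro h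
      rw [mk_spOf_pow_eq_one_iff φ hφ] at h
      rcases h with h | h
      · exact g9z_pow.2.1 h
      · exact g9z_pow.2.2 h
  · apply orderOf_eq_of_pow_and_pow_div_prime (by norm_num)
    · rw [mk_spOf_pow_eq_one_iff φ hφ]
      exact Or.inl g12z_pow.1
    · intro p hp hd
      have hp23 : p = 2 ∨ p = 3 := by
        have h12 : (12 : ℕ) = 2 ^ 2 * 3 := by norm_num
        rw [h12] at hd
        rcases (Nat.Prime.dvd_mul hp).1 hd with h | h
        · left
          exact (Nat.prime_dvd_prime_iff_eq hp Nat.prime_two).1 (hp.dvd_of_dvd_pow h)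
        · right
          exact (Nat.prime_dvd_prime_iff_eq hp Nat.prime_three).1 h
      rcases hp23 with rfl | rfl
      · rw [show 12 / 2 = 6 from rfl]
        intro h
        rw [mk_spOf_pow_eq_one_iff φ hφ] at h
        rcases h with h | h
        · exact g12z_pow.2.1.1 h
        · exact g12z_pow.2.1.2 h
      · rw [show 12 / 3 = 4 from rfl]
        intro h
        rw [mk_spOf_pow_eq_one_iff φ hφ] at h
        rcases h with h | h
        · exact g12z_pow.2.2.1 h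
        · exact g12z_pow.2.2.2 h

end Cfsg.Agent.Helper10.Spec4
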