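import Mathlib

/-!
# S2512 pieces (A1) `part1_core`, (A2) `part2_core`: abstract group-level pieces
-/

set_option autoImplicit false

namespace Cfsg.Agent.Helper10.Spec5

section abstract

variable {L : Type*} [Group L] [Finite L]

omit [Finite L] in
theorem exists_orderOf_eq_of_dvd (g : L) (hpos : 0 < orderOf g) (k : ℕ)
    (hk : k ∣ orderOf g) : ∃ h : L, orderOf h = k := by
  have hk0 : 0 < k := Nat.pos_of_dvd_of_pos hk hpos
  refine ⟨g ^ (orderOf g / k), ?_⟩
  rw [orderOf_pow_of_dvd (Nat.div_pos (Nat.le_of_dvd hpos hk) hk0).ne' (Nat.div_dvd_of_dvd hk),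
    Nat.div_div_self hk hpos.ne']

theorem lcm_two_mul_left {a m : ℕ} (h : ¬ 2 ∣ Nat.lcm a m) :
    Nat.lcm (2 * a) m = 2 * Nat.lcm a m := by
  have h1 : Nat.Coprime 2 (Nat.lcm a m) := (Nat.Prime.coprime_iff_not_dvd Nat.prime_two).mpr h
  have h2 : Nat.Coprime 2 a := Nat.Coprime.coprime_dvd_right (Nat.dvd_lcm_left a m) h1
  rw [← h2.lcm_eq_mul, Nat.lcm_assoc, h1.lcm_eq_mul]

theorem lcm_two_right {m : ℕ} (h : ¬ 2 ∣ m) : Nat.lcm m 2 = 2 * m := by
  have h1 : Nat.Coprime 2 m := (Nat.Prime.coprime_iff_not_dvd Nat.prime_two).mpr h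
  rw [Nat.lcm_comm, h1.lcm_eq_mul]

omit [Finite L] in
/-- two elements whose orders have odd lcm `T`, and an involution: the lcm `2 T` is realized -/
theorem exists_triple_of_pair (hI : ∃ d : L, orderOf d = 2) (u v : L) (T : ℕ)
    (hT : ¬ 2 ∣ T) (huv : Nat.lcm (orderOf u) (orderOf v) = T) :
    ∃ x' y' z' : L, Nat.lcm (orderOf x') (Nat.lcm (orderOf y') (orderOf z')) = 2 * T := by
  obtain ⟨d, hd⟩ := hI
  refine ⟨u, v, d, ?_⟩
  rw [← Nat.lcm_assoc, huv, hd, lcm_two_right hT]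

/-- (A1) three factors. -/
theorem part1_core {c E : ℕ}
    (hW : ∀ w : L, Odd (orderOf w) →
      (∃ y : L, orderOf y = 2 * orderOf w) ∨ orderOf w ∣ c ∨ orderOf w = E)
    (hS : ∃ w : L, orderOf w = c) (hI : ∃ d : L, orderOf d = 2)
    (x y z : L) (hxyz : ¬ 2 ∣ Nat.lcm (orderOf x) (Nat.lcm (orderOf y) (orderOf z))) :
    ∃ x' y' z' : L, Nat.lcm (orderOf x') (Nat.lcm (orderOf y') (orderOf z')) =
      2 * Nat.lcm (orderOf x) (Nat.lcm (orderOf y) (orderOf z)) := by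
  obtain ⟨w, hw⟩ := hS
  have hwpos : 0 < orderOf w := orderOf_pos w
  set a := orderOf x with ha
  set b := orderOf y with hb
  set cz := orderOf z with hcz
  have hoa : Odd a := by
    rw [← Nat.not_even_iff_odd, even_iff_two_dvd]
    exact fun h => hxyz (h.trans (Nat.dvd_lcm_left _ _))
  have hob : Odd b := by
    rw [← Nat.not_even_iff_odd, even_iff_two_dvd]
    exact fun h => hxyz (h.trans ((Nat.dvd_lcm_left _ _).trans (Nat.dvd_lcm_right _ _)))
  have hoc : Odd cz := by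
    rw [← Nat.not_even_iff_odd, even_iff_two_dvd]
    exact fun h => hxyz (h.trans ((Nat.dvd_lcm_right _ _).trans (Nat.dvd_lcm_right _ _)))
  rcases hW x hoa with ⟨x2, hx2⟩ | hxk
  · refine ⟨x2, y, z, ?_⟩
    rw [hx2]
    exact lcm_two_mul_left hxyz
  rcases hW y hob with ⟨y2, hy2⟩ | hyk
  · refine ⟨y2, x, z, ?_⟩
    rw [hy2]
    have e : Nat.lcm a (Nat.lcm b cz) = Nat.lcm b (Nat.lcm a cz) := by ac_rfl
    rw [e] at hxyz ⊢
    exact lcm_two_mul_left hxyz
  rcases hW z hoc with ⟨z2, hz2⟩ | hzk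
  · refine ⟨z2, x, y, ?_⟩
    rw [hz2]
    have e : Nat.lcm a (Nat.lcm b cz) = Nat.lcm cz (Nat.lcm a b) := by ac_rfl
    rw [e] at hxyz ⊢
    exact lcm_two_mul_left hxyz
  -- no doubles: two of the three are of the same kind
  rcases hxk with hxc | hxE
  · rcases hyk with hyc | hyE
    · -- `a ∣ c`, `b ∣ c`
      obtain ⟨w', hw'⟩ := exists_orderOf_eq_of_dvd w hwpos (Nat.lcm a b)
        (hw ▸ Nat.lcm_dvd hxc hyc)
      refine exists_triple_of_pair hI w' z _ hxyz ?_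
      rw [hw']
      ac_rfl
    · rcases hzk with hzc | hzE
      · -- `a ∣ c`, `cz ∣ c`
        obtain ⟨w', hw'⟩ := exists_orderOf_eq_of_dvd w hwpos (Nat.lcm a cz)
          (hw ▸ Nat.lcm_dvd hxc hzc)
        refine exists_triple_of_pair hI w' y _ hxyz ?_
        rw [hw']
        show Nat.lcm (Nat.lcm a cz) b = Nat.lcm a (Nat.lcm b cz)
        ac_rfl
      · -- `b = E = cz`
        refine exists_triple_of_pair hI x y _ hxyz ?_
        have e : cz = b := hzE.trans hyE.symm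
        rw [e, Nat.lcm_self]
  · rcases hyk with hyc | hyE
    · rcases hzk with hzc | hzE
      · -- `b ∣ c`, `cz ∣ c`
        obtain ⟨w', hw'⟩ := exists_orderOf_eq_of_dvd w hwpos (Nat.lcm b cz)
          (hw ▸ Nat.lcm_dvd hyc hzc)
        refine exists_triple_of_pair hI x w' _ hxyz ?_
        rw [hw']
      · -- `a = E = cz`
        refine exists_triple_of_pair hI x y _ hxyz ?_
        have e : cz = a := hzE.trans hxE.symm
        rw [e]
        have e2 : Nat.lcm a (Nat.lcm b a) = Nat.lcm (Nat.lcm a a) b := by ac_rfl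
        rw [e2, Nat.lcm_self]
    · -- `a = E = b`
      refine exists_triple_of_pair hI x z _ hxyz ?_
      have e : b = a := hyE.trans hxE.symm
      rw [e, ← Nat.lcm_assoc, Nat.lcm_self]

/-- (A2) two factors. -/
theorem part2_core {c : ℕ}
    (hW : ∀ w : L, Odd (orderOf w) → (∃ y : L, orderOf y = 2 * orderOf w) ∨ orderOf w ∣ c)
    (hS : ∃ w : L, orderOf w = c) (hI : ∃ d : L, orderOf d = 2)
    (x y : L) (hxy : ¬ 2 ∣ Nat.lcm (orderOf x) (orderOf y)) :
    ∃ x' y' : L, Nat.lcm (orderOf x') (orderOf y') = 2 * Nat.lcm (orderOf x) (orderOf y) := by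
  obtain ⟨w, hw⟩ := hS
  have hwpos : 0 < orderOf w := orderOf_pos w
  set a := orderOf x with ha
  set b := orderOf y with hb
  have hoa : Odd a := by
    rw [← Nat.not_even_iff_odd, even_iff_two_dvd]
    exact fun h => hxy (h.trans (Nat.dvd_lcm_left _ _))
  have hob : Odd b := by
    rw [← Nat.not_even_iff_odd, even_iff_two_dvd]
    exact fun h => hxy (h.trans (Nat.dvd_lcm_right _ _))
  rcases hW x hoa with ⟨x2, hx2⟩ | hxc
  · refine ⟨x2, y, ?_⟩
    rw [hx2]
    exact lcm_two_mul_left hxy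
  rcases hW y hob with ⟨y2, hy2⟩ | hyc
  · refine ⟨y2, x, ?_⟩
    rw [hy2]
    have e : Nat.lcm a b = Nat.lcm b a := Nat.lcm_comm a b
    rw [e] at hxy ⊢
    exact lcm_two_mul_left hxy
  obtain ⟨w', hw'⟩ := exists_orderOf_eq_of_dvd w hwpos (Nat.lcm a b) (hw ▸ Nat.lcm_dvd hxc hyc)
  obtain ⟨d, hd⟩ := hI
  refine ⟨w', d, ?_⟩
  rw [hw', hd, lcm_two_right hxy]

end abstract

end Cfsg.Agent.Helper10.Spec5
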