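import Cfsg.Agent.Helper11.Spec5.Defs

/-!
# S2512 piece (DI) `dichotomy`

Reverse-free route: `s⁻¹ = s ^ (m - 1)`, so `adj (P(s)) = (σ P)(s)` with `σ P = P ∘ X ^ (m - 1)`,
a ring endomorphism of `F[X]` preserving the ideal `(μ)` and an involution modulo `μ`.  The rest is
a purely polynomial lemma.
-/

set_option autoImplicit false
set_option linter.unusedSectionVars false

namespace Cfsg.Agent.Helper10.Spec5

open Matrix Polynomial Cfsg.Agent.Helper43.SpReg Cfsg.Agent.Helper11.Spec5 Cfsg.Agent.S0246

/-- the polynomial core of the dichotomy -/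
theorem poly_dichotomy {F : Type*} [Field F] (μ : F[X]) (hμ0 : μ ≠ 0) (hμu : ¬ IsUnit μ)
    (hsep : ∀ f r : F[X], μ = f * r → IsCoprime f r)
    (σ : F[X] →+* F[X]) (hσ1 : ∀ P, μ ∣ P → μ ∣ σ P) (hσ2 : ∀ P, μ ∣ σ (σ P) - P)
    (hind : ∀ P : F[X], μ ∣ P * P - P → μ ∣ σ P - P → μ ∣ P ∨ μ ∣ P - 1) :
    Irreducible μ ∨ ∃ f h : F[X], Irreducible f ∧ Irreducible h ∧ IsCoprime f h ∧ μ = f * h ∧
      μ ∣ σ f * f ∧ μ ∣ σ h * h := by
  obtain ⟨f, hf, hfμ⟩ := WfDvdMonoid.exists_irreducible_factor hμu hμ0
  obtain ⟨r, hμ⟩ := hfμ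
  obtain ⟨a, b, hab⟩ := hsep f r hμ
  have hfp : Prime f := hf.prime
  set E := b * r with hE
  have hE0 : r ∣ E := Dvd.intro_left b rfl
  have hE1 : f ∣ E - 1 := ⟨-a, by rw [hE, ← hab]; ring⟩
  have hfnu : ¬ f ∣ 1 := fun h => hf.not_isUnit (isUnit_of_dvd_one h)
  have hμd : ∀ {P Q : F[X]}, f ∣ P → r ∣ Q → μ ∣ P * Q := fun hP hQ => hμ ▸ mul_dvd_mul hP hQ
  have hfμ' : f ∣ μ := Dvd.intro _ hμ.symm
  have hrμ' : r ∣ μ := Dvd.intro_left _ hμ.symm
  have hEid : μ ∣ E * E - E := by
    have : E * E - E = (E - 1) * E := by ring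
    rw [this]
    exact hμd hE1 hE0
  have hσEid : μ ∣ σ E * σ E - σ E := by
    have := hσ1 _ hEid
    rwa [map_sub, map_mul] at this
  have hcase : f ∣ σ E ∨ f ∣ σ E - 1 := by
    have h1 : f ∣ σ E * (σ E - 1) := by
      have : σ E * (σ E - 1) = σ E * σ E - σ E := by ring
      rw [this]
      exact hfμ'.trans hσEid
    exact hfp.dvd_or_dvd h1
  have hnotE : ¬ μ ∣ E := by
    intro h
    apply hfnu
    have h1 : f ∣ E := hfμ'.trans h
    have : (1 : F[X]) = E - (E - 1) := by ring
    rw [this]
    exact dvd_sub h1 hE1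
  rcases hcase with hb | ha
  · -- case (b): `E` and `σ E` are orthogonal
    have b1 : μ ∣ σ E * E := hμd hb hE0
    set D := E + σ E with hD
    have hDid : μ ∣ D * D - D := by
      have : D * D - D = (E * E - E) + (σ E * σ E - σ E) + 2 * (σ E * E) := by
        rw [hD]
        ring
      rw [this]
      exact dvd_add (dvd_add hEid hσEid) (Dvd.dvd.mul_left b1 _)
    have hDadj : μ ∣ σ D - D := by
      have : σ D - D = σ (σ E) - E := by
        rw [hD, map_add]
        ring
      rw [this]
      exact hσ2 E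
    rcases hind D hDid hDadj with h | h
    · exfalso
      apply hnotE
      have : E = E * D - (E * E - E) - σ E * E := by
        rw [hD]
        ring
      rw [this]
      exact dvd_sub (dvd_sub (Dvd.dvd.mul_left h _) hEid) b1
    · right
      have hR1 : ∀ P, r ∣ P → f ∣ σ P := by
        intro P hP
        have h1 : μ ∣ (1 - E) * P := by
          have : (1 - E) * P = (-(E - 1)) * P := by ring
          rw [this]
          exact hμd ((dvd_neg).mpr hE1) hP
        have h2 := hσ1 _ h1
        rw [map_mul, map_sub, map_one] at h2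
        have h3 : μ ∣ E * σ P := by
          have : E * σ P = (1 - σ E) * σ P + (D - 1) * σ P := by
            rw [hD]
            ring
          rw [this]
          exact dvd_add h2 (Dvd.dvd.mul_right h _)
        have h4 : f ∣ E * σ P := hfμ'.trans h3
        have h5 : f ∣ (E - 1) * σ P := Dvd.dvd.mul_right hE1 _
        have : σ P = E * σ P - (E - 1) * σ P := by ring
        rw [this]
        exact dvd_sub h4 h5
      have hR2 : ∀ P, f ∣ σ P → r ∣ P := by
        intro P hP
        have h1 : μ ∣ σ P * E := hμd hP hE0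
        have h2 := hσ1 _ h1
        rw [map_mul] at h2
        have h3 : μ ∣ P * (1 - E) := by
          have : P * (1 - E) = σ (σ P) * σ E - (σ (σ P) - P) * σ E - P * (D - 1) := by
            rw [hD]
            ring
          rw [this]
          exact dvd_sub (dvd_sub h2 (Dvd.dvd.mul_right (hσ2 P) _)) (Dvd.dvd.mul_left h _)
        have h4 : r ∣ P * (1 - E) := hrμ'.trans h3
        have h5 : r ∣ P * E := Dvd.dvd.mul_left hE0 _
        have : P = P * (1 - E) + P * E := by ring
        rw [this]
        exact dvd_add h4 h5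
      have hr0 : r ≠ 0 := by
        rintro rfl
        rw [mul_zero] at hμ
        exact hμ0 hμ
      have hrnu : ¬ IsUnit r := by
        intro hu
        apply hfnu
        have := hR1 1 hu.dvd
        rwa [map_one] at this
      have hrp : Prime r := by
        refine ⟨hr0, hrnu, ?_⟩
        intro u v huv
        have h1 := hR1 _ huv
        rw [map_mul] at h1
        rcases hfp.dvd_or_dvd h1 with h | h
        · exact Or.inl (hR2 u h)
        · exact Or.inr (hR2 v h)
      refine ⟨f, r, hf, hrp.irreducible, ⟨a, b, hab⟩, hμ, ?_, ?_⟩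
      · have h1 : f ∣ σ (σ f) := by
          have : σ (σ f) = (σ (σ f) - f) + f := by ring
          rw [this]
          exact dvd_add (hfμ'.trans (hσ2 f)) dvd_rfl
        have h2 : r ∣ σ f := hR2 _ h1
        have : σ f * f = f * σ f := mul_comm _ _
        rw [this]
        exact hμd dvd_rfl h2
      · exact hμd (hR1 r dvd_rfl) dvd_rfl
  · -- case (a): `E` is self-adjoint
    left
    have a1 : μ ∣ E * σ E - E := by
      have : E * σ E - E = (σ E - 1) * E := by ring
      rw [this]
      exact hμd ha hE0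
    have a2 : μ ∣ σ E * E - σ E := by
      have h1 := hσ1 _ a1
      rw [map_sub, map_mul] at h1
      have h2 : μ ∣ σ E * (σ (σ E) - E) := Dvd.dvd.mul_left (hσ2 E) _
      have : σ E * E - σ E = (σ E * σ (σ E) - σ E) - σ E * (σ (σ E) - E) := by ring
      rw [this]
      exact dvd_sub h1 h2
    have a3 : μ ∣ σ E - E := by
      have : σ E - E = (E * σ E - E) - (σ E * E - σ E) := by ring
      rw [this]
      exact dvd_sub a1 a2
    rcases hind E hEid a3 with h | h
    · exact absurd h hnotE
    · have hr1 : r ∣ 1 := by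
        have h1 : r ∣ E - 1 := hrμ'.trans h
        have : (1 : F[X]) = E - (E - 1) := by ring
        rw [this]
        exact dvd_sub hE0 h1
      have hru : IsUnit r := isUnit_of_dvd_one hr1
      rw [hμ]
      exact (irreducible_mul_isUnit hru).mpr hf

variable {F : Type*} [Field F] [Fintype F] {n : ℕ}

/-- (DI) the dichotomy. -/
theorem dichotomy (hn : 1 ≤ n) (s : Mat n F) (hs : s ∈ symplecticGroup (Fin n) F) (m : ℕ)
    (hm : (m : F) ≠ 0) (hsm : s ^ m = 1)
    (hind : ∀ P : F[X], aeval s P * aeval s P = aeval s P → adj (aeval s P) = aeval s P →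
      aeval s P = 0 ∨ aeval s P = 1) :
    Dich s := by
  have hm0 : m ≠ 0 := by
    rintro rfl
    simp at hm
  have : Nonempty (Fin n ⊕ Fin n) := ⟨Sum.inl ⟨0, hn⟩⟩
  have hint : IsIntegral F s := Algebra.IsIntegral.isIntegral s
  have hdvd : ∀ P : F[X], minpoly F s ∣ P ↔ aeval s P = 0 := fun P => minpoly.dvd_iff
  -- the inverse of `s`
  have hts : adj s * s = 1 := adj_mul_self_of_mem hs
  have ht : adj s = s ^ (m - 1) := by
    have h1 : s * s ^ (m - 1) = 1 := by
      rw [← pow_succ', Nat.sub_add_cancel (Nat.pos_of_ne_zero hm0), hsm]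
    calc adj s = adj s * (s * s ^ (m - 1)) := by rw [h1, mul_one]
      _ = (adj s * s) * s ^ (m - 1) := by rw [mul_assoc]
      _ = s ^ (m - 1) := by rw [hts, one_mul]
  have hpow : ∀ k : ℕ, adj (s ^ k) = adj s ^ k := by
    intro k
    induction k with
    | zero => simp [adj_one]
    | succ k ih => rw [pow_succ, adj_mul, ih, pow_succ']
  let adjL : Mat n F →ₗ[F] Mat n F :=
    { toFun := adj
      map_add' := adj_add
      map_smul' := fun c g => by simpa using adj_smul c g }
  have hadj0 : adj (0 : Mat n F) = 0 := adjL.map_zero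
  let σ : F[X] →+* F[X] := Polynomial.compRingHom (X ^ (m - 1))
  have hσapp : ∀ P : F[X], σ P = P.comp (X ^ (m - 1)) := fun P => rfl
  have hadj : ∀ P : F[X], adj (aeval s P) = aeval s (σ P) := by
    intro P
    rw [hσapp, aeval_comp, map_pow, aeval_X, ← ht, aeval_eq_sum_range, aeval_eq_sum_range]
    show adjL (∑ i ∈ Finset.range (P.natDegree + 1), P.coeff i • s ^ i) = _
    rw [map_sum]
    apply Finset.sum_congr rfl
    intro i _
    show adj (P.coeff i • s ^ i) = P.coeff i • adj s ^ i
    rw [adj_smul, hpow]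
  have hsepμ : (minpoly F s).Separable := by
    apply (separable_X_pow_sub_C (1 : F) hm one_ne_zero).of_dvd
    rw [hdvd]
    simp [hsm]
  have key := poly_dichotomy (minpoly F s) (minpoly.ne_zero hint) (minpoly.not_isUnit F s)
    (fun f r h => (h ▸ hsepμ).isCoprime) σ
    (fun P hP => by
      rw [hdvd] at hP ⊢
      rw [← hadj, hP, hadj0])
    (fun P => by
      rw [hdvd, map_sub, ← hadj, ← hadj, adj_adj, sub_self])
    (fun P h1 h2 => by
      rw [hdvd, map_sub, map_mul, sub_eq_zero] at h1
      rw [hdvd, map_sub, ← hadj, sub_eq_zero] at h2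
      rcases hind P h1 h2 with h | h
      · exact Or.inl ((hdvd P).mpr h)
      · refine Or.inr ((hdvd _).mpr ?_)
        rw [map_sub, map_one, h, sub_self])
  rcases key with h | ⟨f, h, hf, hh, hcop, hμ, h1, h2⟩
  · exact Or.inl h
  · refine Or.inr ⟨f, h, hf, hh, hcop, hμ, ?_, ?_⟩
    · rw [hadj, ← map_mul, ← hdvd]
      exact h1
    · rw [hadj, ← map_mul, ← hdvd]
      exact h2

end Cfsg.Agent.Helper10.Spec5
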