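import Cfsg.Agent.Helper11.Spec5.Defs

/-!
# S2512 pieces (PO) `exists_half_order` and the common lemma on orders in `PSp`
-/

set_option autoImplicit false
set_option linter.unusedSectionVars false

namespace Cfsg.Agent.Helper10.Spec5

open Matrix Polynomial Cfsg.Agent.Helper43.SpReg Cfsg.Agent.Helper11.Spec5 Cfsg.Agent.S0246

variable {F : Type*} [Field F] [Fintype F] {n : ℕ}

theorem negOne_sq : (negOne n F) ^ 2 = 1 := by
  apply Subtype.ext
  simp [negOne, pow_two]

/-- the order of `g` divides twice the order of its image in `PSp` -/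
theorem orderOf_dvd_two_mul_orderOf_mk (hn : 1 ≤ n) (g : Sp n F) :
    orderOf g ∣ 2 * orderOf (QuotientGroup.mk g : Cfsg.PSp n F) := by
  apply orderOf_dvd_of_pow_eq_one
  have h3 : (QuotientGroup.mk (g ^ orderOf (QuotientGroup.mk g : Cfsg.PSp n F)) :
      Cfsg.PSp n F) = 1 := by
    rw [QuotientGroup.mk_pow, pow_orderOf_eq_one]
  rw [QuotientGroup.eq_one_iff, mem_center_iff hn] at h3
  rw [mul_comm, pow_mul]
  rcases h3 with h3 | h3
  · rw [h3, one_pow]
  · rw [h3, negOne_sq]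

theorem orderOf_mk_dvd (g : Sp n F) :
    orderOf (QuotientGroup.mk g : Cfsg.PSp n F) ∣ orderOf g := by
  apply orderOf_dvd_of_pow_eq_one
  rw [← QuotientGroup.mk_pow, pow_orderOf_eq_one]
  rfl

/-- (PO) -/
theorem exists_half_order (hn : 1 ≤ n) (g : Sp n F) (M : ℕ) (hM : Even M) (hg : orderOf g = M) :
    ∃ y : Cfsg.PSp n F, orderOf y = M / 2 := by
  have hfin : Finite (Sp n F) := inferInstance
  have hMpos : 0 < M := hg ▸ orderOf_pos g
  set y0 : Cfsg.PSp n F := QuotientGroup.mk g with hy0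
  have h1 : orderOf y0 ∣ M := hg ▸ orderOf_mk_dvd g
  have h2 : M ∣ 2 * orderOf y0 := hg ▸ orderOf_dvd_two_mul_orderOf_mk hn g
  obtain ⟨a, ha⟩ := h1
  obtain ⟨b, hb⟩ := h2
  have hr : 0 < orderOf y0 := by
    rcases Nat.eq_zero_or_pos (orderOf y0) with h0 | h0
    · rw [h0, zero_mul] at ha
      omega
    · exact h0
  have hab : a * b = 2 := by
    have h3 : orderOf y0 * (a * b) = orderOf y0 * 2 := by
      rw [← mul_assoc, ← ha, ← hb, mul_comm]
    exact Nat.eq_of_mul_eq_mul_left hr h3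
  have ha2 : a ∣ 2 := ⟨b, hab.symm⟩
  rcases (Nat.dvd_prime Nat.prime_two).mp ha2 with h | h
  · -- `r = M`
    rw [h, mul_one] at ha
    refine ⟨y0 ^ 2, ?_⟩
    have h2M : 2 ∣ orderOf y0 := by
      rw [← ha]
      exact even_iff_two_dvd.mp hM
    rw [orderOf_pow_of_dvd (by norm_num) h2M, ha]
  · -- `r = M / 2`
    refine ⟨y0, ?_⟩
    rw [ha, h, Nat.mul_div_cancel _ (by norm_num)]

end Cfsg.Agent.Helper10.Spec5
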