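import Cfsg.Agent.Helper11.Spec5.Defs
import Cfsg.Agent.Helper10.Spec5PO

/-!
# S2512 piece (L2) `double_of_idempotent`
-/

set_option autoImplicit false
set_option linter.unusedSectionVars false

namespace Cfsg.Agent.Helper10.Spec5

open Matrix Polynomial Cfsg.Agent.Helper43.SpReg Cfsg.Agent.Helper11.Spec5 Cfsg.Agent.S0246

variable {F : Type*} [Field F] [Fintype F] {n : ℕ}

/-- (L2) a nontrivial self-adjoint idempotent commuting with `x` gives an element of twice the
order. -/
theorem double_of_idempotent (hn : 1 ≤ n) (h2 : (2 : F) ≠ 0) (x : Sp n F) (hx : Odd (orderOf x))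
    (e : Mat n F) (he : e * e = e) (hadj : adj e = e) (he0 : e ≠ 0) (he1 : e ≠ 1)
    (hc : e * (x : Mat n F) = (x : Mat n F) * e) :
    ∃ y : Cfsg.PSp n F, orderOf y = 2 * orderOf x := by
  have hfin : Finite (Sp n F) := inferInstance
  -- the involution `d = 1 - 2 e`
  set d : Mat n F := 1 - (2 : F) • e with hd
  have hdd : d * d = 1 := by
    rw [hd]
    simp only [sub_mul, mul_sub, one_mul, mul_one, smul_mul_assoc, mul_smul_comm, he]
    module
  have hdadj : adj d = d := by
    rw [hd, adj_sub, adj_smul, adj_one, hadj]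
  have hdmem : d ∈ symplecticGroup (Fin n) F := by
    apply mem_of_adj_mul_self
    rw [hdadj, hdd]
  let dS : Sp n F := ⟨d, hdmem⟩
  have hdS2 : dS * dS = 1 := Subtype.ext hdd
  have hsmul : ∀ A : Mat n F, (2 : F) • A = 0 → A = 0 := by
    intro A hA
    have := congrArg (fun B => (2 : F)⁻¹ • B) hA
    simpa [smul_smul, inv_mul_cancel₀ h2] using this
  have hdS1 : dS ≠ 1 := by
    intro h
    have h1 : d = 1 := congrArg Subtype.val h
    apply he0
    apply hsmul
    rw [hd] at h1
    have : (2 : F) • e = 1 - (1 - (2 : F) • e) := by abel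
    rw [this, h1, sub_self]
  have hdSn : dS ≠ negOne n F := by
    intro h
    have h1 : d = -1 := congrArg Subtype.val h
    apply he1
    have h3 : (2 : F) • (e - 1) = 0 := by
      rw [hd] at h1
      rw [smul_sub]
      have : (2 : F) • (1 : Mat n F) = 1 + 1 := by rw [two_smul]
      rw [this]
      have h4 : (2 : F) • e = 1 - (-1) := by
        rw [← h1]
        abel
      rw [h4]
      abel
    exact sub_eq_zero.mp (hsmul _ h3)
  -- its image in `PSp` has order `2`
  set dP : Cfsg.PSp n F := QuotientGroup.mk dS with hdP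
  have hdP1 : dP ≠ 1 := by
    intro h
    rw [hdP, QuotientGroup.eq_one_iff, mem_center_iff hn] at h
    rcases h with h | h
    · exact hdS1 h
    · exact hdSn h
  have hdP2 : dP ^ 2 = 1 := by
    rw [hdP, ← QuotientGroup.mk_pow, pow_two, hdS2]
    rfl
  have hordd : orderOf dP = 2 := orderOf_eq_prime hdP2 hdP1
  -- the image of `x` has the same order
  set xP : Cfsg.PSp n F := QuotientGroup.mk x with hxP
  have hordx : orderOf xP = orderOf x := by
    apply Nat.dvd_antisymm (orderOf_mk_dvd x)
    have h1 := orderOf_dvd_two_mul_orderOf_mk hn x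
    have hcop : Nat.Coprime (orderOf x) 2 := (Nat.coprime_two_right).mpr hx
    exact hcop.dvd_of_dvd_mul_left h1
  -- they commute
  have hcomm : Commute dP xP := by
    have h1 : dS * x = x * dS := by
      apply Subtype.ext
      show d * (x : Mat n F) = (x : Mat n F) * d
      rw [hd, sub_mul, mul_sub, one_mul, mul_one, smul_mul_assoc, mul_smul_comm, hc]
    show dP * xP = xP * dP
    rw [hdP, hxP, ← QuotientGroup.mk_mul, ← QuotientGroup.mk_mul, h1]
  refine ⟨dP * xP, ?_⟩
  rw [hcomm.orderOf_mul_eq_mul_orderOf_of_coprime, hordd, hordx]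
  rw [hordd, hordx]
  exact (Nat.coprime_two_left).mpr hx

end Cfsg.Agent.Helper10.Spec5
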