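import Cfsg.Agent.Helper94.Srg77.Facts

set_option autoImplicit false
set_option linter.unusedSectionVars false
set_option linter.unusedVariables false

/-!
helper10, piece (TRA) of helper94's SRG77 farm (#15115, S0429): the neighbourhood of a mate.
-/

namespace Cfsg.Agent.Helper10.Srg77

open Finset Cfsg.Agent.Helper94.Srg77

variable {V : Type*} [Fintype V] [DecidableEq V] {G : SimpleGraph V} [DecidableRel G.Adj]

/-- the neighbours of `z` adjacent to neither `x` nor `y` -/
def TRA_N (G : SimpleGraph V) [DecidableRel G.Adj] (x y z : V) : Finset V :=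
  G.neighborFinset z \ (cn G z x ∪ cn G z y)

theorem TRA_mem_N {x y z v : V} :
    v ∈ TRA_N G x y z ↔ G.Adj z v ∧ ¬ G.Adj x v ∧ ¬ G.Adj y v := by
  unfold TRA_N
  rw [mem_sdiff, mem_union, mem_cn, mem_cn, SimpleGraph.mem_neighborFinset]
  tauto

theorem TRA_card_N (h : Hyp G) {x y z : V} (hz : z ∈ mates G x y) :
    (TRA_N G x y z).card = 8 := by
  obtain ⟨hzx, hzy, nzx, nzy, hdis⟩ := mem_mates.1 hz
  have hsub : cn G z x ∪ cn G z y ⊆ G.neighborFinset z := by
    intro v hv
    rw [mem_union, mem_cn, mem_cn] at hv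
    rw [SimpleGraph.mem_neighborFinset]
    rcases hv with hv | hv <;> exact hv.1
  have hd : Disjoint (cn G z x) (cn G z y) := by
    rw [disjoint_left]
    intro v hv1 hv2
    rw [mem_cn] at hv1 hv2
    have : v ∈ G.neighborFinset z ∩ cn G x y := by
      rw [mem_inter, SimpleGraph.mem_neighborFinset, mem_cn]
      exact ⟨hv1.1, hv1.2, hv2.2⟩
    exact (disjoint_left.1 hdis) (mem_inter.1 this).1 (mem_inter.1 this).2
  unfold TRA_N
  rw [card_sdiff_of_subset hsub, card_union_of_disjoint hd, h.nadj z x hzx nzx, h.nadj z y hzy nzy,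
    h.deg z]

/-- the members of `TRA_N` are in `touch G x y k` for `k` their number of neighbours in `cn G x y` -/
theorem TRA_touch {x y z v : V} (hz : z ∈ mates G x y) (hv : v ∈ TRA_N G x y z) :
    v ∈ touch G x y (G.neighborFinset v ∩ cn G x y).card := by
  obtain ⟨hzx, hzy, nzx, nzy, hdis⟩ := mem_mates.1 hz
  obtain ⟨hzv, nxv, nyv⟩ := TRA_mem_N.1 hv
  rw [mem_touch]
  refine ⟨?_, ?_, fun hh => nxv hh.symm, fun hh => nyv hh.symm, rfl⟩
  · rintro rfl
    exact nzx hzv
  · rintro rfl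
    exact nzy hzv

theorem TRA_le_two (f : F2 G) {x y z v : V} (hxy : x ≠ y) (nxy : ¬ G.Adj x y)
    (hz : z ∈ mates G x y) (hv : v ∈ TRA_N G x y z) :
    (G.neighborFinset v ∩ cn G x y).card ≤ 2 := by
  have ht := mem_touch.1 (TRA_touch hz hv)
  have := f.k33 hxy (Ne.symm ht.1) (Ne.symm ht.2.1) nxy (fun hh => ht.2.2.1 hh.symm)
    (fun hh => ht.2.2.2.1 hh.symm)
  rwa [inter_comm] at this

/-- double counting: the sum over `TRA_N` of the numbers of neighbours in `cn G x y` is `16` -/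
theorem TRA_sum (h : Hyp G) {x y z : V} (hxy : x ≠ y) (nxy : ¬ G.Adj x y)
    (hz : z ∈ mates G x y) :
    ∑ v ∈ TRA_N G x y z, (G.neighborFinset v ∩ cn G x y).card = 16 := by
  obtain ⟨hzx, hzy, nzx, nzy, hdis⟩ := mem_mates.1 hz
  have h1 : ∀ v ∈ TRA_N G x y z, (G.neighborFinset v ∩ cn G x y).card =
      ((cn G x y).bipartiteAbove (fun v t => G.Adj v t) v).card := by
    intro v _
    congr 1
    ext t
    rw [mem_inter, SimpleGraph.mem_neighborFinset, Finset.mem_bipartiteAbove]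
    tauto
  rw [sum_congr rfl h1, sum_card_bipartiteAbove_eq_sum_card_bipartiteBelow]
  have h2 : ∀ t ∈ cn G x y, ((TRA_N G x y z).bipartiteBelow (fun v t => G.Adj v t) t).card = 4 := by
    intro t ht
    obtain ⟨hxt, hyt⟩ := mem_cn.1 ht
    have htz : t ≠ z := by
      rintro rfl
      exact nzx hxt.symm
    have ntz : ¬ G.Adj t z := by
      intro hh
      exact (disjoint_left.1 hdis) ((G.mem_neighborFinset z t).2 hh.symm) ht
    rw [← h.nadj t z htz ntz]
    congr 1
    ext v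
    rw [Finset.mem_bipartiteBelow, TRA_mem_N, mem_cn]
    constructor
    · rintro ⟨⟨hzv, -, -⟩, hvt⟩
      exact ⟨hvt.symm, hzv⟩
    · rintro ⟨htv, hzv⟩
      refine ⟨⟨hzv, ?_, ?_⟩, htv.symm⟩
      · intro hxv
        have : v ∈ cn G t x := mem_cn.2 ⟨htv, hxv⟩
        rw [h.adj t x hxt.symm] at this
        exact absurd this (notMem_empty v)
      · intro hyv
        have : v ∈ cn G t y := mem_cn.2 ⟨htv, hyv⟩
        rw [h.adj t y hyt.symm] at this
        exact absurd this (notMem_empty v)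
  rw [sum_congr rfl h2, sum_const, h.nadj x y hxy nxy]
  rfl

theorem TRA_eq_two (h : Hyp G) (f : F2 G) {x y z v : V} (hxy : x ≠ y) (nxy : ¬ G.Adj x y)
    (hz : z ∈ mates G x y) (hv : v ∈ TRA_N G x y z) :
    (G.neighborFinset v ∩ cn G x y).card = 2 := by
  have hle : ∀ v ∈ TRA_N G x y z, (G.neighborFinset v ∩ cn G x y).card ≤ 2 :=
    fun v hv => TRA_le_two f hxy nxy hz hv
  have hsum : ∑ v ∈ TRA_N G x y z, (G.neighborFinset v ∩ cn G x y).card
      = ∑ v ∈ TRA_N G x y z, 2 := by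
    rw [TRA_sum h hxy nxy hz, sum_const, TRA_card_N h hz]
    rfl
  exact (sum_eq_sum_iff_of_le hle).1 hsum v hv

theorem TRA_subset_touch2 (h : Hyp G) (f : F2 G) {x y z : V} (hxy : x ≠ y) (nxy : ¬ G.Adj x y)
    (hz : z ∈ mates G x y) : TRA_N G x y z ⊆ touch G x y 2 := by
  intro v hv
  have := TRA_touch hz hv
  rwa [TRA_eq_two h f hxy nxy hz hv] at this

/-- (TRA) ROUTE: z ∈ mates G x y, T = cn G x y.  cn G z x and cn G z y have 4 elements each and are
disjoint (a common neighbour of x,y,z lies in nb z ∩ T = ∅).  The other 8 neighbours v of z are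
≠ x,y and adjacent to neither, so v ∈ touch G x y k with k = |nb v ∩ T| ≤ 2 (`f.k33`).  For t ∈ T:
t ≠ z, t not adjacent to z, so |cn G t z| = 4, and cn G t z consists of such v (a common neighbour of
t and z is not adjacent to x or y since t is).  So 16 = Σ_t |cn t z| = Σ_v |nb v ∩ T| ≤ 2·8: equality,
every v has k = 2. -/
theorem nbr_mate (h : Hyp G) (f : F2 G) {x y z : V} (hxy : x ≠ y) (nxy : ¬ G.Adj x y)
    (hz : z ∈ mates G x y) :
    G.neighborFinset z ⊆ cn G z x ∪ cn G z y ∪ touch G x y 2 := by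
  intro v hv
  rw [SimpleGraph.mem_neighborFinset] at hv
  by_cases hxv : G.Adj x v
  · exact mem_union_left _ (mem_union_left _ (mem_cn.2 ⟨hv, hxv⟩))
  by_cases hyv : G.Adj y v
  · exact mem_union_left _ (mem_union_right _ (mem_cn.2 ⟨hv, hyv⟩))
  exact mem_union_right _ (TRA_subset_touch2 h f hxy nxy hz (TRA_mem_N.2 ⟨hv, hxv, hyv⟩))

theorem card_nbr_mate (h : Hyp G) (f : F2 G) {x y z : V} (hxy : x ≠ y) (nxy : ¬ G.Adj x y)
    (hz : z ∈ mates G x y) :
    (G.neighborFinset z ∩ touch G x y 2).card = 8 := by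
  have : G.neighborFinset z ∩ touch G x y 2 = TRA_N G x y z := by
    apply Subset.antisymm
    · intro v hv
      rw [mem_inter, SimpleGraph.mem_neighborFinset, mem_touch] at hv
      exact TRA_mem_N.2 ⟨hv.1, fun hh => hv.2.2.2.1 hh.symm, fun hh => hv.2.2.2.2.1 hh.symm⟩
    · intro v hv
      rw [mem_inter, SimpleGraph.mem_neighborFinset]
      exact ⟨(TRA_mem_N.1 hv).1, TRA_subset_touch2 h f hxy nxy hz hv⟩
  rw [this, TRA_card_N h hz]

end Cfsg.Agent.Helper10.Srg77
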