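import Cfsg.Agent.Helper94.Srg77.Facts

set_option autoImplicit false
set_option linter.unusedSectionVars false
set_option linter.unusedVariables false

/-!
helper10, piece (TRD) of helper94's SRG77 farm (#15115, S0429): the vertices of `touch G x y 2`
resp. `touch G x y 1` have exactly two resp. no neighbours among the mates.
-/

namespace Cfsg.Agent.Helper10.Srg77

open Finset Cfsg.Agent.Helper94.Srg77

variable {V : Type*} [Fintype V] [DecidableEq V] {G : SimpleGraph V} [DecidableRel G.Adj]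

/-- a neighbour of a mate that is adjacent to neither `x` nor `y` lies in `touch G x y 2` -/
theorem TRD_nbr (f : F3a G) {x y z v : V} (hxy : x ≠ y) (nxy : ¬ G.Adj x y)
    (hz : z ∈ mates G x y) (hzv : G.Adj z v) (nvx : ¬ G.Adj v x) (nvy : ¬ G.Adj v y) :
    v ∈ touch G x y 2 := by
  have := f.nbr_mate hxy nxy hz ((G.mem_neighborFinset z v).2 hzv)
  rw [mem_union, mem_union, mem_cn, mem_cn] at this
  rcases this with (hh | hh) | hh
  · exact absurd hh.2.symm nvx
  · exact absurd hh.2.symm nvy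
  · exact hh

/-- mates are pairwise non-adjacent (local copy of (TRB)) -/
theorem TRD_mates_not_adj (f : F3a G) {x y z z' : V} (hxy : x ≠ y) (nxy : ¬ G.Adj x y)
    (hz : z ∈ mates G x y) (hz' : z' ∈ mates G x y) : ¬ G.Adj z z' := by
  intro hadj
  have h0 := mem_touch.1 hz'
  have h2 := mem_touch.1 (TRD_nbr f hxy nxy hz hadj h0.2.2.1 h0.2.2.2.1)
  have := h0.2.2.2.2
  rw [h2.2.2.2.2] at this
  omega

/-- (TRD), second part -/
theorem touch1_mates (h : Hyp G) (f : F3a G) {x y v : V} (hxy : x ≠ y) (nxy : ¬ G.Adj x y)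
    (hv : v ∈ touch G x y 1) : Disjoint (G.neighborFinset v) (mates G x y) := by
  rw [disjoint_left]
  intro w hw hwm
  rw [SimpleGraph.mem_neighborFinset] at hw
  have h1 := mem_touch.1 hv
  have h2 := mem_touch.1 (TRD_nbr f hxy nxy hwm hw.symm h1.2.2.1 h1.2.2.2.1)
  have := h1.2.2.2.2
  rw [h2.2.2.2.2] at this
  omega

/-- first double counting: `Σ_{v ∈ P} |nb v ∩ M| = 24` -/
theorem TRD_sum1 (f : F3a G) {x y : V} (hxy : x ≠ y) (nxy : ¬ G.Adj x y) :
    ∑ v ∈ touch G x y 2, (G.neighborFinset v ∩ mates G x y).card = 24 := by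
  have h1 : ∀ v ∈ touch G x y 2, (G.neighborFinset v ∩ mates G x y).card =
      ((mates G x y).bipartiteAbove (fun v z => G.Adj v z) v).card := by
    intro v _
    congr 1
    ext z
    rw [mem_inter, SimpleGraph.mem_neighborFinset, Finset.mem_bipartiteAbove]
    tauto
  rw [sum_congr rfl h1, sum_card_bipartiteAbove_eq_sum_card_bipartiteBelow]
  have h2 : ∀ z ∈ mates G x y,
      ((touch G x y 2).bipartiteBelow (fun v z => G.Adj v z) z).card = 8 := by
    intro z hz
    rw [← f.card_nbr_mate hxy nxy hz]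
    congr 1
    ext v
    rw [Finset.mem_bipartiteBelow, mem_inter, SimpleGraph.mem_neighborFinset]
    constructor
    · rintro ⟨hv, hvz⟩
      exact ⟨hvz.symm, hv⟩
    · rintro ⟨hzv, hv⟩
      exact ⟨hv, hzv.symm⟩
  rw [sum_congr rfl h2, sum_const, f.card_mates hxy nxy]
  rfl

/-- second double counting: `Σ_{v ∈ P} (m_v² - m_v) ≤ 24` -/
theorem TRD_sum2 (h : Hyp G) (f : F3a G) {x y : V} (hxy : x ≠ y) (nxy : ¬ G.Adj x y) :
    ∑ v ∈ touch G x y 2, ((G.neighborFinset v ∩ mates G x y).card *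
      (G.neighborFinset v ∩ mates G x y).card - (G.neighborFinset v ∩ mates G x y).card) ≤ 24 := by
  have h1 : ∀ v ∈ touch G x y 2, ((G.neighborFinset v ∩ mates G x y).card *
      (G.neighborFinset v ∩ mates G x y).card - (G.neighborFinset v ∩ mates G x y).card) =
      ((mates G x y).offDiag.bipartiteAbove (fun v p => G.Adj v p.1 ∧ G.Adj v p.2) v).card := by
    intro v _
    rw [← offDiag_card]
    congr 1
    ext p
    rw [mem_offDiag, mem_inter, mem_inter, SimpleGraph.mem_neighborFinset,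
      SimpleGraph.mem_neighborFinset, Finset.mem_bipartiteAbove, mem_offDiag]
    tauto
  rw [sum_congr rfl h1, sum_card_bipartiteAbove_eq_sum_card_bipartiteBelow]
  have h2 : ∀ p ∈ (mates G x y).offDiag,
      ((touch G x y 2).bipartiteBelow (fun v p => G.Adj v p.1 ∧ G.Adj v p.2) p).card ≤ 4 := by
    intro p hp
    rw [mem_offDiag] at hp
    obtain ⟨hp1, hp2, hne⟩ := hp
    rw [← h.nadj p.1 p.2 hne (TRD_mates_not_adj f hxy nxy hp1 hp2)]
    apply card_le_card
    intro v hv
    rw [Finset.mem_bipartiteBelow] at hv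
    exact mem_cn.2 ⟨hv.2.1.symm, hv.2.2.symm⟩
  calc ∑ p ∈ (mates G x y).offDiag,
        ((touch G x y 2).bipartiteBelow (fun v p => G.Adj v p.1 ∧ G.Adj v p.2) p).card
      ≤ ∑ p ∈ (mates G x y).offDiag, 4 := sum_le_sum h2
    _ = 24 := by
      rw [sum_const, offDiag_card, f.card_mates hxy nxy]
      rfl

/-- (TRD) ROUTE: the three mates z1,z2,z3 (`f.card_mates`), S_i = nb z_i ∩ P, P = touch G x y 2,
|P| = 12, |S_i| = 8, |S_i ∩ S_j| = 4 exactly (≥ 4 by counting, ≤ 4 as S_i ∩ S_j ⊆ cn z_i z_j).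
|S_1 ∪ S_2 ∪ S_3| ≤ 12 forces S_1 ∩ S_2 ∩ S_3 = ∅ and the union to be P, so every v ∈ P lies in
exactly two S_i.  `touch1_mates`: v ∈ nb z ⊆ cn z x ∪ cn z y ∪ touch 2 is impossible for v ∈ touch 1.

(Proof here: with `m_v = |nb v ∩ mates|`, `Σ m_v = 24`, `Σ (m_v² - m_v) ≤ 24`, `|P| = 12`, hence
`Σ (m_v - 2)² ≤ 0`.) -/
theorem touch2_mates (h : Hyp G) (f : F3a G) {x y v : V} (hxy : x ≠ y) (nxy : ¬ G.Adj x y)
    (hv : v ∈ touch G x y 2) : (G.neighborFinset v ∩ mates G x y).card = 2 := by
  have hle : ∀ v ∈ touch G x y 2, 3 * (G.neighborFinset v ∩ mates G x y).card ≤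
      ((G.neighborFinset v ∩ mates G x y).card * (G.neighborFinset v ∩ mates G x y).card -
        (G.neighborFinset v ∩ mates G x y).card) + 4 := by
    intro v _
    generalize (G.neighborFinset v ∩ mates G x y).card = m
    rcases Nat.lt_or_ge m 3 with hm | hm
    · interval_cases m <;> omega
    · have : 3 * m ≤ m * m := Nat.mul_le_mul_right m hm
      have h2 : m + 3 * m ≤ m * m + 4 := by nlinarith
      omega
  have hsum : ∑ v ∈ touch G x y 2, 3 * (G.neighborFinset v ∩ mates G x y).card =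
      ∑ v ∈ touch G x y 2, (((G.neighborFinset v ∩ mates G x y).card *
        (G.neighborFinset v ∩ mates G x y).card - (G.neighborFinset v ∩ mates G x y).card) + 4) := by
    apply le_antisymm (sum_le_sum hle)
    rw [sum_add_distrib, sum_const, f.card_touch2 hxy nxy, ← mul_sum, TRD_sum1 f hxy nxy]
    have := TRD_sum2 h f hxy nxy
    simp only [smul_eq_mul]
    omega
  have hv2 := (sum_eq_sum_iff_of_le hle).1 hsum v hv
  have hm3 : (G.neighborFinset v ∩ mates G x y).card ≤ 3 := by
    rw [← f.card_mates hxy nxy]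
    exact card_le_card inter_subset_right
  generalize (G.neighborFinset v ∩ mates G x y).card = m at hv2 hm3
  interval_cases m <;> omega

end Cfsg.Agent.Helper10.Srg77
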