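import Mathlib
import Cfsg.Agent.Helper5.SuBN.Defs

set_option autoImplicit false
set_option linter.style.haveILetI false

/-!
# (SIG) for S2546 (helper5): the involution `x ↦ x ^ q` of the field with `q²` elements
-/

namespace Cfsg.Agent.Helper10.SuBNSIG

open Matrix Cfsg.Agent.Helper5.SuBN

variable {F : Type*} [Field F] {n : ℕ} {σ : F →+* F}

/-- (SIG) the involution of the field with `q²` elements -/
theorem exists_sigma [Fintype F] (q : ℕ) (hF : Fintype.card F = q ^ 2) :
    ∃ σ : F →+* F, (∀ x, σ x = x ^ q) ∧ (∀ x, σ (σ x) = x) ∧ ∃ c : F, c ≠ 0 ∧ σ c = -c := by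
  classical
  obtain ⟨m, hp, hm⟩ := FiniteField.card F (ringChar F)
  set p := ringChar F with hpdef
  haveI : Fact p.Prime := ⟨hp⟩
  haveI : CharP F p := ringChar.charP F
  haveI : ExpChar F p := ExpChar.prime hp
  -- `q` is a power of `p`
  have hq2 : q ^ 2 = p ^ (m : ℕ) := by rw [← hF, hm]
  have hqdvd : q ∣ p ^ (m : ℕ) := by
    rw [← hq2]; exact dvd_pow_self q (by norm_num)
  obtain ⟨f, -, hqf⟩ := (Nat.dvd_prime_pow hp).mp hqdvd
  -- `q ≥ 2`
  have hq1 : 1 < q := by
    have h1 : 1 < Fintype.card F := Fintype.one_lt_card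
    rw [hF] at h1
    by_contra hcon
    have : q ≤ 1 := by omega
    have : q ^ 2 ≤ 1 ^ 2 := Nat.pow_le_pow_left this 2
    omega
  refine ⟨iterateFrobenius F p f, ?_, ?_, ?_⟩
  · intro x
    rw [iterateFrobenius_def, hqf]
  · intro x
    rw [iterateFrobenius_def, iterateFrobenius_def, ← hqf, ← pow_mul, ← sq, ← hF,
      FiniteField.pow_card]
  · -- an element with `x ^ q ≠ x`
    have hex : ∃ x : F, x ^ q ≠ x := by
      by_contra hcon
      push Not at hcon
      have hne : (Polynomial.X ^ q - Polynomial.X : Polynomial F) ≠ 0 :=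
        FiniteField.X_pow_card_sub_X_ne_zero F hq1
      have hdeg : (Polynomial.X ^ q - Polynomial.X : Polynomial F).natDegree = q :=
        FiniteField.X_pow_card_sub_X_natDegree_eq F hq1
      have hsub : (Finset.univ : Finset F) ⊆
          (Polynomial.X ^ q - Polynomial.X : Polynomial F).roots.toFinset := by
        intro x _
        rw [Multiset.mem_toFinset, Polynomial.mem_roots hne]
        simp [Polynomial.IsRoot, hcon x]
      have h1 := Finset.card_le_card hsub
      have h2 := Multiset.toFinset_card_le (Polynomial.X ^ q - Polynomial.X : Polynomial F).roots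
      have h3 := Polynomial.card_roots' (Polynomial.X ^ q - Polynomial.X : Polynomial F)
      rw [Finset.card_univ, hF] at h1
      rw [hdeg] at h3
      have : q ^ 2 ≤ q := h1.trans (h2.trans h3)
      nlinarith
    obtain ⟨x, hx⟩ := hex
    refine ⟨x - x ^ q, sub_ne_zero.mpr (Ne.symm hx), ?_⟩
    rw [map_sub, map_pow, iterateFrobenius_def, ← hqf, ← pow_mul, ← sq, ← hF,
      FiniteField.pow_card]
    ring

end Cfsg.Agent.Helper10.SuBNSIG
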