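import Cfsg.Agent.Helper6.Tor3
import Cfsg.Agent.Helper6.Sz42

/-!
# [CA] for helper6 (S4775): the Borel subgroup of the Suzuki group `Sz(q)`
-/

set_option autoImplicit false

namespace Cfsg.Agent.Helper10.Szc

open Cfsg Cfsg.Agent.Helper6

universe u

variable {F : Type u} [Field F] [Fintype F] {m : ℕ}

omit [Field F] in
theorem card_F_eq (hF : Fintype.card F = 2 ^ (2 * m + 1)) :
    Fintype.card F = 2 * (2 ^ m) ^ 2 := by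
  rw [hF, pow_succ, mul_comm 2 m, pow_mul]
  ring

theorem szK_le_szB (hm : 1 ≤ m) (hF : Fintype.card F = 2 ^ (2 * m + 1)) :
    szK hF ≤ szB F m := by
  rintro g ⟨t, rfl⟩
  exact sD_mem_szB hm hF t

theorem szQ_inf_szK (hm : 1 ≤ m) (hF : Fintype.card F = 2 ^ (2 * m + 1)) :
    szQ hm hF ⊓ szK hF = ⊥ := by
  rw [eq_bot_iff]
  rintro g ⟨hgQ, hgK⟩
  obtain ⟨a, b, rfl⟩ := (mem_szQ_iff hm hF g).1 hgQ
  obtain ⟨t, ht⟩ := hgK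
  have h : sU hF a b * sD hF 1 = sU hF 0 0 * sD hF t := by
    rw [sD_one, mul_one, sU_zero hm hF, one_mul, ht]
  obtain ⟨rfl, rfl, -⟩ := sB_unique hF h
  rw [Subgroup.mem_bot]
  exact sU_zero hm hF

/-- CA: the Borel subgroup -/
theorem szc_conc_borel (hm : 1 ≤ m) (hF : Fintype.card F = 2 ^ (2 * m + 1)) :
    Nat.card (Cfsg.Sz F m) = (2 * (2 ^ m) ^ 2) ^ 2 * ((2 * (2 ^ m) ^ 2) ^ 2 + 1) *
      (2 * (2 ^ m) ^ 2 - 1) ∧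
    szQ hm hF ≤ szB F m ∧ szK hF ≤ szB F m ∧
    (∀ b ∈ szB F m, ∀ x ∈ szQ hm hF, b * x * b⁻¹ ∈ szQ hm hF) ∧
    szQ hm hF ⊓ szK hF = ⊥ ∧
    (∀ b ∈ szB F m, ∃ x ∈ szQ hm hF, ∃ h ∈ szK hF, b = x * h) ∧
    (∀ h ∈ szK hF, h ≠ 1 → ∀ x ∈ szQ hm hF, h * x = x * h → x = 1) ∧
    Nat.card (szQ hm hF) = (2 * (2 ^ m) ^ 2) ^ 2 ∧
    Nat.card (szK hF) = 2 * (2 ^ m) ^ 2 - 1 ∧
    (∀ a ∈ szK hF, ∀ b ∈ szK hF, a * b = b * a) := by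
  have hq := card_F_eq hF
  refine ⟨?_, szQ_le_szB hm hF, szK_le_szB hm hF, ?_, szQ_inf_szK hm hF, ?_, ?_, ?_, ?_, ?_⟩
  · rw [card_Sz hm hF, hq]
  · intro b hb x hx
    rw [← normalizer_szQ hm hF, Subgroup.mem_normalizer_iff] at hb
    exact (hb x).1 hx
  · intro b hb
    obtain ⟨a, c, t, rfl⟩ := (mem_szB_iff_exists hm hF b).1 hb
    exact ⟨sU hF a c, (mem_szQ_iff hm hF _).2 ⟨a, c, rfl⟩, sD hF t, ⟨t, rfl⟩, rfl⟩
  · rintro h ⟨t, rfl⟩ h1 x hx hcomm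
    have ht : t ≠ 1 := by
      rintro rfl
      exact h1 (sD_one hF)
    have hxK : x ∈ szK hF := centralizer_sD_le hm hF ht x hcomm.symm
    have : x ∈ szQ hm hF ⊓ szK hF := ⟨hx, hxK⟩
    rw [szQ_inf_szK hm hF, Subgroup.mem_bot] at this
    exact this
  · rw [card_szQ hm hF, hq]
  · rw [card_szK hF, hq]
  · rintro a ⟨t, rfl⟩ b ⟨t', rfl⟩
    exact sD_comm hF t t'

end Cfsg.Agent.Helper10.Szc
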