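import Cfsg.Agent.Helper6.SzChar0
import Cfsg.Agent.Helper74.CharCount
import Cfsg.Agent.Helper79.Linear

/-!
# [FE] for helper6 (S4775): a character of a Frobenius group of Suzuki Borel type which is not
real on the kernel.
-/

set_option autoImplicit false

namespace Cfsg.Agent.Helper10.Szc

open Cfsg Cfsg.Agent.Helper6
open scoped ComplexConjugate

universe u

/-- if `ρ` is not conjugate to its inverse, some irreducible character is not real at `ρ`. -/
theorem exists_irr_nonreal_of_not_isConj_inv {X : Type u} [Group X] [Fintype X] (ρ : X)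
    (hρ : ∀ x : X, x * ρ * x⁻¹ ≠ ρ⁻¹) :
    ∃ β : X → ℂ, IsIrrCharacter X β ∧ conj (β ρ) ≠ β ρ := by
  classical
  by_contra hcon
  have hreal : ∀ β : X → ℂ, IsIrrCharacter X β → conj (β ρ) = β ρ := by
    intro β hβ
    by_contra h
    exact hcon ⟨β, hβ, h⟩
  let _ : Fintype (IrrCharacter X) := Helper74.irrFintype X
  have hnc : ¬ IsConj ρ ρ⁻¹ := by
    intro h
    obtain ⟨c, hc⟩ := isConj_iff.mp h
    exact hρ c hc
  have h2 := Helper74.second_orthogonality ρ ρ⁻¹
  rw [if_neg hnc] at h2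
  -- every term is the square of a real number
  have hterm : ∀ χ : IrrCharacter X, (χ : X → ℂ) ρ * conj ((χ : X → ℂ) ρ⁻¹) =
      (((χ : X → ℂ) ρ).re ^ 2 : ℝ) := by
    intro χ
    have hc : conj ((χ : X → ℂ) ρ) = (χ : X → ℂ) ρ := hreal _ χ.2
    rw [Helper74.char_inv (Helper74.irr_isCharacter χ), Complex.conj_conj]
    have hre : (χ : X → ℂ) ρ = (((χ : X → ℂ) ρ).re : ℂ) := (Complex.conj_eq_iff_re.mp hc).symm
    rw [hre]
    push_cast
    simp [sq]
  rw [Finset.sum_congr rfl (fun χ _ => hterm χ), ← Complex.ofReal_sum] at h2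
  have h3 : ∑ χ : IrrCharacter X, ((χ : X → ℂ) ρ).re ^ 2 = 0 := by exact_mod_cast h2
  have h4 := (Finset.sum_eq_zero_iff_of_nonneg (fun χ _ => sq_nonneg _)).mp h3
    (Helper79.principalIrr X) (Finset.mem_univ _)
  simp [Helper79.principalIrr] at h4

/-- FE: a character which is not real on the kernel -/
theorem szc_frob_nonreal {X : Type u} [Group X] [Fintype X] {K H : Subgroup X} {T : ℕ}
    (D : FrobHyp K H T) :
    ∃ β : X → ℂ, IsIrrCharacter X β ∧ ∃ ρ ∈ K, conj (β ρ) ≠ β ρ := by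
  obtain ⟨ρ, hρK, hρ⟩ := D.nonreal
  obtain ⟨β, hβ, h⟩ := exists_irr_nonreal_of_not_isConj_inv ρ hρ
  exact ⟨β, hβ, ρ, hρK, h⟩

end Cfsg.Agent.Helper10.Szc
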