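/-
helper10: pieces (AUT1), (AUT3), (AUT4) of #3963 (helper95, S4118: TI Hall subgroups).
-/
import Mathlib
import Cfsg.Agent.Lib.Cores
import Cfsg.Agent.Helper21.Fitting

set_option autoImplicit false

namespace Cfsg.Agent.Helper10.TIHallAut

open Subgroup

/-- (AUT1) the automorphism group of a cyclic group is abelian -/
theorem commutator_mem_centralizer_of_isCyclic {G : Type*} [Group G] (T : Subgroup G) [IsCyclic T]
    {x y : G} (hx : x ∈ normalizer (T : Set G)) (hy : y ∈ normalizer (T : Set G)) :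
    x * y * x⁻¹ * y⁻¹ ∈ centralizer (T : Set G) := by
  obtain ⟨⟨t, htT⟩, hgen⟩ := IsCyclic.exists_generator (α := T)
  have hpow : ∀ w ∈ T, ∃ k : ℤ, t ^ k = w := by
    intro w hw
    obtain ⟨k, hk⟩ := Subgroup.mem_zpowers_iff.1 (hgen ⟨w, hw⟩)
    exact ⟨k, by simpa using congrArg Subtype.val hk⟩
  have hconj : ∀ u ∈ normalizer (T : Set G), ∀ w ∈ T, u * w * u⁻¹ ∈ T := fun u hu w hw =>
    (Subgroup.mem_normalizer_iff.1 hu w).1 hw
  obtain ⟨a, ha⟩ := hpow _ (hconj x hx t htT)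
  obtain ⟨b, hb⟩ := hpow _ (hconj y hy t htT)
  have hzx : ∀ (u v : G) (k : ℤ), u * v ^ k * u⁻¹ = (u * v * u⁻¹) ^ k := fun u v k => by
    have := map_zpow (MulAut.conj u) v k
    simpa [MulAut.conj_apply] using this
  have key : ∀ w ∈ T, x * (y * w * y⁻¹) * x⁻¹ = y * (x * w * x⁻¹) * y⁻¹ := by
    intro w hw
    obtain ⟨k, rfl⟩ := hpow w hw
    rw [hzx y t k, hzx x _ k, hzx x t k, hzx y _ k, ← hb, ← ha, hzx x t b, hzx y t a, ← ha, ← hb]
    congr 1
    rw [← zpow_mul, ← zpow_mul, mul_comm]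
  rw [Subgroup.mem_centralizer_iff]
  intro w hw
  have hx' : x⁻¹ ∈ normalizer (T : Set G) := inv_mem hx
  have hy' : y⁻¹ ∈ normalizer (T : Set G) := inv_mem hy
  have hw1 : y⁻¹ * w * y ∈ T := by simpa using hconj y⁻¹ hy' w hw
  have hw2 : x⁻¹ * (y⁻¹ * w * y) * x ∈ T := by simpa using hconj x⁻¹ hx' _ hw1
  have := key _ hw2
  -- `c w c⁻¹ = w`
  have e1 : x * (y * (x⁻¹ * (y⁻¹ * w * y) * x) * y⁻¹) * x⁻¹ =
      (x * y * x⁻¹ * y⁻¹) * w * (x * y * x⁻¹ * y⁻¹)⁻¹ := by group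
  have e2 : y * (x * (x⁻¹ * (y⁻¹ * w * y) * x) * x⁻¹) * y⁻¹ = w := by group
  rw [e1, e2] at this
  -- this : c * w * c⁻¹ = w
  calc w * (x * y * x⁻¹ * y⁻¹) = ((x * y * x⁻¹ * y⁻¹) * w * (x * y * x⁻¹ * y⁻¹)⁻¹) *
        (x * y * x⁻¹ * y⁻¹) := by rw [this]
    _ = (x * y * x⁻¹ * y⁻¹) * w := by group

/-- (AUT3) a coprime group of automorphisms of a solvable group centralizing its Fitting subgroup is
trivial -/
theorem le_centralizer_of_le_centralizer_fitting {G : Type*} [Group G] [Finite G] (H R : Subgroup G)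
    (hsol : Group.IsSolvable H) (hRN : R ≤ normalizer (H : Set G))
    (hcop : (Nat.card R).Coprime (Nat.card H))
    (hRF : R ≤ centralizer (((Cfsg.fittingSubgroup ↥H).map H.subtype : Subgroup G) : Set G)) :
    R ≤ centralizer (H : Set G) := by
  set F : Subgroup ↥H := Cfsg.fittingSubgroup ↥H with hF
  have hFn : F.Normal := Cfsg.Agent.Lib.fittingSubgroup_normal
  -- `C_H(F) ≤ F`
  have hCF : centralizer (F : Set ↥H) ≤ F := by
    have : (centralizer (F : Set ↥H)).Normal := inferInstance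
    exact Cfsg.Agent.Helper21.le_fittingSubgroup_of_isSolvable_of_le_centralizer
      (Nat.card (centralizer (F : Set ↥H))) _ le_rfl inferInstance inferInstance le_rfl
  intro r hr
  rw [Subgroup.mem_centralizer_iff]
  intro h hh
  -- `f := h⁻¹ (r h r⁻¹)`
  have hrh : r * h * r⁻¹ ∈ H := (Subgroup.mem_normalizer_iff.1 (hRN hr) h).1 hh
  have hrc : ∀ x ∈ F.map H.subtype, x * r = r * x := fun x hx =>
    Subgroup.mem_centralizer_iff.1 (hRF hr) x hx
  set f : G := h⁻¹ * (r * h * r⁻¹) with hf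
  have hfH : f ∈ H := H.mul_mem (H.inv_mem hh) hrh
  have hfC : (⟨f, hfH⟩ : ↥H) ∈ centralizer (F : Set ↥H) := by
    rw [Subgroup.mem_centralizer_iff]
    intro x hx
    apply Subtype.ext
    simp only [Subgroup.coe_mul]
    have hxF : (x : G) ∈ F.map H.subtype := ⟨x, hx, rfl⟩
    have h1 : (x : G) * r = r * x := hrc _ hxF
    -- `h x h⁻¹ ∈ F`
    have hx2 : (⟨h, hh⟩ : ↥H) * x * (⟨h, hh⟩ : ↥H)⁻¹ ∈ F := hFn.conj_mem x hx _
    have hx2' : h * (x : G) * h⁻¹ ∈ F.map H.subtype := ⟨_, hx2, by simp⟩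
    have h2 : (h * (x : G) * h⁻¹) * r = r * (h * (x : G) * h⁻¹) := hrc _ hx2'
    -- `f x f⁻¹ = x`
    have h1' : r⁻¹ * (x : G) * r = x := by rw [mul_assoc, h1, ← mul_assoc, inv_mul_cancel, one_mul]
    have h2' : r * (h * (x : G) * h⁻¹) * r⁻¹ = h * (x : G) * h⁻¹ := by
      rw [← h2, mul_assoc, mul_inv_cancel, mul_one]
    have e : f * (x : G) * f⁻¹ = h⁻¹ * (r * (h * (r⁻¹ * (x : G) * r) * h⁻¹) * r⁻¹) * h := by
      rw [hf]; group
    have e2 : f * (x : G) * f⁻¹ = x := by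
      rw [e, h1', h2']; group
    calc (x : G) * f = (f * (x : G) * f⁻¹) * f := by rw [e2]
      _ = f * x := by group
  have hfF : f ∈ F.map H.subtype := ⟨⟨f, hfH⟩, hCF hfC, rfl⟩
  have hrf : f * r = r * f := hrc f hfF
  have hconj : r * h * r⁻¹ = h * f := by rw [hf]; group
  have hpow : ∀ j : ℕ, r ^ j * h * (r ^ j)⁻¹ = h * f ^ j := by
    intro j
    induction j with
    | zero => simp
    | succ j ih =>
      have hrf' : r * f ^ j * r⁻¹ = f ^ j := by
        have : Commute r (f ^ j) := (Commute.pow_right (show Commute r f from hrf.symm) j)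
        rw [this.eq, mul_assoc, mul_inv_cancel, mul_one]
      calc r ^ (j + 1) * h * (r ^ (j + 1))⁻¹ = r * (r ^ j * h * (r ^ j)⁻¹) * r⁻¹ := by
            rw [pow_succ']; group
        _ = r * (h * f ^ j) * r⁻¹ := by rw [ih]
        _ = (r * h * r⁻¹) * (r * f ^ j * r⁻¹) := by group
        _ = h * f * f ^ j := by rw [hconj, hrf']
        _ = h * f ^ (j + 1) := by rw [pow_succ', mul_assoc]
  have hfj : f ^ orderOf r = 1 := by
    have := hpow (orderOf r)
    rw [pow_orderOf_eq_one, one_mul, inv_one, mul_one] at this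
    exact (mul_eq_left.1 this.symm)
  have hf1 : f = 1 := by
    have hd1 : orderOf f ∣ orderOf r := orderOf_dvd_of_pow_eq_one hfj
    have hd2 : orderOf r ∣ Nat.card R := by
      have := orderOf_dvd_natCard (⟨r, hr⟩ : ↥R)
      rwa [Subgroup.orderOf_mk] at this
    have hd3 : orderOf f ∣ Nat.card H := by
      have := orderOf_dvd_natCard (⟨f, hfH⟩ : ↥H)
      rwa [Subgroup.orderOf_mk] at this
    have : orderOf f ∣ 1 := by
      have := Nat.dvd_gcd (hd1.trans hd2) hd3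
      rwa [hcop] at this
    exact orderOf_eq_one_iff.1 (Nat.dvd_one.1 this)
  rw [hf1, mul_one] at hconj
  -- `r h r⁻¹ = h`
  calc h * r = (r * h * r⁻¹) * r := by rw [hconj]
    _ = r * h := by group

/-- (AUT4) -/
theorem le_centralizer_fitting_of_pCore {G : Type*} [Group G] [Finite G] (H R : Subgroup G)
    (hR : ∀ p : ℕ, p.Prime →
      R ≤ centralizer (((Cfsg.pCore p ↥H).map H.subtype : Subgroup G) : Set G)) :
    R ≤ centralizer (((Cfsg.fittingSubgroup ↥H).map H.subtype : Subgroup G) : Set G) := by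
  set F : Subgroup ↥H := Cfsg.fittingSubgroup ↥H with hF
  set J : Subgroup ↥H := ⨆ p : {p : ℕ // p.Prime}, Cfsg.pCore p.1 ↥H with hJ
  have hJF : J ≤ F := by
    refine iSup_le fun p => ?_
    have : Fact p.1.Prime := ⟨p.2⟩
    exact Cfsg.Agent.Lib.pCore_le_fittingSubgroup p.1
  have hFJ : F ≤ J := by
    rw [← Subgroup.relIndex_eq_one]
    by_contra hne
    obtain ⟨q, hq, hqd⟩ := Nat.exists_prime_and_dvd hne
    have : Fact q.Prime := ⟨hq⟩
    have h1 : (Cfsg.pCore q ↥H) ≤ J := le_iSup (fun p : {p : ℕ // p.Prime} => Cfsg.pCore p.1 ↥H) ⟨q, hq⟩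
    have h2 : J.relIndex F ∣ (Cfsg.pCore q ↥H).relIndex F := Subgroup.relIndex_dvd_of_le_left F h1
    have h3 := Cfsg.Agent.Lib.relIndex_pCore_fittingSubgroup_coprime (G := ↥H) q
    have : q ∣ Nat.gcd ((Cfsg.pCore q ↥H).relIndex F) q := Nat.dvd_gcd (hqd.trans h2) dvd_rfl
    rw [h3] at this
    exact hq.one_lt.ne' (Nat.dvd_one.1 this)
  have hFeq : F = J := le_antisymm hFJ hJF
  rw [Subgroup.le_centralizer_iff, hFeq, hJ, Subgroup.map_iSup]
  refine iSup_le fun p => ?_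
  rw [← Subgroup.le_centralizer_iff]
  exact hR p.1 p.2

end Cfsg.Agent.Helper10.TIHallAut
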