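import Mathlib

/-!
# (NF), (NF2), (UQ) for S5559 (helper89): normal forms in `B(2,3) : 2`

`y, z` with `y³ = z³ = (yz)³ = (y⁻¹z)³ = 1` generate a quotient of the Heisenberg group of order 27:
`t = [y, z]` is central of order dividing 3 and every element is `y^a z^b t^c`.
-/

set_option autoImplicit false

namespace Cfsg.Agent.Helper10.TT59

section core

variable {G : Type*} [Group G]

theorem cube_expand (x : G) : x ^ 3 = x * x * x := by
  rw [pow_succ, pow_succ, pow_one]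

/-- if `a³ = b³ = (ab)³ = (ab⁻¹)³ = 1` then `a` commutes with `b⁻¹ a b` -/
theorem commute_conj_of_cubes {a b : G} (hb : b ^ 3 = 1) (hab : (a * b) ^ 3 = 1)
    (hab' : (a * b⁻¹) ^ 3 = 1) : Commute a (b⁻¹ * a * b) := by
  rw [cube_expand] at hb hab hab'
  have hb2 : b * b = b⁻¹ := by
    rw [eq_inv_iff_mul_eq_one]; exact hb
  have hb2' : b⁻¹ * b⁻¹ = b := by
    rw [← mul_inv_rev, hb2, inv_inv]
  -- u v w = 1
  have h1 : a * (b⁻¹ * a * b) * (b * a * b⁻¹) = 1 := by
    calc a * (b⁻¹ * a * b) * (b * a * b⁻¹) = a * b⁻¹ * a * (b * b) * a * b⁻¹ := by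
          simp only [mul_assoc]
      _ = a * b⁻¹ * a * b⁻¹ * a * b⁻¹ := by rw [hb2]
      _ = (a * b⁻¹) * (a * b⁻¹) * (a * b⁻¹) := by simp only [mul_assoc]
      _ = 1 := hab'
  -- u w v = 1
  have h2 : a * (b * a * b⁻¹) * (b⁻¹ * a * b) = 1 := by
    calc a * (b * a * b⁻¹) * (b⁻¹ * a * b) = a * b * a * (b⁻¹ * b⁻¹) * a * b := by
          simp only [mul_assoc]
      _ = a * b * a * b * a * b := by rw [hb2']
      _ = (a * b) * (a * b) * (a * b) := by simp only [mul_assoc]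
      _ = 1 := hab
  -- v w = a⁻¹ = w v
  have e1 : (b⁻¹ * a * b) * (b * a * b⁻¹) = a⁻¹ := by
    rw [eq_inv_iff_mul_eq_one, ← mul_left_cancel_iff (a := a), ← mul_assoc, ← mul_assoc, h1,
      one_mul, mul_one]
  have e2 : (b * a * b⁻¹) * (b⁻¹ * a * b) = a⁻¹ := by
    rw [eq_inv_iff_mul_eq_one, ← mul_left_cancel_iff (a := a), ← mul_assoc, ← mul_assoc, h2,
      one_mul, mul_one]
  have hc : Commute ((b⁻¹ * a * b) * (b * a * b⁻¹)) (b⁻¹ * a * b) := by
    show (b⁻¹ * a * b) * (b * a * b⁻¹) * (b⁻¹ * a * b)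
      = (b⁻¹ * a * b) * ((b⁻¹ * a * b) * (b * a * b⁻¹))
    rw [mul_assoc, e2, e1]
  rw [e1] at hc
  exact Commute.inv_left_iff.mp hc

end core

section nf

variable {G : Type*} [Group G] {y z : G}

theorem comm_commutator_left (hz : z ^ 3 = 1) (hyz : (y * z) ^ 3 = 1)
    (hyz' : (y⁻¹ * z) ^ 3 = 1) : Commute (y⁻¹ * z⁻¹ * y * z) y := by
  have h1 : (y * z⁻¹) ^ 3 = 1 := by
    have : y * z⁻¹ = y * (y⁻¹ * z)⁻¹ * y⁻¹ := by group
    rw [this, conj_pow, inv_pow, hyz', inv_one, mul_one, mul_inv_cancel]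
  have h := commute_conj_of_cubes hz hyz h1
  have e : y⁻¹ * z⁻¹ * y * z = y⁻¹ * (z⁻¹ * y * z) := by simp only [mul_assoc]
  rw [e]
  exact ((Commute.refl y).inv_left).mul_left h.symm

theorem comm_commutator_right (hy : y ^ 3 = 1) (hyz : (y * z) ^ 3 = 1)
    (hyz' : (y⁻¹ * z) ^ 3 = 1) : Commute (y⁻¹ * z⁻¹ * y * z) z := by
  have h1 : (z * y) ^ 3 = 1 := by
    have : z * y = z * (y * z) * z⁻¹ := by group
    rw [this, conj_pow, hyz, mul_one, mul_inv_cancel]
  have h2 : (z * y⁻¹) ^ 3 = 1 := by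
    have : z * y⁻¹ = z * (y⁻¹ * z) * z⁻¹ := by group
    rw [this, conj_pow, hyz', mul_one, mul_inv_cancel]
  have h := commute_conj_of_cubes hy h1 h2
  have e : (y⁻¹ * z⁻¹ * y * z)⁻¹ = z⁻¹ * (y⁻¹ * z * y) := by
    simp only [mul_inv_rev, inv_inv, mul_assoc]
  rw [← Commute.inv_left_iff, e]
  exact ((Commute.refl z).inv_left).mul_left h.symm

theorem commutator_pow_three (hy : y ^ 3 = 1) (hz : z ^ 3 = 1) (hyz : (y * z) ^ 3 = 1)
    (hyz' : (y⁻¹ * z) ^ 3 = 1) : (y⁻¹ * z⁻¹ * y * z) ^ 3 = 1 := by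
  have h1 : (y * z⁻¹) ^ 3 = 1 := by
    have : y * z⁻¹ = y * (y⁻¹ * z)⁻¹ * y⁻¹ := by group
    rw [this, conj_pow, inv_pow, hyz', inv_one, mul_one, mul_inv_cancel]
  have h := commute_conj_of_cubes hz hyz h1
  have e : y⁻¹ * z⁻¹ * y * z = y⁻¹ * (z⁻¹ * y * z) := by simp only [mul_assoc]
  have e3 : (z⁻¹ * y * z) ^ 3 = z⁻¹ * y ^ 3 * z := by
    have := conj_pow (a := z⁻¹) (b := y) (i := 3)
    rwa [inv_inv] at this
  rw [e, (h.inv_left).mul_pow, e3, hy, inv_pow, hy, inv_one, mul_one, one_mul, inv_mul_cancel]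

/-- abstract normal form predicate (no reduction mod 3) -/
def NF3 (y z t x : G) : Prop := ∃ a b c : ℕ, x = y ^ a * z ^ b * t ^ c

theorem zpow_mul_y {t : G} (hzy : z * y = y * z * t ^ 2) (htz : Commute t z) (b : ℕ) :
    z ^ b * y = y * z ^ b * t ^ (2 * b) := by
  induction b with
  | zero => simp
  | succ b ih =>
    have h2 : Commute (t ^ (2 * b)) z := htz.pow_left _
    calc z ^ (b + 1) * y = z ^ b * (z * y) := by rw [pow_succ, mul_assoc]
      _ = z ^ b * (y * z * t ^ 2) := by rw [hzy]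
      _ = (z ^ b * y) * z * t ^ 2 := by simp only [mul_assoc]
      _ = y * z ^ b * t ^ (2 * b) * z * t ^ 2 := by rw [ih]
      _ = y * z ^ b * (t ^ (2 * b) * z) * t ^ 2 := by simp only [mul_assoc]
      _ = y * z ^ b * (z * t ^ (2 * b)) * t ^ 2 := by rw [h2.eq]
      _ = y * (z ^ b * z) * (t ^ (2 * b) * t ^ 2) := by simp only [mul_assoc]
      _ = y * z ^ (b + 1) * t ^ (2 * (b + 1)) := by
          rw [← pow_succ, ← pow_add]; congr 2

theorem NF3.mul_y {t x : G} (hzy : z * y = y * z * t ^ 2) (hty : Commute t y) (htz : Commute t z)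
    (h : NF3 y z t x) : NF3 y z t (x * y) := by
  obtain ⟨a, b, c, rfl⟩ := h
  refine ⟨a + 1, b, 2 * b + c, ?_⟩
  have h1 : Commute (t ^ c) y := hty.pow_left _
  calc y ^ a * z ^ b * t ^ c * y = y ^ a * z ^ b * (t ^ c * y) := by simp only [mul_assoc]
    _ = y ^ a * z ^ b * (y * t ^ c) := by rw [h1.eq]
    _ = y ^ a * (z ^ b * y) * t ^ c := by simp only [mul_assoc]
    _ = y ^ a * (y * z ^ b * t ^ (2 * b)) * t ^ c := by rw [zpow_mul_y hzy htz]
    _ = (y ^ a * y) * z ^ b * (t ^ (2 * b) * t ^ c) := by simp only [mul_assoc]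
    _ = y ^ (a + 1) * z ^ b * t ^ (2 * b + c) := by rw [← pow_succ, ← pow_add]

theorem NF3.mul_z {t x : G} (htz : Commute t z)
    (h : NF3 y z t x) : NF3 y z t (x * z) := by
  obtain ⟨a, b, c, rfl⟩ := h
  refine ⟨a, b + 1, c, ?_⟩
  have h1 : Commute (t ^ c) z := htz.pow_left _
  calc y ^ a * z ^ b * t ^ c * z = y ^ a * z ^ b * (t ^ c * z) := by simp only [mul_assoc]
    _ = y ^ a * z ^ b * (z * t ^ c) := by rw [h1.eq]
    _ = y ^ a * (z ^ b * z) * t ^ c := by simp only [mul_assoc]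
    _ = y ^ a * z ^ (b + 1) * t ^ c := by rw [← pow_succ]

theorem zy_eq (hy : y ^ 3 = 1) (hz : z ^ 3 = 1) (hyz : (y * z) ^ 3 = 1)
    (hyz' : (y⁻¹ * z) ^ 3 = 1) : z * y = y * z * (y⁻¹ * z⁻¹ * y * z) ^ 2 := by
  have h3 := commutator_pow_three hy hz hyz hyz'
  have h2 : (y⁻¹ * z⁻¹ * y * z) ^ 2 = (y⁻¹ * z⁻¹ * y * z)⁻¹ := by
    rw [eq_inv_iff_mul_eq_one, ← pow_succ]; exact h3
  rw [h2]; group

theorem inv_eq_sq_of_cube {x : G} (h : x ^ 3 = 1) : x⁻¹ = x * x := by
  rw [inv_eq_iff_mul_eq_one, ← mul_assoc, ← cube_expand, h]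

theorem nf3_of_mem_closure (hy : y ^ 3 = 1) (hz : z ^ 3 = 1) (hyz : (y * z) ^ 3 = 1)
    (hyz' : (y⁻¹ * z) ^ 3 = 1) {g : G} (hg : g ∈ Subgroup.closure ({y, z} : Set G)) :
    NF3 y z (y⁻¹ * z⁻¹ * y * z) g := by
  have hzy := zy_eq hy hz hyz hyz'
  have hty := comm_commutator_left hz hyz hyz'
  have htz := comm_commutator_right hy hyz hyz'
  induction hg using Subgroup.closure_induction_right with
  | one => exact ⟨0, 0, 0, by simp⟩
  | mul_right x hx s hs ih =>
    simp only [Set.mem_insert_iff, Set.mem_singleton_iff] at hs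
    rcases hs with rfl | rfl
    · exact ih.mul_y hzy hty htz
    · exact ih.mul_z htz
  | mul_inv_cancel x hx s hs ih =>
    simp only [Set.mem_insert_iff, Set.mem_singleton_iff] at hs
    rcases hs with rfl | rfl
    · have e : x * s⁻¹ = x * s * s := by rw [inv_eq_sq_of_cube hy, mul_assoc]
      rw [e]
      exact (ih.mul_y hzy hty htz).mul_y hzy hty htz
    · have e : x * s⁻¹ = x * s * s := by rw [inv_eq_sq_of_cube hz, mul_assoc]
      rw [e]
      exact (ih.mul_z htz).mul_z htz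

theorem NF3.reduce {t x : G} (hy : y ^ 3 = 1) (hz : z ^ 3 = 1) (ht : t ^ 3 = 1)
    (h : NF3 y z t x) : ∃ a b c : Fin 3, x = y ^ (a : ℕ) * z ^ (b : ℕ) * t ^ (c : ℕ) := by
  obtain ⟨a, b, c, rfl⟩ := h
  refine ⟨⟨a % 3, Nat.mod_lt _ (by norm_num)⟩, ⟨b % 3, Nat.mod_lt _ (by norm_num)⟩,
    ⟨c % 3, Nat.mod_lt _ (by norm_num)⟩, ?_⟩
  show _ = y ^ (a % 3) * z ^ (b % 3) * t ^ (c % 3)
  rw [← pow_eq_pow_mod a hy, ← pow_eq_pow_mod b hz, ← pow_eq_pow_mod c ht]

/-- (NF2) normal forms in `⟨y, z⟩` -/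
theorem exists_normal_form' {G : Type*} [Group G] (y z : G) (hy : y ^ 3 = 1) (hz : z ^ 3 = 1)
    (hyz : (y * z) ^ 3 = 1) (hyz' : (y⁻¹ * z) ^ 3 = 1) (g : G)
    (hg : g ∈ Subgroup.closure ({y, z} : Set G)) :
    ∃ a b c : Fin 3, g = y ^ (a : ℕ) * z ^ (b : ℕ) * (y⁻¹ * z⁻¹ * y * z) ^ (c : ℕ) :=
  (nf3_of_mem_closure hy hz hyz hyz' hg).reduce hy hz (commutator_pow_three hy hz hyz hyz')

/-- (NF) normal forms in the group `⟨y, z, d⟩ = B(2,3) : 2` -/
theorem exists_normal_form {G : Type*} [Group G] (y z d : G) (hy : y ^ 3 = 1) (hz : z ^ 3 = 1)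
    (hyz : (y * z) ^ 3 = 1) (hyz' : (y⁻¹ * z) ^ 3 = 1) (hd : d * d = 1) (hdy : d * y * d = y⁻¹)
    (hdz : d * z * d = z⁻¹) (g : G) (hg : g ∈ Subgroup.closure ({y, z, d} : Set G)) :
    ∃ a b c : Fin 3, ∃ e : Fin 2,
      g = y ^ (a : ℕ) * z ^ (b : ℕ) * (y⁻¹ * z⁻¹ * y * z) ^ (c : ℕ) * d ^ (e : ℕ) := by
  have hzy := zy_eq hy hz hyz hyz'
  have hty := comm_commutator_left hz hyz hyz'
  have htz := comm_commutator_right hy hyz hyz'
  have ht3 := commutator_pow_three hy hz hyz hyz'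
  have hdy' : d * y = y * y * d := by
    rw [← inv_eq_sq_of_cube hy, ← hdy, mul_assoc (d * y), hd, mul_one]
  have hdz' : d * z = z * z * d := by
    rw [← inv_eq_sq_of_cube hz, ← hdz, mul_assoc (d * z), hd, mul_one]
  have hdinv : d⁻¹ = d := inv_eq_of_mul_eq_one_left hd
  set t := y⁻¹ * z⁻¹ * y * z with ht
  have key : NF3 y z t g ∨ ∃ w, NF3 y z t w ∧ g = w * d := by
    have stepy : ∀ x : G, (NF3 y z t x ∨ ∃ w, NF3 y z t w ∧ x = w * d) →
        (NF3 y z t (x * y) ∨ ∃ w, NF3 y z t w ∧ x * y = w * d) := by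
      rintro x (h | ⟨w, hw, rfl⟩)
      · exact Or.inl (h.mul_y hzy hty htz)
      · refine Or.inr ⟨w * y * y, (hw.mul_y hzy hty htz).mul_y hzy hty htz, ?_⟩
        rw [mul_assoc w d, hdy']; simp only [mul_assoc]
    have stepz : ∀ x : G, (NF3 y z t x ∨ ∃ w, NF3 y z t w ∧ x = w * d) →
        (NF3 y z t (x * z) ∨ ∃ w, NF3 y z t w ∧ x * z = w * d) := by
      rintro x (h | ⟨w, hw, rfl⟩)
      · exact Or.inl (h.mul_z htz)
      · refine Or.inr ⟨w * z * z, (hw.mul_z htz).mul_z htz, ?_⟩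
        rw [mul_assoc w d, hdz']; simp only [mul_assoc]
    have stepd : ∀ x : G, (NF3 y z t x ∨ ∃ w, NF3 y z t w ∧ x = w * d) →
        (NF3 y z t (x * d) ∨ ∃ w, NF3 y z t w ∧ x * d = w * d) := by
      rintro x (h | ⟨w, hw, rfl⟩)
      · exact Or.inr ⟨x, h, rfl⟩
      · left; rw [mul_assoc, hd, mul_one]; exact hw
    induction hg using Subgroup.closure_induction_right with
    | one => exact Or.inl ⟨0, 0, 0, by simp⟩
    | mul_right x hx s hs ih =>
      simp only [Set.mem_insert_iff, Set.mem_singleton_iff] at hs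
      rcases hs with hs | hs | hs
      · rw [hs]; exact stepy x ih
      · rw [hs]; exact stepz x ih
      · rw [hs]; exact stepd x ih
    | mul_inv_cancel x hx s hs ih =>
      simp only [Set.mem_insert_iff, Set.mem_singleton_iff] at hs
      rcases hs with hs | hs | hs
      · have e : x * s⁻¹ = x * y * y := by rw [hs, inv_eq_sq_of_cube hy, mul_assoc]
        rw [e]; exact stepy _ (stepy x ih)
      · have e : x * s⁻¹ = x * z * z := by rw [hs, inv_eq_sq_of_cube hz, mul_assoc]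
        rw [e]; exact stepz _ (stepz x ih)
      · rw [hs, hdinv]; exact stepd x ih
  rcases key with h | ⟨w, hw, rfl⟩
  · obtain ⟨a, b, c, e⟩ := h.reduce hy hz ht3
    exact ⟨a, b, c, 0, by rw [e]; simp⟩
  · obtain ⟨a, b, c, e⟩ := hw.reduce hy hz ht3
    exact ⟨a, b, c, 1, by rw [e]; simp⟩

end nf

section uq

/-- the seven relators of `B(2,3) : 2` on the free group on `Fin 3` -/
def rels54 : Set (FreeGroup (Fin 3)) :=
  {FreeGroup.of 0 ^ 3, FreeGroup.of 1 ^ 3, (FreeGroup.of 0 * FreeGroup.of 1) ^ 3,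
    ((FreeGroup.of 0)⁻¹ * FreeGroup.of 1) ^ 3, FreeGroup.of 2 * FreeGroup.of 2,
    FreeGroup.of 2 * FreeGroup.of 0 * FreeGroup.of 2 * FreeGroup.of 0,
    FreeGroup.of 2 * FreeGroup.of 1 * FreeGroup.of 2 * FreeGroup.of 1}

/-- the presented group -/
abbrev Gam54 : Type := PresentedGroup rels54

theorem gam_rel {r : FreeGroup (Fin 3)} (hr : r ∈ rels54) :
    PresentedGroup.mk rels54 r = 1 := PresentedGroup.one_of_mem hr

theorem gam_y3 : (PresentedGroup.of 0 : Gam54) ^ 3 = 1 := by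
  have := gam_rel (r := FreeGroup.of 0 ^ 3) (by simp [rels54])
  simpa [PresentedGroup.of] using this

theorem gam_z3 : (PresentedGroup.of 1 : Gam54) ^ 3 = 1 := by
  have := gam_rel (r := FreeGroup.of 1 ^ 3) (by simp [rels54])
  simpa [PresentedGroup.of] using this

theorem gam_yz3 : ((PresentedGroup.of 0 : Gam54) * PresentedGroup.of 1) ^ 3 = 1 := by
  have := gam_rel (r := (FreeGroup.of 0 * FreeGroup.of 1) ^ 3) (by simp [rels54])
  simpa [PresentedGroup.of] using this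

theorem gam_yz3' : ((PresentedGroup.of 0 : Gam54)⁻¹ * PresentedGroup.of 1) ^ 3 = 1 := by
  have := gam_rel (r := ((FreeGroup.of 0)⁻¹ * FreeGroup.of 1) ^ 3) (by simp [rels54])
  simpa [PresentedGroup.of] using this

theorem gam_dd : (PresentedGroup.of 2 : Gam54) * PresentedGroup.of 2 = 1 := by
  have := gam_rel (r := FreeGroup.of 2 * FreeGroup.of 2) (by simp [rels54])
  simpa [PresentedGroup.of] using this

theorem gam_dy : (PresentedGroup.of 2 : Gam54) * PresentedGroup.of 0 * PresentedGroup.of 2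
    = (PresentedGroup.of 0)⁻¹ := by
  have := gam_rel (r := FreeGroup.of 2 * FreeGroup.of 0 * FreeGroup.of 2 * FreeGroup.of 0)
    (by simp [rels54])
  rw [eq_inv_iff_mul_eq_one]
  simpa [PresentedGroup.of] using this

theorem gam_dz : (PresentedGroup.of 2 : Gam54) * PresentedGroup.of 1 * PresentedGroup.of 2
    = (PresentedGroup.of 1)⁻¹ := by
  have := gam_rel (r := FreeGroup.of 2 * FreeGroup.of 1 * FreeGroup.of 2 * FreeGroup.of 1)
    (by simp [rels54])
  rw [eq_inv_iff_mul_eq_one]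
  simpa [PresentedGroup.of] using this

theorem gam_closure :
    Subgroup.closure ({PresentedGroup.of 0, PresentedGroup.of 1, PresentedGroup.of 2} : Set Gam54)
      = ⊤ := by
  rw [← PresentedGroup.closure_range_of rels54]
  congr 1
  ext g
  simp only [Set.mem_insert_iff, Set.mem_singleton_iff, Set.mem_range]
  constructor
  · rintro (rfl | rfl | rfl)
    exacts [⟨0, rfl⟩, ⟨1, rfl⟩, ⟨2, rfl⟩]
  · rintro ⟨i, rfl⟩
    fin_cases i
    · left; rfl
    · right; left; rfl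
    · right; right; rfl

/-- the normal form map -/
def nfMap (p : Fin 3 × Fin 3 × Fin 3 × Fin 2) : Gam54 :=
  (PresentedGroup.of 0) ^ (p.1 : ℕ) * (PresentedGroup.of 1) ^ (p.2.1 : ℕ) *
    ((PresentedGroup.of 0)⁻¹ * (PresentedGroup.of 1)⁻¹ * PresentedGroup.of 0 *
      PresentedGroup.of 1) ^ (p.2.2.1 : ℕ) * (PresentedGroup.of 2) ^ (p.2.2.2 : ℕ)

theorem nfMap_surjective : Function.Surjective nfMap := by
  intro g
  have hg : g ∈ Subgroup.closure
      ({PresentedGroup.of 0, PresentedGroup.of 1, PresentedGroup.of 2} : Set Gam54) := by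
    rw [gam_closure]; trivial
  obtain ⟨a, b, c, e, h⟩ := exists_normal_form _ _ _ gam_y3 gam_z3 gam_yz3 gam_yz3' gam_dd
    gam_dy gam_dz g hg
  exact ⟨(a, b, c, e), h.symm⟩

instance : Finite Gam54 := Finite.of_surjective _ nfMap_surjective

theorem card_gam_le : Nat.card Gam54 ≤ 54 := by
  have := Nat.card_le_card_of_surjective _ nfMap_surjective
  simpa using this

/-- a group of order 54 generated by `y, z, d` with the relations is the presented group -/
theorem exists_equiv_gam {G : Type*} [Group G] [Finite G]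
    (y z d : G) (hy : y ^ 3 = 1) (hz : z ^ 3 = 1)
    (hyz : (y * z) ^ 3 = 1) (hyz' : (y⁻¹ * z) ^ 3 = 1) (hd : d * d = 1) (hdy : d * y * d = y⁻¹)
    (hdz : d * z * d = z⁻¹) (hgen : Subgroup.closure ({y, z, d} : Set G) = ⊤)
    (hcard : Nat.card G = 54) : Nonempty (Gam54 ≃* G) := by
  have hrel : ∀ r ∈ rels54, FreeGroup.lift ![y, z, d] r = 1 := by
    intro r hr
    simp only [rels54, Set.mem_insert_iff, Set.mem_singleton_iff] at hr
    rcases hr with rfl | rfl | rfl | rfl | rfl | rfl | rfl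
    · simpa using hy
    · simpa using hz
    · simpa using hyz
    · simpa using hyz'
    · simpa using hd
    · have : d * y * d * y = 1 := by rw [hdy, inv_mul_cancel]
      simpa using this
    · have : d * z * d * z = 1 := by rw [hdz, inv_mul_cancel]
      simpa using this
  let f : Gam54 →* G := PresentedGroup.toGroup hrel
  have hf0 : f (PresentedGroup.of 0) = y := by
    simp [f, PresentedGroup.toGroup.of]
  have hf1 : f (PresentedGroup.of 1) = z := by
    simp [f, PresentedGroup.toGroup.of]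
  have hf2 : f (PresentedGroup.of 2) = d := by
    simp [f, PresentedGroup.toGroup.of]
  have hsurj : Function.Surjective f := by
    rw [← MonoidHom.range_eq_top, eq_top_iff, ← hgen, Subgroup.closure_le]
    intro x hx
    simp only [Set.mem_insert_iff, Set.mem_singleton_iff] at hx
    rcases hx with rfl | rfl | rfl
    exacts [⟨_, hf0⟩, ⟨_, hf1⟩, ⟨_, hf2⟩]
  have hcard' : Nat.card Gam54 = Nat.card G := by
    have h1 := Nat.card_le_card_of_surjective _ hsurj
    have h2 := card_gam_le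
    omega
  have hbij : Function.Bijective f :=
    (Nat.bijective_iff_surjective_and_card f).mpr ⟨hsurj, hcard'⟩
  exact ⟨MulEquiv.ofBijective f hbij⟩

/-- (UQ) two groups of order 54 with generators satisfying these relations are isomorphic -/
theorem iso_of_relations {G G' : Type*} [Group G] [Group G'] [Finite G] [Finite G']
    (y z d : G) (hy : y ^ 3 = 1) (hz : z ^ 3 = 1)
    (hyz : (y * z) ^ 3 = 1) (hyz' : (y⁻¹ * z) ^ 3 = 1) (hd : d * d = 1) (hdy : d * y * d = y⁻¹)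
    (hdz : d * z * d = z⁻¹) (hgen : Subgroup.closure ({y, z, d} : Set G) = ⊤)
    (hcard : Nat.card G = 54)
    (y' z' d' : G') (hy' : y' ^ 3 = 1) (hz' : z' ^ 3 = 1)
    (hyz2 : (y' * z') ^ 3 = 1) (hyz2' : (y'⁻¹ * z') ^ 3 = 1) (hd' : d' * d' = 1)
    (hdy' : d' * y' * d' = y'⁻¹) (hdz' : d' * z' * d' = z'⁻¹)
    (hgen' : Subgroup.closure ({y', z', d'} : Set G') = ⊤) (hcard' : Nat.card G' = 54) :
    Nonempty (G ≃* G') := by
  obtain ⟨e1⟩ := exists_equiv_gam y z d hy hz hyz hyz' hd hdy hdz hgen hcard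
  obtain ⟨e2⟩ := exists_equiv_gam y' z' d' hy' hz' hyz2 hyz2' hd' hdy' hdz' hgen' hcard'
  exact ⟨e1.symm.trans e2⟩

end uq

end Cfsg.Agent.Helper10.TT59
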