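import Mathlib
import Cfsg.Agent.Helper89.TT59Defs
import Cfsg.Agent.Helper10.TT59NF

/-!
# (LB) for S5559 (helper89): the structure of `K = P⟨d⟩` with at most 9 inverted elements
-/

set_option autoImplicit false
set_option linter.style.haveILetI false

namespace Cfsg.Agent.Helper10.TT59

open Cfsg.Agent.Helper89.TT59

variable {K : Type*} [Group K]

theorem setup_index_eq_two {P : Subgroup K} {d : K} (hS : Setup P d) : P.index = 2 := by
  rw [Subgroup.index_eq_two_iff']
  refine ⟨d, fun b => ?_⟩
  by_cases hb : b ∈ P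
  · right
    refine ⟨hb, fun h => hS.dP ?_⟩
    have := P.mul_mem h (P.inv_mem hb)
    rwa [mul_assoc, mul_inv_cancel, mul_one] at this
  · left
    rcases hS.top b with h | h
    · exact absurd h hb
    · exact ⟨h, hb⟩

theorem setup_card_eq {P : Subgroup K} {d : K} (hS : Setup P d) :
    Nat.card K = 2 * Nat.card P := by
  rw [← (setup_index_eq_two hS), mul_comm, Subgroup.card_mul_index]

theorem setup_d_inv {P : Subgroup K} {d : K} (hS : Setup P d) : d⁻¹ = d :=
  inv_eq_of_mul_eq_one_left hS.dd

theorem setup_inv_mem_Inv {P : Subgroup K} {d : K} (hS : Setup P d) {s : K}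
    (hs : s ∈ Inv P d) : s⁻¹ ∈ Inv P d := by
  refine ⟨P.inv_mem hs.1, ?_⟩
  have : d * s⁻¹ * d = (d * s * d)⁻¹ := by
    rw [mul_inv_rev, mul_inv_rev, (setup_d_inv hS), mul_assoc]
  rw [this, hs.2]

/-- the orbit of `d` under conjugation by a `d`-invariant subgroup `R ≤ P`, translated by `d`,
is the set of inverted elements of `R` -/
theorem setup_card_Inv_inter {P : Subgroup K} {d : K} [Finite K] (hS : Setup P d)
    (R : Subgroup K) (hRP : R ≤ P) (hRd : ∀ s ∈ R, d * s * d ∈ R) :
    ∃ n : ℕ, Nat.card ↥(Inv P d ∩ (R : Set K)) = 3 ^ n := by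
  letI : MulAction ↥R K := MulAction.compHom K ((MulAut.conj : K →* MulAut K).comp R.subtype)
  have hsmul : ∀ (s : ↥R) (x : K), s • x = (s : K) * x * (s : K)⁻¹ := fun s x => rfl
  have hR3 : IsPGroup 3 ↥R := hS.p3.to_le hRP
  haveI : Fact (Nat.Prime 3) := ⟨Nat.prime_three⟩
  obtain ⟨n, hn⟩ := hR3.card_orbit (α := K) d
  refine ⟨n, ?_⟩
  rw [← hn]
  have himg : Inv P d ∩ (R : Set K) = (fun x => x * d) '' (MulAction.orbit ↥R d) := by
    ext x
    simp only [Set.mem_inter_iff, SetLike.mem_coe, Set.mem_image, MulAction.mem_orbit_iff]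
    constructor
    · rintro ⟨hxI, hxR⟩
      refine ⟨x * d, ⟨⟨x⁻¹, R.inv_mem hxR⟩, ?_⟩, by rw [mul_assoc, hS.dd, mul_one]⟩
      rw [hsmul]
      show x⁻¹ * d * x⁻¹⁻¹ = x * d
      have h3 := hS.pow_three hxI
      have hx2 : x⁻¹ = x * x := inv_eq_sq_of_cube h3
      have hdx : d * x = x⁻¹ * d := by
        rw [← hxI.2, mul_assoc (d * x), hS.dd, mul_one]
      rw [inv_inv, mul_assoc, hdx, ← mul_assoc, ← mul_inv_rev, ← hx2, inv_inv]
    · rintro ⟨w, ⟨s, rfl⟩, rfl⟩
      rw [hsmul]
      have hs : (s : K) ∈ R := s.2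
      have h1 : d * (s : K)⁻¹ * d ∈ R := hRd _ (R.inv_mem hs)
      have e : (s : K) * d * (s : K)⁻¹ * d = (s : K) * (d * (s : K)⁻¹ * d) := by
        simp only [mul_assoc]
      have hmemR : (s : K) * d * (s : K)⁻¹ * d ∈ R := by
        rw [e]; exact R.mul_mem hs h1
      refine ⟨⟨hRP hmemR, ?_⟩, hmemR⟩
      have : ((s : K) * d * (s : K)⁻¹ * d)⁻¹ = d * (s : K) * d * (s : K)⁻¹ := by
        simp only [mul_inv_rev, inv_inv, (setup_d_inv hS), mul_assoc]
      rw [this]
      calc d * ((s : K) * d * (s : K)⁻¹ * d) * d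
          = d * (s : K) * d * (s : K)⁻¹ * (d * d) := by simp only [mul_assoc]
        _ = d * (s : K) * d * (s : K)⁻¹ := by rw [hS.dd, mul_one]
  rw [himg]
  exact Nat.card_image_of_injective (mul_left_injective d) _

/-- (LB) the structure of `K` when there are at most 9 inverted elements -/
theorem structure_of_card_le_nine {K : Type*} [Group K] [Finite K] {P : Subgroup K} {d : K}
    (hS : Setup P d) (hP : P ≠ ⊥)
    (hcomm : ∀ s ∈ Inv P d, ∀ t ∈ Inv P d, s * t = t * s → s = 1 ∨ t ∈ Subgroup.zpowers s)
    (h9 : Nat.card (Inv P d) ≤ 9) :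
    Nat.card K = 6 ∨ (Nat.card K = 54 ∧ ∃ y z : K, y ^ 3 = 1 ∧ z ^ 3 = 1 ∧ (y * z) ^ 3 = 1 ∧
      (y⁻¹ * z) ^ 3 = 1 ∧ d * y * d = y⁻¹ ∧ d * z * d = z⁻¹ ∧
      Subgroup.closure ({y, z, d} : Set K) = ⊤) := by
  classical
  haveI : Fact (Nat.Prime 3) := ⟨Nat.prime_three⟩
  -- a nontrivial inverted element
  obtain ⟨y, hyI, hy1⟩ : ∃ y ∈ Inv P d, y ≠ 1 := by
    by_contra hcon
    push Not at hcon
    apply hP
    rw [← hS.gen, Subgroup.closure_eq_bot_iff]
    intro s hs
    exact hcon s hs
  have hy3 : y ^ 3 = 1 := hS.pow_three hyI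
  have hyP : y ∈ P := hyI.1
  by_cases hall : ∀ s ∈ Inv P d, s ∈ Subgroup.zpowers y
  · -- P = ⟨y⟩ of order 3
    left
    have hPz : P = Subgroup.zpowers y := by
      apply le_antisymm
      · rw [← hS.gen, Subgroup.closure_le]
        exact hall
      · rw [Subgroup.zpowers_le]; exact hyP
    have ho : orderOf y = 3 := orderOf_eq_prime hy3 hy1
    rw [(setup_card_eq hS), hPz, Nat.card_zpowers, ho]
  · right
    push Not at hall
    obtain ⟨z, hzI, hzy⟩ := hall
    have hz3 : z ^ 3 = 1 := hS.pow_three hzI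
    have hzP : z ∈ P := hzI.1
    have hyz_ne : y * z ≠ z * y := by
      intro h
      rcases hcomm y hyI z hzI h with h1 | h1
      · exact hy1 h1
      · exact hzy h1
    have hyz3 : (y * z) ^ 3 = 1 := by
      have := hS.cube y⁻¹ ((setup_inv_mem_Inv hS) hyI) z hzI
      rwa [inv_inv] at this
    have hyz3' : (y⁻¹ * z) ^ 3 = 1 := hS.cube y hyI z hzI
    have hdy : d * y * d = y⁻¹ := hyI.2
    have hdz : d * z * d = z⁻¹ := hzI.2
    set R : Subgroup K := Subgroup.closure ({y, z} : Set K) with hR
    have hyR : y ∈ R := Subgroup.subset_closure (by simp)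
    have hzR : z ∈ R := Subgroup.subset_closure (by simp)
    have hRP : R ≤ P := by
      rw [hR, Subgroup.closure_le]
      intro x hx
      simp only [Set.mem_insert_iff, Set.mem_singleton_iff] at hx
      rcases hx with rfl | rfl
      exacts [hyP, hzP]
    -- |R| ≤ 27
    have hR27 : Nat.card ↥R ≤ 27 := by
      let f : Fin 3 × Fin 3 × Fin 3 → ↥R := fun p =>
        ⟨y ^ (p.1 : ℕ) * z ^ (p.2.1 : ℕ) * (y⁻¹ * z⁻¹ * y * z) ^ (p.2.2 : ℕ),
          R.mul_mem (R.mul_mem (R.pow_mem hyR _) (R.pow_mem hzR _))
            (R.pow_mem (R.mul_mem (R.mul_mem (R.mul_mem (R.inv_mem hyR) (R.inv_mem hzR)) hyR)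
              hzR) _)⟩
      have hf : Function.Surjective f := by
        rintro ⟨g, hg⟩
        obtain ⟨a, b, c, h⟩ := exists_normal_form' y z hy3 hz3 hyz3 hyz3' g hg
        exact ⟨(a, b, c), Subtype.ext h.symm⟩
      have := Nat.card_le_card_of_surjective _ hf
      simpa using this
    -- R is d-invariant
    have hRd : ∀ s ∈ R, d * s * d ∈ R := by
      intro s hs
      induction hs using Subgroup.closure_induction with
      | mem x hx =>
        simp only [Set.mem_insert_iff, Set.mem_singleton_iff] at hx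
        rcases hx with rfl | rfl
        · rw [hdy]; exact R.inv_mem hyR
        · rw [hdz]; exact R.inv_mem hzR
      | one => rw [mul_one, hS.dd]; exact R.one_mem
      | mul a b _ _ iha ihb =>
        have : d * (a * b) * d = (d * a * d) * (d * b * d) := by
          calc d * (a * b) * d = d * a * 1 * b * d := by simp only [mul_one, mul_assoc]
            _ = d * a * (d * d) * b * d := by rw [hS.dd]
            _ = (d * a * d) * (d * b * d) := by simp only [mul_assoc]
        rw [this]; exact R.mul_mem iha ihb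
      | inv a _ iha =>
        have : d * a⁻¹ * d = (d * a * d)⁻¹ := by
          rw [mul_inv_rev, mul_inv_rev, (setup_d_inv hS), mul_assoc]
        rw [this]; exact R.inv_mem iha
    -- the inverted elements of R
    obtain ⟨n, hn⟩ := (setup_card_Inv_inter hS) R hRP hRd
    set IR : Set K := Inv P d ∩ (R : Set K) with hIR
    have hIRsub : IR ⊆ Inv P d := Set.inter_subset_left
    have hIRcard : IR.ncard = 3 ^ n := by
      rw [← Nat.card_coe_set_eq]; exact hn
    have hIcard : (Inv P d).ncard ≤ 9 := by
      rw [← Nat.card_coe_set_eq]; exact h9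
    have hIRle : IR.ncard ≤ 9 :=
      (Set.ncard_le_ncard hIRsub (Set.toFinite _)).trans hIcard
    -- four distinct elements
    have hyy : y ≠ y⁻¹ := by
      intro h
      apply hy1
      have h2 : y * y = 1 := by
        nth_rewrite 2 [h]; rw [mul_inv_cancel]
      have : y ^ 3 = y := by rw [cube_expand, h2, one_mul]
      rw [← this, hy3]
    have hz1 : z ≠ 1 := fun h => hzy (h ▸ Subgroup.one_mem _)
    have hzy' : z ≠ y := fun h => hzy (h ▸ Subgroup.mem_zpowers y)
    have hzy'' : z ≠ y⁻¹ := fun h => hzy (h ▸ (Subgroup.zpowers y).inv_mem (Subgroup.mem_zpowers y))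
    have h4 : 4 ≤ IR.ncard := by
      let F : Finset K := {1, y, y⁻¹, z}
      have hF : F.card = 4 := by
        have h1 : (1 : K) ∉ ({y, y⁻¹, z} : Finset K) := by
          simp only [Finset.mem_insert, Finset.mem_singleton, not_or]
          exact ⟨fun h => hy1 h.symm, fun h => hy1 (inv_eq_one.mp h.symm), fun h => hz1 h.symm⟩
        have h2 : y ∉ ({y⁻¹, z} : Finset K) := by
          simp only [Finset.mem_insert, Finset.mem_singleton, not_or]
          exact ⟨hyy, fun h => hzy' h.symm⟩
        have h3 : y⁻¹ ∉ ({z} : Finset K) := by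
          simp only [Finset.mem_singleton]
          exact fun h => hzy'' h.symm
        show (insert 1 (insert y (insert y⁻¹ {z})) : Finset K).card = 4
        rw [Finset.card_insert_of_notMem h1, Finset.card_insert_of_notMem h2,
          Finset.card_insert_of_notMem h3, Finset.card_singleton]
      have hsub : (F : Set K) ⊆ IR := by
        intro x hx
        simp only [F, Finset.coe_insert, Finset.coe_singleton, Set.mem_insert_iff,
          Set.mem_singleton_iff] at hx
        rcases hx with rfl | rfl | rfl | rfl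
        · exact ⟨one_mem_Inv P hS.dd, R.one_mem⟩
        · exact ⟨hyI, hyR⟩
        · exact ⟨(setup_inv_mem_Inv hS) hyI, R.inv_mem hyR⟩
        · exact ⟨hzI, hzR⟩
      have := Set.ncard_le_ncard hsub (Set.toFinite _)
      rwa [Set.ncard_coe_finset, hF] at this
    have hn2 : n = 2 := by
      rw [hIRcard] at h4 hIRle
      have h1 : 1 < n := by
        by_contra hcon
        have : n ≤ 1 := by omega
        have : 3 ^ n ≤ 3 ^ 1 := Nat.pow_le_pow_right (by norm_num) this
        omega
      have h2 : n < 3 := by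
        by_contra hcon
        have : 3 ≤ n := by omega
        have : 3 ^ 3 ≤ 3 ^ n := Nat.pow_le_pow_right (by norm_num) this
        omega
      omega
    have hIReq : IR = Inv P d := by
      apply Set.eq_of_subset_of_ncard_le hIRsub _ (Set.toFinite _)
      rw [hIRcard, hn2]; exact hIcard
    have hIsubR : Inv P d ⊆ (R : Set K) := by
      rw [← hIReq]; exact Set.inter_subset_right
    have hPR : P = R := by
      apply le_antisymm
      · rw [← hS.gen, Subgroup.closure_le]; exact hIsubR
      · exact hRP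
    -- |P| = 27
    have hP27 : Nat.card ↥P = 27 := by
      obtain ⟨m, hm⟩ := IsPGroup.iff_card.mp hS.p3
      have hle : Nat.card ↥P ≤ 27 := by rw [hPR]; exact hR27
      have hm3 : m ≤ 3 := by
        by_contra hcon
        have : 4 ≤ m := by omega
        have : 3 ^ 4 ≤ 3 ^ m := Nat.pow_le_pow_right (by norm_num) this
        omega
      have hnc : ¬ (∀ a b : ↥P, a * b = b * a) := by
        intro h
        apply hyz_ne
        have := h ⟨y, hyP⟩ ⟨z, hzP⟩
        exact congrArg Subtype.val this
      interval_cases m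
      · exfalso; apply hnc
        have : Subsingleton ↥P := (Nat.card_eq_one_iff_unique.mp (by simpa using hm)).1
        intro a b; exact Subsingleton.elim _ _
      · exfalso; apply hnc
        have hc : IsCyclic ↥P := isCyclic_of_prime_card (p := 3) (by simpa using hm)
        intro a b
        exact (hc.isMulCommutative).is_comm.comm a b
      · exfalso; apply hnc
        exact (IsPGroup.isMulCommutative_of_card_eq_prime_sq (p := 3) hm).is_comm.comm
      · simpa using hm
    refine ⟨by rw [(setup_card_eq hS), hP27], y, z, hy3, hz3, hyz3, hyz3', hdy, hdz, ?_⟩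
    -- generation
    rw [eq_top_iff]
    intro k _
    have hRle : R ≤ Subgroup.closure ({y, z, d} : Set K) := by
      rw [hR]
      apply Subgroup.closure_mono
      intro x hx
      simp only [Set.mem_insert_iff, Set.mem_singleton_iff] at hx ⊢
      rcases hx with rfl | rfl
      · left; rfl
      · right; left; rfl
    have hdmem : d ∈ Subgroup.closure ({y, z, d} : Set K) :=
      Subgroup.subset_closure (by simp)
    rcases hS.top k with h | h
    · exact hRle (hPR ▸ h)
    · have : k = d * (d * k) := by rw [← mul_assoc, hS.dd, one_mul]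
      rw [this]
      exact Subgroup.mul_mem _ hdmem (hRle (hPR ▸ h))

end Cfsg.Agent.Helper10.TT59
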