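-- helper10: piece (CHZ) of #13634 for helper36 (TorData, S2372/S2375): the characters of `zact (refM D i) c`.
import Cfsg.Agent.Helper36.TorD.Defs

set_option autoImplicit false

namespace Cfsg.Agent.Helper10.TorD

open Cfsg Cfsg.Lie Cfsg.Agent.Helper18 Cfsg.Agent.Helper19.Cox Cfsg.Agent.Helper19.Poinc
  Cfsg.Agent.Helper80.Tor Cfsg.Agent.Helper36.TorD

section Fields

variable {F K : Type*} [Field F] [Fintype F] [Field K] [Fintype K] [Algebra F K]

variable (D : ChevalleyDatum)
  (hD : D ∈ [chevG2, chevB2, chevD4, chevF4, chevE6, chevE7, chevE8])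
include hD

/-- (CHZ) the characters of `zact (refM D i) c` -/
theorem chrD_zact_refM (hcr : cartanReflOK D = true) (i : ℕ) (hi : i < D.rank) (s : ℕ) (hs : s < D.nroots)
    (c : Fin D.rank → Kˣ) :
    chrD D s (zact (refM D i) c) = chrD D (D.reflectRoot i s) c := by
  classical
  -- the table condition
  have hT : ∀ j : Fin D.rank, D.cartan j.val (D.reflectRoot i s)
      = D.cartan j.val s - D.cartan i s * D.cartan j.val (D.simple i) := by
    intro j
    unfold cartanReflOK at hcr
    rw [List.all_eq_true] at hcr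
    have h1 := hcr i (List.mem_range.2 hi)
    rw [List.all_eq_true] at h1
    have h2 := h1 j.val (List.mem_range.2 j.2)
    rw [List.all_eq_true] at h2
    have h3 := h2 s (List.mem_range.2 hs)
    exact of_decide_eq_true h3
  unfold chrD
  simp only [zact_apply]
  -- exchange the products
  have h1 : ∀ k : Fin D.rank, (∏ j : Fin D.rank, c j ^ refM D i j k) ^ D.cartan k.val s
      = ∏ j : Fin D.rank, c j ^ (refM D i j k * D.cartan k.val s) := by
    intro k
    rw [← Finset.prod_zpow]
    exact Finset.prod_congr rfl (fun j _ => (zpow_mul _ _ _).symm)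
  rw [Finset.prod_congr rfl (fun k _ => h1 k), Finset.prod_comm]
  refine Finset.prod_congr rfl (fun j _ => ?_)
  rw [← zpow_finset_sum, hT j]
  congr 1
  -- the exponent
  unfold refM
  simp only [sub_mul, Finset.sum_sub_distrib, ite_mul, one_mul, zero_mul]
  rw [Finset.sum_ite_eq Finset.univ j (fun k => D.cartan k.val s)]
  simp only [Finset.mem_univ, if_true]
  congr 1
  have h2 : ∀ k : Fin D.rank, (if k.val = i then D.cartan j.val (D.simple i) * D.cartan k.val s else 0)
      = if k = (⟨i, hi⟩ : Fin D.rank) then D.cartan j.val (D.simple i) * D.cartan i s else 0 := by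
    intro k
    by_cases hk : k.val = i
    · have hk' : k = (⟨i, hi⟩ : Fin D.rank) := Fin.ext hk
      rw [if_pos hk, if_pos hk', hk]
    · have hk' : k ≠ (⟨i, hi⟩ : Fin D.rank) := fun h => hk (by rw [h])
      rw [if_neg hk, if_neg hk']
  rw [Finset.sum_congr rfl (fun k _ => h2 k), Finset.sum_ite_eq' Finset.univ (⟨i, hi⟩ : Fin D.rank)]
  simp only [Finset.mem_univ, if_true]
  ring

end Fields

end Cfsg.Agent.Helper10.TorD
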