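-- helper10: piece (CU) of #13741 for helper36 (TorData, S2372/S2375): an element of `U` centralising a regular
-- torus element is trivial.
import Cfsg.Agent.Helper36.TorD.Defs
import Cfsg.Agent.Helper41.TorD_TC
import Cfsg.Agent.S1026

set_option autoImplicit false

namespace Cfsg.Agent.Helper10.TorD

open Cfsg Cfsg.Lie Cfsg.Agent.Helper18 Cfsg.Agent.Helper19.Cox Cfsg.Agent.Helper19.Poinc
  Cfsg.Agent.Helper80.Tor Cfsg.Agent.Helper36.TorD

section Fields

variable {F K : Type*} [Field F] [Fintype F] [Field K] [Fintype K] [Algebra F K]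

variable (D : ChevalleyDatum)
  (hD : D ∈ [chevG2, chevB2, chevD4, chevF4, chevE6, chevE7, chevE8])
include hD

/-- conjugating an ordered product of root elements by a torus element (matrix form) -/
theorem CU_conj_word (c : Fin D.rank → Kˣ) (L : List ℕ) (hL : ∀ r ∈ L, r < D.nroots) (t : ℕ → K) :
    ((torusHom D K c : GL D.Idx K) : Matrix D.Idx D.Idx K) * D.wordMat K (L.map fun r => (r, t r))
      = D.wordMat K (L.map fun r => (r, ((chrD D r c : Kˣ) : K) * t r))
        * ((torusHom D K c : GL D.Idx K) : Matrix D.Idx D.Idx K) := by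
  have htri := triOK_of_mem D hD
  induction L with
  | nil => simp [ChevalleyDatum.wordMat]
  | cons r L ih =>
    have h1 : ((torusHom D K c : GL D.Idx K) : Matrix D.Idx D.Idx K) * D.x K r (t r)
        = D.x K r (((chrD D r c : Kˣ) : K) * t r) * ((torusHom D K c : GL D.Idx K) : Matrix D.Idx D.Idx K) := by
      have h2 := Cfsg.Agent.Helper41.TorD.torusHom_conj D hD c r (hL r List.mem_cons_self) (t r)
      rw [mul_inv_eq_iff_eq_mul] at h2
      have h3 := congrArg (fun g : GL D.Idx K => (g : Matrix D.Idx D.Idx K)) h2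
      simpa only [Units.val_mul, xGL_val D _ htri] using h3
    have ih' := ih (fun s hs => hL s (List.mem_cons_of_mem _ hs))
    simp only [List.map_cons, ChevalleyDatum.wordMat, List.prod_cons] at ih' ⊢
    rw [← mul_assoc, h1, mul_assoc, ih', mul_assoc]

/-- (CU) an element of `U` centralising a regular torus element is trivial. -/
theorem cent_U_trivial (c : Fin D.rank → Kˣ) (hreg : ∀ s < D.nroots, chrD D s c ≠ 1)
    (u : GL D.Idx K) (hu : u ∈ D.posUnipotent K) (hcu : u * torusHom D K c = torusHom D K c * u) : u = 1 := by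
  classical
  obtain ⟨t, ⟨ht0, htu⟩, huniq⟩ := (Cfsg.Agent.S1026.result (F := K) D hD).1 u hu
  have hL : ∀ r ∈ D.posRoots, r < D.nroots := by
    intro r hr
    unfold ChevalleyDatum.posRoots at hr
    rw [List.mem_filter, List.mem_range] at hr
    exact hr.1
  have h1 := CU_conj_word D hD c D.posRoots hL t
  rw [← htu] at h1
  have h2 := congrArg (fun g : GL D.Idx K => (g : Matrix D.Idx D.Idx K)) hcu
  simp only [Units.val_mul] at h2
  rw [← h2] at h1
  -- cancel the torus element
  have h3 : (u : Matrix D.Idx D.Idx K)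
      = D.wordMat K (D.posRoots.map fun r => (r, ((chrD D r c : Kˣ) : K) * t r)) := by
    have h4 := congrArg (fun M : Matrix D.Idx D.Idx K =>
      M * (((torusHom D K c)⁻¹ : GL D.Idx K) : Matrix D.Idx D.Idx K)) h1
    simp only [mul_assoc] at h4
    rw [← Units.val_mul, mul_inv_cancel, Units.val_one, mul_one, mul_one] at h4
    exact h4
  have h5 : (fun r => ((chrD D r c : Kˣ) : K) * t r) = t := by
    apply huniq
    refine ⟨fun r hr => ?_, h3⟩
    show ((chrD D r c : Kˣ) : K) * t r = 0
    rw [ht0 r hr, mul_zero]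
  have h6 : ∀ r, t r = 0 := by
    intro r
    by_cases hr : D.IsPosRoot r
    · have h7 : ((chrD D r c : Kˣ) : K) * t r = t r := congrFun h5 r
      by_contra hne
      apply hreg r hr.1
      apply Units.ext
      rw [Units.val_one]
      have h8 : (((chrD D r c : Kˣ) : K) - 1) * t r = 0 := by rw [sub_mul, one_mul, h7, sub_self]
      rcases mul_eq_zero.mp h8 with h9 | h9
      · exact sub_eq_zero.mp h9
      · exact absurd h9 hne
    · exact ht0 r hr
  apply Units.ext
  rw [htu, Units.val_one]
  have h10 : ∀ L : List ℕ, D.wordMat K (L.map fun r => (r, t r)) = 1 := by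
    intro L
    induction L with
    | nil => simp [ChevalleyDatum.wordMat]
    | cons r L ih =>
      simp only [List.map_cons, ChevalleyDatum.wordMat, List.prod_cons] at ih ⊢
      rw [ih, mul_one, h6 r]
      exact x_zero D r
  exact h10 _

end Fields

end Cfsg.Agent.Helper10.TorD
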