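-- helper10: piece (REG2) of #13741 for helper36 (TorData, S2372/S2375): `n_s ∉ H`.
import Cfsg.Agent.Helper36.TorD.Defs
import Cfsg.Agent.Helper41.TorD_TC
import Cfsg.Agent.Helper40.SL2Chev
import Cfsg.Agent.Helper36.TwistCore
import Cfsg.Agent.Helper18.Aut.ChevGL

set_option autoImplicit false

namespace Cfsg.Agent.Helper10.TorD

open Cfsg Cfsg.Lie Cfsg.Agent.Helper18 Cfsg.Agent.Helper19.Cox Cfsg.Agent.Helper19.Poinc
  Cfsg.Agent.Helper80.Tor Cfsg.Agent.Helper36.TorD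

section Fields

variable {F K : Type*} [Field F] [Fintype F] [Field K] [Fintype K] [Algebra F K]

variable (D : ChevalleyDatum)
  (hD : D ∈ [chevG2, chevB2, chevD4, chevF4, chevE6, chevE7, chevE8])
include hD

/-- `n_s x_{-s}(1) n_s⁻¹ = x_s(-1)` (from Steinberg's rank-one relations) -/
theorem REG2_conj (s : ℕ) (hs : s < D.nroots) :
    wordGL D K (D.nWord s (1 : K)) * xGL D K (D.neg s) 1 * (wordGL D K (D.nWord s (1 : K)))⁻¹
      = xGL D K s (-(1 * 1 * 1)) := by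
  have hadd := Cfsg.Agent.Helper40.ChevAdd.addOK_of_mem hD
  have R := Cfsg.Agent.Helper40.SL2Chev.rel (F := K) D hadd hD s hs
  have h1 := R.conj_y 1 1 one_ne_zero
  have e : wordGL D K (D.nWord s (1 : K))
      = Cfsg.Agent.Helper40.SL2Hom.w (Cfsg.Agent.Helper40.ChevAdd.xGL D hadd K s)
          (Cfsg.Agent.Helper40.ChevAdd.xGL D hadd K (D.neg s)) 1 := by
    rw [wordGL_nWord', Cfsg.Agent.Helper36.Twist.xGL18_eq D hD hadd,
      Cfsg.Agent.Helper36.Twist.xGL18_eq D hD hadd]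
    rfl
  rw [e, Cfsg.Agent.Helper36.Twist.xGL18_eq D hD hadd, Cfsg.Agent.Helper36.Twist.xGL18_eq D hD hadd]
  exact h1

/-- (REG2) `n_s ∉ H`. -/
theorem nroot_not_mem (s : ℕ) (hs : s < D.nroots) :
    wordGL D K (D.nWord s (1 : K)) ∉ D.diagonalSubgroup K := by
  intro hmem
  rw [← torusHom_range D hD] at hmem
  obtain ⟨c', hc'⟩ := hmem
  have hns : D.neg s < D.nroots := Cfsg.Agent.Helper18.Aut.neg_lt D hD s hs
  have h1 := REG2_conj (K := K) D hD s hs
  rw [← hc', Cfsg.Agent.Helper41.TorD.torusHom_conj D hD c' (D.neg s) hns 1] at h1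
  -- `x_{-s}(χ) = x_s(-1)` lies in `U ⊓ V`
  have hbot := Cfsg.Agent.Helper18.Aut.pos_inf_neg' (F := K) D hD
  have hkey : xGL D K s (-(1 * 1 * 1)) = 1 := by
    rw [← Subgroup.mem_bot, ← hbot, Subgroup.mem_inf]
    rcases Cfsg.Agent.Helper18.Aut.pos_or_neg D hD s hs with hp | hn
    · refine ⟨Cfsg.Agent.Helper18.Aut.rootSubgroup_le_pos D s hp
        (Cfsg.Agent.Helper18.Aut.xGL_mem_rootSubgroup D hD s _), ?_⟩
      rw [← h1]
      exact Cfsg.Agent.Helper18.Aut.rootSubgroup_le_neg D _ (Cfsg.Agent.Helper18.Aut.neg_of_pos D hD s hp)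
        (Cfsg.Agent.Helper18.Aut.xGL_mem_rootSubgroup D hD _ _)
    · refine ⟨?_, Cfsg.Agent.Helper18.Aut.rootSubgroup_le_neg D s hn
        (Cfsg.Agent.Helper18.Aut.xGL_mem_rootSubgroup D hD s _)⟩
      rw [← h1]
      exact Cfsg.Agent.Helper18.Aut.rootSubgroup_le_pos D _ (Cfsg.Agent.Helper18.Aut.pos_of_neg D hD s hn)
        (Cfsg.Agent.Helper18.Aut.xGL_mem_rootSubgroup D hD _ _)
  rw [Cfsg.Agent.Helper18.Aut.xGL_eq_one_iff D hD s hs] at hkey
  have : (1 : K) = 0 := by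
    have h2 : -(1 * 1 * 1 : K) = -1 := by ring
    rw [h2, neg_eq_zero] at hkey
    exact hkey
  exact one_ne_zero this

end Fields

end Cfsg.Agent.Helper10.TorD
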