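-- helper10: piece (STEP) of #13634 for helper36 (TorData, S2372/S2375), core: `step_conj` from (TC) and (TE)
-- taken as hypotheses.
import Cfsg.Agent.Helper36.TorD.Defs
import Cfsg.Agent.Helper18.BNStruct
import Cfsg.Agent.Helper10.TorD_CHZ

set_option autoImplicit false

namespace Cfsg.Agent.Helper10.TorD

open Cfsg Cfsg.Lie Cfsg.Agent.Helper18 Cfsg.Agent.Helper19.Cox Cfsg.Agent.Helper19.Poinc
  Cfsg.Agent.Helper80.Tor Cfsg.Agent.Helper36.TorD

section Fields

variable {F K : Type*} [Field F] [Fintype F] [Field K] [Fintype K] [Algebra F K]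

variable (D : ChevalleyDatum)
  (hD : D ∈ [chevG2, chevB2, chevD4, chevF4, chevE6, chevE7, chevE8])
include hD

/-- (STEP) from (TC) and (TE) -/
theorem step_conj_of
    (hTC : ∀ (c : Fin D.rank → Kˣ) (s : ℕ), s < D.nroots → ∀ t : K,
      torusHom D K c * xGL D K s t * (torusHom D K c)⁻¹ = xGL D K s (((chrD D s c : Kˣ) : K) * t))
    (hTE : ∀ c c' : Fin D.rank → Kˣ,
      torusHom D K c = torusHom D K c' ↔ ∀ s < D.nroots, chrD D s c = chrD D s c')
    (hcr : cartanReflOK D = true) (i : ℕ) (hi : i < D.rank) (c : Fin D.rank → Kˣ) :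
    nWordsGL D K [i] * torusHom D K c * (nWordsGL D K [i])⁻¹ = torusHom D K (zact (refM D i) c) := by
  classical
  have htri := triOK_of_mem D hD
  have hw : ∀ j ∈ [i], j < D.rank := by
    intro j hj
    rw [List.mem_singleton] at hj
    rw [hj]; exact hi
  have hnN : nWordsGL D K [i] ∈ D.monomialSubgroup K := nWordsGL_mem D hD [i] hw
  have hkH : nWordsGL D K [i] * torusHom D K c * (nWordsGL D K [i])⁻¹ ∈ D.diagonalSubgroup K := by
    have h1 := monomialSubgroup_le_normalizer D hD hnN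
    rw [Subgroup.mem_normalizer_iff] at h1
    exact (h1 _).1 (torusHom_mem D hD c)
  rw [← torusHom_range D hD] at hkH
  obtain ⟨c', hc'⟩ := hkH
  rw [← hc', hTE]
  intro s hs
  rw [chrD_zact_refM D hD hcr i hi s hs c]
  have hs' : D.reflectRoot i s < D.nroots := reflectRoot_lt D hD i s hi hs
  obtain ⟨-, η, hη, hconj⟩ := nWordsGL_conj_xGL (F := K) D hD (nConjHyp D hD)
    (reflectRoot_lt D hD) [i] hw (D.reflectRoot i s) hs'
  have hrho : rho D [i] (D.reflectRoot i s) = s := reflectRoot_reflectRoot D hD i s hi hs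
  rw [hrho] at hconj
  have hη0 : ((η : ℤ) : K) ≠ 0 := by
    rcases hη with rfl | rfl
    · simp
    · simp
  -- the two computations of `τ(c') x_s(η) τ(c')⁻¹`
  have e1 := hTC c' s hs (((η : ℤ) : K) * 1)
  have e2 : torusHom D K c' * xGL D K s (((η : ℤ) : K) * 1) * (torusHom D K c')⁻¹
      = xGL D K s (((η : ℤ) : K) * (((chrD D (D.reflectRoot i s) c : Kˣ) : K) * 1)) := by
    have a1 : xGL D K s (((η : ℤ) : K) * 1)
        = nWordsGL D K [i] * xGL D K (D.reflectRoot i s) 1 * (nWordsGL D K [i])⁻¹ := by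
      rw [eq_mul_inv_iff_mul_eq]
      exact (hconj 1).symm
    have a2 := hTC c (D.reflectRoot i s) hs' 1
    have a3 : xGL D K s (((η : ℤ) : K) * (((chrD D (D.reflectRoot i s) c : Kˣ) : K) * 1))
        = nWordsGL D K [i] * xGL D K (D.reflectRoot i s) (((chrD D (D.reflectRoot i s) c : Kˣ) : K) * 1)
          * (nWordsGL D K [i])⁻¹ := by
      rw [eq_mul_inv_iff_mul_eq]
      exact (hconj _).symm
    rw [a3, ← a2, a1, hc']
    group
  rw [e1] at e2
  have e3 := x_injective D hD s hs _ _ (by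
    have := congrArg (fun g : GL D.Idx K => (g : Matrix D.Idx D.Idx K)) e2
    simpa only [xGL_val D _ htri] using this)
  apply Units.ext
  have e4 : ((chrD D s c' : Kˣ) : K) * ((η : ℤ) : K) = ((η : ℤ) : K) * ((chrD D (D.reflectRoot i s) c : Kˣ) : K) := by
    simpa only [mul_one] using e3
  rw [mul_comm] at e4
  exact mul_left_cancel₀ hη0 e4

end Fields

end Cfsg.Agent.Helper10.TorD
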