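-- helper10: piece (STEP) of #13634 for helper36 (TorData, S2372/S2375).
import Cfsg.Agent.Helper36.TorD.Defs
import Cfsg.Agent.Helper10.TorD_STEPCore
import Cfsg.Agent.Helper41.TorD_TC
import Cfsg.Agent.Helper41.TorD_TE

set_option autoImplicit false

namespace Cfsg.Agent.Helper10.TorD

open Cfsg Cfsg.Lie Cfsg.Agent.Helper18 Cfsg.Agent.Helper19.Cox Cfsg.Agent.Helper19.Poinc
  Cfsg.Agent.Helper80.Tor Cfsg.Agent.Helper36.TorD

section Fields

variable {F K : Type*} [Field F] [Fintype F] [Field K] [Fintype K] [Algebra F K]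

variable (D : ChevalleyDatum)
  (hD : D ∈ [chevG2, chevB2, chevD4, chevF4, chevE6, chevE7, chevE8])
include hD

/-- (STEP) the fundamental reflections act on the torus coordinates through `refM` -/
theorem step_conj (hcr : cartanReflOK D = true) (i : ℕ) (hi : i < D.rank) (c : Fin D.rank → Kˣ) :
    nWordsGL D K [i] * torusHom D K c * (nWordsGL D K [i])⁻¹ = torusHom D K (zact (refM D i) c) :=
  step_conj_of D hD (fun c s hs t => Cfsg.Agent.Helper41.TorD.torusHom_conj D hD c s hs t)
    (fun c c' => Cfsg.Agent.Helper41.TorD.torusHom_eq_iff D hD c c') hcr i hi c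

end Fields

end Cfsg.Agent.Helper10.TorD
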