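import Mathlib
import Cfsg.Agent.Helper13.SpMax1

/-!
# S5980, piece (HPI): the involution `-1` on one hyperbolic plane of `Sp_{2d}` (helper10 for
helper45)
-/

set_option autoImplicit false

namespace Cfsg.Agent.Helper10.Tsp

open Matrix Cfsg.Agent.Helper13

universe u

variable {F : Type u} [Field F] {d : ℕ}

/-- the sign vector: `-1` at `inl j0`, `inr j0`, and `1` elsewhere -/
def hpiSign (j0 : Fin d) : Fin d ⊕ Fin d → F :=
  Sum.elim (fun j => if j = j0 then (-1 : F) else 1) (fun j => if j = j0 then (-1 : F) else 1)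

theorem hpiSign_mul_self (j0 : Fin d) (i : Fin d ⊕ Fin d) :
    (hpiSign j0 i : F) * hpiSign j0 i = 1 := by
  rcases i with j | j <;> by_cases h : j = j0 <;> simp [hpiSign, h]

theorem hpiSign_inr_mul_inl (j0 j : Fin d) :
    (hpiSign j0 (Sum.inr j) : F) * hpiSign j0 (Sum.inl j) = 1 := by
  by_cases h : j = j0 <;> simp [hpiSign, h]

/-- (HPI) `-1` on a hyperbolic plane -/
theorem exists_plane_invol (h2 : (2 : F) ≠ 0) (hd : 2 ≤ d) :
    ∃ x : GL (Fin d ⊕ Fin d) F, x ∈ Cfsg.spGL d F ∧ x * x = 1 ∧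
      ((x : Matrix (Fin d ⊕ Fin d) (Fin d ⊕ Fin d) F) - 1).rank = 2 := by
  classical
  set j0 : Fin d := ⟨0, by omega⟩ with hj0
  set ε : Fin d ⊕ Fin d → F := hpiSign j0 with hε
  have hεε : ∀ i, ε i * ε i = 1 := hpiSign_mul_self j0
  have hdd : Matrix.diagonal ε * Matrix.diagonal ε =
      (1 : Matrix (Fin d ⊕ Fin d) (Fin d ⊕ Fin d) F) := by
    rw [Matrix.diagonal_mul_diagonal, ← Matrix.diagonal_one]
    congr 1
    funext i
    exact hεε i
  set x : GL (Fin d ⊕ Fin d) F := ⟨Matrix.diagonal ε, Matrix.diagonal ε, hdd, hdd⟩ with hx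
  have hxval : (x : Matrix (Fin d ⊕ Fin d) (Fin d ⊕ Fin d) F) = Matrix.diagonal ε := rfl
  refine ⟨x, ?_, ?_, ?_⟩
  · rw [mem_spGL_iff]
    intro u v
    rw [hxval, sympForm_eq_sum, sympForm_eq_sum]
    refine Finset.sum_congr rfl fun j _ => ?_
    simp only [Matrix.mulVec_diagonal]
    have h1 := hpiSign_inr_mul_inl (F := F) j0 j
    have h1' : ε (Sum.inr j) * ε (Sum.inl j) = 1 := h1
    have h3 : ε (Sum.inl j) * ε (Sum.inr j) = 1 := by rw [mul_comm]; exact h1'
    calc ε (Sum.inr j) * u (Sum.inr j) * (ε (Sum.inl j) * v (Sum.inl j)) -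
          ε (Sum.inl j) * u (Sum.inl j) * (ε (Sum.inr j) * v (Sum.inr j))
        = (ε (Sum.inr j) * ε (Sum.inl j)) * (u (Sum.inr j) * v (Sum.inl j)) -
          (ε (Sum.inl j) * ε (Sum.inr j)) * (u (Sum.inl j) * v (Sum.inr j)) := by ring
      _ = u (Sum.inr j) * v (Sum.inl j) - u (Sum.inl j) * v (Sum.inr j) := by
          rw [h1', h3, one_mul, one_mul]
  · apply Units.ext
    rw [Units.val_mul, hxval, hdd, Units.val_one]
  · have hsub : Matrix.diagonal ε - (1 : Matrix (Fin d ⊕ Fin d) (Fin d ⊕ Fin d) F) =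
        Matrix.diagonal (fun i => ε i - 1) := by
      ext i k
      by_cases hik : i = k
      · subst hik
        simp
      · simp [Matrix.diagonal_apply_ne _ hik, Matrix.one_apply_ne hik]
    rw [hxval, hsub, Matrix.rank_diagonal, Fintype.card_subtype]
    have hfilter : (Finset.univ.filter (fun i : Fin d ⊕ Fin d => ε i - 1 ≠ 0)) =
        {Sum.inl j0, Sum.inr j0} := by
      have hm2 : (-1 : F) - 1 ≠ 0 := by
        intro h
        apply h2
        have : (2 : F) = -((-1 : F) - 1) := by ring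
        rw [this, h, neg_zero]
      ext i
      simp only [Finset.mem_filter, Finset.mem_univ, true_and, Finset.mem_insert,
        Finset.mem_singleton]
      rcases i with j | j
      · by_cases h : j = j0
        · subst h
          simp [hε, hpiSign, hm2]
        · simp [hε, hpiSign, h]
      · by_cases h : j = j0
        · subst h
          simp [hε, hpiSign, hm2]
        · simp [hε, hpiSign, h]
    rw [hfilter, Finset.card_pair Sum.inl_ne_inr]

end Cfsg.Agent.Helper10.Tsp
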