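import Mathlib

/-!
# S5980, piece (KS): a Kronecker product equal to `1` has scalar factors (helper10 for helper45)
-/

set_option autoImplicit false

namespace Cfsg.Agent.Helper10.Tsp

open Matrix
open scoped Kronecker

universe u

variable {F : Type u} [Field F] {a b : ℕ}

/-- (KS) a Kronecker product equal to `1` has scalar factors -/
theorem scalar_of_kronecker_eq_one (ha : 0 < a) (hb : 0 < b) (A : Matrix (Fin a) (Fin a) F)
    (B : Matrix (Fin b) (Fin b) F)
    (h : A ⊗ₖ B = (1 : Matrix (Fin a × Fin b) (Fin a × Fin b) F)) :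
    ∃ s t : F, A = s • (1 : Matrix (Fin a) (Fin a) F) ∧ B = t • (1 : Matrix (Fin b) (Fin b) F) ∧
      s * t = 1 := by
  set i0 : Fin a := ⟨0, ha⟩ with hi0
  set j0 : Fin b := ⟨0, hb⟩ with hj0
  have hent : ∀ (i i' : Fin a) (j j' : Fin b),
      A i i' * B j j' = if (i, j) = (i', j') then 1 else 0 := by
    intro i i' j j'
    have := congrFun (congrFun h (i, j)) (i', j')
    rw [Matrix.kroneckerMap_apply, Matrix.one_apply] at this
    exact this
  have hst : A i0 i0 * B j0 j0 = 1 := by
    rw [hent, if_pos rfl]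
  have hts : B j0 j0 * A i0 i0 = 1 := by rw [mul_comm]; exact hst
  refine ⟨A i0 i0, B j0 j0, ?_, ?_, hst⟩
  · ext i i'
    rw [Matrix.smul_apply, Matrix.one_apply, smul_eq_mul]
    have h1 := hent i i' j0 j0
    have h2 : A i i' = (A i i' * B j0 j0) * A i0 i0 := by
      rw [mul_assoc, hts, mul_one]
    rw [h2, h1]
    by_cases hii : i = i'
    · rw [if_pos (by rw [hii]), if_pos hii, one_mul, mul_one]
    · rw [if_neg (fun hh => hii (Prod.mk.inj hh).1), if_neg hii, zero_mul, mul_zero]
  · ext j j'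
    rw [Matrix.smul_apply, Matrix.one_apply, smul_eq_mul]
    have h1 := hent i0 i0 j j'
    have h2 : B j j' = (A i0 i0 * B j j') * B j0 j0 := by
      rw [mul_comm (A i0 i0), mul_assoc, hst, mul_one]
    rw [h2, h1]
    by_cases hjj : j = j'
    · rw [if_pos (by rw [hjj]), if_pos hjj, one_mul, mul_one]
    · rw [if_neg (fun hh => hjj (Prod.mk.inj hh).2), if_neg hjj, zero_mul, mul_zero]

end Cfsg.Agent.Helper10.Tsp
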