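import Mathlib
import Cfsg.Agent.Helper13.SpMax1
import Cfsg.Agent.Helper13.SympTrans

/-!
# S5980, piece (TVR): a symplectic transvection has `rank (t - 1) = 1` (helper10 for helper45)
-/

set_option autoImplicit false

namespace Cfsg.Agent.Helper10.Tsp

open Matrix Cfsg.Agent.Helper13

universe u

variable {F : Type u} [Field F] {d : ℕ}

/-- (TVR) a symplectic transvection has `rank (t - 1) = 1` -/
theorem rank_tvGL_sub_one {v : Fin d ⊕ Fin d → F} (hv : v ≠ 0) :
    (((tvGL v (1 : F) : GL (Fin d ⊕ Fin d) F) : Matrix (Fin d ⊕ Fin d) (Fin d ⊕ Fin d) F)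
      - 1).rank = 1 := by
  set N : Matrix (Fin d ⊕ Fin d) (Fin d ⊕ Fin d) F :=
    ((tvGL v (1 : F) : GL (Fin d ⊕ Fin d) F) : Matrix (Fin d ⊕ Fin d) (Fin d ⊕ Fin d) F) - 1
    with hN
  have hNv : N = Matrix.vecMulVec v (Matrix.J (Fin d) F *ᵥ v) := by
    rw [hN, tvGL_coe, Cfsg.sympTransvection, add_sub_cancel_left, one_smul]
  apply le_antisymm
  · rw [hNv]
    exact Matrix.rank_vecMulVec_le _ _
  · rw [Nat.one_le_iff_ne_zero]
    intro h0
    have hN0 : N = 0 := by
      have h1 : LinearMap.range N.mulVecLin = ⊥ := by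
        apply Submodule.finrank_eq_zero.mp
        exact h0
      have h2 : N.mulVecLin = 0 := LinearMap.range_eq_bot.mp h1
      have h3 : Matrix.toLin' N = 0 := h2
      exact (Matrix.toLin'.map_eq_zero_iff).mp h3
    obtain ⟨x, hx⟩ := sympForm_nondeg_left hv
    have h1 : N *ᵥ x = Cfsg.sympForm d F x v • v := by
      rw [hN, Matrix.sub_mulVec, Matrix.one_mulVec, tvGL_coe, sympTransvection_mulVec, one_mul,
        add_sub_cancel_left]
    rw [hN0, Matrix.zero_mulVec] at h1
    rcases smul_eq_zero.1 h1.symm with h | h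
    · exact hx h
    · exact hv h

end Cfsg.Agent.Helper10.Tsp
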