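import Cfsg.Agent.Helper39.U34.Data

/-!
# (F) for S3663 (helper39): a function in `W` fixed by the element of order 13 is constant
-/

set_option autoImplicit false

namespace Cfsg.Agent.Helper10.U34F

open Cfsg.Agent.Helper39.U34

/-- the permutation `sigTab` as a function -/
def sigF (i : Fin 65) : Fin 65 := ⟨sigTab.getD i.1 0 % 65, Nat.mod_lt _ (by decide)⟩

/-- the orbit representative -/
def repF (i : Fin 65) : Fin 65 := ⟨repTab.getD i.1 0 % 65, Nat.mod_lt _ (by decide)⟩

theorem sig_lt : ∀ i : Fin 65, sigTab.getD i.1 0 < 65 := by decide +kernel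

theorem orbit_rep : ∀ i : Fin 65, ∃ n : Fin 13, sigF^[n.1] (repF i) = i := by decide +kernel

theorem rep_mem : ∀ i : Fin 65,
    repF i = 0 ∨ repF i = 1 ∨ repF i = 4 ∨ repF i = 5 ∨ repF i = 6 := by decide +kernel

theorem line01 : ∀ z : Fin 65, Blk 0 1 z ↔ z ∈ ({0, 1, 2, 3, 4} : Finset (Fin 65)) := by
  decide +kernel

theorem line05 : ∀ z : Fin 65, Blk 0 5 z ↔ z ∈ ({0, 5, 10, 33, 38} : Finset (Fin 65)) := by
  decide +kernel

theorem line06 : ∀ z : Fin 65, Blk 0 6 z ↔ z ∈ ({0, 6, 30, 41, 55} : Finset (Fin 65)) := by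
  decide +kernel

theorem line07 : ∀ z : Fin 65, Blk 0 7 z ↔ z ∈ ({0, 7, 19, 43, 47} : Finset (Fin 65)) := by
  decide +kernel

theorem bsum_eq_sum (w : Fin 65 → ZMod 5) (a b : Fin 65) (S : Finset (Fin 65))
    (h : ∀ z, Blk a b z ↔ z ∈ S) : bsum w a b = ∑ z ∈ S, w z := by
  unfold bsum
  rw [← Finset.sum_filter]
  congr 1
  ext z
  simp [h z]

theorem solve : ∀ a0 a1 a2 a3 a4 : ZMod 5,
    a0 + a1 + a1 + a0 + a2 = 0 → a0 + a3 + a4 + a0 + a3 = 0 → a0 + a4 + a4 + a3 + a3 = 0 →
    a0 + a1 + a0 + a3 + a3 = 0 → a1 = a0 ∧ a2 = a0 ∧ a3 = a0 ∧ a4 = a0 := by decide +kernel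

/-- (F) -/
theorem fixed_const (σ : Fin 65 → Fin 65) (hσ : ∀ i, (σ i).1 = sigTab.getD i.1 0)
    (w : Fin 65 → ZMod 5) (hw : w ∈ W) (hfix : ∀ i, w (σ i) = w i) : ∃ c : ZMod 5, ∀ i, w i = c := by
  have hσF : ∀ i, σ i = sigF i := by
    intro i
    apply Fin.ext
    rw [hσ i]
    exact (Nat.mod_eq_of_lt (sig_lt i)).symm
  have hiter : ∀ (n : ℕ) (j : Fin 65), w (sigF^[n] j) = w j := by
    intro n
    induction n with
    | zero => intro j; rfl
    | succ n ih =>
      intro j
      rw [Function.iterate_succ_apply', ← hσF, hfix, ih]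
  have hrep : ∀ i, w i = w (repF i) := by
    intro i
    obtain ⟨n, hn⟩ := orbit_rep i
    rw [← hiter n.1 (repF i), hn]
  have hval : ∀ k r : Fin 65, repF k = r → w k = w r := by
    intro k r h
    rw [hrep k, h]
  have hW := mem_W.mp hw
  -- the four lines
  have e1 : w 0 + w 1 + w 2 + w 3 + w 4 = 0 := by
    have := hW 0 1 (by decide)
    rw [bsum_eq_sum w 0 1 _ line01, Finset.sum_insert (by decide), Finset.sum_insert (by decide),
      Finset.sum_insert (by decide), Finset.sum_insert (by decide), Finset.sum_singleton] at this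
    rw [← this]; ring
  have e2 : w 0 + w 5 + w 10 + w 33 + w 38 = 0 := by
    have := hW 0 5 (by decide)
    rw [bsum_eq_sum w 0 5 _ line05, Finset.sum_insert (by decide), Finset.sum_insert (by decide),
      Finset.sum_insert (by decide), Finset.sum_insert (by decide), Finset.sum_singleton] at this
    rw [← this]; ring
  have e3 : w 0 + w 6 + w 30 + w 41 + w 55 = 0 := by
    have := hW 0 6 (by decide)
    rw [bsum_eq_sum w 0 6 _ line06, Finset.sum_insert (by decide), Finset.sum_insert (by decide),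
      Finset.sum_insert (by decide), Finset.sum_insert (by decide), Finset.sum_singleton] at this
    rw [← this]; ring
  have e4 : w 0 + w 7 + w 19 + w 43 + w 47 = 0 := by
    have := hW 0 7 (by decide)
    rw [bsum_eq_sum w 0 7 _ line07, Finset.sum_insert (by decide), Finset.sum_insert (by decide),
      Finset.sum_insert (by decide), Finset.sum_insert (by decide), Finset.sum_singleton] at this
    rw [← this]; ring
  rw [hval 2 1 (by decide), hval 3 0 (by decide)] at e1
  rw [hval 10 6 (by decide), hval 33 0 (by decide), hval 38 5 (by decide)] at e2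
  rw [hval 30 6 (by decide), hval 41 5 (by decide), hval 55 5 (by decide)] at e3
  rw [hval 7 1 (by decide), hval 19 0 (by decide), hval 43 5 (by decide),
    hval 47 5 (by decide)] at e4
  obtain ⟨h1, h4, h5, h6⟩ := solve (w 0) (w 1) (w 4) (w 5) (w 6) e1 e2 e3 e4
  refine ⟨w 0, fun i => ?_⟩
  rw [hrep i]
  rcases rep_mem i with h | h | h | h | h <;> rw [h]
  · exact h1
  · exact h4
  · exact h5
  · exact h6

end Cfsg.Agent.Helper10.U34F
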