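import Cfsg.Agent.Helper39.U34.Defs

/-!
# (I) for S3663 (helper39): the lines of the hermitian unital are permuted by `SU₃(4)`
-/

set_option autoImplicit false

namespace Cfsg.Agent.Helper10.U34I

open Cfsg.Agent.Helper39.U34

/-- `det3` is the determinant of the matrix with the three rows (characteristic 2) -/
theorem det3_eq_det (a b c : Vec) : det3 a b c = (Matrix.of ![a, b, c]).det := by
  rw [Matrix.det_fin_three]
  simp only [Matrix.of_apply, Matrix.cons_val_zero, Matrix.cons_val_one, Matrix.cons_val]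
  unfold det3
  simp only [sub_eq_add_neg, GF16.neg_eq]
  ring

theorem det3_mulVec (M : Matrix (Fin 3) (Fin 3) GF16) (u v w : Vec) :
    det3 (M.mulVec u) (M.mulVec v) (M.mulVec w) = M.det * det3 u v w := by
  rw [det3_eq_det, det3_eq_det, mul_comm, ← Matrix.det_transpose M, ← Matrix.det_mul]
  congr 1
  ext i j
  fin_cases i <;>
    simp [Matrix.mul_apply, Matrix.mulVec, dotProduct, mul_comm]

theorem det3_smul (ca cb cz : GF16) (u v w u' v' w' : Vec)
    (hu : ∀ j, u' j = ca * u j) (hv : ∀ j, v' j = cb * v j) (hw : ∀ j, w' j = cz * w j) :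
    det3 u' v' w' = ca * cb * cz * det3 u v w := by
  unfold det3
  rw [hu 0, hu 1, hu 2, hv 0, hv 1, hv 2, hw 0, hw 1, hw 2]
  ring

/-- (I) -/
theorem blk_act_of
    (hpt : ∀ (g : G0) (i : Fin 65), ∃ c : GF16, c ≠ 0 ∧ ∀ j, pt (act g i) j = c * (mat g).mulVec (pt i) j)
    (g : G0) (a b z : Fin 65) : Blk (act g a) (act g b) (act g z) ↔ Blk a b z := by
  obtain ⟨ca, hca, ha⟩ := hpt g a
  obtain ⟨cb, hcb, hb⟩ := hpt g b
  obtain ⟨cz, hcz, hz⟩ := hpt g z
  have hdet : (mat g).det = 1 := (g : Matrix.SpecialLinearGroup (Fin 3) GF16).2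
  unfold Blk
  rw [det3_smul ca cb cz _ _ _ _ _ _ ha hb hz, det3_mulVec, hdet, one_mul]
  constructor
  · intro h
    rcases mul_eq_zero.mp h with h | h
    · exfalso
      rcases mul_eq_zero.mp h with h | h
      · rcases mul_eq_zero.mp h with h | h
        · exact hca h
        · exact hcb h
      · exact hcz h
    · exact h
  · intro h
    rw [h, mul_zero]

end Cfsg.Agent.Helper10.U34I
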