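/-
helper10: collection identities (piece (U3) of #3864, for helper40's S2398).
Pure noncommutative-group rewriting.
-/
import Mathlib

set_option autoImplicit false
set_option linter.unusedSectionVars false

namespace Cfsg.Agent.Helper10.UcColl

variable {K : Type*} [Field K] {E : Type*} [Group E]

theorem conj_comm {x r : E} (h : Commute x r) : r⁻¹ * x * r = x := by
  rw [mul_assoc, h.eq, ← mul_assoc, inv_mul_cancel, one_mul]

theorem conj_mul (r x y : E) : r⁻¹ * (x * y) * r = (r⁻¹ * x * r) * (r⁻¹ * y * r) := by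
  group

theorem conj_of_rel {x r y : E} (h : x * r = r * x * y) : r⁻¹ * x * r = x * y := by
  rw [mul_assoc, h, mul_assoc, inv_mul_cancel_left]

theorem ci_n1 (P1 R : K → E) (h1 : ∀ a b, P1 (a + b) = P1 a * P1 b) (c1 : ∀ a t, Commute (P1 a) (R t))
    (t' x1 x1' : K) :
    P1 x1' * (R t')⁻¹ * P1 x1 * R t' = P1 (x1' + x1) := by
  have h : P1 x1' * (R t')⁻¹ * P1 x1 * R t' = P1 x1' * ((R t')⁻¹ * P1 x1 * R t') := by
    simp only [mul_assoc]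
  rw [h, conj_comm (c1 x1 t'), h1]

section two
variable (P1 P2 : K → E) (h1 : ∀ a b, P1 (a + b) = P1 a * P1 b) (h2 : ∀ a b, P2 (a + b) = P2 a * P2 b)
  (c12 : ∀ a b, Commute (P1 a) (P2 b))
include h1 h2 c12

theorem n2_mul (a b a' b' : K) :
    (P1 a * P2 b) * (P1 a' * P2 b') = P1 (a + a') * P2 (b + b') := by
  rw [h1, h2]
  have := (c12 a' b).eq
  calc (P1 a * P2 b) * (P1 a' * P2 b') = P1 a * (P2 b * P1 a') * P2 b' := by simp only [mul_assoc]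
    _ = P1 a * (P1 a' * P2 b) * P2 b' := by rw [this]
    _ = P1 a * P1 a' * (P2 b * P2 b') := by simp only [mul_assoc]

end two

theorem ci_n2a (P1 P2 R : K → E) (h1 : ∀ a b, P1 (a + b) = P1 a * P1 b) (h2 : ∀ a b, P2 (a + b) = P2 a * P2 b)
    (c1 : ∀ a t, Commute (P1 a) (R t)) (c2 : ∀ a t, Commute (P2 a) (R t)) (c12 : ∀ a b, Commute (P1 a) (P2 b))
    (t' x1 x2 x1' x2' : K) :
    (P1 x1' * P2 x2') * (R t')⁻¹ * (P1 x1 * P2 x2) * R t' = P1 (x1' + x1) * P2 (x2' + x2) := by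
  have h : (P1 x1' * P2 x2') * (R t')⁻¹ * (P1 x1 * P2 x2) * R t' =
      (P1 x1' * P2 x2') * ((R t')⁻¹ * (P1 x1 * P2 x2) * R t') := by
    simp only [mul_assoc]
  rw [h, conj_mul, conj_comm (c1 x1 t'), conj_comm (c2 x2 t'), n2_mul P1 P2 h1 h2 c12]

theorem ci_n2b (P1 P2 R : K → E) (h1 : ∀ a b, P1 (a + b) = P1 a * P1 b) (h2 : ∀ a b, P2 (a + b) = P2 a * P2 b)
    (c1 : ∀ a t, Commute (P1 a) (R t)) (c2 : ∀ a t, Commute (P2 a) (R t)) (c12 : ∀ a b, Commute (P1 a) (P2 b))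
    (u' x1 x2 x1' x2' : K) :
    (R u')⁻¹ * (P1 x1 * P2 x2) * R u' * (P1 x1' * P2 x2') = P1 (x1 + x1') * P2 (x2 + x2') := by
  rw [conj_mul, conj_comm (c1 x1 u'), conj_comm (c2 x2 u'), n2_mul P1 P2 h1 h2 c12]

section three
variable (P1 P2 P3 : K → E) (h1 : ∀ a b, P1 (a + b) = P1 a * P1 b)
  (h2 : ∀ a b, P2 (a + b) = P2 a * P2 b) (h3 : ∀ a b, P3 (a + b) = P3 a * P3 b)
  (c12 : ∀ a b, Commute (P1 a) (P2 b)) (c13 : ∀ a b, Commute (P1 a) (P3 b))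
  (c23 : ∀ a b, Commute (P2 a) (P3 b))
include h1 h2 h3 c12 c13 c23

theorem n3_mul (a b c a' b' c' : K) :
    (P1 a * (P2 b * P3 c)) * (P1 a' * (P2 b' * P3 c')) =
      P1 (a + a') * (P2 (b + b') * P3 (c + c')) := by
  have hc1 : Commute (P2 b * P3 c) (P1 a') := (c12 a' b).symm.mul_left (c13 a' c).symm
  have hc2 : Commute (P3 c) (P2 b') := (c23 b' c).symm
  rw [h1, h2, h3]
  calc (P1 a * (P2 b * P3 c)) * (P1 a' * (P2 b' * P3 c'))
      = P1 a * ((P2 b * P3 c) * P1 a') * (P2 b' * P3 c') := by simp only [mul_assoc]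
    _ = P1 a * (P1 a' * (P2 b * P3 c)) * (P2 b' * P3 c') := by rw [hc1.eq]
    _ = P1 a * P1 a' * (P2 b * (P3 c * P2 b') * P3 c') := by simp only [mul_assoc]
    _ = P1 a * P1 a' * (P2 b * (P2 b' * P3 c) * P3 c') := by rw [hc2.eq]
    _ = P1 a * P1 a' * (P2 b * P2 b' * (P3 c * P3 c')) := by simp only [mul_assoc]

end three

theorem ci_n3 (P1 P2 P3 R : K → E) (h1 : ∀ a b, P1 (a + b) = P1 a * P1 b) (h2 : ∀ a b, P2 (a + b) = P2 a * P2 b)
    (h3 : ∀ a b, P3 (a + b) = P3 a * P3 b) (c4 : K)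
    (e1 : ∀ a t, P1 a * R t = R t * P1 a * P2 (c4 * (-t) * a))
    (c2 : ∀ a t, Commute (P2 a) (R t)) (c3 : ∀ a t, Commute (P3 a) (R t))
    (c12 : ∀ a b, Commute (P1 a) (P2 b)) (c13 : ∀ a b, Commute (P1 a) (P3 b)) (c23 : ∀ a b, Commute (P2 a) (P3 b))
    (t' x1 x2 x3 x1' x2' x3' : K) :
    (P1 x1' * (P2 x2' * P3 x3')) * (R t')⁻¹ * (P1 x1 * (P2 x2 * P3 x3)) * R t' =
      P1 (x1' + x1) * (P2 (x2' + x2 + -(c4 * t' * x1)) * P3 (x3' + x3)) := by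
  have h : (P1 x1' * (P2 x2' * P3 x3')) * (R t')⁻¹ * (P1 x1 * (P2 x2 * P3 x3)) * R t' =
      (P1 x1' * (P2 x2' * P3 x3')) * ((R t')⁻¹ * (P1 x1 * (P2 x2 * P3 x3)) * R t') := by
    simp only [mul_assoc]
  have hconj : (R t')⁻¹ * (P1 x1 * (P2 x2 * P3 x3)) * R t' =
      P1 x1 * (P2 (c4 * (-t') * x1 + x2) * P3 x3) := by
    rw [conj_mul, conj_mul, conj_of_rel (e1 x1 t'), conj_comm (c2 x2 t'), conj_comm (c3 x3 t'), h2]
    simp only [mul_assoc]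
  rw [h, hconj, n3_mul P1 P2 P3 h1 h2 h3 c12 c13 c23]
  have hX : x2' + (c4 * (-t') * x1 + x2) = x2' + x2 + -(c4 * t' * x1) := by ring
  rw [hX]

section four
variable (P1 P2 P3 P4 : K → E) (h1 : ∀ a b, P1 (a + b) = P1 a * P1 b)
  (h2 : ∀ a b, P2 (a + b) = P2 a * P2 b) (h3 : ∀ a b, P3 (a + b) = P3 a * P3 b)
  (h4 : ∀ a b, P4 (a + b) = P4 a * P4 b) (c6 : K)
  (e12 : ∀ a b, P2 b * P1 a = P1 a * P2 b * P4 (c6 * (-a) * b))
  (c13 : ∀ a b, Commute (P1 a) (P3 b)) (c14 : ∀ a b, Commute (P1 a) (P4 b))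
  (c23 : ∀ a b, Commute (P2 a) (P3 b)) (c24 : ∀ a b, Commute (P2 a) (P4 b))
  (c34 : ∀ a b, Commute (P3 a) (P4 b))
include h1 h2 h3 h4 e12 c13 c14 c23 c24 c34

theorem n4_mul_P1 (a b c d x : K) :
    (P1 a * (P2 b * (P3 c * P4 d))) * P1 x =
      P1 (a + x) * (P2 b * (P3 c * P4 (d + c6 * (-x) * b))) := by
  have hc : Commute (P3 c * P4 d) (P1 x) := (c13 x c).symm.mul_left (c14 x d).symm
  have hc' : Commute (P4 (c6 * (-x) * b)) (P3 c) := (c34 c _).symm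
  rw [h1, h4]
  calc (P1 a * (P2 b * (P3 c * P4 d))) * P1 x
      = P1 a * (P2 b * ((P3 c * P4 d) * P1 x)) := by simp only [mul_assoc]
    _ = P1 a * (P2 b * (P1 x * (P3 c * P4 d))) := by rw [hc.eq]
    _ = P1 a * ((P2 b * P1 x) * (P3 c * P4 d)) := by simp only [mul_assoc]
    _ = P1 a * ((P1 x * P2 b * P4 (c6 * (-x) * b)) * (P3 c * P4 d)) := by rw [e12]
    _ = P1 a * P1 x * (P2 b * ((P4 (c6 * (-x) * b) * P3 c) * P4 d)) := by simp only [mul_assoc]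
    _ = P1 a * P1 x * (P2 b * ((P3 c * P4 (c6 * (-x) * b)) * P4 d)) := by rw [hc'.eq]
    _ = P1 a * P1 x * (P2 b * (P3 c * (P4 (c6 * (-x) * b) * P4 d))) := by simp only [mul_assoc]
    _ = P1 a * P1 x * (P2 b * (P3 c * (P4 d * P4 (c6 * (-x) * b)))) := by
        rw [← h4, ← h4, add_comm]

theorem n4_mul_P2 (a b c d x : K) :
    (P1 a * (P2 b * (P3 c * P4 d))) * P2 x = P1 a * (P2 (b + x) * (P3 c * P4 d)) := by
  have hc : Commute (P3 c * P4 d) (P2 x) := (c23 x c).symm.mul_left (c24 x d).symm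
  rw [h2]
  calc (P1 a * (P2 b * (P3 c * P4 d))) * P2 x
      = P1 a * (P2 b * ((P3 c * P4 d) * P2 x)) := by simp only [mul_assoc]
    _ = P1 a * (P2 b * (P2 x * (P3 c * P4 d))) := by rw [hc.eq]
    _ = P1 a * (P2 b * P2 x * (P3 c * P4 d)) := by simp only [mul_assoc]

theorem n4_mul_P3 (a b c d x : K) :
    (P1 a * (P2 b * (P3 c * P4 d))) * P3 x = P1 a * (P2 b * (P3 (c + x) * P4 d)) := by
  have hc : Commute (P4 d) (P3 x) := (c34 x d).symm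
  rw [h3]
  calc (P1 a * (P2 b * (P3 c * P4 d))) * P3 x
      = P1 a * (P2 b * (P3 c * (P4 d * P3 x))) := by simp only [mul_assoc]
    _ = P1 a * (P2 b * (P3 c * (P3 x * P4 d))) := by rw [hc.eq]
    _ = P1 a * (P2 b * (P3 c * P3 x * P4 d)) := by simp only [mul_assoc]

theorem n4_mul_P4 (a b c d x : K) :
    (P1 a * (P2 b * (P3 c * P4 d))) * P4 x = P1 a * (P2 b * (P3 c * P4 (d + x))) := by
  rw [h4]
  simp only [mul_assoc]

theorem n4_mul (a b c d a' b' c' d' : K) :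
    (P1 a * (P2 b * (P3 c * P4 d))) * (P1 a' * (P2 b' * (P3 c' * P4 d'))) =
      P1 (a + a') * (P2 (b + b') * (P3 (c + c') * P4 (d + c6 * (-a') * b + d'))) := by
  have h : (P1 a * (P2 b * (P3 c * P4 d))) * (P1 a' * (P2 b' * (P3 c' * P4 d'))) =
      ((((P1 a * (P2 b * (P3 c * P4 d))) * P1 a') * P2 b') * P3 c') * P4 d' := by
    simp only [mul_assoc]
  rw [h, n4_mul_P1 P1 P2 P3 P4 h1 h2 h3 h4 c6 e12 c13 c14 c23 c24 c34,
    n4_mul_P2 P1 P2 P3 P4 h1 h2 h3 h4 c6 e12 c13 c14 c23 c24 c34,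
    n4_mul_P3 P1 P2 P3 P4 h1 h2 h3 h4 c6 e12 c13 c14 c23 c24 c34,
    n4_mul_P4 P1 P2 P3 P4 h1 h2 h3 h4 c6 e12 c13 c14 c23 c24 c34]

end four

theorem ci_n4l (P1 P2 P3 P4 R : K → E) (h1 : ∀ a b, P1 (a + b) = P1 a * P1 b)
    (h2 : ∀ a b, P2 (a + b) = P2 a * P2 b) (h3 : ∀ a b, P3 (a + b) = P3 a * P3 b)
    (h4 : ∀ a b, P4 (a + b) = P4 a * P4 b) (c5 c6 : K)
    (e3 : ∀ a t, P3 a * R t = R t * P3 a * P4 (c5 * (-t) * a))
    (e12 : ∀ a b, P2 b * P1 a = P1 a * P2 b * P4 (c6 * (-a) * b))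
    (c1 : ∀ a t, Commute (P1 a) (R t)) (c2 : ∀ a t, Commute (P2 a) (R t)) (c4 : ∀ a t, Commute (P4 a) (R t))
    (c13 : ∀ a b, Commute (P1 a) (P3 b)) (c14 : ∀ a b, Commute (P1 a) (P4 b)) (c23 : ∀ a b, Commute (P2 a) (P3 b))
    (c24 : ∀ a b, Commute (P2 a) (P4 b)) (c34 : ∀ a b, Commute (P3 a) (P4 b))
    (t' x1 x2 x3 x4 x1' x2' x3' x4' : K) :
    (P1 x1' * (P2 x2' * (P3 x3' * P4 x4'))) * (R t')⁻¹ * (P1 x1 * (P2 x2 * (P3 x3 * P4 x4))) * R t' =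
      P1 (x1' + x1) * (P2 (x2' + x2) * (P3 (x3' + x3) * P4 (x4' + x4 + -(c5 * t' * x3) + -(c6 * x1 * x2')))) := by
  have h : (P1 x1' * (P2 x2' * (P3 x3' * P4 x4'))) * (R t')⁻¹ * (P1 x1 * (P2 x2 * (P3 x3 * P4 x4))) * R t' =
      (P1 x1' * (P2 x2' * (P3 x3' * P4 x4'))) *
        ((R t')⁻¹ * (P1 x1 * (P2 x2 * (P3 x3 * P4 x4))) * R t') := by
    simp only [mul_assoc]
  have hconj : (R t')⁻¹ * (P1 x1 * (P2 x2 * (P3 x3 * P4 x4))) * R t' =
      P1 x1 * (P2 x2 * (P3 x3 * P4 (c5 * (-t') * x3 + x4))) := by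
    rw [conj_mul, conj_mul, conj_mul, conj_comm (c1 x1 t'), conj_comm (c2 x2 t'),
      conj_of_rel (e3 x3 t'), conj_comm (c4 x4 t'), h4]
    simp only [mul_assoc]
  rw [h, hconj, n4_mul P1 P2 P3 P4 h1 h2 h3 h4 c6 e12 c13 c14 c23 c24 c34]
  have hX : x4' + c6 * (-x1) * x2' + (c5 * (-t') * x3 + x4) =
      x4' + x4 + -(c5 * t' * x3) + -(c6 * x1 * x2') := by ring
  rw [hX]

theorem ci_n4s (P1 P2 P3 P4 R : K → E) (h1 : ∀ a b, P1 (a + b) = P1 a * P1 b)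
    (h2 : ∀ a b, P2 (a + b) = P2 a * P2 b) (h3 : ∀ a b, P3 (a + b) = P3 a * P3 b)
    (h4 : ∀ a b, P4 (a + b) = P4 a * P4 b) (c5 c6 : K)
    (e3 : ∀ a u, P3 a * R u = R u * P3 a * P4 (c5 * (-u) * a))
    (e12 : ∀ a b, P2 b * P1 a = P1 a * P2 b * P4 (c6 * (-a) * b))
    (c1 : ∀ a t, Commute (P1 a) (R t)) (c2 : ∀ a t, Commute (P2 a) (R t)) (c4 : ∀ a t, Commute (P4 a) (R t))
    (c13 : ∀ a b, Commute (P1 a) (P3 b)) (c14 : ∀ a b, Commute (P1 a) (P4 b)) (c23 : ∀ a b, Commute (P2 a) (P3 b))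
    (c24 : ∀ a b, Commute (P2 a) (P4 b)) (c34 : ∀ a b, Commute (P3 a) (P4 b))
    (u' x1 x2 x3 x4 x1' x2' x3' x4' : K) :
    (R u')⁻¹ * (P1 x1 * (P2 x2 * (P3 x3 * P4 x4))) * R u' * (P1 x1' * (P2 x2' * (P3 x3' * P4 x4'))) =
      P1 (x1 + x1') * (P2 (x2 + x2') * (P3 (x3 + x3') * P4 (x4 + x4' + -(c5 * u' * x3) + -(c6 * x1' * x2)))) := by
  have hconj : (R u')⁻¹ * (P1 x1 * (P2 x2 * (P3 x3 * P4 x4))) * R u' =
      P1 x1 * (P2 x2 * (P3 x3 * P4 (c5 * (-u') * x3 + x4))) := by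
    rw [conj_mul, conj_mul, conj_mul, conj_comm (c1 x1 u'), conj_comm (c2 x2 u'),
      conj_of_rel (e3 x3 u'), conj_comm (c4 x4 u'), h4]
    simp only [mul_assoc]
  rw [hconj, n4_mul P1 P2 P3 P4 h1 h2 h3 h4 c6 e12 c13 c14 c23 c24 c34]
  have hX : c5 * (-u') * x3 + x4 + c6 * (-x1') * x2 + x4' =
      x4 + x4' + -(c5 * u' * x3) + -(c6 * x1' * x2) := by ring
  rw [hX]

/-- additivity of the central defect in the first variable -/
theorem z_add_left (Yr Ys : K → E) (W Z : K → K → E) (hYr : ∀ t t', Yr (t + t') = Yr t * Yr t')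
    (hrel : ∀ t u, Ys u * Yr t = Yr t * Ys u * W t u * Z t u) (hZ : ∀ t u, Z t u ∈ Subgroup.center E)
    (CI : ∀ t t' u, W t' u * (Yr t')⁻¹ * W t u * Yr t' = W (t + t') u) (t t' u : K) :
    Z (t + t') u = Z t u * Z t' u := by
  have hz : ∀ t u (x : E), Z t u * x = x * Z t u := fun t u x =>
    ((Subgroup.mem_center_iff.mp (hZ t u)) x).symm
  have e1 : Ys u * Yr (t + t') = Yr (t + t') * Ys u * W (t + t') u * Z (t + t') u := hrel _ _
  have e2 : Ys u * Yr (t + t') = Yr (t + t') * Ys u * W (t + t') u * (Z t u * Z t' u) := by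
    calc Ys u * Yr (t + t') = (Ys u * Yr t) * Yr t' := by rw [hYr, mul_assoc]
      _ = (Yr t * Ys u * W t u * Z t u) * Yr t' := by rw [hrel]
      _ = Yr t * Ys u * W t u * Yr t' * Z t u := by
          rw [mul_assoc _ (Z t u) (Yr t'), hz t u (Yr t'), ← mul_assoc]
      _ = Yr t * (Ys u * Yr t') * ((Yr t')⁻¹ * W t u * Yr t') * Z t u := by group
      _ = Yr t * (Yr t' * Ys u * W t' u * Z t' u) * ((Yr t')⁻¹ * W t u * Yr t') * Z t u := by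
          rw [hrel]
      _ = Yr t * (Yr t' * Ys u * W t' u) * (Z t' u * ((Yr t')⁻¹ * W t u * Yr t')) * Z t u := by
          simp only [mul_assoc]
      _ = Yr t * (Yr t' * Ys u * W t' u) * (((Yr t')⁻¹ * W t u * Yr t') * Z t' u) * Z t u := by
          rw [hz t' u]
      _ = Yr t * Yr t' * Ys u * (W t' u * (Yr t')⁻¹ * W t u * Yr t') * (Z t' u * Z t u) := by
          simp only [mul_assoc]
      _ = Yr (t + t') * Ys u * W (t + t') u * (Z t u * Z t' u) := by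
          rw [CI, ← hYr, hz t' u (Z t u)]
  rw [e1] at e2
  exact mul_left_cancel e2

/-- additivity of the central defect in the second variable -/
theorem z_add_right (Yr Ys : K → E) (W Z : K → K → E) (hYs : ∀ u u', Ys (u + u') = Ys u * Ys u')
    (hrel : ∀ t u, Ys u * Yr t = Yr t * Ys u * W t u * Z t u) (hZ : ∀ t u, Z t u ∈ Subgroup.center E)
    (CI : ∀ t u u', (Ys u')⁻¹ * W t u * Ys u' * W t u' = W t (u + u')) (t u u' : K) :
    Z t (u + u') = Z t u * Z t u' := by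
  have hz : ∀ t u (x : E), Z t u * x = x * Z t u := fun t u x =>
    ((Subgroup.mem_center_iff.mp (hZ t u)) x).symm
  have e1 : Ys (u + u') * Yr t = Yr t * Ys (u + u') * W t (u + u') * Z t (u + u') := hrel _ _
  have e2 : Ys (u + u') * Yr t = Yr t * Ys (u + u') * W t (u + u') * (Z t u * Z t u') := by
    calc Ys (u + u') * Yr t = Ys u * (Ys u' * Yr t) := by rw [hYs, mul_assoc]
      _ = Ys u * (Yr t * Ys u' * W t u' * Z t u') := by rw [hrel]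
      _ = (Ys u * Yr t) * Ys u' * W t u' * Z t u' := by simp only [mul_assoc]
      _ = (Yr t * Ys u * W t u * Z t u) * Ys u' * W t u' * Z t u' := by rw [hrel]
      _ = Yr t * Ys u * W t u * (Z t u * (Ys u' * W t u')) * Z t u' := by simp only [mul_assoc]
      _ = Yr t * Ys u * W t u * ((Ys u' * W t u') * Z t u) * Z t u' := by rw [hz t u]
      _ = Yr t * (Ys u * Ys u') * ((Ys u')⁻¹ * W t u * Ys u' * W t u') * (Z t u * Z t u') := by
          group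
      _ = Yr t * Ys (u + u') * W t (u + u') * (Z t u * Z t u') := by rw [CI, ← hYs]
  rw [e1] at e2
  exact mul_left_cancel e2

end Cfsg.Agent.Helper10.UcColl
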