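import Mathlib
import Cfsg.Agent.Helper61.W2pDefs
import Cfsg.Agent.Helper74.FSCount

/-!
# (C-EXP) for S0720 (helper61): expansion of the orbital class function in the rank four
configuration `π = 1 + θ + χ₁ + χ₂`  (helper10)
-/

set_option autoImplicit false

namespace Cfsg.Agent.Helper10.W2p

open Cfsg
open scoped ComplexConjugate
open Cfsg.Agent.Helper61.W2p
open Cfsg.Agent.Helper12.Orbital

variable {G : Type*} [Group G] [Fintype G] {Ω : Type*} [Fintype Ω] [DecidableEq Ω]
  [MulAction G Ω] {p : ℕ} {x : G} {θ χ₁ χ₂ : G → ℂ} {κ : ℕ}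

/-- (C-EXP) expansion of the orbital class function -/
theorem theta_expansion (h : Gam G Ω p x θ χ₁ χ₂ κ) (a b : Ω) (g : G) :
    (cnt G a b g : ℂ) = (kk G a b : ℂ) + ev G a b θ * θ g + ev G a b χ₁ * χ₁ g
      + ev G a b χ₂ * χ₂ g := by
  classical
  have := Helper74.irrFintype G
  have hpt : MulAction.IsPretransitive G Ω := h.S.hprim.toIsPretransitive
  have hR : ∀ (g : G) (x y : Ω), orbRel G a b (g • x) (g • y) ↔ orbRel G a b x y :=
    fun g x y => orbRel_smul a b g x y
  have hcf : IsClassFunction G (theta (G := G) (orbRel G a b)) :=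
    theta_isClassFunction G _ hR
  have hexp := congrFun (Helper74.classFunction_eq_sum_irr hcf) g
  simp only [Finset.sum_apply, Pi.smul_apply, smul_eq_mul] at hexp
  -- the four constituents
  set t0 : IrrCharacter G := Helper74.irrTriv G with ht0
  set tθ : IrrCharacter G := ⟨θ, h.hθ⟩ with htθ
  set t1 : IrrCharacter G := ⟨χ₁, h.h₁⟩ with ht1
  set t2 : IrrCharacter G := ⟨χ₂, h.h₂⟩ with ht2
  have h0θ : t0 ≠ tθ := fun e => h.hθ1 (congrArg Subtype.val e).symm
  have h01 : t0 ≠ t1 := fun e => h.h11 (congrArg Subtype.val e).symm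
  have h02 : t0 ≠ t2 := fun e => h.h21 (congrArg Subtype.val e).symm
  have hθ1 : tθ ≠ t1 := fun e => h.hθ₁ (congrArg Subtype.val e)
  have hθ2 : tθ ≠ t2 := fun e => h.hθ₂ (congrArg Subtype.val e)
  have h12 : t1 ≠ t2 := fun e => h.h₁₂ (congrArg Subtype.val e)
  -- all other irreducible characters are orthogonal to the permutation character
  have hzero : ∀ ψ : IrrCharacter G, ψ ≠ t0 → ψ ≠ tθ → ψ ≠ t1 → ψ ≠ t2 →
      classInner (theta (G := G) (orbRel G a b)) (ψ : G → ℂ) = 0 := by
    intro ψ n0 nθ n1 n2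
    apply classInner_theta_eq_zero _ hR ψ.2
    have hπ : (fun g : G => (Nat.card (MulAction.fixedBy Ω g) : ℂ)) =
        (t0 : G → ℂ) + (tθ : G → ℂ) + (t1 : G → ℂ) + (t2 : G → ℂ) := by
      have := h.hπ
      unfold pc at this
      rw [this]
      funext g
      simp [ht0, htθ, ht1, ht2]
    rw [hπ, Helper74.classInner_add_left, Helper74.classInner_add_left,
      Helper74.classInner_add_left, Helper74.irr_inner_ne (Ne.symm n0),
      Helper74.irr_inner_ne (Ne.symm nθ), Helper74.irr_inner_ne (Ne.symm n1),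
      Helper74.irr_inner_ne (Ne.symm n2)]
    simp
  -- reduce the sum to the four terms
  have hsub : ∑ ψ : IrrCharacter G,
      classInner (theta (G := G) (orbRel G a b)) (ψ : G → ℂ) * (ψ : G → ℂ) g =
      ∑ ψ ∈ ({t0, tθ, t1, t2} : Finset (IrrCharacter G)),
        classInner (theta (G := G) (orbRel G a b)) (ψ : G → ℂ) * (ψ : G → ℂ) g := by
    symm
    apply Finset.sum_subset (Finset.subset_univ _)
    intro ψ _ hψ
    simp only [Finset.mem_insert, Finset.mem_singleton, not_or] at hψ
    rw [hzero ψ hψ.1 hψ.2.1 hψ.2.2.1 hψ.2.2.2, zero_mul]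
  rw [hsub] at hexp
  rw [Finset.sum_insert (by simp [h0θ, h01, h02]), Finset.sum_insert (by simp [hθ1, hθ2]),
    Finset.sum_insert (by simp [h12]), Finset.sum_singleton] at hexp
  have e0 : classInner (theta (G := G) (orbRel G a b)) (t0 : G → ℂ) * (t0 : G → ℂ) g =
      (kk G a b : ℂ) := by
    rw [ht0, Helper74.irrTriv_apply, mul_one]
    exact classInner_theta_one a b
  rw [e0] at hexp
  rw [← theta_eq_cnt, hexp]
  simp only [htθ, ht1, ht2, ev]
  ring

end Cfsg.Agent.Helper10.W2p
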