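import Mathlib
import Cfsg.Agent.Helper61.W2pDefs
import Cfsg.Agent.Helper74.FSCount
import Cfsg.Agent.Helper74.CharCount
import Cfsg.Agent.Helper12.Orbital
import Cfsg.Agent.Helper12.HomTrace

/-!
# (C-MOM) for S0720 (helper61): the second moment identity of an orbital in the rank four
configuration `π = 1 + θ + χ₁ + χ₂`  (helper10)
-/

set_option autoImplicit false

namespace Cfsg.Agent.Helper10.W2p

open Cfsg Module LinearMap
open scoped ComplexConjugate
open Cfsg.Agent.Helper61.W2p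
open Cfsg.Agent.Helper12.Orbital
open Cfsg.Agent.Helper12

section general

/-- on a one-dimensional space, every endomorphism is its trace times the identity -/
theorem end_eq_trace_smul_one {W : Type*} [AddCommGroup W] [Module ℂ W] [FiniteDimensional ℂ W]
    (h1 : finrank ℂ W = 1) (f : End ℂ W) : f = trace ℂ W f • (1 : End ℂ W) := by
  obtain ⟨v, hv0, hv⟩ := finrank_eq_one_iff'.mp h1
  obtain ⟨c, hc⟩ := hv (f v)
  have hf : f = c • (1 : End ℂ W) := by
    ext w
    obtain ⟨d, rfl⟩ := hv w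
    simp only [map_smul, LinearMap.smul_apply, Module.End.one_apply]
    rw [← hc, smul_comm]
  have htr : trace ℂ W f = c := by
    rw [hf, map_smul, LinearMap.trace_one, h1]
    simp
  rw [htr]
  exact hf

theorem trace_mul_of_finrank_one {W : Type*} [AddCommGroup W] [Module ℂ W]
    [FiniteDimensional ℂ W]
    (h1 : finrank ℂ W = 1) (f g : End ℂ W) :
    trace ℂ W (f * g) = trace ℂ W f * trace ℂ W g := by
  conv_lhs => rw [end_eq_trace_smul_one h1 f, end_eq_trace_smul_one h1 g]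
  rw [smul_mul_smul_comm, mul_one, map_smul, LinearMap.trace_one, h1]
  simp

variable {G : Type*} [Group G] [Fintype G]
variable {V M : Type*} [AddCommGroup V] [Module ℂ V] [FiniteDimensional ℂ V]
  [AddCommGroup M] [Module ℂ M] [FiniteDimensional ℂ M]
variable (ρ : Representation ℂ G V) (σ : Representation ℂ G M)

omit [Fintype G] [FiniteDimensional ℂ M] in
theorem comm_comp {X Y : End ℂ M} (hX : ∀ g, X ∘ₗ σ g = σ g ∘ₗ X)
    (hY : ∀ g, Y ∘ₗ σ g = σ g ∘ₗ Y) (g : G) : (X ∘ₗ Y) ∘ₗ σ g = σ g ∘ₗ (X ∘ₗ Y) := by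
  rw [LinearMap.comp_assoc, hY g, ← LinearMap.comp_assoc, hX g, LinearMap.comp_assoc]

theorem T_comp {X Y : End ℂ M} (hX : ∀ g, X ∘ₗ σ g = σ g ∘ₗ X)
    (hY : ∀ g, Y ∘ₗ σ g = σ g ∘ₗ Y) :
    HomTrace.T ρ σ (X ∘ₗ Y) (comm_comp σ hX hY) = HomTrace.T ρ σ X hX * HomTrace.T ρ σ Y hY := by
  ext φ : 1
  apply Subtype.ext
  rw [Module.End.mul_apply, HomTrace.T_apply, HomTrace.T_apply, HomTrace.T_apply,
    LinearMap.comp_assoc]

/-- multiplicativity of the twisted trace on a multiplicity one constituent -/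
theorem twisted_mul {X Y : End ℂ M} (hX : ∀ g, X ∘ₗ σ g = σ g ∘ₗ X)
    (hY : ∀ g, Y ∘ₗ σ g = σ g ∘ₗ Y)
    (h1 : finrank ℂ (Representation.linHom ρ σ).invariants = 1) :
    (Nat.card G : ℂ)⁻¹ * ∑ g : G, trace ℂ M ((X ∘ₗ Y) ∘ₗ σ g) * ρ.character g⁻¹ =
      ((Nat.card G : ℂ)⁻¹ * ∑ g : G, trace ℂ M (X ∘ₗ σ g) * ρ.character g⁻¹) *
      ((Nat.card G : ℂ)⁻¹ * ∑ g : G, trace ℂ M (Y ∘ₗ σ g) * ρ.character g⁻¹) := by
  rw [← HomTrace.trace_T ρ σ (X ∘ₗ Y) (comm_comp σ hX hY), ← HomTrace.trace_T ρ σ X hX,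
    ← HomTrace.trace_T ρ σ Y hY, T_comp ρ σ hX hY, trace_mul_of_finrank_one h1]

end general

section tw

variable (G : Type*) [Group G] [Fintype G] (Ω : Type*) [Fintype Ω] [DecidableEq Ω]
  [MulAction G Ω]

/-- the twisted trace of an operator on the permutation module -/
noncomputable def tw (ψ : G → ℂ) (X : End ℂ (Ω → ℂ)) : ℂ :=
  (Nat.card G : ℂ)⁻¹ * ∑ g : G, trace ℂ _ (X ∘ₗ permRep ℂ G Ω g) * ψ g⁻¹

theorem irr_one_real (ψ : IrrCharacter G) : conj ((ψ : G → ℂ) 1) = (ψ : G → ℂ) 1 := by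
  obtain ⟨n, ρ, -, hρ⟩ := ψ.2
  have := Helper74.char_inv_rep ρ 1
  rw [inv_one, hρ] at this
  exact this.symm

omit [Fintype Ω] [DecidableEq Ω] in
/-- the trace is the sum of the twisted traces weighted by the degrees -/
theorem trace_eq_sum_tw [Fintype (IrrCharacter G)] (X : End ℂ (Ω → ℂ)) :
    trace ℂ _ X = ∑ ψ : IrrCharacter G, (ψ : G → ℂ) 1 * tw G Ω ψ X := by
  classical
  have hne : (Nat.card G : ℂ) ≠ 0 := by exact_mod_cast Nat.card_pos.ne'
  have h1 : ∀ ψ : IrrCharacter G, (ψ : G → ℂ) 1 * tw G Ω ψ X =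
      (Nat.card G : ℂ)⁻¹ * ∑ g : G, trace ℂ _ (X ∘ₗ permRep ℂ G Ω g) *
        ((ψ : G → ℂ) g⁻¹ * conj ((ψ : G → ℂ) 1)) := by
    intro ψ
    unfold tw
    rw [irr_one_real, Finset.mul_sum, Finset.mul_sum, Finset.mul_sum]
    refine Finset.sum_congr rfl fun g _ => ?_
    ring
  rw [Finset.sum_congr rfl fun ψ _ => h1 ψ, ← Finset.mul_sum, Finset.sum_comm]
  have h2 : ∀ g : G, ∑ ψ : IrrCharacter G, trace ℂ _ (X ∘ₗ permRep ℂ G Ω g) *
        ((ψ : G → ℂ) g⁻¹ * conj ((ψ : G → ℂ) 1)) =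
      if g = 1 then trace ℂ _ X * (Nat.card G : ℂ) else 0 := by
    intro g
    rw [← Finset.mul_sum, Helper74.second_orthogonality]
    by_cases hg : g = 1
    · subst hg
      rw [if_pos rfl, inv_one, if_pos (IsConj.refl 1), map_one]
      have : Subgroup.centralizer ({1} : Set G) = ⊤ := by
        rw [Subgroup.centralizer_eq_top_iff_subset]
        intro z hz
        rw [Set.mem_singleton_iff] at hz
        rw [hz]
        exact Subgroup.one_mem _
      rw [this, Subgroup.card_top]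
      rfl
    · rw [if_neg hg, if_neg, mul_zero]
      intro hc
      rw [isConj_one_left, inv_eq_one] at hc
      exact hg hc
  rw [Finset.sum_congr rfl fun g _ => h2 g, Finset.sum_ite_eq' Finset.univ (1 : G), if_pos (Finset.mem_univ _)]
  field_simp

variable {G Ω}

theorem tw_eq_zero {ψ : G → ℂ} (hψ : IsIrrCharacter G ψ) {X : End ℂ (Ω → ℂ)}
    (hX : ∀ g, X ∘ₗ permRep ℂ G Ω g = permRep ℂ G Ω g ∘ₗ X)
    (h0 : classInner (fun g : G => (Nat.card (MulAction.fixedBy Ω g) : ℂ)) ψ = 0) :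
    tw G Ω ψ X = 0 := by
  obtain ⟨n, ρ, -, rfl⟩ := hψ
  rw [classInner_perm_rep] at h0
  exact HomTrace.twisted_eq_zero ρ (permRep ℂ G Ω) X hX (by exact_mod_cast h0)

theorem tw_mul {ψ : G → ℂ} (hψ : IsIrrCharacter G ψ) {X Y : End ℂ (Ω → ℂ)}
    (hX : ∀ g, X ∘ₗ permRep ℂ G Ω g = permRep ℂ G Ω g ∘ₗ X)
    (hY : ∀ g, Y ∘ₗ permRep ℂ G Ω g = permRep ℂ G Ω g ∘ₗ Y)
    (h1 : classInner (fun g : G => (Nat.card (MulAction.fixedBy Ω g) : ℂ)) ψ = 1) :
    tw G Ω ψ (X ∘ₗ Y) = tw G Ω ψ X * tw G Ω ψ Y := by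
  obtain ⟨n, ρ, -, rfl⟩ := hψ
  rw [classInner_perm_rep] at h1
  exact twisted_mul ρ (permRep ℂ G Ω) hX hY (by exact_mod_cast h1)

end tw

section main

variable {G : Type*} [Group G] [Fintype G] {Ω : Type*} [Fintype Ω] [DecidableEq Ω]
  [MulAction G Ω] {p : ℕ} {x : G} {θ χ₁ χ₂ : G → ℂ} {κ : ℕ}

theorem tw_adj (R : Ω → Ω → Prop) [DecidableRel R] {ψ : G → ℂ} (hψ : IsIrrCharacter G ψ) :
    tw G Ω ψ (adj R) = classInner (theta (G := G) R) ψ := by
  obtain ⟨n, ρ, -, rfl⟩ := hψ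
  exact (classInner_theta_rep R ρ).symm

theorem tw_adj_transpose (R : Ω → Ω → Prop) [DecidableRel R] (ψ : G → ℂ) :
    tw G Ω ψ (adj fun z w => R w z) = conj (classInner (theta (G := G) R) ψ) := by
  unfold tw classInner
  rw [map_mul, map_inv₀, Complex.conj_natCast, map_sum]
  congr 1
  refine Fintype.sum_equiv (Equiv.inv G) _ _ fun g => ?_
  rw [Equiv.inv_apply, map_mul, Complex.conj_conj, trace_adj_comp]
  unfold theta
  rw [Complex.conj_natCast]
  congr 2
  refine Finset.card_bij (fun z _ => g • z) ?_ ?_ ?_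
  · intro z hz
    simp only [Finset.mem_filter, Finset.mem_univ, true_and] at hz ⊢
    rwa [inv_smul_smul]
  · intro z _ w _ hzw
    exact smul_left_cancel _ hzw
  · intro w hw
    simp only [Finset.mem_filter, Finset.mem_univ, true_and] at hw
    refine ⟨g⁻¹ • w, ?_, smul_inv_smul _ _⟩
    simp only [Finset.mem_filter, Finset.mem_univ, true_and]
    rwa [smul_inv_smul]

open Classical in
theorem trace_adj_mul_transpose [MulAction.IsPretransitive G Ω] (a b : Ω) :
    trace ℂ _ (adj (orbRel G a b) ∘ₗ adj fun z w => orbRel G a b w z) =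
      (Fintype.card Ω : ℂ) * (kk G a b : ℂ) := by
  rw [trace_pi]
  simp only [LinearMap.comp_apply, adj_apply, Pi.single_apply]
  have h1 : ∀ x : Ω, (∑ y : Ω, if orbRel G a b x y then
      (∑ z : Ω, if orbRel G a b z y then (if z = x then (1 : ℂ) else 0) else 0) else 0) =
      (kk G a b : ℂ) := by
    intro x
    have h2 : ∀ y : Ω, (if orbRel G a b x y then
      (∑ z : Ω, if orbRel G a b z y then (if z = x then (1 : ℂ) else 0) else 0) else 0) =
      if orbRel G a b x y then 1 else 0 := by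
      intro y
      split_ifs with hxy
      · rw [Finset.sum_eq_single x]
        · rw [if_pos hxy, if_pos rfl]
        · intro z _ hz
          rw [if_neg hz]
          simp
        · intro hx
          exact absurd (Finset.mem_univ _) hx
      · rfl
    rw [Finset.sum_congr rfl fun y _ => h2 y, Finset.sum_boole, card_orbRel_row]
    rfl
  rw [Finset.sum_congr rfl fun x _ => h1 x, Finset.sum_const, Finset.card_univ, nsmul_eq_mul]

/-- (C-MOM) the second moment identity -/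
theorem second_moment (h : Gam G Ω p x θ χ₁ χ₂ κ) (a b : Ω) :
    2 * (p : ℂ) * (kk G a b : ℂ) = (kk G a b : ℂ) ^ 2 + p * (ev G a b θ * conj (ev G a b θ))
      + χ₁ 1 * (ev G a b χ₁ * conj (ev G a b χ₁)) + χ₂ 1 * (ev G a b χ₂ * conj (ev G a b χ₂)) := by
  classical
  have := Helper74.irrFintype G
  have hpt : MulAction.IsPretransitive G Ω := h.S.hprim.toIsPretransitive
  have hR : ∀ (g : G) (x y : Ω), orbRel G a b (g • x) (g • y) ↔ orbRel G a b x y :=
    fun g x y => orbRel_smul a b g x y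
  have hR' : ∀ (g : G) (x y : Ω), (fun z w => orbRel G a b w z) (g • x) (g • y) ↔
      (fun z w => orbRel G a b w z) x y := fun g x y => hR g y x
  have hX := adj_comm G (orbRel G a b) hR
  have hY := adj_comm G (fun z w => orbRel G a b w z) hR'
  have htr := trace_adj_mul_transpose (G := G) a b
  rw [h.S.hcard, trace_eq_sum_tw G Ω] at htr
  -- the four constituents
  set t0 : IrrCharacter G := Helper74.irrTriv G with ht0
  set tθ : IrrCharacter G := ⟨θ, h.hθ⟩ with htθ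
  set t1 : IrrCharacter G := ⟨χ₁, h.h₁⟩ with ht1
  set t2 : IrrCharacter G := ⟨χ₂, h.h₂⟩ with ht2
  have h0θ : t0 ≠ tθ := fun e => h.hθ1 (congrArg Subtype.val e).symm
  have h01 : t0 ≠ t1 := fun e => h.h11 (congrArg Subtype.val e).symm
  have h02 : t0 ≠ t2 := fun e => h.h21 (congrArg Subtype.val e).symm
  have hθ1 : tθ ≠ t1 := fun e => h.hθ₁ (congrArg Subtype.val e)
  have hθ2 : tθ ≠ t2 := fun e => h.hθ₂ (congrArg Subtype.val e)
  have h12 : t1 ≠ t2 := fun e => h.h₁₂ (congrArg Subtype.val e)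
  have hπ : (fun g : G => (Nat.card (MulAction.fixedBy Ω g) : ℂ)) =
      (t0 : G → ℂ) + (tθ : G → ℂ) + (t1 : G → ℂ) + (t2 : G → ℂ) := by
    have := h.hπ
    unfold pc at this
    rw [this]
    funext g
    simp [ht0, htθ, ht1, ht2]
  have hin : ∀ ψ : IrrCharacter G,
      classInner (fun g : G => (Nat.card (MulAction.fixedBy Ω g) : ℂ)) (ψ : G → ℂ) =
        classInner (t0 : G → ℂ) ψ + classInner (tθ : G → ℂ) ψ + classInner (t1 : G → ℂ) ψ
          + classInner (t2 : G → ℂ) ψ := by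
    intro ψ
    rw [hπ, Helper74.classInner_add_left, Helper74.classInner_add_left,
      Helper74.classInner_add_left]
  have hzero : ∀ ψ : IrrCharacter G, ψ ≠ t0 → ψ ≠ tθ → ψ ≠ t1 → ψ ≠ t2 →
      tw G Ω (ψ : G → ℂ) (adj (orbRel G a b) ∘ₗ adj fun z w => orbRel G a b w z) = 0 := by
    intro ψ n0 nθ n1 n2
    apply tw_eq_zero ψ.2 (comm_comp _ hX hY)
    rw [hin, Helper74.irr_inner_ne (Ne.symm n0),
      Helper74.irr_inner_ne (Ne.symm nθ), Helper74.irr_inner_ne (Ne.symm n1),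
      Helper74.irr_inner_ne (Ne.symm n2)]
    simp
  have hmul : ∀ ψ : IrrCharacter G,
      classInner (fun g : G => (Nat.card (MulAction.fixedBy Ω g) : ℂ)) (ψ : G → ℂ) = 1 →
      tw G Ω (ψ : G → ℂ) (adj (orbRel G a b) ∘ₗ adj fun z w => orbRel G a b w z) =
        classInner (theta (G := G) (orbRel G a b)) (ψ : G → ℂ) *
          conj (classInner (theta (G := G) (orbRel G a b)) (ψ : G → ℂ)) := by
    intro ψ h1
    rw [tw_mul ψ.2 hX hY h1, tw_adj _ ψ.2, tw_adj_transpose]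
  have hsub : ∑ ψ : IrrCharacter G, (ψ : G → ℂ) 1 *
      tw G Ω (ψ : G → ℂ) (adj (orbRel G a b) ∘ₗ adj fun z w => orbRel G a b w z) =
      ∑ ψ ∈ ({t0, tθ, t1, t2} : Finset (IrrCharacter G)), (ψ : G → ℂ) 1 *
      tw G Ω (ψ : G → ℂ) (adj (orbRel G a b) ∘ₗ adj fun z w => orbRel G a b w z) := by
    symm
    apply Finset.sum_subset (Finset.subset_univ _)
    intro ψ _ hψ
    simp only [Finset.mem_insert, Finset.mem_singleton, not_or] at hψ
    rw [hzero ψ hψ.1 hψ.2.1 hψ.2.2.1 hψ.2.2.2, mul_zero]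
  rw [hsub] at htr
  rw [Finset.sum_insert (by simp [h0θ, h01, h02]), Finset.sum_insert (by simp [hθ1, hθ2]),
    Finset.sum_insert (by simp [h12]), Finset.sum_singleton] at htr
  have m0 : classInner (fun g : G => (Nat.card (MulAction.fixedBy Ω g) : ℂ)) (t0 : G → ℂ) = 1 := by
    rw [hin, Helper74.irr_inner_self, Helper74.irr_inner_ne h0θ.symm,
      Helper74.irr_inner_ne h01.symm, Helper74.irr_inner_ne h02.symm]
    simp
  have mθ : classInner (fun g : G => (Nat.card (MulAction.fixedBy Ω g) : ℂ)) (tθ : G → ℂ) = 1 := by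
    rw [hin, Helper74.irr_inner_self, Helper74.irr_inner_ne h0θ,
      Helper74.irr_inner_ne hθ1.symm, Helper74.irr_inner_ne hθ2.symm]
    simp
  have m1 : classInner (fun g : G => (Nat.card (MulAction.fixedBy Ω g) : ℂ)) (t1 : G → ℂ) = 1 := by
    rw [hin, Helper74.irr_inner_self, Helper74.irr_inner_ne h01,
      Helper74.irr_inner_ne hθ1, Helper74.irr_inner_ne h12.symm]
    simp
  have m2 : classInner (fun g : G => (Nat.card (MulAction.fixedBy Ω g) : ℂ)) (t2 : G → ℂ) = 1 := by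
    rw [hin, Helper74.irr_inner_self, Helper74.irr_inner_ne h02,
      Helper74.irr_inner_ne hθ2, Helper74.irr_inner_ne h12]
    simp
  rw [hmul t0 m0, hmul tθ mθ, hmul t1 m1, hmul t2 m2] at htr
  have e0 : classInner (theta (G := G) (orbRel G a b)) (t0 : G → ℂ) = (kk G a b : ℂ) :=
    classInner_theta_one a b
  rw [e0, Complex.conj_natCast] at htr
  have d0 : (t0 : G → ℂ) 1 = 1 := rfl
  have dθ' : (tθ : G → ℂ) 1 = p := h.dθ
  rw [d0, dθ'] at htr
  simp only [htθ, ht1, ht2] at htr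
  unfold ev
  push_cast at htr
  rw [← htr]
  ring

end main

end Cfsg.Agent.Helper10.W2p
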