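import Mathlib
import Cfsg.Agent.Helper86.WEDefs
import Cfsg.Agent.Helper2.FusGT1

/-!
# (A2) of helper86 #5473 (S5271): an `F`-automorphism of `R` leaving invariant a subgroup `X ⊴ R`
whose conjugates of full normalizer have inner normalizer systems has `p`-power order.

Proof: otherwise `α` is a `BadAut` witness at `X` (Helper2.FusGT); transport it along the extension
`N_S(X) → N_S(H)` (S5079) to a fully automized receptive (hence fully normalized) conjugate `H`
of `X`, where the normalizer system is inner by hypothesis: contradiction with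
`not_badAut_of_conj`.
-/

set_option autoImplicit false

namespace Cfsg.Agent.Helper10.WE

open Cfsg Cfsg.FusionSystem Cfsg.Agent.Helper86.WE Cfsg.Agent.Helper87 Cfsg.Agent.Helper2.FusGT

variable {Ω : Type*} [Group Ω] {S : Subgroup Ω}

theorem exists_pow_eq_one_of_invariant [Finite S] {p : ℕ} [Fact p.Prime] (hS : IsPGroup p S)
    (F : FusionSystem S) (hF : F.IsSaturated p) {R X : Subgroup Ω} (hRS : R ≤ S) (hXR : X ≤ R)
    (hXn : R ≤ Subgroup.normalizer (X : Set Ω))
    (hN : ∀ H : Subgroup Ω, F.IsFullyNormalized H → Nat.card H = Nat.card X →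
      ∀ N : FusionSystem (normalizerIn S H), F.IsNormalizerSystem H N →
        ∀ P : Subgroup Ω, N.Hom P = (innerFusionSystem (normalizerIn S H)).Hom P)
    (α : MulAut R) (hα : α ∈ F.autGroup R)
    (hαX : ∀ x : R, (x : Ω) ∈ X → ((α x : R) : Ω) ∈ X) : ∃ m : ℕ, α ^ (p ^ m) = 1 := by
  by_contra hcon
  push Not at hcon
  have hXS : X ≤ S := hXR.trans hRS
  obtain ⟨H, hconj, hfa, hrec⟩ := hF X hXS
  have hfn : F.IsFullyNormalized H :=
    isFullyNormalized_of_fullyAutomized_of_receptive hS F hfa hrec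
  have hcard : Nat.card H = Nat.card X := by
    obtain ⟨e, -⟩ := (isConj_iff F X H).mp hconj
    exact (Nat.card_congr e.toEquiv).symm
  have hbad : BadAut p F X :=
    ⟨R, α, hXR, le_inf hRS hXn, (mem_autGroup_iff F hRS α).mp hα, hαX, hcon⟩
  obtain ⟨φ, hφ, hφN, hφX⟩ := Cfsg.Agent.S5079.result p hS F H X hfa hrec hconj
  have hbadH : BadAut p F H := hbad.transport F le_rfl hφ hφN hφX
  refine not_badAut_of_conj hS F ?_ hbadH
  intro D ψ hψ
  have h1 := hN H hfn hcard (Cfsg.Agent.S5096.normalizerSystem F H hfn.1) (fun _ => rfl) D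
  have h2 : ψ ∈ (Cfsg.Agent.S5096.normalizerSystem F H hfn.1).Hom D := hψ
  rw [h1] at h2
  obtain ⟨-, g, hg, hgx⟩ := h2
  exact ⟨g, hg.1, hgx⟩

end Cfsg.Agent.Helper10.WE
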